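import Cfsg.Agent.H14.Mathieu

/-! Machines for subgroups: `gen_mem_all`, and for the stabilisers in `M24` (`p23 p22 p12 p11`). -/

set_option autoImplicit false

namespace L
open H14 Cfsg

theorem gen_mem_all {Γ Ω : Type*} [Group Γ] [MulAction Γ Ω] [FaithfulSMul Γ Ω] {n : ℕ} {L : List Net}
    (M : PM Γ Ω n L) {X : Subgroup Γ} (h : sub M.gen (lets L.length) ≤ X) (l : ℕ) : M.gen l ∈ X := by
  by_cases hl : l < L.length
  · exact h (gen_mem_lets hl)
  · rw [M.gen_eq l (g := 1) fun x => by
      rw [getL_eq_getD, List.getD_eq_default _ _ (by omega), one_smul]; rfl]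
    exact one_mem _

variable (L : List Net) (h : L.all golayOk = true)

noncomputable def p23 (h1 : invChk L (lets L.length) (bit 23) = true) : PM G23 GolayPt 24 L :=
  (m24PM L h).restrict G23 (gen_mem_all _ ((m24PM L h).fix_sound (b := 23) (by norm_num) h1))

noncomputable def p22 (h1 : invChk L (lets L.length) (bit 23) = true)
    (h2 : invChk L (lets L.length) (bit 0) = true) : PM G22 GolayPt 24 L :=
  (m24PM L h).restrict G22 (gen_mem_all _ (le_inf ((m24PM L h).fix_sound (b := 23) (by norm_num) h1)
    ((m24PM L h).fix_sound (b := 0) (by norm_num) h2)))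

noncomputable def p12 (h1 : invChk L (lets L.length) 0x5335f = true) : PM G12 GolayPt 24 L :=
  (m24PM L h).restrict G12 (gen_mem_all _ (smul_bset_of_invChk h h1))

noncomputable def p11 (h1 : invChk L (lets L.length) 0x5335f = true)
    (h2 : invChk L (lets L.length) (bit 0) = true) : PM G11 GolayPt 24 L :=
  (m24PM L h).restrict G11 (gen_mem_all _ (le_inf (smul_bset_of_invChk h h1)
    ((m24PM L h).fix_sound (b := 0) (by norm_num) h2)))

end L
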