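import Cfsg.Agent.L.Top
import Cfsg.Agent.L.Out

/-! Generated certificate (toolsL) for the group OM24 of degree 24 and order 244823040. -/
set_option Elab.async false
set_option autoImplicit false
set_option maxRecDepth 100000
set_option maxHeartbeats 0
set_option linter.unusedSectionVars false

namespace L.OM24
open H14 Cfsg

universe u

noncomputable def n0 : Net := (.cons (nat_lit 1) (nat_lit 0x10450)
(.cons (nat_lit 2) (nat_lit 0x323230)
(.cons (nat_lit 4) (nat_lit 0x10b00)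
(.cons (nat_lit 8) (nat_lit 0x2)
(.cons (nat_lit 16) (nat_lit 0xd6)
(.cons (nat_lit 8) (nat_lit 0x81)
(.cons (nat_lit 4) (nat_lit 0xc070d)
(.cons (nat_lit 2) (nat_lit 0x21022)
(.cons (nat_lit 1) (nat_lit 0x14011)
.nil)))))))))
theorem n0_ok : Net.ok 24 n0 = true := by decide +kernel
noncomputable def n1 : Net := (.cons (nat_lit 1) (nat_lit 0x415500)
(.cons (nat_lit 2) (nat_lit 0x311110)
(.cons (nat_lit 8) (nat_lit 0xd1)
(.cons (nat_lit 16) (nat_lit 0xdd)
(.cons (nat_lit 8) (nat_lit 0x21)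
(.cons (nat_lit 4) (nat_lit 0x9010e)
(.cons (nat_lit 2) (nat_lit 0x130030)
(.cons (nat_lit 1) (nat_lit 0x40154)
.nil))))))))
theorem n1_ok : Net.ok 24 n1 = true := by decide +kernel
noncomputable def n2 : Net := (.cons (nat_lit 1) (nat_lit 0x100004)
(.cons (nat_lit 2) (nat_lit 0x210)
(.cons (nat_lit 4) (nat_lit 0x80200)
(.cons (nat_lit 8) (nat_lit 0x12)
(.cons (nat_lit 16) (nat_lit 0x7a)
(.cons (nat_lit 8) (nat_lit 0xa5)
(.cons (nat_lit 4) (nat_lit 0xa0e00)
(.cons (nat_lit 2) (nat_lit 0x301010)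
(.cons (nat_lit 1) (nat_lit 0x550044)
.nil)))))))))
theorem n2_ok : Net.ok 24 n2 = true := by decide +kernel
noncomputable def n3 : Net := (.cons (nat_lit 1) (nat_lit 0x554540)
(.cons (nat_lit 2) (nat_lit 0x2210)
(.cons (nat_lit 8) (nat_lit 0x22)
(.cons (nat_lit 16) (nat_lit 0xb6)
(.cons (nat_lit 4) (nat_lit 0xc0008)
(.cons (nat_lit 2) (nat_lit 0x110310)
(.cons (nat_lit 1) (nat_lit 0x550104)
.nil)))))))
theorem n3_ok : Net.ok 24 n3 = true := by decide +kernel
noncomputable def n4 : Net := (.cons (nat_lit 1) (nat_lit 0x504410)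
(.cons (nat_lit 2) (nat_lit 0x132220)
(.cons (nat_lit 4) (nat_lit 0x60000)
(.cons (nat_lit 8) (nat_lit 0x20)
(.cons (nat_lit 16) (nat_lit 0x36)
(.cons (nat_lit 8) (nat_lit 0xf8)
(.cons (nat_lit 4) (nat_lit 0x8020a)
(.cons (nat_lit 2) (nat_lit 0x3032)
(.cons (nat_lit 1) (nat_lit 0x504450)
.nil)))))))))
theorem n4_ok : Net.ok 24 n4 = true := by decide +kernel
noncomputable def n5 : Net := (.cons (nat_lit 1) (nat_lit 0x51544)
(.cons (nat_lit 2) (nat_lit 0x122110)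
(.cons (nat_lit 4) (nat_lit 0x80000)
(.cons (nat_lit 8) (nat_lit 0x51)
(.cons (nat_lit 16) (nat_lit 0xdd)
(.cons (nat_lit 8) (nat_lit 0x19)
(.cons (nat_lit 4) (nat_lit 0x10c08)
(.cons (nat_lit 2) (nat_lit 0x22012)
(.cons (nat_lit 1) (nat_lit 0x151510)
.nil)))))))))
theorem n5_ok : Net.ok 24 n5 = true := by decide +kernel
noncomputable def n6 : Net := (.cons (nat_lit 1) (nat_lit 0x115510)
(.cons (nat_lit 2) (nat_lit 0x301030)
(.cons (nat_lit 4) (nat_lit 0xa0400)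
(.cons (nat_lit 8) (nat_lit 0x41)
(.cons (nat_lit 16) (nat_lit 0x7d)
(.cons (nat_lit 8) (nat_lit 0x25)
(.cons (nat_lit 4) (nat_lit 0xb0c06)
(.cons (nat_lit 2) (nat_lit 0x1002)
(.cons (nat_lit 1) (nat_lit 0x555144)
.nil)))))))))
theorem n6_ok : Net.ok 24 n6 = true := by decide +kernel
noncomputable def n7 : Net := (.cons (nat_lit 1) (nat_lit 0x440054)
(.cons (nat_lit 2) (nat_lit 0x132120)
(.cons (nat_lit 4) (nat_lit 0x20600)
(.cons (nat_lit 8) (nat_lit 0x14)
(.cons (nat_lit 16) (nat_lit 0xde)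
(.cons (nat_lit 8) (nat_lit 0xa0)
(.cons (nat_lit 4) (nat_lit 0xc0f06)
(.cons (nat_lit 2) (nat_lit 0x133130)
(.cons (nat_lit 1) (nat_lit 0x450450)
.nil)))))))))
theorem n7_ok : Net.ok 24 n7 = true := by decide +kernel
noncomputable def n8 : Net := (.cons (nat_lit 1) (nat_lit 0x550044)
(.cons (nat_lit 2) (nat_lit 0x23210)
(.cons (nat_lit 4) (nat_lit 0xd0000)
(.cons (nat_lit 8) (nat_lit 0x84)
(.cons (nat_lit 16) (nat_lit 0xbe)
(.cons (nat_lit 8) (nat_lit 0xc0)
(.cons (nat_lit 4) (nat_lit 0xe0804)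
(.cons (nat_lit 2) (nat_lit 0x102032)
(.cons (nat_lit 1) (nat_lit 0x50440)
.nil)))))))))
theorem n8_ok : Net.ok 24 n8 = true := by decide +kernel
noncomputable def n9 : Net := (.cons (nat_lit 1) (nat_lit 0x411154)
(.cons (nat_lit 2) (nat_lit 0x131200)
(.cons (nat_lit 4) (nat_lit 0x100)
(.cons (nat_lit 8) (nat_lit 0x14)
(.cons (nat_lit 16) (nat_lit 0x1c)
(.cons (nat_lit 8) (nat_lit 0x64)
(.cons (nat_lit 4) (nat_lit 0x300)
(.cons (nat_lit 2) (nat_lit 0x320202)
(.cons (nat_lit 1) (nat_lit 0x511154)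
.nil)))))))))
theorem n9_ok : Net.ok 24 n9 = true := by decide +kernel
noncomputable def n10 : Net := (.cons (nat_lit 1) (nat_lit 0x50444)
(.cons (nat_lit 2) (nat_lit 0x221000)
(.cons (nat_lit 4) (nat_lit 0x800)
(.cons (nat_lit 8) (nat_lit 0x92)
(.cons (nat_lit 16) (nat_lit 0xda)
(.cons (nat_lit 8) (nat_lit 0xc2)
(.cons (nat_lit 4) (nat_lit 0x10a00)
(.cons (nat_lit 2) (nat_lit 0x120022)
(.cons (nat_lit 1) (nat_lit 0x50414)
.nil)))))))))
theorem n10_ok : Net.ok 24 n10 = true := by decide +kernel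
noncomputable def n11 : Net := (.cons (nat_lit 1) (nat_lit 0x5040)
(.cons (nat_lit 2) (nat_lit 0x120200)
(.cons (nat_lit 4) (nat_lit 0xa0200)
(.cons (nat_lit 8) (nat_lit 0x6)
(.cons (nat_lit 16) (nat_lit 0xc6)
(.cons (nat_lit 8) (nat_lit 0x36)
(.cons (nat_lit 4) (nat_lit 0xa0a00)
(.cons (nat_lit 2) (nat_lit 0x120200)
(.cons (nat_lit 1) (nat_lit 0x405040)
.nil)))))))))
theorem n11_ok : Net.ok 24 n11 = true := by decide +kernel
noncomputable def n12 : Net := (.cons (nat_lit 1) (nat_lit 0x400400)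
(.cons (nat_lit 2) (nat_lit 0x22200)
(.cons (nat_lit 4) (nat_lit 0x80200)
(.cons (nat_lit 8) (nat_lit 0x14)
(.cons (nat_lit 16) (nat_lit 0xd4)
(.cons (nat_lit 8) (nat_lit 0x64)
(.cons (nat_lit 4) (nat_lit 0x80a00)
(.cons (nat_lit 2) (nat_lit 0x323210)
(.cons (nat_lit 1) (nat_lit 0x400400)
.nil)))))))))
theorem n12_ok : Net.ok 24 n12 = true := by decide +kernel
noncomputable def n13 : Net := (.cons (nat_lit 1) (nat_lit 0x110440)
(.cons (nat_lit 2) (nat_lit 0x100)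
(.cons (nat_lit 4) (nat_lit 0xe0400)
(.cons (nat_lit 8) (nat_lit 0xf)
(.cons (nat_lit 16) (nat_lit 0x5f)
(.cons (nat_lit 8) (nat_lit 0xf)
(.cons (nat_lit 4) (nat_lit 0xe0400)
(.cons (nat_lit 2) (nat_lit 0x200320)
(.cons (nat_lit 1) (nat_lit 0x111440)
.nil)))))))))
theorem n13_ok : Net.ok 24 n13 = true := by decide +kernel
noncomputable def n14 : Net := (.cons (nat_lit 1) (nat_lit 0x51000)
(.cons (nat_lit 2) (nat_lit 0x11200)
(.cons (nat_lit 4) (nat_lit 0x800)
(.cons (nat_lit 8) (nat_lit 0x54)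
(.cons (nat_lit 16) (nat_lit 0x74)
(.cons (nat_lit 8) (nat_lit 0xd4)
(.cons (nat_lit 4) (nat_lit 0xc0e00)
(.cons (nat_lit 2) (nat_lit 0x11210)
(.cons (nat_lit 1) (nat_lit 0x51000)
.nil)))))))))
theorem n14_ok : Net.ok 24 n14 = true := by decide +kernel
noncomputable def n15 : Net := (.cons (nat_lit 1) (nat_lit 0x555404)
(.cons (nat_lit 4) (nat_lit 0x50100)
(.cons (nat_lit 8) (nat_lit 0x25)
(.cons (nat_lit 16) (nat_lit 0x7d)
(.cons (nat_lit 8) (nat_lit 0xf)
(.cons (nat_lit 4) (nat_lit 0x30d00)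
(.cons (nat_lit 2) (nat_lit 0x202)
(.cons (nat_lit 1) (nat_lit 0x454540)
.nil))))))))
theorem n15_ok : Net.ok 24 n15 = true := by decide +kernel
noncomputable def n16 : Net := (.cons (nat_lit 1) (nat_lit 0x101114)
(.cons (nat_lit 2) (nat_lit 0x121000)
(.cons (nat_lit 4) (nat_lit 0x20200)
(.cons (nat_lit 8) (nat_lit 0x17)
(.cons (nat_lit 16) (nat_lit 0x7f)
(.cons (nat_lit 8) (nat_lit 0x1f)
(.cons (nat_lit 4) (nat_lit 0x90b0a)
(.cons (nat_lit 2) (nat_lit 0x211120)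
(.cons (nat_lit 1) (nat_lit 0x410104)
.nil)))))))))
theorem n16_ok : Net.ok 24 n16 = true := by decide +kernel
noncomputable def n17 : Net := (.cons (nat_lit 1) (nat_lit 0x504050)
(.cons (nat_lit 2) (nat_lit 0x331100)
(.cons (nat_lit 4) (nat_lit 0x50200)
(.cons (nat_lit 8) (nat_lit 0xd3)
(.cons (nat_lit 16) (nat_lit 0xd3)
(.cons (nat_lit 8) (nat_lit 0x2b)
(.cons (nat_lit 4) (nat_lit 0x3090c)
(.cons (nat_lit 2) (nat_lit 0x223120)
(.cons (nat_lit 1) (nat_lit 0x454050)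
.nil)))))))))
theorem n17_ok : Net.ok 24 n17 = true := by decide +kernel
noncomputable def n18 : Net := (.cons (nat_lit 1) (nat_lit 0x41040)
(.cons (nat_lit 2) (nat_lit 0x310000)
(.cons (nat_lit 4) (nat_lit 0xf0200)
(.cons (nat_lit 8) (nat_lit 0xce)
(.cons (nat_lit 16) (nat_lit 0xde)
(.cons (nat_lit 8) (nat_lit 0xb6)
(.cons (nat_lit 4) (nat_lit 0x20c)
(.cons (nat_lit 2) (nat_lit 0x310210)
(.cons (nat_lit 1) (nat_lit 0x154054)
.nil)))))))))
theorem n18_ok : Net.ok 24 n18 = true := by decide +kernel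
noncomputable def n19 : Net := (.cons (nat_lit 1) (nat_lit 0x540)
(.cons (nat_lit 2) (nat_lit 0x122030)
(.cons (nat_lit 4) (nat_lit 0x80400)
(.cons (nat_lit 8) (nat_lit 0x24)
(.cons (nat_lit 16) (nat_lit 0xf4)
(.cons (nat_lit 8) (nat_lit 0xe8)
(.cons (nat_lit 4) (nat_lit 0x90800)
(.cons (nat_lit 2) (nat_lit 0x320130)
(.cons (nat_lit 1) (nat_lit 0x104154)
.nil)))))))))
theorem n19_ok : Net.ok 24 n19 = true := by decide +kernel
noncomputable def n20 : Net := (.cons (nat_lit 1) (nat_lit 0x1550)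
(.cons (nat_lit 2) (nat_lit 0x131210)
(.cons (nat_lit 4) (nat_lit 0x70200)
(.cons (nat_lit 8) (nat_lit 0x93)
(.cons (nat_lit 16) (nat_lit 0x9f)
(.cons (nat_lit 8) (nat_lit 0xe3)
(.cons (nat_lit 4) (nat_lit 0x80404)
(.cons (nat_lit 2) (nat_lit 0x331200)
(.cons (nat_lit 1) (nat_lit 0x145150)
.nil)))))))))
theorem n20_ok : Net.ok 24 n20 = true := by decide +kernel
noncomputable def n21 : Net := (.cons (nat_lit 1) (nat_lit 0x411440)
(.cons (nat_lit 2) (nat_lit 0x221110)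
(.cons (nat_lit 4) (nat_lit 0x40900)
(.cons (nat_lit 8) (nat_lit 0x9)
(.cons (nat_lit 16) (nat_lit 0x79)
(.cons (nat_lit 8) (nat_lit 0x71)
(.cons (nat_lit 4) (nat_lit 0xe0104)
(.cons (nat_lit 2) (nat_lit 0x212110)
(.cons (nat_lit 1) (nat_lit 0x454454)
.nil)))))))))
theorem n21_ok : Net.ok 24 n21 = true := by decide +kernel
noncomputable def n22 : Net := (.cons (nat_lit 1) (nat_lit 0x41440)
(.cons (nat_lit 2) (nat_lit 0x102130)
(.cons (nat_lit 4) (nat_lit 0x80500)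
(.cons (nat_lit 8) (nat_lit 0x29)
(.cons (nat_lit 16) (nat_lit 0x39)
(.cons (nat_lit 8) (nat_lit 0xbd)
(.cons (nat_lit 4) (nat_lit 0x2050c)
(.cons (nat_lit 2) (nat_lit 0x332130)
(.cons (nat_lit 1) (nat_lit 0x441040)
.nil)))))))))
theorem n22_ok : Net.ok 24 n22 = true := by decide +kernel
noncomputable def n23 : Net := (.cons (nat_lit 1) (nat_lit 0x155050)
(.cons (nat_lit 2) (nat_lit 0x300)
(.cons (nat_lit 4) (nat_lit 0x90c00)
(.cons (nat_lit 8) (nat_lit 0x7)
(.cons (nat_lit 16) (nat_lit 0x2f)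
(.cons (nat_lit 8) (nat_lit 0x3b)
(.cons (nat_lit 4) (nat_lit 0x10f04)
(.cons (nat_lit 2) (nat_lit 0x323310)
(.cons (nat_lit 1) (nat_lit 0x15450)
.nil)))))))))
theorem n23_ok : Net.ok 24 n23 = true := by decide +kernel
noncomputable def n24 : Net := (.cons (nat_lit 1) (nat_lit 0x1000)
(.cons (nat_lit 2) (nat_lit 0x32110)
(.cons (nat_lit 4) (nat_lit 0x30000)
(.cons (nat_lit 8) (nat_lit 0x1)
(.cons (nat_lit 16) (nat_lit 0xa5)
(.cons (nat_lit 8) (nat_lit 0x1)
(.cons (nat_lit 4) (nat_lit 0xf080c)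
(.cons (nat_lit 2) (nat_lit 0x13130)
(.cons (nat_lit 1) (nat_lit 0x411014)
.nil)))))))))
theorem n24_ok : Net.ok 24 n24 = true := by decide +kernel
noncomputable def n25 : Net := (.cons (nat_lit 1) (nat_lit 0x514400)
(.cons (nat_lit 2) (nat_lit 0x122000)
(.cons (nat_lit 4) (nat_lit 0x10100)
(.cons (nat_lit 8) (nat_lit 0x81)
(.cons (nat_lit 16) (nat_lit 0x99)
(.cons (nat_lit 8) (nat_lit 0x2d)
(.cons (nat_lit 4) (nat_lit 0xb0908)
(.cons (nat_lit 2) (nat_lit 0x122000)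
(.cons (nat_lit 1) (nat_lit 0x514400)
.nil)))))))))
theorem n25_ok : Net.ok 24 n25 = true := by decide +kernel
noncomputable def n26 : Net := (.cons (nat_lit 1) (nat_lit 0x510000)
(.cons (nat_lit 2) (nat_lit 0x100000)
(.cons (nat_lit 4) (nat_lit 0x80100)
(.cons (nat_lit 8) (nat_lit 0x29)
(.cons (nat_lit 16) (nat_lit 0x39)
(.cons (nat_lit 8) (nat_lit 0x29)
(.cons (nat_lit 4) (nat_lit 0x80500)
(.cons (nat_lit 2) (nat_lit 0x120020)
(.cons (nat_lit 1) (nat_lit 0x510004)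
.nil)))))))))
theorem n26_ok : Net.ok 24 n26 = true := by decide +kernel
noncomputable def n27 : Net := (.cons (nat_lit 1) (nat_lit 0x5440)
(.cons (nat_lit 2) (nat_lit 0x211200)
(.cons (nat_lit 8) (nat_lit 0x2)
(.cons (nat_lit 16) (nat_lit 0x2e)
(.cons (nat_lit 8) (nat_lit 0x2)
(.cons (nat_lit 4) (nat_lit 0x400)
(.cons (nat_lit 2) (nat_lit 0x313210)
(.cons (nat_lit 1) (nat_lit 0x5440)
.nil))))))))
theorem n27_ok : Net.ok 24 n27 = true := by decide +kernel
noncomputable def nets : List Net := [n0, n1, n2, n3, n4, n5, n6, n7, n8, n9, n10, n11, n12, n13, n14, n15, n16, n17, n18, n19, n20, n21, n22, n23, n24, n25, n26, n27]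
theorem nets_ok : netsOk 24 nets = true := List.all_eq_true.2 (fa_cons n0_ok (fa_cons n1_ok (fa_cons n2_ok (fa_cons n3_ok (fa_cons n4_ok (fa_cons n5_ok (fa_cons n6_ok (fa_cons n7_ok (fa_cons n8_ok (fa_cons n9_ok (fa_cons n10_ok (fa_cons n11_ok (fa_cons n12_ok (fa_cons n13_ok (fa_cons n14_ok (fa_cons n15_ok (fa_cons n16_ok (fa_cons n17_ok (fa_cons n18_ok (fa_cons n19_ok (fa_cons n20_ok (fa_cons n21_ok (fa_cons n22_ok (fa_cons n23_ok (fa_cons n24_ok (fa_cons n25_ok (fa_cons n26_ok (fa_cons n27_ok (fa_nil)))))))))))))))))))))))))))))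
noncomputable def F : Nat → Nat → Nat := ptF (nat_lit 64) (nat_lit 5) nets
instance instF : PtF 24 nets F := ptF_ok nets_ok (by decide +kernel)
noncomputable def defs : List Word := [dw (nat_lit 0x060306), dw (nat_lit 0x0107030701030203), dw (nat_lit 0x03030a), dw (nat_lit 0x08040a030a070908), dw (nat_lit 0x0b0e0b0b0e0b0e0c0e0e), dw (nat_lit 0x0c0e), dw (nat_lit 0x10110f1110110f121012120f111011110f0f120f1111), dw (nat_lit 0x12121010110f120f1111110f110f0f0f110f0f0f121212)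
, dw (nat_lit 0x0f12101212101210110f0f0f1110), dw (nat_lit 0x141616141716131616), dw (nat_lit 0x131818141418181617151517171514141813), dw (nat_lit 0x1316), dw (nat_lit 0x0101030601010604010104), dw (nat_lit 0x1f041f032020041f), dw (nat_lit 0x21032204042203), dw (nat_lit 0x0303220303)
, dw (nat_lit 0x23262323), dw (nat_lit 0x232326232325), dw (nat_lit 0x282a282a282a2829282927), dw (nat_lit 0x2a2a282a272a), dw (nat_lit 0x28292928282a2a), dw (nat_lit 0x2f2e2b302e2e2f2e2c2d2f2e2c2f2c2d2c), dw (nat_lit 0x2f2c302e2c2c302e), dw (nat_lit 0x2c2c2f)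
, dw (nat_lit 0x2f2b2b2f2e2b2d2f2c2d302e30302c2c2f2b2e2b2d2c)]
noncomputable def wa : Word := [nat_lit 0]
noncomputable def wu : Word := [nat_lit 2]
noncomputable def wb : Word := [nat_lit 4]
noncomputable def cha6 : Lv := .cons (nat_lit 4) [dw (nat_lit 0x17), dw (nat_lit 0x19), dw (nat_lit 0x1b), dw (nat_lit 0x1d)] [dw (nat_lit 0x01), dw (nat_lit 0x03), dw (nat_lit 0x05), dw (nat_lit 0x07)] .nil
noncomputable def cha5 : Lv := .cons (nat_lit 16) [dw (nat_lit 0x13), dw (nat_lit 0x15)] [dw (nat_lit 0x01), dw (nat_lit 0x01)] cha6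
noncomputable def cha4 : Lv := .cons (nat_lit 3) [dw (nat_lit 0x0f), dw (nat_lit 0x11)] [dw (nat_lit 0x01), dw (nat_lit 0x03), dw (nat_lit 0x01), dw (nat_lit 0x05), dw (nat_lit 0x0b), dw (nat_lit 0x01)] cha5
noncomputable def cha3 : Lv := .cons (nat_lit 19) [dw (nat_lit 0x0b), dw (nat_lit 0x0d)] [dw (nat_lit 0x01), dw (nat_lit 0x030c), dw (nat_lit 0x05), dw (nat_lit 0x07), dw (nat_lit 0x01), dw (nat_lit 0x03)] cha4
noncomputable def cha2 : Lv := .cons (nat_lit 15) [dw (nat_lit 0x03), dw (nat_lit 0x07), dw (nat_lit 0x09)] [dw (nat_lit 0x01), dw (nat_lit 0x03), dw (nat_lit 0x05), dw (nat_lit 0x01), dw (nat_lit 0x09), dw (nat_lit 0x05)] cha3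
noncomputable def cha1 : Lv := .cons (nat_lit 0) [dw (nat_lit 0x01)] [dw (nat_lit 0x01), dw (nat_lit 0x0101), dw (nat_lit 0x07), dw (nat_lit 0x03), dw (nat_lit 0x0b), dw (nat_lit 0x0d)] cha2
noncomputable def cha0 : Lv := .cons (nat_lit 8) [dw (nat_lit 0x05)] [dw (nat_lit 0x01), dw (nat_lit 0x03), dw (nat_lit 0x0303), dw (nat_lit 0x01), dw (nat_lit 0x09), dw (nat_lit 0x0d), dw (nat_lit 0x01)] cha1
noncomputable def csa : List Word := [dw (nat_lit 0x01)]
noncomputable def dda0 : List (Word × CT) := []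
noncomputable def Ta0 : List Word := [[]]
noncomputable def cwa0 : List Word := []
noncomputable def sca0 : List Word := []
noncomputable def dda1 : List (Word × CT) := []
noncomputable def Ta1 : List Word := [[], dw (nat_lit 0x01), dw (nat_lit 0x0101), dw (nat_lit 0x010101), dw (nat_lit 0x01010101), dw (nat_lit 0x0101010101), dw (nat_lit 0x010101010101), dw (nat_lit 0x01010101010101)
, dw (nat_lit 0x0101010101010101), dw (nat_lit 0x010101010101010101), dw (nat_lit 0x01010101010101010101), dw (nat_lit 0x0101010101010101010101), dw (nat_lit 0x010101010101010101010101), dw (nat_lit 0x01010101010101010101010101), dw (nat_lit 0x0101010101010101010101010101), dw (nat_lit 0x010101010101010101010101010101)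
, dw (nat_lit 0x01010101010101010101010101010101), dw (nat_lit 0x0101010101010101010101010101010101), dw (nat_lit 0x010101010101010101010101010101010101), dw (nat_lit 0x01010101010101010101010101010101010101), dw (nat_lit 0x0101010101010101010101010101010101010101), dw (nat_lit 0x010101010101010101010101010101010101010101), dw (nat_lit 0x01010101010101010101010101010101010101010101)]
noncomputable def cwa1 : List Word := []
noncomputable def sca1 : List Word := []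
noncomputable def Ea1 : List Word := mulL [[]] (List.map (flat csa) Ta1)
noncomputable def Ea0 : List Word := mulL Ea1 (List.map (flat csa) Ta0)
noncomputable def chu6 : Lv := .cons (nat_lit 10) [dw (nat_lit 0x31), dw (nat_lit 0x33), dw (nat_lit 0x35), dw (nat_lit 0x37)] [dw (nat_lit 0x01), dw (nat_lit 0x03), dw (nat_lit 0x05), dw (nat_lit 0x07)] .nil
noncomputable def chu5 : Lv := .cons (nat_lit 21) [dw (nat_lit 0x2b), dw (nat_lit 0x2d), dw (nat_lit 0x2f)] [dw (nat_lit 0x01), dw (nat_lit 0x01)] chu6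
noncomputable def chu4 : Lv := .cons (nat_lit 9) [dw (nat_lit 0x27), dw (nat_lit 0x29)] [dw (nat_lit 0x01), dw (nat_lit 0x03), dw (nat_lit 0x05), dw (nat_lit 0x0f), dw (nat_lit 0x01), dw (nat_lit 0x01)] chu5
noncomputable def chu3 : Lv := .cons (nat_lit 6) [dw (nat_lit 0x23), dw (nat_lit 0x25)] [dw (nat_lit 0x01), dw (nat_lit 0x03), dw (nat_lit 0x01), dw (nat_lit 0x05), dw (nat_lit 0x07), dw (nat_lit 0x01)] chu4
noncomputable def chu2 : Lv := .cons (nat_lit 1) [dw (nat_lit 0x03), dw (nat_lit 0x21)] [dw (nat_lit 0x01), dw (nat_lit 0x03), dw (nat_lit 0x05), dw (nat_lit 0x07), dw (nat_lit 0x17), dw (nat_lit 0x03)] chu3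
noncomputable def chu1 : Lv := .cons (nat_lit 8) [dw (nat_lit 0x1f)] [dw (nat_lit 0x01), dw (nat_lit 0x0501), dw (nat_lit 0x0b), dw (nat_lit 0x0d), dw (nat_lit 0x19), dw (nat_lit 0x01)] chu2
noncomputable def chu0 : Lv := .cons (nat_lit 0) [dw (nat_lit 0x01), dw (nat_lit 0x05)] [dw (nat_lit 0x01), dw (nat_lit 0x03), dw (nat_lit 0x05), dw (nat_lit 0x0d), dw (nat_lit 0x07), dw (nat_lit 0x05)] chu1
noncomputable def csu : List Word := [dw (nat_lit 0x03)]
noncomputable def ddu0_0 : List (Word × CT) := [(dw (nat_lit 0x05), (.alt [] (.alt [] (.step (nat_lit 1) (nat_lit 1) (dw (nat_lit 0x25)) (.step (nat_lit 6) (nat_lit 1) (dw (nat_lit 0x3127)) (.dead (nat_lit 9) (nat_lit 4)))) (.alt (dw (nat_lit 0x03)) (.step (nat_lit 1) (nat_lit 1) (dw (nat_lit 0x25)) (.step (nat_lit 6) (nat_lit 1) (dw (nat_lit 0x3127)) (.dead (nat_lit 9) (nat_lit 4)))) (.alt (dw (nat_lit 0x04)) (.step (nat_lit 1) (nat_lit 1) (dw (nat_lit 0x25)) (.step (nat_lit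 6) (nat_lit 1) (dw (nat_lit 0x3127)) (.dead (nat_lit 9) (nat_lit 4)))) (.alt (dw (nat_lit 0x21)) (.step (nat_lit 1) (nat_lit 1) (dw (nat_lit 0x2c23)) (.step (nat_lit 6) (nat_lit 1) (dw (nat_lit 0x3727)) (.step (nat_lit 9) (nat_lit 4) (dw (nat_lit 0x2c)) (.step (nat_lit 9) (nat_lit 1) (dw (nat_lit 0x3533)) (.bad (nat_lit 2)))))) (.alt (dw (nat_lit 0x22)) (.step (nat_lit 1) (nat_lit 1) (dw (nat_lit 0x2624)) (.step (nat_lit 6) (nat_lit 1) (dw (nat_lit 0x2c27)) (.step (nat_lit 9) (nat_lit 4) [] (.step (nat_lit 9) (nat_lit 1) (dw (nat_lit 0x33)) (.bad (nat_lit 2)))))) (.alt (dw (nat_lit 0x2303)) (.step (nat_lit 1) (nat_lit 1) (dw (nat_lit 0x3123)) (.step (nat_lit 6) (nat_lit 1) (dw (nat_lit 0x373527)) (.dead (nat_lit 9) (nat_lit 4)))) (.alt (dw (nat_lit 0x2403)) (.step (nat_lit 1) (nat_lit 1) (dw (nat_lit 0x2823)) (.step (nat_lit 6) (nat_lit 1) (dw (nat_lit 0x2b27)) (.dead (nat_lit 9) (nat_lit 4)))) (.alt (dw (nat_lit 0x2503))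 (.step (nat_lit 1) (nat_lit 1) (dw (nat_lit 0x3723)) (.step (nat_lit 6) (nat_lit 1) (dw (nat_lit 0x3128)) (.dead (nat_lit 9) (nat_lit 4)))) (.alt (dw (nat_lit 0x2603)) (.step (nat_lit 1) (nat_lit 1) (dw (nat_lit 0x2f23)) (.step (nat_lit 6) (nat_lit 1) (dw (nat_lit 0x3327)) (.dead (nat_lit 9) (nat_lit 4)))) (.alt (dw (nat_lit 0x2103)) (.step (nat_lit 1) (nat_lit 1) (dw (nat_lit 0x2724)) (.step (nat_lit 6) (nat_lit 1) (dw (nat_lit 0x2a27)) (.step (nat_lit 9) (nat_lit 4) [] (.step (nat_lit 9) (nat_lit 1) (dw (nat_lit 0x3533)) (.bad (nat_lit 2)))))) (.alt (dw (nat_lit 0x3504)) (.step (nat_lit 1) (nat_lit 1) (dw (nat_lit 0x2f23)) (.step (nat_lit 6) (nat_lit 1) (dw (nat_lit 0x2b27)) (.step (nat_lit 9) (nat_lit 4) [] (.step (nat_lit 9) (nat_lit 1) (dw (nat_lit 0x3733)) (.bad (nat_lit 2)))))) (.alt (dw (nat_lit 0x3704)) (.step (nat_lit 1) (nat_lit 1) (dw (nat_lit 0x2d25)) (.step (nat_lit 6) (nat_lit 1) (dw (nat_lit 0x27)) (.step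 (nat_lit 9) (nat_lit 4) [] (.step (nat_lit 9) (nat_lit 1) (dw (nat_lit 0x373331)) (.bad (nat_lit 2)))))) (.alt (dw (nat_lit 0x2b04)) (.step (nat_lit 1) (nat_lit 1) (dw (nat_lit 0x2b23)) (.step (nat_lit 6) (nat_lit 1) (dw (nat_lit 0x273527)) (.step (nat_lit 9) (nat_lit 4) [] (.step (nat_lit 9) (nat_lit 1) (dw (nat_lit 0x3735)) (.bad (nat_lit 2)))))) (.alt (dw (nat_lit 0x2d04)) (.step (nat_lit 1) (nat_lit 1) (dw (nat_lit 0x23)) (.step (nat_lit 6) (nat_lit 1) (dw (nat_lit 0x3728)) (.step (nat_lit 9) (nat_lit 4) (dw (nat_lit 0x2c)) (.step (nat_lit 9) (nat_lit 1) (dw (nat_lit 0x31)) (.bad (nat_lit 2)))))) (.alt (dw (nat_lit 0x2e04)) (.step (nat_lit 1) (nat_lit 1) (dw (nat_lit 0x2523)) (.step (nat_lit 6) (nat_lit 1) (dw (nat_lit 0x373527)) (.step (nat_lit 9) (nat_lit 4) [] (.step (nat_lit 9) (nat_lit 1) (dw (nat_lit 0x373531)) (.bad (nat_lit 2)))))) (.alt (dw (nat_lit 0x2904)) (.step (nat_lit 1) (nat_lit 1) (dw (nat_lit 0x2823))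 (.step (nat_lit 6) (nat_lit 1) (dw (nat_lit 0x2a27)) (.dead (nat_lit 9) (nat_lit 4)))) (.alt (dw (nat_lit 0x2504)) (.step (nat_lit 1) (nat_lit 1) (dw (nat_lit 0x3723)) (.step (nat_lit 6) (nat_lit 1) [] (.dead (nat_lit 9) (nat_lit 4)))) (.alt (dw (nat_lit 0x2204)) (.step (nat_lit 1) (nat_lit 1) (dw (nat_lit 0x26)) (.step (nat_lit 6) (nat_lit 1) (dw (nat_lit 0x2a)) (.step (nat_lit 9) (nat_lit 4) (dw (nat_lit 0x2b)) (.step (nat_lit 9) (nat_lit 1) (dw (nat_lit 0x31)) (.bad (nat_lit 2)))))) (.alt (dw (nat_lit 0x3321)) (.step (nat_lit 1) (nat_lit 1) [] (.step (nat_lit 6) (nat_lit 1) (dw (nat_lit 0x28)) (.dead (nat_lit 9) (nat_lit 4)))) (.alt (dw (nat_lit 0x2b21)) (.step (nat_lit 1) (nat_lit 1) (dw (nat_lit 0x2323)) (.step (nat_lit 6) (nat_lit 1) (dw (nat_lit 0x373527)) (.step (nat_lit 9) (nat_lit 4) (dw (nat_lit 0x2b)) (.step (nat_lit 9) (nat_lit 1) (dw (nat_lit 0x373531)) (.bad (nat_lit 2)))))) (.alt (dw (nat_lit 0x2821))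 (.step (nat_lit 1) (nat_lit 1) (dw (nat_lit 0x26)) (.step (nat_lit 6) (nat_lit 1) (dw (nat_lit 0x2a)) (.dead (nat_lit 9) (nat_lit 4)))) (.alt (dw (nat_lit 0x2921)) (.step (nat_lit 1) (nat_lit 1) (dw (nat_lit 0x2624)) (.step (nat_lit 6) (nat_lit 1) (dw (nat_lit 0x3327)) (.step (nat_lit 9) (nat_lit 4) (dw (nat_lit 0x2b)) (.step (nat_lit 9) (nat_lit 1) (dw (nat_lit 0x31)) (.bad (nat_lit 2)))))) (.nil (nat_lit 0)))))))))))))))))))))))) (.nil (nat_lit 1))))]
noncomputable def ddu0 : List (Word × CT) := ddu0_0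
noncomputable def Tu0 : List Word := [[]]
noncomputable def cwu0 : List Word := [dw (nat_lit 0x01)]
noncomputable def scu0 : List Word := []
noncomputable def ddu1 : List (Word × CT) := []
noncomputable def Tu1 : List Word := [[]]
noncomputable def cwu1 : List Word := []
noncomputable def scu1 : List Word := []
noncomputable def ddu2_0 : List (Word × CT) := [(dw (nat_lit 0x21), (.step (nat_lit 1) (nat_lit 1) (dw (nat_lit 0x2823)) (.step (nat_lit 6) (nat_lit 1) (dw (nat_lit 0x27)) (.dead (nat_lit 9) (nat_lit 4)))))]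
noncomputable def ddu2 : List (Word × CT) := ddu2_0
noncomputable def Tu2 : List Word := [[], dw (nat_lit 0x01), dw (nat_lit 0x02), dw (nat_lit 0x0101), dw (nat_lit 0x0202), dw (nat_lit 0x010101), dw (nat_lit 0x020202), dw (nat_lit 0x01010101)
, dw (nat_lit 0x02020202), dw (nat_lit 0x0101010101), dw (nat_lit 0x0202020202)]
noncomputable def cwu2 : List Word := [dw (nat_lit 0x01)]
noncomputable def scu2 : List Word := [dw (nat_lit 0x01), dw (nat_lit 0x0101), dw (nat_lit 0x020202), dw (nat_lit 0x020202), dw (nat_lit 0x01)]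
noncomputable def Eu2 : List Word := mulL [[]] (List.map (flat csu) Tu2)
noncomputable def Eu1 : List Word := mulL Eu2 (List.map (flat csu) Tu1)
noncomputable def Eu0 : List Word := mulL Eu1 (List.map (flat csu) Tu0)
noncomputable def Rs : List (Word × Nat) := [(dw (nat_lit 0x06030601060306010603060106030601), nat_lit 13)]
noncomputable def ks : List Nat := [nat_lit 1, nat_lit 5]
theorem chca : band (Nat.ble 1 244823040) (Nat.ble 244823040 (cha0.val 24 nets)) = true := by decide +kernel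
theorem cca : relsChk 24 nets 5 (idArr 24 5 5 0) (commRels wa csa) = true := by decide +kernel
theorem lka0 : lvlChk 24 nets F wa cha0 [] (List.map (flat csa) Ta0) (List.map (flat csa) cwa0) sca0 dda0 1 = true := by decide +kernel
theorem lka1 : lvlChk 24 nets F wa cha1 [nat_lit 8] (List.map (flat csa) Ta1) (List.map (flat csa) cwa1) sca1 dda1 0 = true := by decide +kernel
theorem dta2 : detChk F wa cha2 [nat_lit 0, nat_lit 8] 0 1 = true := by decide +kernel
theorem dta3 : detChk F wa cha3 [nat_lit 15, nat_lit 0, nat_lit 8] 15 1 = true := by decide +kernel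
theorem dta4 : detChk F wa cha4 [nat_lit 19, nat_lit 15, nat_lit 0, nat_lit 8] 19 1 = true := by decide +kernel
theorem dta5 : detChk F wa cha5 [nat_lit 3, nat_lit 19, nat_lit 15, nat_lit 0, nat_lit 8] 3 2 = true := by decide +kernel
theorem dta6 : detChk F wa cha6 [nat_lit 16, nat_lit 3, nat_lit 19, nat_lit 15, nat_lit 0, nat_lit 8] 3 1 = true := by decide +kernel
theorem chcu : band (Nat.ble 1 244823040) (Nat.ble 244823040 (chu0.val 24 nets)) = true := by decide +kernel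
theorem ccu : relsChk 24 nets 5 (idArr 24 5 5 0) (commRels (powW wu 1) csu) = true := by decide +kernel
theorem dku0_0 : deadChk 24 nets F (powW wu 1) chu0 [] ddu0_0 = true := by decide +kernel
theorem lku0 : lvlChk 24 nets F (powW wu 1) chu0 [] (List.map (flat csu) Tu0) (List.map (flat csu) cwu0) scu0 ddu0 1 = true := by decide +kernel
theorem lku1 : lvlChk 24 nets F (powW wu 1) chu1 [nat_lit 0] (List.map (flat csu) Tu1) (List.map (flat csu) cwu1) scu1 ddu1 1 = true := by decide +kernel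
theorem dku2_0 : deadChk 24 nets F (powW wu 1) chu2 [nat_lit 8, nat_lit 0] ddu2_0 = true := by decide +kernel
theorem lku2 : lvlChk 24 nets F (powW wu 1) chu2 [nat_lit 8, nat_lit 0] (List.map (flat csu) Tu2) (List.map (flat csu) cwu2) scu2 ddu2 0 = true := by decide +kernel
theorem dtu3 : detChk F (powW wu 1) chu3 [nat_lit 1, nat_lit 8, nat_lit 0] 1 1 = true := by decide +kernel
theorem dtu4 : detChk F (powW wu 1) chu4 [nat_lit 6, nat_lit 1, nat_lit 8, nat_lit 0] 6 1 = true := by decide +kernel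
theorem dtu5 : detChk F (powW wu 1) chu5 [nat_lit 9, nat_lit 6, nat_lit 1, nat_lit 8, nat_lit 0] 9 4 = true := by decide +kernel
theorem dtu6 : detChk F (powW wu 1) chu6 [nat_lit 21, nat_lit 9, nat_lit 6, nat_lit 1, nat_lit 8, nat_lit 0] 9 1 = true := by decide +kernel
theorem nf : relsChk 24 nets 5 (idArr 24 5 5 0) (nfRels wa wu wb 23 2 1 8 Rs) = true := by decide +kernel
theorem lf_0 : allL (lfChk 24 F wa wu wb ks Rs [((1 : ℕ), ([] : Word))]) Eu0 = true := by decide +kernel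
theorem ari : ariChk 244823040 23 2 11 ks = true := by decide +kernel
theorem mva : band (Nat.ble (Nat.succ 0) 24) (bnot (Nat.beq (apW F wa 0) 0)) = true := by decide +kernel
theorem pwa : pwChk wa 23 Ea0 = true := by decide +kernel
theorem dc : relsChk 24 nets 5 (idArr 24 5 5 0) (defRels defs 3) = true := by decide +kernel
section
variable {G : Type u} {Ω : Type*} [Group G] [MulAction G Ω] [FaithfulSMul G Ω] (M : PM G Ω 24 nets)

theorem RCa : Rels M.gen (commRels wa csa) := (M.rels_of_idArr (by decide) cca)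
theorem cpa7 : CP M wa .nil [nat_lit 4, nat_lit 16, nat_lit 3, nat_lit 19, nat_lit 15, nat_lit 0, nat_lit 8] [[]] := cp_nil _ _
theorem cpa6 : CP M wa cha6 [nat_lit 16, nat_lit 3, nat_lit 19, nat_lit 15, nat_lit 0, nat_lit 8] [[]] := cp_det _ _ dta6 (cpa7 M)
theorem cpa5 : CP M wa cha5 [nat_lit 3, nat_lit 19, nat_lit 15, nat_lit 0, nat_lit 8] [[]] := cp_det _ _ dta5 (cpa6 M)
theorem cpa4 : CP M wa cha4 [nat_lit 19, nat_lit 15, nat_lit 0, nat_lit 8] [[]] := cp_det _ _ dta4 (cpa5 M)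
theorem cpa3 : CP M wa cha3 [nat_lit 15, nat_lit 0, nat_lit 8] [[]] := cp_det _ _ dta3 (cpa4 M)
theorem cpa2 : CP M wa cha2 [nat_lit 0, nat_lit 8] [[]] := cp_det _ _ dta2 (cpa3 M)
theorem cpa1 : CP M wa cha1 [nat_lit 8] Ea1 := cp_lvl (RCa M) lka1 rfl (cpa2 M)
theorem cpa0 : CP M wa cha0 [] Ea0 := cp_lvl (RCa M) lka0 rfl (cpa1 M)
theorem cena (hN : Nat.card G = 244823040) (g : G) (hg : g * ev M.gen wa = ev M.gen wa * g) : ∃ t ∈ Ea0, g = ev M.gen t := cp_top (cpa0 M) hN chca g hg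
theorem RCu : Rels M.gen (commRels (powW wu 1) csu) := (M.rels_of_idArr (by decide) ccu)
theorem cpu7 : CP M (powW wu 1) .nil [nat_lit 10, nat_lit 21, nat_lit 9, nat_lit 6, nat_lit 1, nat_lit 8, nat_lit 0] [[]] := cp_nil _ _
theorem cpu6 : CP M (powW wu 1) chu6 [nat_lit 21, nat_lit 9, nat_lit 6, nat_lit 1, nat_lit 8, nat_lit 0] [[]] := cp_det _ _ dtu6 (cpu7 M)
theorem cpu5 : CP M (powW wu 1) chu5 [nat_lit 9, nat_lit 6, nat_lit 1, nat_lit 8, nat_lit 0] [[]] := cp_det _ _ dtu5 (cpu6 M)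
theorem cpu4 : CP M (powW wu 1) chu4 [nat_lit 6, nat_lit 1, nat_lit 8, nat_lit 0] [[]] := cp_det _ _ dtu4 (cpu5 M)
theorem cpu3 : CP M (powW wu 1) chu3 [nat_lit 1, nat_lit 8, nat_lit 0] [[]] := cp_det _ _ dtu3 (cpu4 M)
theorem cpu2 : CP M (powW wu 1) chu2 [nat_lit 8, nat_lit 0] Eu2 := cp_lvl (RCu M) lku2 dku2_0 (cpu3 M)
theorem cpu1 : CP M (powW wu 1) chu1 [nat_lit 0] Eu1 := cp_lvl (RCu M) lku1 rfl (cpu2 M)
theorem cpu0 : CP M (powW wu 1) chu0 [] Eu0 := cp_lvl (RCu M) lku0 dku0_0 (cpu1 M)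
theorem cenu (hN : Nat.card G = 244823040) (g : G) (hg : g * ev M.gen (powW wu 1) = ev M.gen (powW wu 1) * g) : ∃ t ∈ Eu0, g = ev M.gen t := cp_top (cpu0 M) hN chcu g hg
theorem Rdefs : Rels M.gen (defRels defs 3) := (M.rels_of_idArr (by decide) dc)
theorem top (hN : Nat.card G = 244823040) : sub M.gen [wa, wu, wb] = ⊤ := top_of_defs (lo := 0) (j := 0) hN chca (Rdefs M) (by decide +kernel)
theorem upper (hN : Nat.card G = 244823040) (α : MulAut G) : ∃ g : G, ∃ q ∈ [((1 : ℕ), ([] : Word))],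
    Maps M.gen (MulAut.conj g * α) [wa, wu, wb] [powW wa q.1, wu, q.2 ++ wb] :=
  out_upper hN (by decide +kernel) (by norm_num) ari (M.rels_of_idArr (by decide) nf) mva (cena M hN) pwa (cenu M hN) lf_0 α
include M in
theorem out (hN : Nat.card G = 244823040) : Nat.card (Out G) = 1 := out_one (top M hN) (upper M hN)
end

section
variable {G : Type u} {Ω : Type*} [Group G] [MulAction G Ω]

noncomputable def mach (E : Enc Ω 24) (hr : ∀ l < 3, ∃ g : G, E.Real (getL Net.nil nets l) g) : PM G Ω 24 nets :=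
  PM.ofReal G E (by decide) nets_ok (real_of_slp E (by decide) (by decide) nets_ok hr (ds := defs) (by decide +kernel) (by decide +kernel)
    (Rdefs (permPM 24 nets (by decide) (by decide) nets_ok)))
theorem out' [FaithfulSMul G Ω] (E : Enc Ω 24) (hr : ∀ l < 3, ∃ g : G, E.Real (getL Net.nil nets l) g) (hN : Nat.card G = 244823040) : Nat.card (Out G) = 1 := out (mach E hr) hN
end

end L.OM24
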