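import Cfsg.Agent.L.Top
import Cfsg.Agent.L.Out

/-! Generated certificate (toolsL) for the group OM11 of degree 24 and order 7920. -/
set_option Elab.async false
set_option autoImplicit false
set_option maxRecDepth 100000
set_option maxHeartbeats 0
set_option linter.unusedSectionVars false

namespace L.OM11
open H14 Cfsg

universe u

noncomputable def n0 : Net := (.cons (nat_lit 1) (nat_lit 0x454540)
(.cons (nat_lit 2) (nat_lit 0x231110)
(.cons (nat_lit 4) (nat_lit 0x90100)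
(.cons (nat_lit 8) (nat_lit 0x81)
(.cons (nat_lit 16) (nat_lit 0x9b)
(.cons (nat_lit 8) (nat_lit 0xe7)
(.cons (nat_lit 4) (nat_lit 0x4040c)
(.cons (nat_lit 2) (nat_lit 0x33132)
(.cons (nat_lit 1) (nat_lit 0x154444)
.nil)))))))))
theorem n0_ok : Net.ok 24 n0 = true := by decide +kernel
noncomputable def n1 : Net := (.cons (nat_lit 1) (nat_lit 0x50400)
(.cons (nat_lit 2) (nat_lit 0x23310)
(.cons (nat_lit 4) (nat_lit 0xe0000)
(.cons (nat_lit 8) (nat_lit 0x5)
(.cons (nat_lit 16) (nat_lit 0xb5)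
(.cons (nat_lit 8) (nat_lit 0xd1)
(.cons (nat_lit 4) (nat_lit 0x3080c)
(.cons (nat_lit 2) (nat_lit 0x123300)
(.cons (nat_lit 1) (nat_lit 0x101454)
.nil)))))))))
theorem n1_ok : Net.ok 24 n1 = true := by decide +kernel
noncomputable def n2 : Net := (.cons (nat_lit 1) (nat_lit 0x110000)
(.cons (nat_lit 2) (nat_lit 0x23200)
(.cons (nat_lit 4) (nat_lit 0x70900)
(.cons (nat_lit 8) (nat_lit 0x9)
(.cons (nat_lit 16) (nat_lit 0x69)
(.cons (nat_lit 8) (nat_lit 0x51)
(.cons (nat_lit 4) (nat_lit 0x70e00)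
(.cons (nat_lit 2) (nat_lit 0x312320)
(.cons (nat_lit 1) (nat_lit 0x145400)
.nil)))))))))
theorem n2_ok : Net.ok 24 n2 = true := by decide +kernel
noncomputable def n3 : Net := (.cons (nat_lit 1) (nat_lit 0x150400)
(.cons (nat_lit 2) (nat_lit 0x121000)
(.cons (nat_lit 4) (nat_lit 0xb0e00)
(.cons (nat_lit 8) (nat_lit 0x80)
(.cons (nat_lit 16) (nat_lit 0xf0)
(.cons (nat_lit 8) (nat_lit 0x70)
(.cons (nat_lit 4) (nat_lit 0xf0608)
(.cons (nat_lit 2) (nat_lit 0x211010)
(.cons (nat_lit 1) (nat_lit 0x104154)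
.nil)))))))))
theorem n3_ok : Net.ok 24 n3 = true := by decide +kernel
noncomputable def n4 : Net := (.cons (nat_lit 1) (nat_lit 0x45040)
(.cons (nat_lit 2) (nat_lit 0x123010)
(.cons (nat_lit 4) (nat_lit 0x90c00)
(.cons (nat_lit 8) (nat_lit 0x8)
(.cons (nat_lit 16) (nat_lit 0x18)
(.cons (nat_lit 8) (nat_lit 0xac)
(.cons (nat_lit 4) (nat_lit 0x50b04)
(.cons (nat_lit 2) (nat_lit 0x230330)
(.cons (nat_lit 1) (nat_lit 0x455000)
.nil)))))))))
theorem n4_ok : Net.ok 24 n4 = true := by decide +kernel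
noncomputable def n5 : Net := (.cons (nat_lit 1) (nat_lit 0x501400)
(.cons (nat_lit 2) (nat_lit 0x110230)
(.cons (nat_lit 4) (nat_lit 0xc0c00)
(.cons (nat_lit 8) (nat_lit 0xe)
(.cons (nat_lit 16) (nat_lit 0xee)
(.cons (nat_lit 8) (nat_lit 0x96)
(.cons (nat_lit 4) (nat_lit 0xc0a0c)
(.cons (nat_lit 2) (nat_lit 0x32020)
(.cons (nat_lit 1) (nat_lit 0x104404)
.nil)))))))))
theorem n5_ok : Net.ok 24 n5 = true := by decide +kernel
noncomputable def n6 : Net := (.cons (nat_lit 1) (nat_lit 0x551440)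
(.cons (nat_lit 2) (nat_lit 0x230000)
(.cons (nat_lit 4) (nat_lit 0x90800)
(.cons (nat_lit 8) (nat_lit 0x80)
(.cons (nat_lit 16) (nat_lit 0xb0)
(.cons (nat_lit 8) (nat_lit 0x20)
(.cons (nat_lit 4) (nat_lit 0x50508)
(.cons (nat_lit 2) (nat_lit 0x322030)
(.cons (nat_lit 1) (nat_lit 0x40454)
.nil)))))))))
theorem n6_ok : Net.ok 24 n6 = true := by decide +kernel
noncomputable def n7 : Net := (.cons (nat_lit 1) (nat_lit 0x400440)
(.cons (nat_lit 2) (nat_lit 0x31010)
(.cons (nat_lit 4) (nat_lit 0xd0500)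
(.cons (nat_lit 8) (nat_lit 0xe9)
(.cons (nat_lit 16) (nat_lit 0xe9)
(.cons (nat_lit 8) (nat_lit 0xd5)
(.cons (nat_lit 4) (nat_lit 0xf0908)
(.cons (nat_lit 2) (nat_lit 0x13100)
(.cons (nat_lit 1) (nat_lit 0x10004)
.nil)))))))))
theorem n7_ok : Net.ok 24 n7 = true := by decide +kernel
noncomputable def n8 : Net := (.cons (nat_lit 1) (nat_lit 0x111100)
(.cons (nat_lit 2) (nat_lit 0x333000)
(.cons (nat_lit 4) (nat_lit 0xa0600)
(.cons (nat_lit 8) (nat_lit 0x5a)
(.cons (nat_lit 16) (nat_lit 0xde)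
(.cons (nat_lit 8) (nat_lit 0xf2)
(.cons (nat_lit 4) (nat_lit 0x90c)
(.cons (nat_lit 2) (nat_lit 0x32320)
(.cons (nat_lit 1) (nat_lit 0x500444)
.nil)))))))))
theorem n8_ok : Net.ok 24 n8 = true := by decide +kernel
noncomputable def n9 : Net := (.cons (nat_lit 1) (nat_lit 0x511550)
(.cons (nat_lit 2) (nat_lit 0x200200)
(.cons (nat_lit 4) (nat_lit 0xe0500)
(.cons (nat_lit 8) (nat_lit 0x83)
(.cons (nat_lit 16) (nat_lit 0xf3)
(.cons (nat_lit 8) (nat_lit 0xc3)
(.cons (nat_lit 4) (nat_lit 0x20408)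
(.cons (nat_lit 2) (nat_lit 0x210320)
(.cons (nat_lit 1) (nat_lit 0x514550)
.nil)))))))))
theorem n9_ok : Net.ok 24 n9 = true := by decide +kernel
noncomputable def n10 : Net := (.cons (nat_lit 1) (nat_lit 0x55440)
(.cons (nat_lit 2) (nat_lit 0x232220)
(.cons (nat_lit 4) (nat_lit 0x20000)
(.cons (nat_lit 8) (nat_lit 0x6)
(.cons (nat_lit 16) (nat_lit 0xce)
(.cons (nat_lit 8) (nat_lit 0xbe)
(.cons (nat_lit 4) (nat_lit 0x30e08)
(.cons (nat_lit 2) (nat_lit 0x102030)
(.cons (nat_lit 1) (nat_lit 0x451410)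
.nil)))))))))
theorem n10_ok : Net.ok 24 n10 = true := by decide +kernel
noncomputable def nets : List Net := [n0, n1, n2, n3, n4, n5, n6, n7, n8, n9, n10]
theorem nets_ok : netsOk 24 nets = true := List.all_eq_true.2 (fa_cons n0_ok (fa_cons n1_ok (fa_cons n2_ok (fa_cons n3_ok (fa_cons n4_ok (fa_cons n5_ok (fa_cons n6_ok (fa_cons n7_ok (fa_cons n8_ok (fa_cons n9_ok (fa_cons n10_ok (fa_nil))))))))))))
noncomputable def F : Nat → Nat → Nat := ptF (nat_lit 64) (nat_lit 5) nets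
instance instF : PtF 24 nets F := ptF_ok nets_ok (by decide +kernel)
noncomputable def defs : List Word := [dw (nat_lit 0x010503020301), dw (nat_lit 0x0305), dw (nat_lit 0x0408), dw (nat_lit 0x0a0a0b0b0b0a0c090c090b), dw (nat_lit 0x0b09), dw (nat_lit 0x0203030501050104), dw (nat_lit 0x031106040511), dw (nat_lit 0x05051406)
]
noncomputable def wa : Word := [nat_lit 0]
noncomputable def wu : Word := [nat_lit 2]
noncomputable def wb : Word := [nat_lit 4]
noncomputable def cha3 : Lv := .cons (nat_lit 4) [dw (nat_lit 0x0d), dw (nat_lit 0x0f)] [dw (nat_lit 0x01), dw (nat_lit 0x03), dw (nat_lit 0x0404)] .nil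
noncomputable def cha2 : Lv := .cons (nat_lit 9) [dw (nat_lit 0x09), dw (nat_lit 0x0b)] [dw (nat_lit 0x01), dw (nat_lit 0x0501), dw (nat_lit 0x01), dw (nat_lit 0x05), dw (nat_lit 0x01)] cha3
noncomputable def cha1 : Lv := .cons (nat_lit 18) [dw (nat_lit 0x03), dw (nat_lit 0x05), dw (nat_lit 0x07)] [dw (nat_lit 0x01), dw (nat_lit 0x03), dw (nat_lit 0x0b), dw (nat_lit 0x01), dw (nat_lit 0x01)] cha2
noncomputable def cha0 : Lv := .cons (nat_lit 1) [dw (nat_lit 0x01)] [dw (nat_lit 0x01), dw (nat_lit 0x0101), dw (nat_lit 0x03), dw (nat_lit 0x01), dw (nat_lit 0x01)] cha1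
noncomputable def csa : List Word := [dw (nat_lit 0x01)]
noncomputable def dda0 : List (Word × CT) := []
noncomputable def Ta0 : List Word := [[], dw (nat_lit 0x01), dw (nat_lit 0x0101), dw (nat_lit 0x010101), dw (nat_lit 0x01010101), dw (nat_lit 0x0101010101), dw (nat_lit 0x010101010101), dw (nat_lit 0x01010101010101)
, dw (nat_lit 0x0101010101010101), dw (nat_lit 0x010101010101010101), dw (nat_lit 0x01010101010101010101)]
noncomputable def cwa0 : List Word := []
noncomputable def sca0 : List Word := []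
noncomputable def Ea0 : List Word := mulL [[]] (List.map (flat csa) Ta0)
noncomputable def chu3 : Lv := .cons (nat_lit 18) [dw (nat_lit 0x13), dw (nat_lit 0x15)] [dw (nat_lit 0x01), dw (nat_lit 0x03), dw (nat_lit 0x0303)] .nil
noncomputable def chu2 : Lv := .cons (nat_lit 8) [dw (nat_lit 0x05)] [dw (nat_lit 0x01), dw (nat_lit 0x0206), dw (nat_lit 0x03), dw (nat_lit 0x01)] chu3
noncomputable def chu1 : Lv := .cons (nat_lit 2) [dw (nat_lit 0x03), dw (nat_lit 0x11)] [dw (nat_lit 0x01), dw (nat_lit 0x03), dw (nat_lit 0x0303), dw (nat_lit 0x05)] chu2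
noncomputable def chu0 : Lv := .cons (nat_lit 1) [dw (nat_lit 0x01)] [dw (nat_lit 0x01), dw (nat_lit 0x0208), dw (nat_lit 0x01), dw (nat_lit 0x03), dw (nat_lit 0x01)] chu1
noncomputable def csu : List Word := [dw (nat_lit 0x03)]
noncomputable def ddu0 : List (Word × CT) := []
noncomputable def Tu0 : List Word := [[]]
noncomputable def cwu0 : List Word := []
noncomputable def scu0 : List Word := []
noncomputable def ddu1_0 : List (Word × CT) := [(dw (nat_lit 0x11), (.step (nat_lit 2) (nat_lit 1) (dw (nat_lit 0x1305)) (.step (nat_lit 8) (nat_lit 1) (dw (nat_lit 0x14)) (.bad (nat_lit 3)))))]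
noncomputable def ddu1 : List (Word × CT) := ddu1_0
noncomputable def Tu1 : List Word := [[], dw (nat_lit 0x01), dw (nat_lit 0x02), dw (nat_lit 0x0101), dw (nat_lit 0x0202)]
noncomputable def cwu1 : List Word := [dw (nat_lit 0x01)]
noncomputable def scu1 : List Word := [dw (nat_lit 0x01), dw (nat_lit 0x0101), dw (nat_lit 0x01)]
noncomputable def Eu1 : List Word := mulL [[]] (List.map (flat csu) Tu1)
noncomputable def Eu0 : List Word := mulL Eu1 (List.map (flat csu) Tu0)
noncomputable def Rs : List (Word × Nat) := [(dw (nat_lit 0x0501050105010501), nat_lit 9)]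
noncomputable def ks : List Nat := [nat_lit 1, nat_lit 2]
theorem chca : band (Nat.ble 1 7920) (Nat.ble 7920 (cha0.val 24 nets)) = true := by decide +kernel
theorem cca : relsChk 24 nets 5 (idArr 24 5 5 0) (commRels wa csa) = true := by decide +kernel
theorem lka0 : lvlChk 24 nets F wa cha0 [] (List.map (flat csa) Ta0) (List.map (flat csa) cwa0) sca0 dda0 0 = true := by decide +kernel
theorem dta1 : detChk F wa cha1 [nat_lit 1] 1 1 = true := by decide +kernel
theorem dta2 : detChk F wa cha2 [nat_lit 18, nat_lit 1] 18 1 = true := by decide +kernel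
theorem dta3 : detChk F wa cha3 [nat_lit 9, nat_lit 18, nat_lit 1] 9 1 = true := by decide +kernel
theorem chcu : band (Nat.ble 1 7920) (Nat.ble 7920 (chu0.val 24 nets)) = true := by decide +kernel
theorem ccu : relsChk 24 nets 5 (idArr 24 5 5 0) (commRels (powW wu 1) csu) = true := by decide +kernel
theorem lku0 : lvlChk 24 nets F (powW wu 1) chu0 [] (List.map (flat csu) Tu0) (List.map (flat csu) cwu0) scu0 ddu0 1 = true := by decide +kernel
theorem dku1_0 : deadChk 24 nets F (powW wu 1) chu1 [nat_lit 1] ddu1_0 = true := by decide +kernel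
theorem lku1 : lvlChk 24 nets F (powW wu 1) chu1 [nat_lit 1] (List.map (flat csu) Tu1) (List.map (flat csu) cwu1) scu1 ddu1 0 = true := by decide +kernel
theorem dtu2 : detChk F (powW wu 1) chu2 [nat_lit 2, nat_lit 1] 2 1 = true := by decide +kernel
theorem dtu3 : detChk F (powW wu 1) chu3 [nat_lit 8, nat_lit 2, nat_lit 1] 8 1 = true := by decide +kernel
theorem nf : relsChk 24 nets 5 (idArr 24 5 5 0) (nfRels wa wu wb 11 3 1 3 Rs) = true := by decide +kernel
theorem lf_0 : allL (lfChk 24 F wa wu wb ks Rs [((1 : ℕ), ([] : Word))]) Eu0 = true := by decide +kernel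
theorem ari : ariChk 7920 11 3 5 ks = true := by decide +kernel
theorem mva : band (Nat.ble (Nat.succ 1) 24) (bnot (Nat.beq (apW F wa 1) 1)) = true := by decide +kernel
theorem pwa : pwChk wa 11 Ea0 = true := by decide +kernel
theorem dc : relsChk 24 nets 5 (idArr 24 5 5 0) (defRels defs 3) = true := by decide +kernel
section
variable {G : Type u} {Ω : Type*} [Group G] [MulAction G Ω] [FaithfulSMul G Ω] (M : PM G Ω 24 nets)

theorem RCa : Rels M.gen (commRels wa csa) := (M.rels_of_idArr (by decide) cca)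
theorem cpa4 : CP M wa .nil [nat_lit 4, nat_lit 9, nat_lit 18, nat_lit 1] [[]] := cp_nil _ _
theorem cpa3 : CP M wa cha3 [nat_lit 9, nat_lit 18, nat_lit 1] [[]] := cp_det _ _ dta3 (cpa4 M)
theorem cpa2 : CP M wa cha2 [nat_lit 18, nat_lit 1] [[]] := cp_det _ _ dta2 (cpa3 M)
theorem cpa1 : CP M wa cha1 [nat_lit 1] [[]] := cp_det _ _ dta1 (cpa2 M)
theorem cpa0 : CP M wa cha0 [] Ea0 := cp_lvl (RCa M) lka0 rfl (cpa1 M)
theorem cena (hN : Nat.card G = 7920) (g : G) (hg : g * ev M.gen wa = ev M.gen wa * g) : ∃ t ∈ Ea0, g = ev M.gen t := cp_top (cpa0 M) hN chca g hg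
theorem RCu : Rels M.gen (commRels (powW wu 1) csu) := (M.rels_of_idArr (by decide) ccu)
theorem cpu4 : CP M (powW wu 1) .nil [nat_lit 18, nat_lit 8, nat_lit 2, nat_lit 1] [[]] := cp_nil _ _
theorem cpu3 : CP M (powW wu 1) chu3 [nat_lit 8, nat_lit 2, nat_lit 1] [[]] := cp_det _ _ dtu3 (cpu4 M)
theorem cpu2 : CP M (powW wu 1) chu2 [nat_lit 2, nat_lit 1] [[]] := cp_det _ _ dtu2 (cpu3 M)
theorem cpu1 : CP M (powW wu 1) chu1 [nat_lit 1] Eu1 := cp_lvl (RCu M) lku1 dku1_0 (cpu2 M)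
theorem cpu0 : CP M (powW wu 1) chu0 [] Eu0 := cp_lvl (RCu M) lku0 rfl (cpu1 M)
theorem cenu (hN : Nat.card G = 7920) (g : G) (hg : g * ev M.gen (powW wu 1) = ev M.gen (powW wu 1) * g) : ∃ t ∈ Eu0, g = ev M.gen t := cp_top (cpu0 M) hN chcu g hg
theorem Rdefs : Rels M.gen (defRels defs 3) := (M.rels_of_idArr (by decide) dc)
theorem top (hN : Nat.card G = 7920) : sub M.gen [wa, wu, wb] = ⊤ := top_of_defs (lo := 0) (j := 0) hN chca (Rdefs M) (by decide +kernel)
theorem upper (hN : Nat.card G = 7920) (α : MulAut G) : ∃ g : G, ∃ q ∈ [((1 : ℕ), ([] : Word))],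
    Maps M.gen (MulAut.conj g * α) [wa, wu, wb] [powW wa q.1, wu, q.2 ++ wb] :=
  out_upper hN (by decide +kernel) (by norm_num) ari (M.rels_of_idArr (by decide) nf) mva (cena M hN) pwa (cenu M hN) lf_0 α
include M in
theorem out (hN : Nat.card G = 7920) : Nat.card (Out G) = 1 := out_one (top M hN) (upper M hN)
end

section
variable {G : Type u} {Ω : Type*} [Group G] [MulAction G Ω]

noncomputable def mach (E : Enc Ω 24) (hr : ∀ l < 3, ∃ g : G, E.Real (getL Net.nil nets l) g) : PM G Ω 24 nets :=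
  PM.ofReal G E (by decide) nets_ok (real_of_slp E (by decide) (by decide) nets_ok hr (ds := defs) (by decide +kernel) (by decide +kernel)
    (Rdefs (permPM 24 nets (by decide) (by decide) nets_ok)))
theorem out' [FaithfulSMul G Ω] (E : Enc Ω 24) (hr : ∀ l < 3, ∃ g : G, E.Real (getL Net.nil nets l) g) (hN : Nat.card G = 7920) : Nat.card (Out G) = 1 := out (mach E hr) hN
end

end L.OM11
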