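import Cfsg.Agent.L.K22T
import Cfsg.Agent.L.KF

/-! Generated certificate (toolsL/cg.hpp). -/
set_option autoImplicit false
set_option maxRecDepth 200000
set_option Elab.async false
set_option linter.unusedVariables false
set_option linter.unusedSectionVars false

namespace L.K22
open H14 L.K22T
variable {G Ω : Type*} [Group G] [Finite G] [MulAction G Ω]

noncomputable def w0 : Word := [nat_lit 24]
noncomputable def w1 : Word := [nat_lit 48]
noncomputable def w2 : Word := [nat_lit 46]
noncomputable def w3 : Word := [nat_lit 44]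
noncomputable def w4 : Word := [nat_lit 42]
noncomputable def w5 : Word := [nat_lit 40]
noncomputable def w6 : Word := [nat_lit 38]
noncomputable def w7 : Word := [nat_lit 20]
theorem k8 : orbChk (nat_lit 3510) H15.Fi22P.nets F [] (sel [w0, w1, w2, w3, w4, w5, w6, w7] [nat_lit 0, nat_lit 1, nat_lit 2, nat_lit 3, nat_lit 4, nat_lit 5, nat_lit 6, nat_lit 7]) [dw (nat_lit 0x0f), dw (nat_lit 0x01), dw (nat_lit 0x0f), dw (nat_lit 0x03), dw (nat_lit 0x07), dw (nat_lit 0x09), dw (nat_lit 0x01), dw (nat_lit 0x0f)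
, dw (nat_lit 0x0d), dw (nat_lit 0x03), dw (nat_lit 0x0f), dw (nat_lit 0x01), dw (nat_lit 0x07), dw (nat_lit 0x0f), dw (nat_lit 0x03), dw (nat_lit 0x09)
, dw (nat_lit 0x0f)] (dn (nat_lit 20) (nat_lit 0x35f430f20333e862de0315d06)) (bit (nat_lit 0)) (full (nat_lit 3510)) = true := by decide +kernel
theorem o9 (M : PM G Ω 3510 H15.Fi22P.nets) (hN : Nat.card G = 64561751654400) : Orb M ⊤ [] (nat_lit 0) (full (nat_lit 3510)) :=
  (Orb.ext le_top (orb_bit ⊤ [] (b := (nat_lit 0)) rfl) k8)
noncomputable def s10 : Nat := (nat_lit 0x3ffffffffffffe7f5ffffffffffffffffffffffffffdb7bfeb7ffffffffffffffffffffffffffffffffffffe77fbdcfdeffdc73ffffffffffffffffffffffffffffffffffffffffffbfffffffff3dfde7d8ff3f1ffe3e1cffffffffffffffffeffffffffffffffffffffffffffffffffe7bffffffdfbffbee7b1fcf87fe1e8e6f7fbffffffffffffffdffffffffffffffffffffffffff3effffffdffffff3f9e7b1f3a1fa3c323e5fff9ffffffffffffffff3fffffffffffffbffffffe3bfffffbffffff3e1eecffdf9e1c87303c3081cbffffff3fffbfffffffffffffffffcffffffffffffffff0fffffffffff0e0b4d93ff7f1f870204021009ffffffeffffbffffffffffffffffff9ffffffffff1ffffffe104408bfeff1ff0c0000003ffff7ffbffffffffffffffdffffffc7ffff0020001fdfe8fffe018000003fff7fdfffffffffffffdfffffe3fffe01b0e0803fffb07fffe006000001fffbfefffffffffffff7fffff8ffff806783dfc19001fbffba0327fffc01800000fffbfeffffffffffff7fffff8ffff00c38731ffe928000f7b7ff007edbff0080001ffffffffffffefffdff044483ffe0f801ffc1ff807ffff80fe07e)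
noncomputable def w11 : Word := [nat_lit 28]
theorem k12 : orbChk (nat_lit 3510) H15.Fi22P.nets F [nat_lit 0] (sel [w11, w1, w2] [nat_lit 0, nat_lit 1, nat_lit 2]) [dw (nat_lit 0x01), dw (nat_lit 0x01), dw (nat_lit 0x03), dw (nat_lit 0x05), dw (nat_lit 0x01), dw (nat_lit 0x03), dw (nat_lit 0x01), dw (nat_lit 0x03)
, dw (nat_lit 0x01), dw (nat_lit 0x03), dw (nat_lit 0x05), dw (nat_lit 0x01), dw (nat_lit 0x03), dw (nat_lit 0x01), dw (nat_lit 0x03), dw (nat_lit 0x05)
, dw (nat_lit 0x01), dw (nat_lit 0x03), dw (nat_lit 0x01), dw (nat_lit 0x03), dw (nat_lit 0x01), dw (nat_lit 0x03)] (dn (nat_lit 20) (nat_lit 0x17401245c116e411d601237410ef830e24305dc312fc305c4302383)) (bit (nat_lit 1)) s10 = true := by decide +kernel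
theorem o13 (M : PM G Ω 3510 H15.Fi22P.nets) (hN : Nat.card G = 64561751654400) : Orb M ⊤ [nat_lit 0] (nat_lit 1) s10 :=
  (Orb.ext le_top (orb_bit ⊤ [nat_lit 0] (b := (nat_lit 1)) rfl) k12)
noncomputable def s14 : Nat := (nat_lit 0x3fffffffffff70371fffffffffffffffffafffffd7900313c03ffffffffffffffffffffedff6f2fffc7b7e18440000504170000fffffffffffd7ffffffffffffffffdbffb73cbffff81edbfe1f8314000004808026000000cffffffffffffffe4ffffffffffffffffff97ffbbbe2ffffe03edffc3de37f00000020000400000001f8ffffffffffffffc3fffffffffffffe7f7be7cffff00f7ff9f9ef7bf00000000000000000000078f8fefffffffffffffb0f6fffdfbf6def87e3dff6007edef87e7f3f0000003fdf00000000000000003bafbb3fffbdebffdfdbbedbf6db4357ed6751f8707ed00747e1c7fc700000000fa7f1d800000000000e7aff7affffb97f77ffdfbed66ab550874903883a020e23e2000000348d50c70000000039bfe7ff32bff7fff7ba1080080101000818000000080840070e0000000032fe7f9ab7fffff7b000000000000010000000000000000038600000000197f3fcd5fffffdec00000000000004000000000000000000000000018400000000cbf3fcd5ffffeec0000000000000400000000000000000000000000000020000001afbfb7ffdc00000000200000000000000000000007ff800000000)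
noncomputable def w15 : Word := [nat_lit 6]
noncomputable def w16 : Word := [nat_lit 8]
noncomputable def w17 : Word := [nat_lit 10]
noncomputable def w18 : Word := [nat_lit 14]
noncomputable def w19 : Word := [nat_lit 32]
theorem k20 : orbChk (nat_lit 3510) H15.Fi22P.nets F [nat_lit 1, nat_lit 0] (sel [w15, w16, w17, w18, w19] [nat_lit 0, nat_lit 1, nat_lit 2, nat_lit 3, nat_lit 4]) [dw (nat_lit 0x01), dw (nat_lit 0x05), dw (nat_lit 0x09), dw (nat_lit 0x03), dw (nat_lit 0x07), dw (nat_lit 0x05), dw (nat_lit 0x09), dw (nat_lit 0x01)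
, dw (nat_lit 0x03), dw (nat_lit 0x09), dw (nat_lit 0x07), dw (nat_lit 0x05), dw (nat_lit 0x01), dw (nat_lit 0x09), dw (nat_lit 0x03), dw (nat_lit 0x01)
, dw (nat_lit 0x07)] (dn (nat_lit 20) (nat_lit 0x1df4112a452d5052a7450740331e85009c3)) (bit (nat_lit 35)) s14 = true := by decide +kernel
theorem o21 (M : PM G Ω 3510 H15.Fi22P.nets) (hN : Nat.card G = 64561751654400) : Orb M ⊤ [nat_lit 1, nat_lit 0] (nat_lit 35) s14 :=
  (Orb.ext le_top (orb_bit ⊤ [nat_lit 1, nat_lit 0] (b := (nat_lit 35)) rfl) k20)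
noncomputable def s22 : Nat := (nat_lit 0x8000000000000000000001000000000000020000000000000000000000120010c000080018000000800040c00100000000000080000000000000000240000c1000000200000800000862000000080600001100000000000000000000000000000000006000004100000008000020000000a00000000022000201001000000000000000400000000000001000000300000000006000000020e0c0000000380810001040000000000000000041090000000800020040008020100010100c006040440000400000008100000c44040000000000020040000000080000080020388802010880a20028020008820400000100000000001850080000000000000004008000009001220620105818014000000014080280400000006400000000000000000800141404003840700000001808000400080000005000000000000004020d4381821c20c00908000024e201004800200000040000000000000000c330d0608a0c100000148000000020b02000400200000000014000000000000004000002000040000000000a00000002406000000000000000000000000000000000000000000080000000b000000000000000000)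
noncomputable def w23 : Word := [nat_lit 36]
theorem k24 : orbChk (nat_lit 3510) H15.Fi22P.nets F [nat_lit 35, nat_lit 1, nat_lit 0] (sel [w18, w23, w6] [nat_lit 0, nat_lit 1, nat_lit 2]) [dw (nat_lit 0x01), dw (nat_lit 0x03), dw (nat_lit 0x05), dw (nat_lit 0x03), dw (nat_lit 0x05), dw (nat_lit 0x03), dw (nat_lit 0x05), dw (nat_lit 0x01)
, dw (nat_lit 0x05), dw (nat_lit 0x03), dw (nat_lit 0x05), dw (nat_lit 0x01)] (dn (nat_lit 20) (nat_lit 0x19f430a40322ec31e7c21944319442326022c34223042307020c94313dc314e020a88232542)) (bit (nat_lit 72)) s22 = true := by decide +kernel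
theorem o25 (M : PM G Ω 3510 H15.Fi22P.nets) (hN : Nat.card G = 64561751654400) : Orb M ⊤ [nat_lit 35, nat_lit 1, nat_lit 0] (nat_lit 72) s22 :=
  (Orb.ext le_top (orb_bit ⊤ [nat_lit 35, nat_lit 1, nat_lit 0] (b := (nat_lit 72)) rfl) k24)
noncomputable def s26 : Nat := (nat_lit 0x140000000000000000000000000000000000000000002000000480000000000000000000000000000000000000000000000000000004800000000000000000100000000000000000000000000000000000000000000000083000000050000000000000000000000000000000000000000000001400000000000000000400)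
theorem k27 : orbChk (nat_lit 3510) H15.Fi22P.nets F [nat_lit 72, nat_lit 35, nat_lit 1, nat_lit 0] (sel [w3, w2, w1] [nat_lit 0, nat_lit 1, nat_lit 2]) [] (dn (nat_lit 20) (nat_lit 0x0438307d02090810c7c30c8830c8820c88104b41043030fa830fa820fa81002830028200281)) (bit (nat_lit 10)) s26 = true := by decide +kernel
theorem o28 (M : PM G Ω 3510 H15.Fi22P.nets) (hN : Nat.card G = 64561751654400) : Orb M ⊤ [nat_lit 72, nat_lit 35, nat_lit 1, nat_lit 0] (nat_lit 10) s26 :=
  (Orb.ext le_top (orb_bit ⊤ [nat_lit 72, nat_lit 35, nat_lit 1, nat_lit 0] (b := (nat_lit 10)) rfl) k27)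
noncomputable def c29 : Chn := [((nat_lit 0), (full (nat_lit 3510))), ((nat_lit 1), s10), ((nat_lit 35), s14), ((nat_lit 72), s22), ((nat_lit 10), s26)]
theorem k30 : Nat.ble 64561751654400 (cval (nat_lit 3510) c29) = true := by decide +kernel
theorem e31 (M : PM G Ω 3510 H15.Fi22P.nets) (hN : Nat.card G = 64561751654400) : EC M ⊤ [] c29 :=
  ec_top (c := c29) ⟨(o9 M hN), ⟨(o13 M hN), ⟨(o21 M hN), ⟨(o25 M hN), ⟨(o28 M hN), trivial⟩⟩⟩⟩⟩ hN k30
noncomputable def bs0 : List Nat := [nat_lit 0, nat_lit 1, nat_lit 35, nat_lit 72, nat_lit 10]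
theorem base0 (M : PM G Ω 3510 H15.Fi22P.nets) (hN : Nat.card G = 64561751654400) : IsBase M bs0 :=
  base_of_ec (e31 M hN) (by decide +kernel)
noncomputable def s32 : Nat := (nat_lit 0x180a0000000000000000000000000024840148000000000000000000000000000000000000188042302100238c0000000000000000000000000000000000000000004000000000c202182700c0e001c1e300000000000000001000000000000000000000000000000001840000002040041184e0307801e1719080400000000000000200000000000000000000000000c10000002000000c06184e0c5e05c3cdc1a00060000000000000000c000000000000040000001c4000004000000c1e113002061e378cfc3cf7e34000000c00040000000000000000030000000000000000f00000000000f1f4b26c0080e078fdfbfdeff600000010000400000000000000000060000000000e0000001efbbf740100e00f3ffffffc00008004000000000000002000000380000ffdfffe020170001fe7fffffc00080200000000000002000001c0001fe4f1f7fc0004f80001ff9fffffe0004010000000000000800000700007f987c203e6ffe040045fcd80003fe7fffff00040100000000000080000070000ff3c78ce0016d7fff084800ff812400ff7fffe0000000000001000200fbbb7c001f07fe003e007f800007f01f80)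
noncomputable def w33 : Word := [nat_lit 0]
noncomputable def w34 : Word := [nat_lit 4]
noncomputable def w35 : Word := [nat_lit 12]
noncomputable def w36 : Word := [nat_lit 16]
noncomputable def w37 : Word := [nat_lit 22]
noncomputable def w38 : Word := [nat_lit 26]
noncomputable def w39 : Word := [nat_lit 30]
noncomputable def w40 : Word := [nat_lit 34]
theorem k41 : orbChk (nat_lit 3510) H15.Fi22P.nets F [nat_lit 0] (sel [w33, w34, w15, w16, w17, w35, w18, w36, w37, w0, w38, w11, w39, w19, w40, w23, w6, w5, w4, w3, w2, w1] [nat_lit 0, nat_lit 1, nat_lit 2, nat_lit 3, nat_lit 4, nat_lit 5, nat_lit 6, nat_lit 7, nat_lit 8, nat_lit 9, nat_lit 10, nat_lit 11, nat_lit 12, nat_lit 13, nat_lit 14, nat_lit 15, nat_lit 16, nat_lit 17, nat_lit 18, nat_lit 19, nat_lit 20, nat_lit 21]) [dw (nat_lit 0x03), dw (nat_lit 0x07), dw (nat_lit 0x0d), dw (nat_lit 0x19), dw (nat_lit 0x1d), dw (nat_lit 0x25), dw (nat_lit 0x27), dw (nat_lit 0x1b)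
, dw (nat_lit 0x2b), dw (nat_lit 0x13), dw (nat_lit 0x1f), dw (nat_lit 0x21)] [] (bit (nat_lit 7)) s32 = true := by decide +kernel
theorem o42 (M : PM G Ω 3510 H15.Fi22P.nets) (hN : Nat.card G = 64561751654400) : Orb M ⊤ [nat_lit 0] (nat_lit 7) s32 :=
  (Orb.ext le_top (orb_bit ⊤ [nat_lit 0] (b := (nat_lit 7)) rfl) k41)
noncomputable def a0 : Word := [nat_lit 0]
noncomputable def A0 : Nat := (nat_lit 0x180a0000000000000000000000000024840148000000000000000000000000000000000000188042302100238c0000000000000000000000000000000000000000004000000000c202182700c0e001c1e300000000000000001000000000000000000000000000000001840000002040041184e0307801e1719080400000000000000200000000000000000000000000c10000002000000c06184e0c5e05c3cdc1a00060000000000000000c000000000000040000001c4000004000000c1e113002061e378cfc3cf7e34000000c00040000000000000000030000000000000000f00000000000f1f4b26c0080e078fdfbfdeff600000010000400000000000000000060000000000e0000001efbbf740100e00f3ffffffc00008004000000000000002000000380000ffdfffe020170001fe7fffffc00080200000000000002000001c0001fe4f1f7fc0004f80001ff9fffffe0004010000000000000800000700007f987c203e6ffe040045fcd80003fe7fffff00040100000000000080000070000ff3c78ce0016d7fff084800ff812400ff7fffe0000000000001000200fbbb7c001f07fe003e007f800007f01f81)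
noncomputable def c43 : Chn := [((nat_lit 0), (full (nat_lit 3510))), ((nat_lit 1), s10), ((nat_lit 35), s14), ((nat_lit 72), s22), ((nat_lit 10), s26)]
theorem k44 : Nat.ble 64561751654400 (cval (nat_lit 3510) c43) = true := by decide +kernel
theorem e45 (M : PM G Ω 3510 H15.Fi22P.nets) (hN : Nat.card G = 64561751654400) : EC M ⊤ [] c43 :=
  ec_top (c := c43) ⟨(o9 M hN), ⟨(o13 M hN), ⟨(o21 M hN), ⟨(o25 M hN), ⟨(o28 M hN), trivial⟩⟩⟩⟩⟩ hN k44
noncomputable def p46 : Prs := [(a0, a0)]
theorem k47 : band (Nat.ble (nat_lit 3510) (Nat.pow 2 (nat_lit 12))) (fsChk (nat_lit 3510) (nat_lit 12) H15.Fi22P.nets a0 A0 (full (nat_lit 3510)) 0 0 (nat_lit 12)) = true := by decide +kernel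
theorem f48 (M : PM G Ω 3510 H15.Fi22P.nets) (hN : Nat.card G = 64561751654400) : IsFix M a0 A0 :=
  fix_one k47
theorem k49 : relK F bs0 [(a0, flat (fsts p46) [nat_lit 0]), (a0, flat (snds p46) [nat_lit 0])] = true := by decide +kernel
noncomputable def b50 : List (Nat × Nat) := [(A0, A0)]
noncomputable def y51 : List Word := [a0, w34, w15, w16, w17, w35, w18, w36, w37, w0, w38, w11, w39, w19, w40, w23, w6, w5, w4, w3, w2, w1]
theorem k52 : relK F bs0 (commR (snds p46) y51) = true := by decide +kernel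
theorem x53 (M : PM G Ω 3510 H15.Fi22P.nets) (hN : Nat.card G = 64561751654400) : Cx M (fun g => Pr M g p46) b50 [] p46 y51 :=
  cx_conj (tb_cons (f48 M hN) (f48 M hN) (rels_base (base0 M hN) k49) (fun _ _ => fa_nil)) (rels_base (base0 M hN) k52)
noncomputable def t54 : KT := KT.alt (dw (nat_lit 0x0313)) (KT.cnt (SE.and (SE.lev (nat_lit 1)) (SE.tab (nat_lit 0))))
 (KT.nil (SE.and (SE.lev (nat_lit 0)) (SE.tab (nat_lit 0))) [nat_lit 9, nat_lit 21, nat_lit 18] [dw (nat_lit 0x03), dw (nat_lit 0x05), dw (nat_lit 0x01), dw (nat_lit 0x03), dw (nat_lit 0x05), dw (nat_lit 0x01), dw (nat_lit 0x03), dw (nat_lit 0x05)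
, dw (nat_lit 0x03), dw (nat_lit 0x01), dw (nat_lit 0x05), dw (nat_lit 0x03), dw (nat_lit 0x05), dw (nat_lit 0x01)] (dn (nat_lit 20) (nat_lit 0x19043134430bdc300d4208e8217b4314283095420c0020bd4203a422278213c8201802059421c5c20fb42)))
theorem k55 : ktChk (nat_lit 3510) H15.Fi22P.nets F c43 b50 [] p46 y51 [] [] (nat_lit 0) (nat_lit 0) (bit (nat_lit 0)) 0 t54 = true := by decide +kernel
theorem l56 (M : PM G Ω 3510 H15.Fi22P.nets) (hN : Nat.card G = 64561751654400) : Cl M (fun g => Pr M g p46) [] [] (nat_lit 0) (bit (nat_lit 0)) :=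
  cl_tree (e45 M hN) (x53 M hN) (dd0 _ _ _ _) k55
theorem k57 : orbChk (nat_lit 3510) H15.Fi22P.nets F [nat_lit 0] (sel y51 [nat_lit 0, nat_lit 1, nat_lit 2, nat_lit 3, nat_lit 4, nat_lit 5, nat_lit 6, nat_lit 7, nat_lit 8, nat_lit 9, nat_lit 10, nat_lit 11, nat_lit 12, nat_lit 13, nat_lit 14, nat_lit 15, nat_lit 16, nat_lit 17, nat_lit 18, nat_lit 19, nat_lit 20, nat_lit 21]) [dw (nat_lit 0x01), dw (nat_lit 0x03), dw (nat_lit 0x13), dw (nat_lit 0x17), dw (nat_lit 0x19), dw (nat_lit 0x1d), dw (nat_lit 0x2b), dw (nat_lit 0x1b)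
, dw (nat_lit 0x1f), dw (nat_lit 0x27), dw (nat_lit 0x19), dw (nat_lit 0x23), dw (nat_lit 0x1d), dw (nat_lit 0x1b)] (dn (nat_lit 20) (nat_lit 0x023d305d1303d44081840ae4a0e80a)) (bit (nat_lit 1)) s10 = true := by decide +kernel
theorem o58 (M : PM G Ω 3510 H15.Fi22P.nets) (hN : Nat.card G = 64561751654400) : Orb M (sub M.gen y51) [nat_lit 0] (nat_lit 1) s10 :=
  (Orb.ext le_rfl (orb_bit (sub M.gen y51) [nat_lit 0] (b := (nat_lit 1)) rfl) k57)
theorem k59 : orbChk (nat_lit 3510) H15.Fi22P.nets F [nat_lit 1, nat_lit 0] (sel y51 [nat_lit 2, nat_lit 3, nat_lit 4, nat_lit 5, nat_lit 6, nat_lit 7, nat_lit 13, nat_lit 14, nat_lit 15, nat_lit 16, nat_lit 17, nat_lit 18, nat_lit 19, nat_lit 20, nat_lit 21]) [dw (nat_lit 0x01), dw (nat_lit 0x05), dw (nat_lit 0x07), dw (nat_lit 0x0b), dw (nat_lit 0x0d), dw (nat_lit 0x0f), dw (nat_lit 0x11), dw (nat_lit 0x17)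
, dw (nat_lit 0x1d), dw (nat_lit 0x19), dw (nat_lit 0x13), dw (nat_lit 0x0f), dw (nat_lit 0x15)] (dn (nat_lit 20) (nat_lit 0x009c302f83)) (bit (nat_lit 35)) s14 = true := by decide +kernel
theorem o60 (M : PM G Ω 3510 H15.Fi22P.nets) (hN : Nat.card G = 64561751654400) : Orb M (sub M.gen y51) [nat_lit 1, nat_lit 0] (nat_lit 35) s14 :=
  (Orb.ext le_rfl (orb_bit (sub M.gen y51) [nat_lit 1, nat_lit 0] (b := (nat_lit 35)) rfl) k59)
theorem k61 : orbChk (nat_lit 3510) H15.Fi22P.nets F [nat_lit 35, nat_lit 1, nat_lit 0] (sel y51 [nat_lit 6, nat_lit 15, nat_lit 16, nat_lit 17, nat_lit 18, nat_lit 19, nat_lit 20, nat_lit 21]) [dw (nat_lit 0x01), dw (nat_lit 0x03), dw (nat_lit 0x07), dw (nat_lit 0x09), dw (nat_lit 0x0f), dw (nat_lit 0x05), dw (nat_lit 0x03), dw (nat_lit 0x0b)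
, dw (nat_lit 0x09)] (dn (nat_lit 20) (nat_lit 0x04947094c3207c212f821178330ac82d5c430704230483254319ac80e10713888138811a9c82cd44130810e1880e1871e784051410488719747)) (bit (nat_lit 72)) s22 = true := by decide +kernel
theorem o62 (M : PM G Ω 3510 H15.Fi22P.nets) (hN : Nat.card G = 64561751654400) : Orb M (sub M.gen y51) [nat_lit 35, nat_lit 1, nat_lit 0] (nat_lit 72) s22 :=
  (Orb.ext le_rfl (orb_bit (sub M.gen y51) [nat_lit 35, nat_lit 1, nat_lit 0] (b := (nat_lit 72)) rfl) k61)
theorem k63 : orbChk (nat_lit 3510) H15.Fi22P.nets F [nat_lit 72, nat_lit 35, nat_lit 1, nat_lit 0] (sel y51 [nat_lit 19, nat_lit 20, nat_lit 21]) [] (dn (nat_lit 20) (nat_lit 0x0438307d02090810c7c30c8830c8820c88104b41043030fa830fa820fa81002830028200281)) (bit (nat_lit 10)) s26 = true := by decide +kernel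
theorem o64 (M : PM G Ω 3510 H15.Fi22P.nets) (hN : Nat.card G = 64561751654400) : Orb M (sub M.gen y51) [nat_lit 72, nat_lit 35, nat_lit 1, nat_lit 0] (nat_lit 10) s26 :=
  (Orb.ext le_rfl (orb_bit (sub M.gen y51) [nat_lit 72, nat_lit 35, nat_lit 1, nat_lit 0] (b := (nat_lit 10)) rfl) k63)
theorem fi (M : PM G Ω 3510 H15.Fi22P.nets) (hN : Nat.card G = 64561751654400) : Fi M a0 A0 :=
  fi_of (e45 M hN) ⟨(o58 M hN), ⟨(o60 M hN), ⟨(o62 M hN), ⟨(o64 M hN), trivial⟩⟩⟩⟩ (o9 M hN) (x53 M hN) (l56 M hN) (f48 M hN) (by decide)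
theorem k65 : relK F bs0 [(List.append [0] [], List.append [] a0)] = true := by decide +kernel
theorem a0_conj (M : PM G Ω 3510 H15.Fi22P.nets) (hN : Nat.card G = 64561751654400) : IsConj (M.gen 0) (ev M.gen a0) :=
  conj_of_rel (rels_base (base0 M hN) k65)

end L.K22
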