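import Mathlib

/-! A set with trivial stabilizer, for a `3'`-group with a regular triple on an elementary abelian group (`core`). -/

set_option autoImplicit false

namespace L.BsG

abbrev V := ZMod 2 × ZMod 2 × ZMod 2
abbrev M := V × V × V

def lin {U : Type*} [AddCommGroup U] [Module (ZMod 2) U] (x y z : U) (u : V) : U := u.1 • x + u.2.1 • y + u.2.2 • z
def ap (m : M) (u : V) : V := lin m.1 m.2.1 m.2.2 u
def mul (m n : M) : M := (ap m n.1, ap m n.2.1, ap m n.2.2)
def one : M := ((1,0,0),(0,1,0),(0,0,1))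
def o3 (m n : M) : Bool := mul m n ≠ one && mul (mul m n) (mul (mul m n) (mul m n)) = one
def chk : List M → List (M × List M) → Bool
  | _, [] => false
  | c, T :: r => T.2.all fun m => c.any (o3 m) || chk (m :: c) r
def J : List (M × List M) := [(((1,0,0),(0,1,0),(0,0,1)), [((1,0,0),(0,0,1),(0,1,0)), ((0,1,0),(1,0,0),(0,0,1)), ((0,0,1),(0,1,0),(1,0,0))]),
  (((0,1,0),(1,1,0),(0,1,1)), [((1,0,0),(1,1,0),(1,0,1)), ((0,0,1),(0,1,0),(1,0,0)), ((1,0,1),(0,1,1),(0,0,1))]),
  (((1,1,0),(0,1,1),(1,1,1)), [((1,0,0),(0,1,0),(1,0,1)), ((0,0,1),(0,1,0),(1,0,0)), ((1,0,1),(0,1,0),(0,0,1))]),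
  (((1,0,0),(0,1,0),(1,1,1)), [((1,0,0),(1,1,1),(0,0,1)), ((0,1,0),(1,0,0),(0,0,1)), ((1,1,1),(0,1,0),(0,0,1))]),
  (((1,1,0),(0,0,1),(1,0,1)), [((1,0,0),(0,1,0),(1,0,1)), ((0,1,1),(0,1,0),(1,1,0)), ((1,1,1),(0,1,0),(0,0,1))]),
  (((1,0,0),(0,1,0),(1,0,1)), [((1,0,0),(1,0,1),(1,1,0)), ((0,1,0),(1,0,0),(1,1,1)), ((1,0,1),(0,1,0),(0,0,1))])]

theorem chkJ : chk [] J = true := by decide +kernel
theorem surJ : ∀ T ∈ J, ∀ v : V, ∃ u, ap T.1 u = v := by decide +kernel
def P1 (T m : M) : Prop := ∀ x ∈ [T.1, T.2.1, T.2.2], ap m x ∈ [T.1, T.2.1, T.2.2]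
def P2 (m : M) : Prop := ∀ u, ap m u = 0 → u = 0
def P3 (l : List M) (m : M) : Prop := mul m (mul m m) = one ∨ m ∈ l
instance dP1 (T m : M) : Decidable (P1 T m) := by unfold P1; infer_instance
instance dP2 (m : M) : Decidable (P2 m) := by unfold P2; infer_instance
instance dP3 (l : List M) (m : M) : Decidable (P3 l m) := by unfold P3; infer_instance
theorem stJ : ∀ T ∈ J, ∀ p q r : V, P1 T.1 (p, q, r) → P2 (p, q, r) → P3 T.2 (p, q, r) := by decide +kernel

theorem chk_sound (S : M → Prop) (h : ∀ m n, S m → S n → o3 m n = false) :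
    ∀ (r : List (M × List M)) (c : List M), (∀ m ∈ c, S m) → (∀ T ∈ r, ∃ m ∈ T.2, S m) → chk c r = false
  | [], _, _, _ => rfl
  | T :: r, c, h1, h2 => by
    obtain ⟨m, hm, sm⟩ := h2 T (List.mem_cons_self ..)
    simp only [chk, List.all_eq_false]
    refine ⟨m, hm, ?_⟩
    rw [chk_sound S h r (m :: c) (by
      intro n hn
      rcases List.mem_cons.1 hn with rfl | hn
      exacts [sm, h1 n hn]) fun T hT => h2 T (List.mem_cons_of_mem _ hT)]
    simp only [Bool.or_false, List.any_eq_true, not_exists, not_and]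
    intro n hn
    simp [h m n sm (h1 n hn)]

section
variable {W : Type*} [AddCommGroup W] (S : (W →+ W) → Prop)

def Rg (a b c : W) : Prop := ∀ f, S f → f a = a → f b = b → f c = c → ∀ x, f x = x
def Good : Prop := ∃ D : Set W, ∀ f, S f → (∀ x ∈ D, f x ∈ D) → ∀ x, f x = x

variable {S}

theorem two3 [Module (ZMod 2) W] (hc : ∀ f g, S f → S g → S (f.comp g)) (hi : ∀ f, S f → Function.Injective f)
    (h3 : ∀ f, S f → (∀ x, f (f (f x)) = x) → ∀ x, f x = x) {a b c : W} (hr : Rg S a b c)
    (ind : ∀ u, lin a b c u = 0 → u = 0) : Good S := by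
  by_contra hg
  simp only [Good, not_exists, not_forall] at hg
  have fl : ∀ (f : W →+ W) x y z u, f (lin x y z u) = lin (f x) (f y) (f z) u := fun f x y z u => by
    simp only [lin, map_add, ZMod.map_smul]
  have ll : ∀ (m : M) u, lin a b c (ap m u) = lin (lin a b c m.1) (lin a b c m.2.1) (lin a b c m.2.2) u := fun m u => by
    simp only [ap, lin, Prod.fst_add, Prod.snd_add, Prod.smul_fst, Prod.smul_snd, smul_eq_mul]
    module
  have inj : ∀ u v, lin a b c u = lin a b c v → u = v := fun u v e => sub_eq_zero.1 (ind _ (by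
    rw [← sub_eq_zero.2 e]
    simp only [lin, Prod.fst_sub, Prod.snd_sub]
    module))
  let R : (W →+ W) → M → Prop := fun f m => ∀ u, f (lin a b c u) = lin a b c (ap m u)
  have e1 : lin a b c (1,0,0) = a := by simp [lin]
  have e2 : lin a b c (0,1,0) = b := by simp [lin]
  have e3 : lin a b c (0,0,1) = c := by simp [lin]
  have apo : ∀ u, ap one u = u := by decide
  have Rm : ∀ f g m n, R f m → R g n → R (f.comp g) (mul m n) := fun f g m n h1 h2 u => by
    rw [AddMonoidHom.comp_apply, h2, ll, fl, h1, h1, h1, ll (mul m n)]; rfl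
  have R1 : ∀ f, S f → R f one → ∀ x, f x = x := fun f hf h =>
    hr f hf (by rw [← e1, h, apo]) (by rw [← e2, h, apo]) (by rw [← e3, h, apo])
  have R3 : ∀ f m, S f → R f m → mul m (mul m m) = one → ∀ x, f x = x := fun f m hf h e =>
    h3 f hf (R1 (f.comp (f.comp f)) (hc _ _ hf (hc _ _ hf hf)) (e ▸ Rm _ _ _ _ h (Rm _ _ _ _ h h)))
  have := chk_sound (fun m => ∃ f, S f ∧ R f m) (fun m n ⟨f, hf, h1⟩ ⟨g, hg, h2⟩ => by
    by_contra k
    simp only [o3, Bool.and_eq_false_imp, decide_eq_true_eq, decide_eq_false_iff_not, Classical.not_imp, not_not] at k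
    have h := Rm _ _ _ _ h1 h2
    have t := R3 _ _ (hc _ _ hf hg) h k.2
    have s : ∀ u, ap (mul m n) u = u := fun u => inj _ _ (by rw [← h, t])
    have s' : ∀ k : M, (∀ u, ap k u = u) → k = one := fun k hk => by
      have a1 := hk (1,0,0)
      have a2 := hk (0,1,0)
      have a3 := hk (0,0,1)
      simp only [ap, lin, one_smul, zero_smul, add_zero, zero_add] at a1 a2 a3
      exact Prod.ext a1 (Prod.ext a2 a3)
    exact k.1 (s' _ s)) J [] (by simp) fun T hT => by
      obtain ⟨f, hf, hD, nf⟩ := hg (lin a b c '' {x | x ∈ [T.1.1, T.1.2.1, T.1.2.2]})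
      have k : ∀ x ∈ [T.1.1, T.1.2.1, T.1.2.2], ∃ y ∈ [T.1.1, T.1.2.1, T.1.2.2], lin a b c y = f (lin a b c x) :=
        fun x hx => hD _ ⟨x, hx, rfl⟩
      have k' : ∀ v, ∃ w, f (lin a b c v) = lin a b c w := fun v => by
        obtain ⟨u, rfl⟩ := surJ T hT v
        obtain ⟨x, -, hx⟩ := k T.1.1 (by simp)
        obtain ⟨y, -, hy⟩ := k T.1.2.1 (by simp)
        obtain ⟨z, -, hz⟩ := k T.1.2.2 (by simp)
        exact ⟨ap (x, y, z) u, by rw [ll, fl, ← hx, ← hy, ← hz, ll]⟩
      obtain ⟨p, hp⟩ := k' (1,0,0)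
      obtain ⟨q, hq⟩ := k' (0,1,0)
      obtain ⟨r, hr⟩ := k' (0,0,1)
      have hR : R f (p, q, r) := fun u => by rw [ll, ← hp, ← hq, ← hr, e1, e2, e3, fl]
      refine ⟨(p, q, r), (stJ T hT p q r (fun x hx => ?_) fun u hu => ?_).resolve_left fun e => ?_, f, hf, hR⟩
      · obtain ⟨y, hy, e⟩ := k x hx
        rwa [← inj _ _ (e.trans (hR x))]
      · exact ind u (hi f hf (by rw [hR, hu, map_zero]; simp [lin]))
      · obtain ⟨x, hx⟩ := nf
        exact hx (R3 f _ hf hR e x)
  rw [chkJ] at this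
  exact absurd this (by decide)

theorem two2 (h2 : ∀ x : W, x + x = 0) (hc : ∀ f g, S f → S g → S (f.comp g)) (hi : ∀ f, S f → Function.Injective f)
    (h3 : ∀ f, S f → (∀ x, f (f (f x)) = x) → ∀ x, f x = x) {a b : W} (hr : Rg S a b 0) : Good S := by
  by_contra hg
  simp only [Good, not_exists, not_forall] at hg
  have sw : ∀ x y, Rg S x y 0 → ∃ f, S f ∧ f x = y ∧ f y = x ∧ x ≠ y := fun x y h => by
    obtain ⟨f, hf, hD, z, hz⟩ := hg {x, y}
    have n : ¬ (f x = x ∧ f y = y) := fun e => hz (h f hf e.1 e.2 (map_zero f) z)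
    rcases hD x (Or.inl rfl) with e | e <;> rcases hD y (Or.inr rfl) with e' | e'
    · exact absurd ⟨e, by rw [hi f hf (e'.trans e.symm), e]⟩ n
    · exact absurd ⟨e, e'⟩ n
    · exact ⟨f, hf, e, e', fun k => n ⟨by rw [e, k], by rw [e', k]⟩⟩
    · exact absurd ⟨by rw [hi f hf (e.trans (Eq.symm e')), e'], e'⟩ n
  obtain ⟨t, ht, t1, t2, ne⟩ := sw a b hr
  obtain ⟨s, hs, s1, s2, -⟩ := sw a (a + b) fun f hf e1 e2 e3 =>
    hr f hf e1 (by rwa [map_add, e1, add_right_inj] at e2) e3
  have s3 : s b = b := by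
    rw [map_add, s1] at s2
    calc s b = a + b + s b + (a + b) - (a + b + (a + b)) := by abel
      _ = b := by rw [s2, h2, ← add_assoc, h2]; simp
  have k1 : (t.comp s) a = a + b := by rw [AddMonoidHom.comp_apply, s1, map_add, t1, t2, add_comm]
  have k2 : (t.comp s) b = a := by rw [AddMonoidHom.comp_apply, s3, t2]
  have k3 : (t.comp s) (a + b) = b := by rw [map_add, k1, k2, add_right_comm, h2, zero_add]
  have := h3 _ (hc _ _ ht hs) (hr ((t.comp s).comp ((t.comp s).comp (t.comp s)))
    (hc _ _ (hc _ _ ht hs) (hc _ _ (hc _ _ ht hs) (hc _ _ ht hs)))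
    (by rw [AddMonoidHom.comp_apply (t.comp s), AddMonoidHom.comp_apply (t.comp s), k1, k3, k2])
    (by rw [AddMonoidHom.comp_apply (t.comp s), AddMonoidHom.comp_apply (t.comp s), k2, k1, k3]) (map_zero _)) b
  exact ne (k2.symm.trans this)

theorem five {q : ℕ} (hq : 5 ≤ q) (hi : ∀ f, S f → Function.Injective f) {a b c : W} (hr : Rg S a b c)
    (ind : ∀ i j k : ℤ, i • a + j • b + k • c = 0 → (q : ℤ) ∣ i ∧ (q : ℤ) ∣ j ∧ (c = 0 ∨ (q : ℤ) ∣ k)) : Good S := by
  have z : ∀ i : ℤ, (q : ℤ) ∣ i → |i| < 5 → i = 0 := fun i h1 h2 => Int.eq_zero_of_abs_lt_dvd h1 (by omega)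
  have I1 : ∀ i j k : ℤ, i ≠ 0 → |i| < 5 → i • a + j • b + k • c ≠ 0 := fun i j k h1 h2 e => h1 (z i (ind i j k e).1 h2)
  have I2 : ∀ i j k : ℤ, j ≠ 0 → |j| < 5 → i • a + j • b + k • c ≠ 0 := fun i j k h1 h2 e =>
    h1 (z j (ind i j k e).2.1 h2)
  have I3 : c ≠ 0 → ∀ i j k : ℤ, k ≠ 0 → |k| < 5 → i • a + j • b + k • c ≠ 0 := fun hc i j k h1 h2 e =>
    h1 (z k ((ind i j k e).2.2.resolve_left hc) h2)
  refine ⟨{a, a + a, b, c, a + b}, fun f hf hD => ?_⟩
  have nz : ∀ x, x ≠ 0 → f x = c → c ≠ 0 := fun x hx e k => hx (hi f hf (by rw [e, k, map_zero]))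
  have a0 : a ≠ 0 := fun e => I1 1 0 0 (by decide) (by decide) (by simp [e])
  have b0 : b ≠ 0 := fun e => I2 0 1 0 (by decide) (by decide) (by simp [e])
  have fa : f a = a := by
    have h1 := hD a (by simp)
    have h2 := hD (a + a) (by simp)
    rw [map_add] at h2
    simp only [Set.mem_insert_iff, Set.mem_singleton_iff] at h1 h2
    rcases h1 with e | e | e | e | e
    · exact e
    all_goals exfalso; rw [e] at h2; rcases h2 with h | h | h | h | h
    · exact I1 3 0 0 (by decide) (by decide) (by linear_combination (norm := module) h)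
    · exact I1 2 0 0 (by decide) (by decide) (by linear_combination (norm := module) h)
    · exact I1 4 (-1) 0 (by decide) (by decide) (by linear_combination (norm := module) h)
    · exact I1 4 0 (-1) (by decide) (by decide) (by linear_combination (norm := module) h)
    · exact I1 3 (-1) 0 (by decide) (by decide) (by linear_combination (norm := module) h)
    · exact I2 (-1) 2 0 (by decide) (by decide) (by linear_combination (norm := module) h)
    · exact I2 (-2) 2 0 (by decide) (by decide) (by linear_combination (norm := module) h)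
    · exact I2 0 1 0 (by decide) (by decide) (by linear_combination (norm := module) h)
    · exact I2 0 2 (-1) (by decide) (by decide) (by linear_combination (norm := module) h)
    · exact I2 (-1) 1 0 (by decide) (by decide) (by linear_combination (norm := module) h)
    · exact I1 (-1) 0 2 (by decide) (by decide) (by linear_combination (norm := module) h)
    · exact I1 (-2) 0 2 (by decide) (by decide) (by linear_combination (norm := module) h)
    · exact I2 0 (-1) 2 (by decide) (by decide) (by linear_combination (norm := module) h)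
    · exact I3 (nz a a0 e) 0 0 1 (by decide) (by decide) (by linear_combination (norm := module) h)
    · exact I1 (-1) (-1) 2 (by decide) (by decide) (by linear_combination (norm := module) h)
    · exact I1 1 2 0 (by decide) (by decide) (by linear_combination (norm := module) h)
    · exact I2 0 2 0 (by decide) (by decide) (by linear_combination (norm := module) h)
    · exact I1 2 1 0 (by decide) (by decide) (by linear_combination (norm := module) h)
    · exact I1 2 2 (-1) (by decide) (by decide) (by linear_combination (norm := module) h)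
    · exact I1 1 1 0 (by decide) (by decide) (by linear_combination (norm := module) h)
  have fx : ∀ x y, f x = y → f y = y → f x = x := fun x y e1 e2 => by rw [hi f hf (e1.trans e2.symm), e2]
  have faa : f (a + a) = a + a := by rw [map_add, fa]
  have fb : f b = b := by
    have h1 := hD b (by simp)
    have h2 := hD (a + b) (by simp)
    rw [map_add, fa] at h2
    simp only [Set.mem_insert_iff, Set.mem_singleton_iff] at h1 h2
    rcases h1 with e | e | e | e | e
    · exact fx _ _ e fa
    · exact fx _ _ e faa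
    · exact e
    all_goals exfalso; rw [e] at h2; rcases h2 with h | h | h | h | h
    · exact I3 (nz b b0 e) 0 0 1 (by decide) (by decide) (by linear_combination (norm := module) h)
    · exact I1 (-1) 0 1 (by decide) (by decide) (by linear_combination (norm := module) h)
    · exact I1 1 (-1) 1 (by decide) (by decide) (by linear_combination (norm := module) h)
    · exact I1 1 0 0 (by decide) (by decide) (by linear_combination (norm := module) h)
    · exact I2 0 (-1) 1 (by decide) (by decide) (by linear_combination (norm := module) h)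
    · exact I1 1 1 0 (by decide) (by decide) (by linear_combination (norm := module) h)
    · exact I2 0 1 0 (by decide) (by decide) (by linear_combination (norm := module) h)
    · exact I1 2 0 0 (by decide) (by decide) (by linear_combination (norm := module) h)
    · exact I1 2 1 (-1) (by decide) (by decide) (by linear_combination (norm := module) h)
    · exact I1 1 0 0 (by decide) (by decide) (by linear_combination (norm := module) h)
  refine hr f hf fa fb ?_
  have h1 := hD c (by simp)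
  simp only [Set.mem_insert_iff, Set.mem_singleton_iff] at h1
  rcases h1 with e | e | e | e | e
  exacts [fx _ _ e fa, fx _ _ e faa, fx _ _ e fb, e, fx _ _ e (by rw [map_add, fa, fb])]

theorem core {q : ℕ} (hq : q.Prime) (q3 : q ≠ 3) (hW : ∀ x : W, q • x = 0) (hc : ∀ f g, S f → S g → S (f.comp g))
    (hi : ∀ f, S f → Function.Injective f) (h3 : ∀ f, S f → (∀ x, f (f (f x)) = x) → ∀ x, f x = x) {a b c : W}
    (hr : Rg S a b c) : Good S := by
  by_cases h1 : ∃ a, Rg S a 0 0
  · obtain ⟨a, h⟩ := h1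
    exact ⟨{a}, fun f hf hD => h f hf (hD a rfl) (map_zero f) (map_zero f)⟩
  have red : ∀ a b c : W, Rg S a b c → ∀ i j k : ℤ, i • a + j • b + k • c = 0 → ¬ (q : ℤ) ∣ k → Rg S a b 0 := by
    intro a b c h i j k e hk f hf e1 e2 _
    obtain ⟨u, v, huv⟩ := (Prime.coprime_iff_not_dvd (Nat.prime_iff_prime_int.1 hq)).2 hk
    have hc : c = (-(v * i)) • a + (-(v * j)) • b := by
      have h0 : (q : ℤ) • c = 0 := by rw [natCast_zsmul, hW]
      have h1 : (u * q + v * k) • c = c := by rw [huv, one_smul]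
      linear_combination (norm := module) v • e + u • h0 - h1
    exact h f hf e1 e2 (by rw [hc, map_add, map_zsmul, map_zsmul, e1, e2])
  have p1 : ∀ a b c : W, Rg S a b c → Rg S b c a := fun a b c h f hf e1 e2 e3 => h f hf e3 e1 e2
  have p2 : ∀ a b c : W, Rg S a b c → Rg S a c b := fun a b c h f hf e1 e2 e3 => h f hf e1 e3 e2
  obtain ⟨a, b, c, hr, ind⟩ : ∃ a b c : W, Rg S a b c ∧ ∀ i j k : ℤ, i • a + j • b + k • c = 0 →
      (q : ℤ) ∣ i ∧ (q : ℤ) ∣ j ∧ (c = 0 ∨ (q : ℤ) ∣ k) := by
    by_cases h2 : ∃ a b, Rg S a b 0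
    · obtain ⟨a, b, h⟩ := h2
      refine ⟨a, b, 0, h, fun i j k e => ⟨?_, ?_, Or.inl rfl⟩⟩ <;> by_contra n
      · exact h1 ⟨b, red b 0 a (p1 _ _ _ h) j k i (by linear_combination (norm := module) e) n⟩
      · exact h1 ⟨a, red a 0 b (p2 _ _ _ h) i k j (by linear_combination (norm := module) e) n⟩
    · refine ⟨a, b, c, hr, fun i j k e => ⟨?_, ?_, Or.inr ?_⟩⟩ <;> by_contra n
      · exact h2 ⟨b, c, red b c a (p1 _ _ _ hr) j k i (by linear_combination (norm := module) e) n⟩
      · exact h2 ⟨a, c, red a c b (p2 _ _ _ hr) i k j (by linear_combination (norm := module) e) n⟩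
      · exact h2 ⟨a, b, red a b c hr i j k e n⟩
  by_cases q2 : q = 2
  · subst q2
    by_cases c0 : c = 0
    · exact two2 (fun x => by rw [← two_nsmul, hW]) hc hi h3 (c0 ▸ hr)
    letI : Module (ZMod 2) W := AddCommGroup.zmodModule hW
    refine two3 hc hi h3 hr fun u e => ?_
    obtain ⟨u1, u2, u3⟩ := u
    obtain ⟨i, rfl⟩ := ZMod.intCast_surjective u1
    obtain ⟨j, rfl⟩ := ZMod.intCast_surjective u2
    obtain ⟨k, rfl⟩ := ZMod.intCast_surjective u3
    simp only [lin, Int.cast_smul_eq_zsmul] at e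
    obtain ⟨h1, h2, h3⟩ := ind i j k e
    rw [(ZMod.intCast_zmod_eq_zero_iff_dvd i 2).2 h1, (ZMod.intCast_zmod_eq_zero_iff_dvd j 2).2 h2,
      (ZMod.intCast_zmod_eq_zero_iff_dvd k 2).2 (h3.resolve_left c0)]
    rfl
  · exact five (hq.five_le_of_ne_two_of_ne_three q2 q3) hi hr ind

end

end L.BsG
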