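import Cfsg.Agent.H8.Bs0
import Cfsg.Agent.L.BsG1

/-! Three colours for a primitive solvable `3'`-group (`gluck3`). -/

set_option autoImplicit false

namespace L.BsG
open Subgroup Cfsg H18 H21.Rb
universe u

theorem amb {L : Type*} [Group L] [Finite L] {W H : Subgroup L} (mW : MinNorm W ⊤) (aW : Abel W) (nW : H ≤ N(W))
    (mH : MinNorm W H) (hs : Solv H) (n3 : ¬ 3 ∣ Nat.card L) (fa : H ⊓ C(W) = ⊥) :
    ∃ D : Set L, ∀ t ∈ H, (∀ x ∈ W, x ∈ D → t * x * t⁻¹ ∈ D) → t = 1 := by
  obtain ⟨q, hq, qd, el⟩ := mW.exists_elem aW.nil.solv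
  letI : CommGroup W := { (inferInstance : Group W) with mul_comm := fun a b => Subtype.ext (comm_of_cent aW a.2 b.2) }
  obtain ⟨p, hp, rp⟩ := main3 W H aW nW hs (CR.of_min mH)
  let S : (Additive W →+ Additive W) → Prop := fun f => ∃ t ∈ H, ∀ x, ((f x).toMul : L) = t * x.toMul * t⁻¹
  have c3 : ∀ t : L, t ^ 3 = 1 → t = 1 := fun t h => by
    by_contra k
    haveI : Fact (Nat.Prime 3) := ⟨by norm_num⟩
    exact n3 (orderOf_eq_prime h k ▸ orderOf_dvd_natCard t)
  have one : ∀ (f : Additive W →+ Additive W) (t : L), t ∈ H → (∀ x, ((f x).toMul : L) = t * x.toMul * t⁻¹) →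
      (∀ x, f x = x) → t = 1 := fun f t ht e h => eq_one_of_eq_bot fa ⟨ht, mem_C.2 fun x hx => by
    have := e (Additive.ofMul ⟨x, hx⟩)
    rw [h] at this
    exact eq_mul_inv_iff_mul_eq.1 this⟩
  obtain ⟨D, hD⟩ := core (S := S) (q := q) hq (fun e => n3 ((e ▸ qd).trans (card_subgroup_dvd_card W)))
    (fun x => Additive.toMul.injective (Subtype.ext (by simpa using el.pow _ x.toMul.2)))
    (fun f g ⟨t, ht, e⟩ ⟨s, hs, e'⟩ => ⟨t * s, mul_mem ht hs, fun x => by
      rw [AddMonoidHom.comp_apply, e, e']; group⟩)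
    (fun f hf x y h => by
      obtain ⟨t, ht, e⟩ := hf
      have := e x
      rw [h, e y, mul_left_inj, mul_right_inj] at this
      exact Additive.toMul.injective (Subtype.ext this.symm))
    (fun f ⟨t, ht, e⟩ h x => by
      have : t = 1 := c3 t (one (f.comp (f.comp f)) _ (pow_mem ht 3) (fun x => by
        rw [AddMonoidHom.comp_apply, AddMonoidHom.comp_apply, e, e, e]; simp only [pow_succ, pow_zero, one_mul, mul_inv_rev, mul_assoc]) h)
      exact Additive.toMul.injective (Subtype.ext (by rw [e, this]; group)))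
    (a := Additive.ofMul ⟨p 0, hp 0⟩) (b := Additive.ofMul ⟨p 1, hp 1⟩) (c := Additive.ofMul ⟨p 2, hp 2⟩)
    (fun f ⟨t, ht, e⟩ e0 e1 e2 x => Additive.toMul.injective (Subtype.ext (by
      rw [e, conj_of_C (rp t ht fun i => ?_) x.toMul.2]
      fin_cases i
      · exact (e _).symm.trans (congrArg (fun y : Additive W => (y.toMul : L)) e0)
      · exact (e _).symm.trans (congrArg (fun y : Additive W => (y.toMul : L)) e1)
      · exact (e _).symm.trans (congrArg (fun y : Additive W => (y.toMul : L)) e2))))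
  refine ⟨{x | ∃ h : x ∈ W, Additive.ofMul (⟨x, h⟩ : W) ∈ D}, fun t ht h => ?_⟩
  let f : W →* W := (W.normalizerMonoidHom ⟨t, nW ht⟩).toMonoidHom
  refine one (MonoidHom.toAdditive f) t ht (fun x => rfl) (hD _ ⟨t, ht, fun x => rfl⟩ fun x hx => ?_)
  obtain ⟨_, k⟩ := h _ x.toMul.2 ⟨x.toMul.2, hx⟩
  exact k

theorem gluck30 {L : Type*} [Group L] [Finite L] {H : Subgroup L} (hs : Group.IsSolvable L) (hH : IsCoatom H)
    (n3 : ¬ 3 ∣ Nat.card L) (hc : H.normalCore = ⊥) :
    ∃ c : L → Fin 3, (∀ g, ∀ h ∈ H, c (g * h) = c g) ∧ ∀ t, (∀ g, c (t * g) = c g) → t = 1 := by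
  classical
  have core : ∀ X : Subgroup L, X ≤ H → ⊤ ≤ N(X) → X = ⊥ := fun X h1 h2 => by
    haveI := norm_top_iff.1 h2
    exact eq_bot_iff.2 (hc ▸ normal_le_normalCore.2 h1)
  obtain ⟨W, -, hW⟩ := exists_minNorm (K := ⊤) (A := (⊤ : Subgroup L))
    (fun e => hH.1 (top_unique (e ▸ bot_le))) (by simp)
  have aW : Abel W := hW.abel solv_of_solv
  have nW : H ≤ N(W) := le_top.trans hW.norm
  have hs : H ⊔ W = ⊤ := hH.2 _ (left_lt_sup.2 fun e => hW.ne_bot (core W e hW.norm))
  have hi : W ⊓ H = ⊥ := core _ inf_le_right (hs ▸ sup_le (norm_inf nW le_N) (aW.norm inf_le_left))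
  have fa : H ⊓ C(W) = ⊥ := core _ inf_le_left
    (hs ▸ sup_le (norm_inf le_N (norm_C nW)) (cent_norm (cent_symm inf_le_right)))
  have mH : MinNorm W H := ⟨hW.ne_bot, nW, fun X h1 h2 h3 => hW.3 X h1 h2 (hs ▸ sup_le h3 (aW.norm h1))⟩
  have : ∀ g : L, ∃ w ∈ W, w⁻¹ * g ∈ H := fun g => by
    obtain ⟨τ, hτ, h, hh, rfl⟩ := (mem_sup_of_norm' nW).1 (show g ∈ W ⊔ H by rw [sup_comm, hs]; trivial)
    exact ⟨τ, hτ, by simpa using hh⟩
  choose w hw hw' using this
  have un : ∀ g, ∀ x ∈ W, x⁻¹ * g ∈ H → w g = x := fun g x hx h => by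
    have : x⁻¹ * w g = 1 := eq_one_of_eq_bot hi (mem_inf.2 ⟨mul_mem (inv_mem hx) (hw g), by
      have := mul_mem h (inv_mem (hw' g))
      convert this using 1
      group⟩)
    exact (inv_mul_eq_one.1 this).symm
  obtain ⟨D, hD⟩ := amb hW aW nW mH solv_of_solv n3 fa
  refine ⟨fun g => if w g = 1 then 2 else if w g ∈ D then 1 else 0, fun g h hh => ?_, fun t ht => ?_⟩
  · simp only [un (g * h) (w g) (hw g) (by rw [← mul_assoc]; exact mul_mem (hw' g) hh)]
  have wx : ∀ x ∈ W, w x = x := fun x hx => un x x hx (by simp)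
  have tH : t ∈ H := by
    have := ht 1
    simp only [mul_one, wx 1 (one_mem _), if_true] at this
    split_ifs at this with e
    · simpa [e] using hw' t
    all_goals exact absurd this (by decide)
  refine hD t tH fun x hx xD => ?_
  by_cases x1 : x = 1
  · simpa [x1] using xD
  have := ht x
  simp only [wx x hx, un (t * x) _ (conj_mem nW tH hx) (by simpa [mul_assoc] using tH), if_neg x1,
    if_neg (conj_eq_one_iff'.not.2 x1), if_pos xD] at this
  by_contra k
  rw [if_neg k] at this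
  exact absurd this (by decide)

theorem gluck3 : H8.Bs.Gluck3.{u} := fun L _ _ H hs hH n3 => by
  let π := QuotientGroup.mk' H.normalCore
  have hπ : Function.Surjective π := QuotientGroup.mk'_surjective _
  have kπ : π.ker ≤ H := by rw [QuotientGroup.ker_mk']; exact H.normalCore_le
  have cm : (H.map π).comap π = H := comap_map_eq_self kπ
  obtain ⟨c, h1, h2⟩ := gluck30 (H := H.map π) inferInstance
    ⟨fun e => hH.1 (by rw [← cm, e, comap_top]), fun X hX => by
      have := hH.2 (X.comap π) (cm.ge.trans_lt ((comap_lt_comap_of_surjective hπ).2 hX))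
      rw [← map_comap_eq_self_of_surjective hπ X, this, map_top_of_surjective _ hπ]⟩
    (fun e => n3 (e.trans (card_quotient_dvd_card _)))
    (by
      have : ((H.map π).normalCore).comap π ≤ H.normalCore :=
        normal_le_normalCore.2 ((comap_mono (normalCore_le _)).trans cm.le)
      rw [← map_comap_eq_self_of_surjective hπ (H.map π).normalCore, Subgroup.map_eq_bot_iff, QuotientGroup.ker_mk']
      exact this)
  have key : ∀ g : L, c (π (g : L ⧸ H).out) = c (π g) := fun g => by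
    obtain ⟨h, e⟩ := QuotientGroup.mk_out_eq_mul H g
    rw [e, map_mul, h1 _ _ (mem_map_of_mem π h.2)]
  refine ⟨fun ω => c (π ω.out), fun t ht ω => ?_⟩
  have t1 : π t = 1 := h2 _ fun g => by
    obtain ⟨g, rfl⟩ := hπ g
    rw [← map_mul, ← key, ← key g]
    exact ht g
  have t2 : t ∈ H.normalCore := by rwa [← QuotientGroup.ker_mk' H.normalCore]
  rw [normalCore_eq_ker] at t2
  exact Equiv.congr_fun t2 ω

end L.BsG
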