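import Cfsg.Agent.L.KO73T
import Cfsg.Agent.L.KF

/-! Generated certificate (toolsL/cg.hpp). -/
set_option autoImplicit false
set_option maxRecDepth 200000
set_option Elab.async false
set_option linter.unusedVariables false
set_option linter.unusedSectionVars false

namespace L.KO73
open H14 L.KO73T
variable {G Ω : Type*} [Group G] [Finite G] [MulAction G Ω]

noncomputable def w0 : Word := [nat_lit 0]
noncomputable def w1 : Word := [nat_lit 2]
noncomputable def w2 : Word := [nat_lit 4]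
noncomputable def w3 : Word := [nat_lit 6]
noncomputable def w4 : Word := [nat_lit 8]
noncomputable def w5 : Word := [nat_lit 10]
noncomputable def w6 : Word := [nat_lit 12]
theorem k7 : orbChk (nat_lit 351) H15.StdO73.nets F [] (sel [w0, w1, w2, w3, w4, w5, w6] [nat_lit 0, nat_lit 1, nat_lit 2, nat_lit 3, nat_lit 4, nat_lit 5, nat_lit 6]) [dw (nat_lit 0x01), dw (nat_lit 0x07), dw (nat_lit 0x0b), dw (nat_lit 0x05), dw (nat_lit 0x0d), dw (nat_lit 0x03), dw (nat_lit 0x01), dw (nat_lit 0x07)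
, dw (nat_lit 0x05), dw (nat_lit 0x09), dw (nat_lit 0x03), dw (nat_lit 0x0d), dw (nat_lit 0x05), dw (nat_lit 0x01), dw (nat_lit 0x03)] (dn (nat_lit 16) (nat_lit 0x368454c740c63a02568543c13b0136c1258137c453c55303574755074c074c043404384330c34504358428433644254455c74d07448735c72c434ec54145328542051945)) (bit (nat_lit 0)) (full (nat_lit 351)) = true := by decide +kernel
theorem o8 (M : PM G Ω 351 H15.StdO73.nets) (hN : Nat.card G = 4585351680) : Orb M ⊤ [] (nat_lit 0) (full (nat_lit 351)) :=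
  (Orb.ext le_top (orb_bit ⊤ [] (b := (nat_lit 0)) rfl) k7)
noncomputable def s9 : Nat := (nat_lit 0x189f0b8632d0c23a2982922c308c511a90272b21a940873b00521834da46ca004208ba2a260c195115490c80)
noncomputable def w10 : Word := [nat_lit 14]
noncomputable def w11 : Word := [nat_lit 16]
theorem k12 : orbChk (nat_lit 351) H15.StdO73.nets F [nat_lit 0] (sel [w2, w10, w11] [nat_lit 0, nat_lit 1, nat_lit 2]) [dw (nat_lit 0x01), dw (nat_lit 0x03), dw (nat_lit 0x05), dw (nat_lit 0x03), dw (nat_lit 0x01), dw (nat_lit 0x05), dw (nat_lit 0x03), dw (nat_lit 0x05)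
, dw (nat_lit 0x03)] (dn (nat_lit 16) (nat_lit 0x12c212c1324255c2408334411c831c824f4243033b0222c32ec2484228034d034d013c821c435042504132c332c1134243c24602340355033f431e4354c346c3384349011bc14b812fc1)) (bit (nat_lit 7)) s9 = true := by decide +kernel
theorem o13 (M : PM G Ω 351 H15.StdO73.nets) (hN : Nat.card G = 4585351680) : Orb M ⊤ [nat_lit 0] (nat_lit 7) s9 :=
  (Orb.ext le_top (orb_bit ⊤ [nat_lit 0] (b := (nat_lit 7)) rfl) k12)
noncomputable def s14 : Nat := (nat_lit 0x80e030000800008090092003080110000052a0021000328000000300000c0000000a220020c185001000000)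
noncomputable def w15 : Word := [nat_lit 18]
noncomputable def w16 : Word := [nat_lit 20]
theorem k17 : orbChk (nat_lit 351) H15.StdO73.nets F [nat_lit 7, nat_lit 0] (sel [w4, w15, w16] [nat_lit 0, nat_lit 1, nat_lit 2]) [dw (nat_lit 0x01), dw (nat_lit 0x03), dw (nat_lit 0x05), dw (nat_lit 0x03), dw (nat_lit 0x05)] (dn (nat_lit 16) (nat_lit 0x0c822a432a4211422e032e01340352025201134143c343c24dc2430234833343334252424243424212422a0232c332c2544256c229413f01)) (bit (nat_lit 24)) s14 = true := by decide +kernel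
theorem o18 (M : PM G Ω 351 H15.StdO73.nets) (hN : Nat.card G = 4585351680) : Orb M ⊤ [nat_lit 7, nat_lit 0] (nat_lit 24) s14 :=
  (Orb.ext le_top (orb_bit ⊤ [nat_lit 7, nat_lit 0] (b := (nat_lit 24)) rfl) k17)
noncomputable def s19 : Nat := (nat_lit 0x60004005104540102400000020400080104244140000840c21090508100e008101810000420002000012)
noncomputable def w20 : Word := [nat_lit 22]
noncomputable def w21 : Word := [nat_lit 24]
noncomputable def w22 : Word := [nat_lit 26]
theorem k23 : orbChk (nat_lit 351) H15.StdO73.nets F [nat_lit 24, nat_lit 7, nat_lit 0] (sel [w20, w21, w22] [nat_lit 0, nat_lit 1, nat_lit 2]) [dw (nat_lit 0x01), dw (nat_lit 0x03), dw (nat_lit 0x01), dw (nat_lit 0x05), dw (nat_lit 0x03), dw (nat_lit 0x01)] (dn (nat_lit 16) (nat_lit 0x3b43234310012d0220012201120227c327c2428115c2010247811e034343318348834b032f8320c3)) (bit (nat_lit 1)) s19 = true := by decide +kernel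
theorem o24 (M : PM G Ω 351 H15.StdO73.nets) (hN : Nat.card G = 4585351680) : Orb M ⊤ [nat_lit 24, nat_lit 7, nat_lit 0] (nat_lit 1) s19 :=
  (Orb.ext le_top (orb_bit ⊤ [nat_lit 24, nat_lit 7, nat_lit 0] (b := (nat_lit 1)) rfl) k23)
noncomputable def s25 : Nat := (nat_lit 0x1800202c0000000000080000000000c008000010000001800000010400041240040000002000124000)
noncomputable def w26 : Word := [nat_lit 28]
theorem k27 : orbChk (nat_lit 351) H15.StdO73.nets F [nat_lit 1, nat_lit 24, nat_lit 7, nat_lit 0] (sel [w22, w26] [nat_lit 0, nat_lit 1]) [dw (nat_lit 0x01), dw (nat_lit 0x03)] (dn (nat_lit 16) (nat_lit 0x144115013ec23ec1168216811a8150c250c14ac24ac130c1240224011c021c0104414d424d413381)) (bit (nat_lit 14)) s25 = true := by decide +kernel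
theorem o28 (M : PM G Ω 351 H15.StdO73.nets) (hN : Nat.card G = 4585351680) : Orb M ⊤ [nat_lit 1, nat_lit 24, nat_lit 7, nat_lit 0] (nat_lit 14) s25 :=
  (Orb.ext le_top (orb_bit ⊤ [nat_lit 1, nat_lit 24, nat_lit 7, nat_lit 0] (b := (nat_lit 14)) rfl) k27)
noncomputable def s29 : Nat := (nat_lit 0x10000000000000000000000000000000000000000000000000000000000000100)
noncomputable def w30 : Word := [nat_lit 30]
theorem k31 : orbChk (nat_lit 351) H15.StdO73.nets F [nat_lit 14, nat_lit 1, nat_lit 24, nat_lit 7, nat_lit 0] (sel [w30] [nat_lit 0]) [] (dn (nat_lit 16) (nat_lit 0x0201)) (bit (nat_lit 8)) s29 = true := by decide +kernel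
theorem o32 (M : PM G Ω 351 H15.StdO73.nets) (hN : Nat.card G = 4585351680) : Orb M ⊤ [nat_lit 14, nat_lit 1, nat_lit 24, nat_lit 7, nat_lit 0] (nat_lit 8) s29 :=
  (Orb.ext le_top (orb_bit ⊤ [nat_lit 14, nat_lit 1, nat_lit 24, nat_lit 7, nat_lit 0] (b := (nat_lit 8)) rfl) k31)
noncomputable def c33 : Chn := [((nat_lit 0), (full (nat_lit 351))), ((nat_lit 7), s9), ((nat_lit 24), s14), ((nat_lit 1), s19), ((nat_lit 14), s25), ((nat_lit 8), s29)]
theorem k34 : Nat.ble 4585351680 (cval (nat_lit 351) c33) = true := by decide +kernel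
theorem e35 (M : PM G Ω 351 H15.StdO73.nets) (hN : Nat.card G = 4585351680) : EC M ⊤ [] c33 :=
  ec_top (c := c33) ⟨(o8 M hN), ⟨(o13 M hN), ⟨(o18 M hN), ⟨(o24 M hN), ⟨(o28 M hN), ⟨(o32 M hN), trivial⟩⟩⟩⟩⟩⟩ hN k34
noncomputable def bs0 : List Nat := [nat_lit 0, nat_lit 7, nat_lit 24, nat_lit 1, nat_lit 14, nat_lit 8]
theorem base0 (M : PM G Ω 351 H15.StdO73.nets) (hN : Nat.card G = 4585351680) : IsBase M bs0 :=
  base_of_ec (e35 M hN) (by decide +kernel)
noncomputable def s36 : Nat := (nat_lit 0x6760f479cd2f3dc5d67d6dd3cf73aee56fd8d4de56bf78c4ffade7cb25b935ffbdf745d5d9f3e6aeeab6f37e)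
theorem k37 : orbChk (nat_lit 351) H15.StdO73.nets F [nat_lit 0] (sel [w2, w4, w6, w10, w11, w15, w16, w20, w21, w22, w26, w30] [nat_lit 0, nat_lit 1, nat_lit 2, nat_lit 3, nat_lit 4, nat_lit 5, nat_lit 6, nat_lit 7, nat_lit 8, nat_lit 9, nat_lit 10, nat_lit 11]) [dw (nat_lit 0x01), dw (nat_lit 0x05), dw (nat_lit 0x09), dw (nat_lit 0x0f), dw (nat_lit 0x11), dw (nat_lit 0x13), dw (nat_lit 0x0b), dw (nat_lit 0x07)
, dw (nat_lit 0x15)] (dn (nat_lit 16) (nat_lit 0x36481b45380520c92f021a0745471f453f812c08)) (bit (nat_lit 1)) s36 = true := by decide +kernel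
theorem o38 (M : PM G Ω 351 H15.StdO73.nets) (hN : Nat.card G = 4585351680) : Orb M ⊤ [nat_lit 0] (nat_lit 1) s36 :=
  (Orb.ext le_top (orb_bit ⊤ [nat_lit 0] (b := (nat_lit 1)) rfl) k37)

end L.KO73
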