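import Cfsg.Agent.L.KC
import Cfsg.Agent.L.KO73

/-! Generated certificate (toolsL/cg.hpp). -/
set_option autoImplicit false
set_option maxRecDepth 200000
set_option Elab.async false
set_option linter.unusedVariables false
set_option linter.unusedSectionVars false

namespace L.VO73x3
open H14 L.KO73T L.KO73
variable {G Ω : Type*} [Group G] [Finite G] [MulAction G Ω]

noncomputable def w0 : Word := [nat_lit 17, nat_lit 23, nat_lit 20, nat_lit 12, nat_lit 8, nat_lit 18]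
noncomputable def w1 : Word := [nat_lit 27, nat_lit 28, nat_lit 18, nat_lit 6, nat_lit 19]
noncomputable def w2 : Word := [nat_lit 17, nat_lit 12, nat_lit 17, nat_lit 0, nat_lit 17, nat_lit 4, nat_lit 2]
noncomputable def w3 : Word := [nat_lit 19, nat_lit 26, nat_lit 4, nat_lit 2, nat_lit 27, nat_lit 18]
noncomputable def w4 : Word := [nat_lit 0, nat_lit 12, nat_lit 16, nat_lit 0, nat_lit 12, nat_lit 16, nat_lit 2, nat_lit 4]
noncomputable def w5 : Word := [nat_lit 2, nat_lit 26, nat_lit 21, nat_lit 19, nat_lit 4, nat_lit 17, nat_lit 0, nat_lit 14, nat_lit 27]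
noncomputable def w6 : Word := [nat_lit 10, nat_lit 17, nat_lit 4, nat_lit 0, nat_lit 20, nat_lit 14, nat_lit 12, nat_lit 16]
noncomputable def w7 : Word := [nat_lit 22, nat_lit 8, nat_lit 26, nat_lit 6, nat_lit 24, nat_lit 28, nat_lit 10]
noncomputable def w8 : Word := [nat_lit 14, nat_lit 21, nat_lit 12, nat_lit 17, nat_lit 2, nat_lit 15, nat_lit 10, nat_lit 15, nat_lit 4]
noncomputable def zs : List Word := [w0, w1, w2, w3, w4, w5, w6, w7, w8]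
noncomputable def w9 : Word := [nat_lit 27, nat_lit 27, nat_lit 8, nat_lit 30, nat_lit 14, nat_lit 0, nat_lit 12, nat_lit 15]
noncomputable def w10 : Word := [nat_lit 8, nat_lit 22, nat_lit 26, nat_lit 14, nat_lit 19, nat_lit 6, nat_lit 30, nat_lit 19]
noncomputable def w11 : Word := [nat_lit 12, nat_lit 23, nat_lit 24, nat_lit 18, nat_lit 29, nat_lit 0, nat_lit 12, nat_lit 14, nat_lit 6]
noncomputable def w12 : Word := [nat_lit 12, nat_lit 26, nat_lit 21, nat_lit 29, nat_lit 17, nat_lit 0, nat_lit 6, nat_lit 27, nat_lit 21]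
noncomputable def w13 : Word := [nat_lit 27, nat_lit 28, nat_lit 14, nat_lit 29, nat_lit 2, nat_lit 28, nat_lit 12, nat_lit 22]
noncomputable def hs : List Word := [w9, w10, w11, w12, w13]
noncomputable def ws : List Word := List.append zs hs
theorem k14 : nrmRow F bs0 ws (nat_lit 9) (nat_lit 0) (nat_lit 1) [[nat_lit 14, nat_lit 2],
 [nat_lit 12, nat_lit 8, nat_lit 4],
 [nat_lit 10, nat_lit 6],
 [nat_lit 12, nat_lit 8],
 [nat_lit 14, nat_lit 10],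
 [nat_lit 12],
 [nat_lit 14],
 [nat_lit 16]] (nat_lit 1023) = true := by decide +kernel
theorem k15 : nrmRow F bs0 ws (nat_lit 9) (nat_lit 1) (nat_lit 2) [[nat_lit 16, nat_lit 15, nat_lit 11, nat_lit 6, nat_lit 4],
 [nat_lit 6],
 [nat_lit 14, nat_lit 10, nat_lit 8],
 [nat_lit 10],
 [nat_lit 14, nat_lit 12],
 [nat_lit 14],
 [nat_lit 16]] (nat_lit 1023) = true := by decide +kernel
theorem k16 : nrmRow F bs0 ws (nat_lit 9) (nat_lit 2) (nat_lit 3) [[nat_lit 16, nat_lit 6],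
 [nat_lit 8],
 [nat_lit 10],
 [nat_lit 12],
 [nat_lit 16, nat_lit 14],
 [nat_lit 16]] (nat_lit 1023) = true := by decide +kernel
theorem k17 : nrmRow F bs0 ws (nat_lit 9) (nat_lit 3) (nat_lit 4) [[nat_lit 8],
 [nat_lit 10],
 [nat_lit 17, nat_lit 12],
 [nat_lit 14],
 [nat_lit 16]] (nat_lit 1023) = true := by decide +kernel
theorem k18 : nrmRow F bs0 ws (nat_lit 9) (nat_lit 4) (nat_lit 5) [[nat_lit 17, nat_lit 10],
 [nat_lit 12],
 [nat_lit 14],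
 [nat_lit 16]] (nat_lit 1023) = true := by decide +kernel
theorem k19 : nrmRow F bs0 ws (nat_lit 9) (nat_lit 5) (nat_lit 6) [[nat_lit 12],
 [nat_lit 14],
 [nat_lit 16]] (nat_lit 1023) = true := by decide +kernel
theorem k20 : nrmRow F bs0 ws (nat_lit 9) (nat_lit 6) (nat_lit 7) [[nat_lit 14],
 [nat_lit 16]] (nat_lit 1023) = true := by decide +kernel
theorem k21 : nrmRow F bs0 ws (nat_lit 9) (nat_lit 7) (nat_lit 8) [[nat_lit 16]] (nat_lit 1023) = true := by decide +kernel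
theorem k22 : nrmRow F bs0 ws (nat_lit 9) (nat_lit 8) (nat_lit 9) [] (nat_lit 1023) = true := by decide +kernel
theorem k23 : nrmRow F bs0 ws (nat_lit 9) (nat_lit 9) (nat_lit 3) [[nat_lit 17, nat_lit 7],
 [nat_lit 16, nat_lit 15, nat_lit 11, nat_lit 9],
 [nat_lit 16, nat_lit 11],
 [nat_lit 16, nat_lit 15, nat_lit 13],
 [nat_lit 17, nat_lit 15],
 [nat_lit 16]] (nat_lit 1016) = true := by decide +kernel
theorem k24 : nrmRow F bs0 ws (nat_lit 9) (nat_lit 10) (nat_lit 1) [[nat_lit 16, nat_lit 14, nat_lit 11, nat_lit 7, nat_lit 3],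
 [nat_lit 17, nat_lit 4],
 [nat_lit 17, nat_lit 11, nat_lit 7],
 [nat_lit 13, nat_lit 9],
 [nat_lit 16, nat_lit 10],
 [nat_lit 17, nat_lit 12],
 [nat_lit 16, nat_lit 15],
 [nat_lit 17]] (nat_lit 1022) = true := by decide +kernel
theorem k25 : nrmRow F bs0 ws (nat_lit 9) (nat_lit 11) (nat_lit 5) [[nat_lit 16, nat_lit 14, nat_lit 10],
 [nat_lit 16, nat_lit 12],
 [nat_lit 14],
 [nat_lit 16, nat_lit 15]] (nat_lit 736) = true := by decide +kernel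
theorem k26 : nrmRow F bs0 ws (nat_lit 9) (nat_lit 12) (nat_lit 4) [[nat_lit 13, nat_lit 9],
 [nat_lit 15, nat_lit 11, nat_lit 8],
 [nat_lit 17, nat_lit 13],
 [nat_lit 17, nat_lit 15, nat_lit 12],
 [nat_lit 16]] (nat_lit 848) = true := by decide +kernel
theorem k27 : nrmRow F bs0 ws (nat_lit 9) (nat_lit 13) (nat_lit 8) [[nat_lit 16]] (nat_lit 768) = true := by decide +kernel
noncomputable def nm : List Nat := [nat_lit 1023, nat_lit 1023, nat_lit 1023, nat_lit 1023, nat_lit 1023, nat_lit 1023, nat_lit 1023, nat_lit 1023, nat_lit 1023, nat_lit 1016, nat_lit 1022, nat_lit 736, nat_lit 848, nat_lit 768]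
theorem hn (M : PM G Ω 351 H15.StdO73.nets) (hN : Nat.card G = 4585351680) : NrmL (loc M.gen ws) 9 0 nm :=
  (nrm_cons (base0 M hN) k14 (nrm_cons (base0 M hN) k15 (nrm_cons (base0 M hN) k16 (nrm_cons (base0 M hN) k17 (nrm_cons (base0 M hN) k18 (nrm_cons (base0 M hN) k19 (nrm_cons (base0 M hN) k20 (nrm_cons (base0 M hN) k21 (nrm_cons (base0 M hN) k22 (nrm_cons (base0 M hN) k23 (nrm_cons (base0 M hN) k24 (nrm_cons (base0 M hN) k25 (nrm_cons (base0 M hN) k26 (nrm_cons (base0 M hN) k27 trivial))))))))))))))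
noncomputable def s28 : Nat := (nat_lit 0x600868057080000004060c5066000002c580101a000881813003d581c40180f01462001412809f95016)
noncomputable def s29 : Nat := (nat_lit 0x80000030000000030000000000000300080000000000000000000000000000000000040000000000000)
noncomputable def s30 : Nat := (nat_lit 0x100000000080000000000000000000000002000000000000000000000)
noncomputable def s31 : Nat := (nat_lit 0x400000000000000800000000000000000100000000000000000000000000000000000000000000000)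
noncomputable def s32 : Nat := (nat_lit 0x800000000000000000000000000000000000000000001000000000000000000000200000000000000)
noncomputable def c33 : Chn := [((nat_lit 1), s28), ((nat_lit 54), s29), ((nat_lit 85), s30), ((nat_lit 188), s31), ((nat_lit 57), s32)]
noncomputable def d34 : List OD := [⟨[nat_lit 1, nat_lit 0, nat_lit 2], [dw (nat_lit 0x05)], (dn (nat_lit 16) (nat_lit 0x058331834fc33f43050326c3030330c30b832c0352432502108311831ec301030f4305c23dc34e431d833d833a82144306c31cc31cc22203418317030c021e0339432e032e0224c314c232c310431b031b023343528352823f824b031483008300821f4331033102230323021ac304c304c23c033c023983398227c319831982140314024dc34dc22bc22bc10543054205414a434a424a41328332823281))⟩,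
 ⟨[nat_lit 1, nat_lit 0], [], (dn (nat_lit 16) (nat_lit 0x4c4252c24c0143024301350235010d82))⟩,
 ⟨[nat_lit 5], [], (dn (nat_lit 16) (nat_lit 0x2ec11541))⟩,
 ⟨[nat_lit 3], [], (dn (nat_lit 16) (nat_lit 0x50812f01))⟩,
 ⟨[nat_lit 1], [], (dn (nat_lit 16) (nat_lit 0x24010e41))⟩]
theorem k35 : ocChk (nat_lit 351) H15.StdO73.nets F zs c33 d34 [] = true := by decide +kernel
theorem o36 (M : PM G Ω 351 H15.StdO73.nets) (hN : Nat.card G = 4585351680) : OC M (Nn (loc M.gen ws) 9 0) [] c33 :=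
  oc_of (sub_le_Nn M.gen zs hs (m := 9) rfl) k35
theorem k37 : powChk F bs0 ws (nat_lit 3) (nat_lit 9) nm [[],
 [],
 [],
 [],
 [],
 [],
 [],
 [],
 []] = true := by decide +kernel
theorem pc (M : PM G Ω 351 H15.StdO73.nets) (hN : Nat.card G = 4585351680) : Pc (loc M.gen ws) 3 9 ∧ ∀ i ≤ 9, Nat.card (Nn (loc M.gen ws) 9 i) = 3 ^ (9 - i) :=
  pc_of (base0 M hN) (by norm_num) (hn M hN) k37 (OC.le_card' (o36 M hN) (by decide +kernel))
noncomputable def ra : Word := [nat_lit 14, nat_lit 21, nat_lit 12, nat_lit 17, nat_lit 2, nat_lit 15, nat_lit 10, nat_lit 15, nat_lit 4] -- fix 27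
noncomputable def rb : Word := [nat_lit 2, nat_lit 26, nat_lit 21, nat_lit 19, nat_lit 4, nat_lit 17, nat_lit 0, nat_lit 14, nat_lit 27] -- fix 36
noncomputable def rc : Word := [nat_lit 19, nat_lit 26, nat_lit 4, nat_lit 2, nat_lit 27, nat_lit 18] -- fix 45
noncomputable def rd : Word := [nat_lit 15, nat_lit 30, nat_lit 22, nat_lit 18, nat_lit 4, nat_lit 6, nat_lit 21, nat_lit 0, nat_lit 21] -- fix 0
noncomputable def re : Word := [nat_lit 0, nat_lit 28, nat_lit 26, nat_lit 19, nat_lit 27, nat_lit 15, nat_lit 18, nat_lit 6, nat_lit 22] -- fix 0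
noncomputable def rf : Word := [nat_lit 30, nat_lit 24, nat_lit 29, nat_lit 21, nat_lit 6, nat_lit 22, nat_lit 20, nat_lit 2] -- fix 0
noncomputable def rg : Word := [nat_lit 12, nat_lit 23, nat_lit 19, nat_lit 21, nat_lit 14, nat_lit 22, nat_lit 10, nat_lit 14] -- fix 9
noncomputable def reps : List Word := [ra, rb, rc, rd, re, rf, rg]
noncomputable def cl : List (Word × Nat) := [([], (nat_lit 8)),
 ([nat_lit 14], (nat_lit 8)),
 ([nat_lit 10], (nat_lit 8)),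
 ([nat_lit 6], (nat_lit 8)),
 ([nat_lit 12, nat_lit 10], (nat_lit 8)),
 ([nat_lit 13, nat_lit 10], (nat_lit 8)),
 ([nat_lit 12, nat_lit 6], (nat_lit 8)),
 ([nat_lit 8, nat_lit 2], (nat_lit 8)),
 ([nat_lit 4, nat_lit 2], (nat_lit 8)),
 ([nat_lit 15, nat_lit 8, nat_lit 6], (nat_lit 8)),
 ([nat_lit 13, nat_lit 4, nat_lit 2], (nat_lit 8)),
 ([], (nat_lit 7)),
 ([nat_lit 12], (nat_lit 7)),
 ([nat_lit 10], (nat_lit 7)),
 ([nat_lit 6], (nat_lit 7)),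
 ([nat_lit 12, nat_lit 10], (nat_lit 7)),
 ([nat_lit 13, nat_lit 10], (nat_lit 7)),
 ([nat_lit 12, nat_lit 6], (nat_lit 7)),
 ([nat_lit 8, nat_lit 6], (nat_lit 7)),
 ([nat_lit 9, nat_lit 6], (nat_lit 7)),
 ([nat_lit 8, nat_lit 2], (nat_lit 7)),
 ([nat_lit 4, nat_lit 2], (nat_lit 7)),
 ([nat_lit 12, nat_lit 4, nat_lit 2], (nat_lit 7)),
 ([nat_lit 13, nat_lit 4, nat_lit 2], (nat_lit 7)),
 ([], (nat_lit 6)),
 ([nat_lit 10], (nat_lit 6)),
 ([nat_lit 6], (nat_lit 6)),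
 ([nat_lit 8, nat_lit 6], (nat_lit 6)),
 ([nat_lit 9, nat_lit 6], (nat_lit 6)),
 ([nat_lit 8, nat_lit 2], (nat_lit 6)),
 ([nat_lit 4, nat_lit 2], (nat_lit 6)),
 ([], (nat_lit 5)),
 ([nat_lit 8], (nat_lit 5)),
 ([nat_lit 6], (nat_lit 5)),
 ([nat_lit 8, nat_lit 6], (nat_lit 5)),
 ([nat_lit 9, nat_lit 6], (nat_lit 5)),
 ([nat_lit 8, nat_lit 2], (nat_lit 5)),
 ([nat_lit 4, nat_lit 2], (nat_lit 5)),
 ([nat_lit 4, nat_lit 2, nat_lit 0], (nat_lit 5)),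
 ([nat_lit 4, nat_lit 3, nat_lit 0], (nat_lit 5)),
 ([], (nat_lit 4)),
 ([nat_lit 6], (nat_lit 4)),
 ([nat_lit 2], (nat_lit 4)),
 ([nat_lit 0], (nat_lit 4)),
 ([nat_lit 6, nat_lit 0], (nat_lit 4)),
 ([nat_lit 4, nat_lit 2], (nat_lit 4)),
 ([nat_lit 2, nat_lit 0], (nat_lit 4)),
 ([nat_lit 3, nat_lit 0], (nat_lit 4)),
 ([nat_lit 4, nat_lit 2, nat_lit 0], (nat_lit 4)),
 ([nat_lit 4, nat_lit 3, nat_lit 0], (nat_lit 4)),
 ([], (nat_lit 3)),
 ([nat_lit 4], (nat_lit 3)),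
 ([nat_lit 2], (nat_lit 3)),
 ([nat_lit 0], (nat_lit 3)),
 ([nat_lit 4, nat_lit 2], (nat_lit 3)),
 ([nat_lit 4, nat_lit 0], (nat_lit 3)),
 ([nat_lit 2, nat_lit 0], (nat_lit 3)),
 ([nat_lit 3, nat_lit 0], (nat_lit 3)),
 ([nat_lit 4, nat_lit 2, nat_lit 0], (nat_lit 3)),
 ([nat_lit 4, nat_lit 3, nat_lit 0], (nat_lit 3)),
 ([], (nat_lit 2)),
 ([nat_lit 2], (nat_lit 2)),
 ([nat_lit 0], (nat_lit 2)),
 ([nat_lit 2, nat_lit 0], (nat_lit 2)),
 ([nat_lit 3, nat_lit 0], (nat_lit 2)),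
 ([], (nat_lit 1)),
 ([nat_lit 0], (nat_lit 1)),
 ([], (nat_lit 0))]
noncomputable def i38 : List (List Ins) := [[Ins.leaf (nat_lit 1000) [], Ins.leaf (nat_lit 0) [], Ins.leaf (nat_lit 0) [nat_lit 30, nat_lit 29, nat_lit 23, nat_lit 23, nat_lit 14, nat_lit 10, nat_lit 17, nat_lit 22, nat_lit 17]],
 [Ins.leaf (nat_lit 0) [nat_lit 18, nat_lit 24, nat_lit 29, nat_lit 0, nat_lit 12, nat_lit 16, nat_lit 2, nat_lit 20], Ins.leaf (nat_lit 0) [nat_lit 12, nat_lit 23, nat_lit 24, nat_lit 18, nat_lit 29, nat_lit 0, nat_lit 12, nat_lit 14, nat_lit 6], Ins.leaf (nat_lit 0) [nat_lit 22, nat_lit 19, nat_lit 20, nat_lit 14, nat_lit 18, nat_lit 10, nat_lit 23, nat_lit 2, nat_lit 15]],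
 [Ins.leaf (nat_lit 1) [], Ins.leaf (nat_lit 1) [nat_lit 0, nat_lit 12, nat_lit 16, nat_lit 0, nat_lit 12, nat_lit 16, nat_lit 2, nat_lit 4], Ins.leaf (nat_lit 1) [nat_lit 4, nat_lit 16, nat_lit 0, nat_lit 4, nat_lit 6, nat_lit 0, nat_lit 17, nat_lit 6]],
 [Ins.leaf (nat_lit 2) [], Ins.leaf (nat_lit 2) [nat_lit 15, nat_lit 26, nat_lit 28, nat_lit 20, nat_lit 4, nat_lit 16, nat_lit 10, nat_lit 14, nat_lit 28], Ins.leaf (nat_lit 2) [nat_lit 10, nat_lit 17, nat_lit 4, nat_lit 0, nat_lit 20, nat_lit 14, nat_lit 12, nat_lit 16]],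
 [Ins.leaf (nat_lit 3) [], Ins.leaf (nat_lit 3) [nat_lit 0, nat_lit 12, nat_lit 16, nat_lit 0, nat_lit 12, nat_lit 16, nat_lit 2, nat_lit 4], Ins.leaf (nat_lit 3) [nat_lit 4, nat_lit 16, nat_lit 0, nat_lit 4, nat_lit 6, nat_lit 0, nat_lit 17, nat_lit 6]],
 [Ins.leaf (nat_lit 4) [], Ins.leaf (nat_lit 4) [nat_lit 0, nat_lit 12, nat_lit 16, nat_lit 0, nat_lit 12, nat_lit 16, nat_lit 2, nat_lit 4], Ins.leaf (nat_lit 4) [nat_lit 4, nat_lit 16, nat_lit 0, nat_lit 4, nat_lit 6, nat_lit 0, nat_lit 17, nat_lit 6]],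
 [Ins.leaf (nat_lit 5) [], Ins.leaf (nat_lit 5) [nat_lit 15, nat_lit 26, nat_lit 28, nat_lit 20, nat_lit 4, nat_lit 16, nat_lit 10, nat_lit 14, nat_lit 28], Ins.leaf (nat_lit 5) [nat_lit 10, nat_lit 17, nat_lit 4, nat_lit 0, nat_lit 20, nat_lit 14, nat_lit 12, nat_lit 16]],
 [Ins.ord (nat_lit 8) (nat_lit 1) [], Ins.ord (nat_lit 8) (nat_lit 1) [], Ins.ord (nat_lit 8) (nat_lit 1) []],
 [Ins.leaf (nat_lit 5) [nat_lit 23, nat_lit 30, nat_lit 4, nat_lit 0, nat_lit 6, nat_lit 28, nat_lit 17], Ins.leaf (nat_lit 5) [nat_lit 18, nat_lit 26, nat_lit 19, nat_lit 15, nat_lit 24, nat_lit 2, nat_lit 21, nat_lit 2, nat_lit 16], Ins.leaf (nat_lit 5) [nat_lit 19, nat_lit 30, nat_lit 21, nat_lit 23, nat_lit 0, nat_lit 24, nat_lit 27, nat_lit 4]],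
 [Ins.leaf (nat_lit 6) [], Ins.leaf (nat_lit 6) [nat_lit 15, nat_lit 26, nat_lit 28, nat_lit 20, nat_lit 4, nat_lit 16, nat_lit 10, nat_lit 14, nat_lit 28], Ins.leaf (nat_lit 6) [nat_lit 10, nat_lit 17, nat_lit 4, nat_lit 0, nat_lit 20, nat_lit 14, nat_lit 12, nat_lit 16]],
 [Ins.ord (nat_lit 8) (nat_lit 2) [], Ins.ord (nat_lit 8) (nat_lit 2) [], Ins.ord (nat_lit 8) (nat_lit 2) []],
 [Ins.ref (nat_lit 0), Ins.ref (nat_lit 1), Ins.jmp (nat_lit 1) [nat_lit 19] [nat_lit 16]],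
 [Ins.jmp (nat_lit 1) [nat_lit 3, nat_lit 25] [nat_lit 16], Ins.jmp (nat_lit 1) [nat_lit 2, nat_lit 25] [nat_lit 16], Ins.jmp (nat_lit 1) [nat_lit 25] [nat_lit 16]],
 [Ins.ref (nat_lit 2), Ins.jmp (nat_lit 2) [nat_lit 1] [], Ins.jmp (nat_lit 2) [nat_lit 0] []],
 [Ins.ref (nat_lit 3), Ins.jmp (nat_lit 1) [nat_lit 27] [nat_lit 17], Ins.jmp (nat_lit 2) [nat_lit 0, nat_lit 27, nat_lit 0] []],
 [Ins.ref (nat_lit 4), Ins.jmp (nat_lit 4) [nat_lit 3] [], Ins.jmp (nat_lit 4) [nat_lit 2] []],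
 [Ins.ref (nat_lit 5), Ins.jmp (nat_lit 5) [nat_lit 2] [], Ins.jmp (nat_lit 5) [nat_lit 3] []],
 [Ins.ref (nat_lit 6), Ins.jmp (nat_lit 6) [nat_lit 3] [], Ins.jmp (nat_lit 6) [nat_lit 2] []],
 [Ins.jmp (nat_lit 6) [nat_lit 1, nat_lit 27, nat_lit 24, nat_lit 3] [nat_lit 17], Ins.jmp (nat_lit 5) [nat_lit 27, nat_lit 14, nat_lit 0, nat_lit 25] [nat_lit 17], Ins.ref (nat_lit 9)],
 [Ins.jmp (nat_lit 6) [nat_lit 3, nat_lit 24, nat_lit 27, nat_lit 1] [nat_lit 16], Ins.jmp (nat_lit 4) [nat_lit 26, nat_lit 14, nat_lit 1, nat_lit 24] [nat_lit 17], Ins.jmp (nat_lit 9) [nat_lit 3, nat_lit 25, nat_lit 27, nat_lit 0] [nat_lit 16]],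
 [Ins.ref (nat_lit 7), Ins.jmp (nat_lit 7) [nat_lit 12] [], Ins.jmp (nat_lit 7) [nat_lit 13] []],
 [Ins.ref (nat_lit 8), Ins.jmp (nat_lit 8) [nat_lit 12] [nat_lit 16], Ins.jmp (nat_lit 8) [nat_lit 13] [nat_lit 17]],
 [Ins.jmp (nat_lit 7) [nat_lit 26, nat_lit 0, nat_lit 19] [], Ins.jmp (nat_lit 7) [nat_lit 12, nat_lit 26, nat_lit 0, nat_lit 19] [nat_lit 16], Ins.jmp (nat_lit 7) [nat_lit 13, nat_lit 26, nat_lit 0, nat_lit 19] [nat_lit 17]],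
 [Ins.ref (nat_lit 10), Ins.jmp (nat_lit 10) [nat_lit 12] [nat_lit 16], Ins.jmp (nat_lit 10) [nat_lit 13] [nat_lit 17]],
 [Ins.ref (nat_lit 11), Ins.ref (nat_lit 12), Ins.jmp (nat_lit 12) [nat_lit 19] [nat_lit 16, nat_lit 15]],
 [Ins.ref (nat_lit 13), Ins.ref (nat_lit 15), Ins.ref (nat_lit 16)],
 [Ins.ref (nat_lit 14), Ins.ref (nat_lit 17), Ins.jmp (nat_lit 17) [nat_lit 18, nat_lit 0, nat_lit 21] [nat_lit 17, nat_lit 15]],
 [Ins.ref (nat_lit 18), Ins.jmp (nat_lit 18) [nat_lit 2, nat_lit 1] [nat_lit 17, nat_lit 15], Ins.jmp (nat_lit 18) [nat_lit 3, nat_lit 0] [nat_lit 16, nat_lit 15]],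
 [Ins.ref (nat_lit 19), Ins.jmp (nat_lit 19) [nat_lit 2, nat_lit 0] [nat_lit 15], Ins.jmp (nat_lit 19) [nat_lit 3, nat_lit 1] [nat_lit 15]],
 [Ins.ref (nat_lit 20), Ins.jmp (nat_lit 20) [nat_lit 1] [nat_lit 15], Ins.jmp (nat_lit 20) [nat_lit 0] [nat_lit 14]],
 [Ins.ref (nat_lit 21), Ins.ref (nat_lit 22), Ins.ref (nat_lit 23)],
 [Ins.ref (nat_lit 24), Ins.ref (nat_lit 25), Ins.jmp (nat_lit 25) [nat_lit 19] [nat_lit 17]],
 [Ins.jmp (nat_lit 25) [nat_lit 3, nat_lit 25] [], Ins.jmp (nat_lit 25) [nat_lit 2, nat_lit 25] [nat_lit 17, nat_lit 14, nat_lit 12], Ins.jmp (nat_lit 25) [nat_lit 25] [nat_lit 16, nat_lit 15, nat_lit 13]],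
 [Ins.ref (nat_lit 26), Ins.jmp (nat_lit 26) [nat_lit 1] [], Ins.jmp (nat_lit 26) [nat_lit 0] [nat_lit 15]],
 [Ins.ref (nat_lit 27), Ins.jmp (nat_lit 27) [nat_lit 3] [nat_lit 15], Ins.jmp (nat_lit 27) [nat_lit 2] [nat_lit 14]],
 [Ins.ref (nat_lit 28), Ins.jmp (nat_lit 28) [nat_lit 2] [nat_lit 16, nat_lit 15], Ins.jmp (nat_lit 28) [nat_lit 3] [nat_lit 17, nat_lit 14]],
 [Ins.ref (nat_lit 29), Ins.jmp (nat_lit 29) [nat_lit 8] [nat_lit 17, nat_lit 15], Ins.jmp (nat_lit 29) [nat_lit 9] [nat_lit 14]],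
 [Ins.ref (nat_lit 30), Ins.jmp (nat_lit 30) [nat_lit 8] [nat_lit 16, nat_lit 15], Ins.jmp (nat_lit 30) [nat_lit 9] [nat_lit 16, nat_lit 14]],
 [Ins.ord (nat_lit 5) (nat_lit 2) [nat_lit 17, nat_lit 12], Ins.ord (nat_lit 5) (nat_lit 2) [nat_lit 12], Ins.ord (nat_lit 5) (nat_lit 2) [nat_lit 16, nat_lit 12]],
 [Ins.ord (nat_lit 5) (nat_lit 1) [nat_lit 16, nat_lit 12], Ins.ord (nat_lit 5) (nat_lit 1) [nat_lit 17, nat_lit 12], Ins.ord (nat_lit 5) (nat_lit 1) [nat_lit 12]],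
 [Ins.ref (nat_lit 31), Ins.ref (nat_lit 32), Ins.jmp (nat_lit 32) [nat_lit 19] [nat_lit 17, nat_lit 15, nat_lit 11]],
 [Ins.ref (nat_lit 33), Ins.ref (nat_lit 34), Ins.ref (nat_lit 35)],
 [Ins.jmp (nat_lit 33) [nat_lit 5, nat_lit 23] [nat_lit 10], Ins.ref (nat_lit 36), Ins.jmp (nat_lit 36) [nat_lit 4, nat_lit 19] [nat_lit 17, nat_lit 11]],
 [Ins.jmp (nat_lit 32) [nat_lit 5, nat_lit 23] [nat_lit 16, nat_lit 15, nat_lit 11], Ins.jmp (nat_lit 32) [nat_lit 23] [nat_lit 16, nat_lit 15, nat_lit 11], Ins.jmp (nat_lit 32) [nat_lit 4, nat_lit 23] [nat_lit 16, nat_lit 15, nat_lit 11]],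
 [Ins.jmp (nat_lit 36) [nat_lit 18, nat_lit 4, nat_lit 23, nat_lit 5] [nat_lit 14, nat_lit 13, nat_lit 10], Ins.jmp (nat_lit 36) [nat_lit 4, nat_lit 18, nat_lit 4, nat_lit 23, nat_lit 5] [nat_lit 15, nat_lit 13, nat_lit 10], Ins.jmp (nat_lit 36) [nat_lit 5, nat_lit 18, nat_lit 4, nat_lit 23, nat_lit 5] [nat_lit 13, nat_lit 10]],
 [Ins.ref (nat_lit 37), Ins.jmp (nat_lit 37) [nat_lit 1] [nat_lit 16, nat_lit 15, nat_lit 13], Ins.jmp (nat_lit 37) [nat_lit 0] [nat_lit 17, nat_lit 14]],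
 [Ins.jmp (nat_lit 34) [nat_lit 5, nat_lit 23] [nat_lit 16, nat_lit 15], Ins.jmp (nat_lit 36) [nat_lit 23] [nat_lit 16, nat_lit 15, nat_lit 10], Ins.jmp (nat_lit 36) [nat_lit 4, nat_lit 19, nat_lit 23] [nat_lit 16, nat_lit 15, nat_lit 13, nat_lit 10]],
 [Ins.jmp (nat_lit 35) [nat_lit 4, nat_lit 22] [nat_lit 16, nat_lit 14, nat_lit 11], Ins.jmp (nat_lit 36) [nat_lit 5, nat_lit 22, nat_lit 19] [nat_lit 14, nat_lit 10], Ins.jmp (nat_lit 36) [nat_lit 4, nat_lit 23, nat_lit 4] [nat_lit 16]],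
 [Ins.ref (nat_lit 38), Ins.jmp (nat_lit 38) [nat_lit 1] [nat_lit 16, nat_lit 15, nat_lit 13], Ins.jmp (nat_lit 38) [nat_lit 0] [nat_lit 17, nat_lit 14]],
 [Ins.ref (nat_lit 39), Ins.jmp (nat_lit 39) [nat_lit 1] [nat_lit 17, nat_lit 14, nat_lit 13], Ins.jmp (nat_lit 39) [nat_lit 0] [nat_lit 16, nat_lit 15]],
 [Ins.ref (nat_lit 40), Ins.ref (nat_lit 41), Ins.jmp (nat_lit 41) [nat_lit 19] [nat_lit 16]],
 [Ins.jmp (nat_lit 41) [nat_lit 3, nat_lit 25] [nat_lit 17, nat_lit 14, nat_lit 10], Ins.jmp (nat_lit 41) [nat_lit 2, nat_lit 25] [nat_lit 17, nat_lit 14, nat_lit 12, nat_lit 9], Ins.jmp (nat_lit 41) [nat_lit 25] [nat_lit 14, nat_lit 13, nat_lit 11, nat_lit 8]],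
 [Ins.ref (nat_lit 42), Ins.jmp (nat_lit 42) [nat_lit 4] [nat_lit 14, nat_lit 10], Ins.jmp (nat_lit 42) [nat_lit 5] [nat_lit 17, nat_lit 15, nat_lit 11]],
 [Ins.ref (nat_lit 43), Ins.ref (nat_lit 44), Ins.jmp (nat_lit 44) [nat_lit 19] [nat_lit 16, nat_lit 13, nat_lit 11, nat_lit 9]],
 [Ins.ref (nat_lit 45), Ins.jmp (nat_lit 45) [nat_lit 4] [nat_lit 14, nat_lit 10], Ins.jmp (nat_lit 45) [nat_lit 5] [nat_lit 17, nat_lit 15, nat_lit 11]],
 [Ins.jmp (nat_lit 44) [nat_lit 3, nat_lit 25] [nat_lit 15, nat_lit 11, nat_lit 9], Ins.jmp (nat_lit 44) [nat_lit 2, nat_lit 25] [nat_lit 17, nat_lit 14, nat_lit 10, nat_lit 8], Ins.jmp (nat_lit 44) [nat_lit 25] [nat_lit 17]],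
 [Ins.ref (nat_lit 46), Ins.jmp (nat_lit 46) [nat_lit 4] [nat_lit 17, nat_lit 15, nat_lit 11, nat_lit 9], Ins.jmp (nat_lit 46) [nat_lit 5] [nat_lit 17, nat_lit 14, nat_lit 10, nat_lit 8]],
 [Ins.ref (nat_lit 47), Ins.jmp (nat_lit 47) [nat_lit 5] [nat_lit 16, nat_lit 15, nat_lit 11, nat_lit 8], Ins.jmp (nat_lit 47) [nat_lit 4] [nat_lit 16, nat_lit 14, nat_lit 10, nat_lit 9]],
 [Ins.ref (nat_lit 48), Ins.jmp (nat_lit 48) [nat_lit 4] [nat_lit 16, nat_lit 15, nat_lit 11, nat_lit 9], Ins.jmp (nat_lit 48) [nat_lit 5] [nat_lit 14, nat_lit 10, nat_lit 8]],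
 [Ins.ref (nat_lit 49), Ins.jmp (nat_lit 49) [nat_lit 5] [nat_lit 15, nat_lit 11, nat_lit 8], Ins.jmp (nat_lit 49) [nat_lit 4] [nat_lit 17, nat_lit 14, nat_lit 10, nat_lit 9]],
 [Ins.ref (nat_lit 50), Ins.ref (nat_lit 51), Ins.jmp (nat_lit 51) [nat_lit 19] [nat_lit 17, nat_lit 14, nat_lit 10, nat_lit 7]],
 [Ins.ref (nat_lit 52), Ins.ref (nat_lit 54), Ins.jmp (nat_lit 54) [nat_lit 19] [nat_lit 16, nat_lit 11, nat_lit 6]],
 [Ins.ref (nat_lit 53), Ins.ref (nat_lit 55), Ins.jmp (nat_lit 55) [nat_lit 19] [nat_lit 16, nat_lit 14, nat_lit 13, nat_lit 9, nat_lit 7]],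
 [Ins.ref (nat_lit 56), Ins.ref (nat_lit 58), Ins.jmp (nat_lit 58) [nat_lit 19] [nat_lit 16, nat_lit 15, nat_lit 13, nat_lit 11, nat_lit 9, nat_lit 6]],
 [Ins.ref (nat_lit 57), Ins.ref (nat_lit 59), Ins.jmp (nat_lit 59) [nat_lit 19] [nat_lit 16, nat_lit 13, nat_lit 10, nat_lit 9]],
 [Ins.ref (nat_lit 60), Ins.ref (nat_lit 61), Ins.jmp (nat_lit 61) [nat_lit 21] [nat_lit 14, nat_lit 7]],
 [Ins.ref (nat_lit 62), Ins.ref (nat_lit 63), Ins.ref (nat_lit 64)],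
 [Ins.ref (nat_lit 65), Ins.ref (nat_lit 66), Ins.jmp (nat_lit 66) [nat_lit 21] [nat_lit 14, nat_lit 12, nat_lit 11, nat_lit 9]]]
theorem k39 : cvChk F bs0 ws (nat_lit 3) (nat_lit 9) nm reps cl i38 (nat_lit 0) (nat_lit 68) = true := by decide +kernel
theorem v40 (M : PM G Ω 351 H15.StdO73.nets) (hN : Nat.card G = 4585351680) : CvA (loc M.gen ws) (Rp M.gen reps) 3 9 cl 68 :=
  cv_step (base0 M hN) (by norm_num) (hn M hN) (pc M hN).1 (cv_zero _ _ _ _ _) k39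
theorem cover (M : PM G Ω 351 H15.StdO73.nets) (hN : Nat.card G = 4585351680) : ∀ g : G, g ^ 3 = 1 → g = 1 ∨ ∃ w ∈ reps, IsConj (ev M.gen w) g :=
  cv_end (k := 67) (by norm_num) (pc M hN).2 hN (v40 M hN) (by decide +kernel)

end L.VO73x3
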