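import Cfsg.Agent.L.KS
import Cfsg.Agent.L.VO73x3
import Cfsg.Agent.L.KO73

/-! Generated certificate (toolsL/cg.hpp). -/
set_option autoImplicit false
set_option maxRecDepth 200000
set_option Elab.async false
set_option linter.unusedVariables false
set_option linter.unusedSectionVars false

namespace L.CO73x3
open H14 L.KO73T L.KO73
variable {G Ω : Type*} [Group G] [Finite G] [MulAction G Ω]

noncomputable def xs : List Word := [VO73x3.ra, VO73x3.rb, VO73x3.rc, VO73x3.rd, VO73x3.re, VO73x3.rf, VO73x3.rg]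
noncomputable def s0 : Nat := (nat_lit 0x1000082c000700000200328000000001603000801a0000000041000000000000002000000240000000000000)
theorem k1 : band (Nat.ble (nat_lit 351) (Nat.pow 2 (nat_lit 9))) (fsChk (nat_lit 351) (nat_lit 9) H15.StdO73.nets VO73x3.ra s0 (full (nat_lit 351)) 0 0 (nat_lit 9)) = true := by decide +kernel
theorem f2 (M : PM G Ω 351 H15.StdO73.nets) (hN : Nat.card G = 4585351680) : IsFix M VO73x3.ra s0 :=
  fix_one k1
theorem k3 : relK F bs0 [(powW VO73x3.ra 3, [])] = true := by decide +kernel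
theorem r4 (M : PM G Ω 351 H15.StdO73.nets) (hN : Nat.card G = 4585351680) : orderOf (ev M.gen VO73x3.ra) = 3 :=
  order_of_rel (F := F) (b := 0) (by norm_num) (rels_base (base0 M hN) k3) (by decide +kernel)
theorem ord0 (M : PM G Ω 351 H15.StdO73.nets) (hN : Nat.card G = 4585351680) : orderOf (ev M.gen VO73x3.ra) = 3 :=
  (r4 M hN)
noncomputable def B0 : Nat := s0
theorem fix0 (M : PM G Ω 351 H15.StdO73.nets) (hN : Nat.card G = 4585351680) : IsFixL M [VO73x3.ra] B0 :=
  IsFix.fixL (f2 M hN)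
theorem k5 : Nat.beq (pop (nat_lit 351) B0) 27 = true := by decide +kernel
theorem fc0 (M : PM G Ω 351 H15.StdO73.nets) (hN : Nat.card G = 4585351680) : FixC M [VO73x3.ra] 27 :=
  ⟨_, fix0 M hN, Nat.eq_of_beq_eq_true k5⟩
noncomputable def s6 : Nat := (nat_lit 0x884005300020020002045000040200c40000180000041020005000000180100002240000800411002)
theorem k7 : band (Nat.ble (nat_lit 351) (Nat.pow 2 (nat_lit 9))) (fsChk (nat_lit 351) (nat_lit 9) H15.StdO73.nets VO73x3.rb s6 (full (nat_lit 351)) 0 0 (nat_lit 9)) = true := by decide +kernel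
theorem f8 (M : PM G Ω 351 H15.StdO73.nets) (hN : Nat.card G = 4585351680) : IsFix M VO73x3.rb s6 :=
  fix_one k7
theorem k9 : relK F bs0 [(powW VO73x3.rb 3, [])] = true := by decide +kernel
theorem r10 (M : PM G Ω 351 H15.StdO73.nets) (hN : Nat.card G = 4585351680) : orderOf (ev M.gen VO73x3.rb) = 3 :=
  order_of_rel (F := F) (b := 0) (by norm_num) (rels_base (base0 M hN) k9) (by decide +kernel)
theorem ord1 (M : PM G Ω 351 H15.StdO73.nets) (hN : Nat.card G = 4585351680) : orderOf (ev M.gen VO73x3.rb) = 3 :=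
  (r10 M hN)
noncomputable def B1 : Nat := s6
theorem fix1 (M : PM G Ω 351 H15.StdO73.nets) (hN : Nat.card G = 4585351680) : IsFixL M [VO73x3.rb] B1 :=
  IsFix.fixL (f8 M hN)
theorem k11 : Nat.beq (pop (nat_lit 351) B1) 36 = true := by decide +kernel
theorem fc1 (M : PM G Ω 351 H15.StdO73.nets) (hN : Nat.card G = 4585351680) : FixC M [VO73x3.rb] 36 :=
  ⟨_, fix1 M hN, Nat.eq_of_beq_eq_true k11⟩
theorem nc1 (M : PM G Ω 351 H15.StdO73.nets) (hN : Nat.card G = 4585351680) : ∀ j < 1, ¬ CjS (sub M.gen [VO73x3.rb]) (sub M.gen [getL [] xs j]) :=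
  fun j hj => by interval_cases j; exacts [(fc1 M hN).nc (fc0 M hN) (by decide)]
noncomputable def s12 : Nat := (nat_lit 0x828060354080200220020000441402008000a0100000851100009000400002000400240402009805006)
theorem k13 : band (Nat.ble (nat_lit 351) (Nat.pow 2 (nat_lit 9))) (fsChk (nat_lit 351) (nat_lit 9) H15.StdO73.nets VO73x3.rc s12 (full (nat_lit 351)) 0 0 (nat_lit 9)) = true := by decide +kernel
theorem f14 (M : PM G Ω 351 H15.StdO73.nets) (hN : Nat.card G = 4585351680) : IsFix M VO73x3.rc s12 :=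
  fix_one k13
theorem k15 : relK F bs0 [(powW VO73x3.rc 3, [])] = true := by decide +kernel
theorem r16 (M : PM G Ω 351 H15.StdO73.nets) (hN : Nat.card G = 4585351680) : orderOf (ev M.gen VO73x3.rc) = 3 :=
  order_of_rel (F := F) (b := 0) (by norm_num) (rels_base (base0 M hN) k15) (by decide +kernel)
theorem ord2 (M : PM G Ω 351 H15.StdO73.nets) (hN : Nat.card G = 4585351680) : orderOf (ev M.gen VO73x3.rc) = 3 :=
  (r16 M hN)
noncomputable def B2 : Nat := s12
theorem fix2 (M : PM G Ω 351 H15.StdO73.nets) (hN : Nat.card G = 4585351680) : IsFixL M [VO73x3.rc] B2 :=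
  IsFix.fixL (f14 M hN)
theorem k17 : Nat.beq (pop (nat_lit 351) B2) 45 = true := by decide +kernel
theorem fc2 (M : PM G Ω 351 H15.StdO73.nets) (hN : Nat.card G = 4585351680) : FixC M [VO73x3.rc] 45 :=
  ⟨_, fix2 M hN, Nat.eq_of_beq_eq_true k17⟩
theorem nc2 (M : PM G Ω 351 H15.StdO73.nets) (hN : Nat.card G = 4585351680) : ∀ j < 2, ¬ CjS (sub M.gen [VO73x3.rc]) (sub M.gen [getL [] xs j]) :=
  fun j hj => by interval_cases j; exacts [(fc2 M hN).nc (fc0 M hN) (by decide), (fc2 M hN).nc (fc1 M hN) (by decide)]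
theorem k18 : band (Nat.ble (nat_lit 351) (Nat.pow 2 (nat_lit 9))) (fsChk (nat_lit 351) (nat_lit 9) H15.StdO73.nets VO73x3.rd (nat_lit 0) (full (nat_lit 351)) 0 0 (nat_lit 9)) = true := by decide +kernel
theorem f19 (M : PM G Ω 351 H15.StdO73.nets) (hN : Nat.card G = 4585351680) : IsFix M VO73x3.rd (nat_lit 0) :=
  fix_one k18
theorem k20 : relK F bs0 [(powW VO73x3.rd 3, [])] = true := by decide +kernel
theorem r21 (M : PM G Ω 351 H15.StdO73.nets) (hN : Nat.card G = 4585351680) : orderOf (ev M.gen VO73x3.rd) = 3 :=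
  order_of_rel (F := F) (b := 0) (by norm_num) (rels_base (base0 M hN) k20) (by decide +kernel)
theorem ord3 (M : PM G Ω 351 H15.StdO73.nets) (hN : Nat.card G = 4585351680) : orderOf (ev M.gen VO73x3.rd) = 3 :=
  (r21 M hN)
noncomputable def B3 : Nat := (nat_lit 0)
theorem fix3 (M : PM G Ω 351 H15.StdO73.nets) (hN : Nat.card G = 4585351680) : IsFixL M [VO73x3.rd] B3 :=
  IsFix.fixL (f19 M hN)
theorem k22 : Nat.beq (pop (nat_lit 351) B3) 0 = true := by decide +kernel
theorem fc3 (M : PM G Ω 351 H15.StdO73.nets) (hN : Nat.card G = 4585351680) : FixC M [VO73x3.rd] 0 :=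
  ⟨_, fix3 M hN, Nat.eq_of_beq_eq_true k22⟩
theorem nc3 (M : PM G Ω 351 H15.StdO73.nets) (hN : Nat.card G = 4585351680) : ∀ j < 3, ¬ CjS (sub M.gen [VO73x3.rd]) (sub M.gen [getL [] xs j]) :=
  fun j hj => by interval_cases j; exacts [(fc3 M hN).nc (fc0 M hN) (by decide), (fc3 M hN).nc (fc1 M hN) (by decide), (fc3 M hN).nc (fc2 M hN) (by decide)]
theorem k23 : band (Nat.ble (nat_lit 351) (Nat.pow 2 (nat_lit 9))) (fsChk (nat_lit 351) (nat_lit 9) H15.StdO73.nets VO73x3.re (nat_lit 0) (full (nat_lit 351)) 0 0 (nat_lit 9)) = true := by decide +kernel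
theorem f24 (M : PM G Ω 351 H15.StdO73.nets) (hN : Nat.card G = 4585351680) : IsFix M VO73x3.re (nat_lit 0) :=
  fix_one k23
theorem k25 : relK F bs0 [(powW VO73x3.re 3, [])] = true := by decide +kernel
theorem r26 (M : PM G Ω 351 H15.StdO73.nets) (hN : Nat.card G = 4585351680) : orderOf (ev M.gen VO73x3.re) = 3 :=
  order_of_rel (F := F) (b := 0) (by norm_num) (rels_base (base0 M hN) k25) (by decide +kernel)
theorem ord4 (M : PM G Ω 351 H15.StdO73.nets) (hN : Nat.card G = 4585351680) : orderOf (ev M.gen VO73x3.re) = 3 :=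
  (r26 M hN)
noncomputable def B4 : Nat := (nat_lit 0)
theorem fix4 (M : PM G Ω 351 H15.StdO73.nets) (hN : Nat.card G = 4585351680) : IsFixL M [VO73x3.re] B4 :=
  IsFix.fixL (f24 M hN)
theorem k27 : Nat.beq (pop (nat_lit 351) B4) 0 = true := by decide +kernel
theorem fc4 (M : PM G Ω 351 H15.StdO73.nets) (hN : Nat.card G = 4585351680) : FixC M [VO73x3.re] 0 :=
  ⟨_, fix4 M hN, Nat.eq_of_beq_eq_true k27⟩
noncomputable def s28 : Nat := (nat_lit 0x180e0202120000080802002c1088410010020221a90000100002080048400000400800080200010101410800)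
noncomputable def w29 : Word := [nat_lit 8]
noncomputable def w30 : Word := [nat_lit 28]
noncomputable def w31 : Word := [nat_lit 23, nat_lit 16]
theorem k32 : orbChk (nat_lit 351) H15.StdO73.nets F [nat_lit 1, nat_lit 0] (sel [w29, w30, w31] [nat_lit 0, nat_lit 1, nat_lit 2]) [dw (nat_lit 0x03), dw (nat_lit 0x01), dw (nat_lit 0x03), dw (nat_lit 0x05), dw (nat_lit 0x03)] (dn (nat_lit 16) (nat_lit 0x0e413b8110c12ec23cc222c3344240c256c35703178248c348c21ec13a025482300230012902290141434141524331433141544124432441)) (bit (nat_lit 321)) s28 = true := by decide +kernel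
theorem o33 (M : PM G Ω 351 H15.StdO73.nets) (hN : Nat.card G = 4585351680) : Orb M ⊤ [nat_lit 1, nat_lit 0] (nat_lit 321) s28 :=
  (Orb.ext le_top (orb_bit ⊤ [nat_lit 1, nat_lit 0] (b := (nat_lit 321)) rfl) k32)
noncomputable def s34 : Nat := (nat_lit 0x180e0200020000000800000c0088000010000021090000000002080048400000400000000000000000000800)
noncomputable def w35 : Word := [nat_lit 30, nat_lit 26]
noncomputable def w36 : Word := [nat_lit 18, nat_lit 24, nat_lit 18, nat_lit 16]
theorem k37 : orbChk (nat_lit 351) H15.StdO73.nets F [nat_lit 321, nat_lit 1, nat_lit 0] (sel [w29, w35, w36] [nat_lit 0, nat_lit 1, nat_lit 2]) [dw (nat_lit 0x01)] (dn (nat_lit 16) (nat_lit 0x548340c340c22e032e0256c2524331411d833dc154413cc33cc23003570354c354c237032443244217831782)) (bit (nat_lit 94)) s34 = true := by decide +kernel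
theorem o38 (M : PM G Ω 351 H15.StdO73.nets) (hN : Nat.card G = 4585351680) : Orb M ⊤ [nat_lit 321, nat_lit 1, nat_lit 0] (nat_lit 94) s34 :=
  (Orb.ext le_top (orb_bit ⊤ [nat_lit 321, nat_lit 1, nat_lit 0] (b := (nat_lit 94)) rfl) k37)
noncomputable def s39 : Nat := (nat_lit 0x80000800000000000000000001000000000000000100000000010002002200000800000000000000)
noncomputable def w40 : Word := [nat_lit 18, nat_lit 8, nat_lit 19]
noncomputable def w41 : Word := [nat_lit 23, nat_lit 16, nat_lit 30]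
theorem k42 : orbChk (nat_lit 351) H15.StdO73.nets F [nat_lit 94, nat_lit 321, nat_lit 1, nat_lit 0] (sel [w40, w41] [nat_lit 0, nat_lit 1]) [] (dn (nat_lit 16) (nat_lit 0x4fc215421c022602260114424ac24ac1)) (bit (nat_lit 299)) s39 = true := by decide +kernel
theorem o43 (M : PM G Ω 351 H15.StdO73.nets) (hN : Nat.card G = 4585351680) : Orb M ⊤ [nat_lit 94, nat_lit 321, nat_lit 1, nat_lit 0] (nat_lit 299) s39 :=
  (Orb.ext le_top (orb_bit ⊤ [nat_lit 94, nat_lit 321, nat_lit 1, nat_lit 0] (b := (nat_lit 299)) rfl) k42)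
noncomputable def s44 : Nat := (nat_lit 0x8000000000000000000000000000000000000000000002000000000000200400080010000000)
noncomputable def w45 : Word := [nat_lit 22, nat_lit 12, nat_lit 23]
noncomputable def w46 : Word := [nat_lit 26, nat_lit 8, nat_lit 27]
theorem k47 : orbChk (nat_lit 351) H15.StdO73.nets F [nat_lit 299, nat_lit 94, nat_lit 321, nat_lit 1, nat_lit 0] (sel [w45, w46] [nat_lit 0, nat_lit 1]) [] (dn (nat_lit 16) (nat_lit 0x4bc1114107020ac20ac1)) (bit (nat_lit 43)) s44 = true := by decide +kernel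
theorem o48 (M : PM G Ω 351 H15.StdO73.nets) (hN : Nat.card G = 4585351680) : Orb M ⊤ [nat_lit 299, nat_lit 94, nat_lit 321, nat_lit 1, nat_lit 0] (nat_lit 43) s44 :=
  (Orb.ext le_top (orb_bit ⊤ [nat_lit 299, nat_lit 94, nat_lit 321, nat_lit 1, nat_lit 0] (b := (nat_lit 43)) rfl) k47)
noncomputable def c49 : Chn := [((nat_lit 0), (full (nat_lit 351))), ((nat_lit 1), L.KO73.s36), ((nat_lit 321), s28), ((nat_lit 94), s34), ((nat_lit 299), s39), ((nat_lit 43), s44)]
theorem k50 : Nat.ble 4585351680 (cval (nat_lit 351) c49) = true := by decide +kernel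
theorem e51 (M : PM G Ω 351 H15.StdO73.nets) (hN : Nat.card G = 4585351680) : EC M ⊤ [] c49 :=
  ec_top (c := c49) ⟨(L.KO73.o8 M hN), ⟨(L.KO73.o38 M hN), ⟨(o33 M hN), ⟨(o38 M hN), ⟨(o43 M hN), ⟨(o48 M hN), trivial⟩⟩⟩⟩⟩⟩ hN k50
noncomputable def w52 : Word := [nat_lit 29, nat_lit 4, nat_lit 22, nat_lit 22, nat_lit 0, nat_lit 4, nat_lit 29, nat_lit 19]
noncomputable def w53 : Word := [nat_lit 0, nat_lit 23, nat_lit 20, nat_lit 19, nat_lit 17, nat_lit 14, nat_lit 14]
noncomputable def p54 : Prs := [(w53, w52)]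
noncomputable def b55 : List (Nat × Nat) := []
noncomputable def w56 : Word := [nat_lit 10, nat_lit 24, nat_lit 29, nat_lit 18, nat_lit 2, nat_lit 6, nat_lit 0, nat_lit 8]
noncomputable def w57 : Word := [nat_lit 30, nat_lit 22, nat_lit 24, nat_lit 8, nat_lit 30, nat_lit 19, nat_lit 16, nat_lit 30, nat_lit 0, nat_lit 10, nat_lit 14]
noncomputable def w58 : Word := [nat_lit 22, nat_lit 22, nat_lit 21, nat_lit 23, nat_lit 14, nat_lit 16, nat_lit 15, nat_lit 4]
noncomputable def w59 : Word := [nat_lit 28, nat_lit 23, nat_lit 21, nat_lit 30, nat_lit 19]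
noncomputable def w60 : Word := [nat_lit 27, nat_lit 8, nat_lit 30, nat_lit 12, nat_lit 19, nat_lit 20, nat_lit 17]
noncomputable def w61 : Word := [nat_lit 30, nat_lit 19, nat_lit 12, nat_lit 18, nat_lit 17, nat_lit 22]
noncomputable def w62 : Word := [nat_lit 16, nat_lit 20, nat_lit 22, nat_lit 14, nat_lit 8, nat_lit 26]
noncomputable def w63 : Word := [nat_lit 20, nat_lit 20]
noncomputable def w64 : Word := [nat_lit 30, nat_lit 26, nat_lit 28, nat_lit 8, nat_lit 18, nat_lit 12, nat_lit 28, nat_lit 10, nat_lit 22, nat_lit 8]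
noncomputable def w65 : Word := [nat_lit 22, nat_lit 12, nat_lit 30, nat_lit 23]
noncomputable def w66 : Word := [nat_lit 30, nat_lit 23, nat_lit 23, nat_lit 29, nat_lit 12, nat_lit 16]
noncomputable def w67 : Word := [nat_lit 26, nat_lit 28, nat_lit 4, nat_lit 8, nat_lit 14, nat_lit 0, nat_lit 20, nat_lit 10, nat_lit 18, nat_lit 20]
noncomputable def w68 : Word := [nat_lit 21, nat_lit 29, nat_lit 20, nat_lit 14, nat_lit 8, nat_lit 22]
noncomputable def w69 : Word := [nat_lit 8, nat_lit 26, nat_lit 26, nat_lit 8, nat_lit 4, nat_lit 2, nat_lit 14, nat_lit 18, nat_lit 4]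
noncomputable def w70 : Word := [nat_lit 4, nat_lit 8, nat_lit 22, nat_lit 0, nat_lit 4, nat_lit 23, nat_lit 8, nat_lit 4]
noncomputable def y71 : List Word := [w56, w57, w58, w59, w60, w61, w62, w63, w64, w65, w66, w67, w68, w69, w70]
theorem k72 : relK F bs0 (commR (snds p54) y71) = true := by decide +kernel
theorem x73 (M : PM G Ω 351 H15.StdO73.nets) (hN : Nat.card G = 4585351680) : Cx M (fun g => Pr M g p54) b55 [] p54 y71 :=
  cx_conj (fun _ _ => fa_nil) (rels_base (base0 M hN) k72)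
noncomputable def t74 : KT := KT.alt (dw (nat_lit 0x07)) (KT.mem (nat_lit 0) [nat_lit 0] (SE.lev (nat_lit 1)))
 (KT.alt [] (KT.stp (nat_lit 0) [nat_lit 1] (dw (nat_lit 0x0513)) (KT.br (nat_lit 321) (KT.alt (dw (nat_lit 0x0513)) (KT.mem (nat_lit 321) [nat_lit 0] (SE.lev (nat_lit 3)))
 (KT.alt (dw (nat_lit 0x05131b)) (KT.stp (nat_lit 321) [nat_lit 1] (dw (nat_lit 0x05190f1b16181917)) (KT.br (nat_lit 299) (KT.alt (dw (nat_lit 0x05190f1b16181917)) (KT.stp (nat_lit 299) [nat_lit 0] (dw (nat_lit 0x05190f1b16181917)) (KT.neq (nat_lit 299) [nat_lit 1] (nat_lit 162) []))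
 (KT.nil (SE.lev (nat_lit 4)) [nat_lit 4, nat_lit 5] [] (dn (nat_lit 16) (nat_lit 0x4b010641468108411981198222812282))))))
 (KT.nil (SE.lev (nat_lit 2)) [nat_lit 2, nat_lit 3] [dw (nat_lit 0x03)] (dn (nat_lit 16) (nat_lit 0x51c12141474101c14d020e4113c232c132c22ec15041504250812d8121012102028102823241334133423f013a0125012502494149422fc12fc23b813b82098109823dc13dc21a411a421781178223010a01)))))))
 (KT.nil (SE.lev (nat_lit 0)) [nat_lit 0, nat_lit 1] [dw (nat_lit 0x01), dw (nat_lit 0x03), dw (nat_lit 0x01), dw (nat_lit 0x01), dw (nat_lit 0x03), dw (nat_lit 0x01), dw (nat_lit 0x03), dw (nat_lit 0x01)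
, dw (nat_lit 0x01), dw (nat_lit 0x03)] (dn (nat_lit 16) (nat_lit 0x4b821f8134011281468113c213c1014107423d823d812d8202014b012c422c413e824e01344109c2230250c132c2194227810182018115c24d824d81160216010881040111012a022a014d4129813b022502250106020b4121822181384238410642064122412c8224c224c1228229412582528138c107c207c14e812e8223c21e8232823281428242810ec20ec103c203c10ac1554255413b41308230811dc21dc111424b421442144117c217c14902490131424e424e412ac21d4253024642270250020a822bc2408240814a024f42374251825181538253813ec23ec12f41548254814cc237c13e022e0236c13cc23cc11c812e414ac24ac135412442244153425341260154c23c023f8205423a423a4108c208c12b8217021701248233822dc22dc106c126c226c120010941214141c1358107810481254137012c01))))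
theorem k75 : ktChk (nat_lit 351) H15.StdO73.nets F c49 b55 [] p54 y71 [] [] (nat_lit 0) (nat_lit 0) 0 0 t74 = true := by decide +kernel
theorem l76 (M : PM G Ω 351 H15.StdO73.nets) (hN : Nat.card G = 4585351680) : Cl M (fun g => Pr M g p54) [] [] (nat_lit 0) 0 :=
  cl_tree (e51 M hN) (x73 M hN) (dd0 _ _ _ _) k75
noncomputable def w77 : Word := [nat_lit 7, nat_lit 5, nat_lit 3, nat_lit 13, nat_lit 9, nat_lit 5]
theorem k78 : relK F bs0 [(List.append VO73x3.rd w77, List.append w77 w52)] = true := by decide +kernel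
theorem k79 : relK F bs0 [(List.append VO73x3.re w77, List.append w77 w53)] = true := by decide +kernel
theorem q80 (M : PM G Ω 351 H15.StdO73.nets) (hN : Nat.card G = 4585351680) : ¬ IsConj (ev M.gen VO73x3.re) (ev M.gen VO73x3.rd) :=
  fun h => nconj_of (l76 M hN) (((conj_of_rel' (rels_base (base0 M hN) k79)).symm.trans h).trans (conj_of_rel' (rels_base (base0 M hN) k78)))
noncomputable def w81 : Word := [nat_lit 27, nat_lit 28, nat_lit 22, nat_lit 16, nat_lit 30, nat_lit 6, nat_lit 17, nat_lit 23]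
theorem k82 : relK F bs0 [(List.append (invW VO73x3.rd) w81, List.append w81 VO73x3.rd)] = true := by decide +kernel
theorem nc4 (M : PM G Ω 351 H15.StdO73.nets) (hN : Nat.card G = 4585351680) : ∀ j < 4, ¬ CjS (sub M.gen [VO73x3.re]) (sub M.gen [getL [] xs j]) :=
  fun j hj => by interval_cases j; exacts [(fc4 M hN).nc (fc0 M hN) (by decide), (fc4 M hN).nc (fc1 M hN) (by decide), (fc4 M hN).nc (fc2 M hN) (by decide), nc3r (ord4 M hN) (ord3 M hN) (q80 M hN) (conj_of_rel' (rels_base (base0 M hN) k82))]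
theorem k83 : band (Nat.ble (nat_lit 351) (Nat.pow 2 (nat_lit 9))) (fsChk (nat_lit 351) (nat_lit 9) H15.StdO73.nets VO73x3.rf (nat_lit 0) (full (nat_lit 351)) 0 0 (nat_lit 9)) = true := by decide +kernel
theorem f84 (M : PM G Ω 351 H15.StdO73.nets) (hN : Nat.card G = 4585351680) : IsFix M VO73x3.rf (nat_lit 0) :=
  fix_one k83
theorem k85 : relK F bs0 [(powW VO73x3.rf 3, [])] = true := by decide +kernel
theorem r86 (M : PM G Ω 351 H15.StdO73.nets) (hN : Nat.card G = 4585351680) : orderOf (ev M.gen VO73x3.rf) = 3 :=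
  order_of_rel (F := F) (b := 0) (by norm_num) (rels_base (base0 M hN) k85) (by decide +kernel)
theorem ord5 (M : PM G Ω 351 H15.StdO73.nets) (hN : Nat.card G = 4585351680) : orderOf (ev M.gen VO73x3.rf) = 3 :=
  (r86 M hN)
noncomputable def B5 : Nat := (nat_lit 0)
theorem fix5 (M : PM G Ω 351 H15.StdO73.nets) (hN : Nat.card G = 4585351680) : IsFixL M [VO73x3.rf] B5 :=
  IsFix.fixL (f84 M hN)
theorem k87 : Nat.beq (pop (nat_lit 351) B5) 0 = true := by decide +kernel
theorem fc5 (M : PM G Ω 351 H15.StdO73.nets) (hN : Nat.card G = 4585351680) : FixC M [VO73x3.rf] 0 :=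
  ⟨_, fix5 M hN, Nat.eq_of_beq_eq_true k87⟩
noncomputable def s88 : Nat := (nat_lit 0x2100b02008011044840404100100004048d0101010040000402c064024300040914504010050040282843248)
theorem k89 : orbChk (nat_lit 351) H15.StdO73.nets F [nat_lit 1, nat_lit 0] (sel [w29, w30, w31] [nat_lit 0, nat_lit 1, nat_lit 2]) [dw (nat_lit 0x03), dw (nat_lit 0x03), dw (nat_lit 0x05), dw (nat_lit 0x03), dw (nat_lit 0x01), dw (nat_lit 0x03)] (dn (nat_lit 16) (nat_lit 0x24c35743574203030183534110033302398347c300c300c222432242448344822f032f021402140141031e831f4135813782248315832c8308430d8317c31283468321831d4303433103)) (bit (nat_lit 18)) s88 = true := by decide +kernel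
theorem o90 (M : PM G Ω 351 H15.StdO73.nets) (hN : Nat.card G = 4585351680) : Orb M ⊤ [nat_lit 1, nat_lit 0] (nat_lit 18) s88 :=
  (Orb.ext le_top (orb_bit ⊤ [nat_lit 1, nat_lit 0] (b := (nat_lit 18)) rfl) k89)
noncomputable def s91 : Nat := (nat_lit 0x802000000000008000000000008000000020001080000100000000008000000000000000000000000000000)
noncomputable def w92 : Word := [nat_lit 30]
noncomputable def w93 : Word := [nat_lit 4, nat_lit 14, nat_lit 14]
theorem k94 : orbChk (nat_lit 351) H15.StdO73.nets F [nat_lit 18, nat_lit 1, nat_lit 0] (sel [w29, w92, w93] [nat_lit 0, nat_lit 1, nat_lit 2]) [] (dn (nat_lit 16) (nat_lit 0x2ec348c23cc33cc13442290329022901)) (bit (nat_lit 164)) s91 = true := by decide +kernel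
theorem o95 (M : PM G Ω 351 H15.StdO73.nets) (hN : Nat.card G = 4585351680) : Orb M ⊤ [nat_lit 18, nat_lit 1, nat_lit 0] (nat_lit 164) s91 :=
  (Orb.ext le_top (orb_bit ⊤ [nat_lit 18, nat_lit 1, nat_lit 0] (b := (nat_lit 164)) rfl) k94)
noncomputable def s96 : Nat := (nat_lit 0x1080000000000000000000000000000000000000000000000)
noncomputable def w97 : Word := [nat_lit 4, nat_lit 21, nat_lit 17, nat_lit 15, nat_lit 8]
theorem k98 : orbChk (nat_lit 351) H15.StdO73.nets F [nat_lit 164, nat_lit 18, nat_lit 1, nat_lit 0] (sel [w97] [nat_lit 0]) [] (dn (nat_lit 16) (nat_lit 0x2ec1)) (bit (nat_lit 187)) s96 = true := by decide +kernel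
theorem o99 (M : PM G Ω 351 H15.StdO73.nets) (hN : Nat.card G = 4585351680) : Orb M ⊤ [nat_lit 164, nat_lit 18, nat_lit 1, nat_lit 0] (nat_lit 187) s96 :=
  (Orb.ext le_top (orb_bit ⊤ [nat_lit 164, nat_lit 18, nat_lit 1, nat_lit 0] (b := (nat_lit 187)) rfl) k98)
noncomputable def s100 : Nat := (nat_lit 0x230000002000000000000042000000001080000000000008000000000000000000000000000)
noncomputable def w101 : Word := [nat_lit 28, nat_lit 27]
noncomputable def w102 : Word := [nat_lit 18, nat_lit 12, nat_lit 19]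
noncomputable def w103 : Word := [nat_lit 21, nat_lit 8, nat_lit 20]
theorem k104 : orbChk (nat_lit 351) H15.StdO73.nets F [nat_lit 187, nat_lit 164, nat_lit 18, nat_lit 1, nat_lit 0] (sel [w101, w102, w103] [nat_lit 0, nat_lit 1, nat_lit 2]) [] (dn (nat_lit 16) (nat_lit 0x28c242424241348133432a032a014942)) (bit (nat_lit 293)) s100 = true := by decide +kernel
theorem o105 (M : PM G Ω 351 H15.StdO73.nets) (hN : Nat.card G = 4585351680) : Orb M ⊤ [nat_lit 187, nat_lit 164, nat_lit 18, nat_lit 1, nat_lit 0] (nat_lit 293) s100 :=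
  (Orb.ext le_top (orb_bit ⊤ [nat_lit 187, nat_lit 164, nat_lit 18, nat_lit 1, nat_lit 0] (b := (nat_lit 293)) rfl) k104)
noncomputable def s106 : Nat := (nat_lit 0x1000000000000800000000000800000000000000000000000000000)
theorem k107 : orbChk (nat_lit 351) H15.StdO73.nets F [nat_lit 293, nat_lit 187, nat_lit 164, nat_lit 18, nat_lit 1, nat_lit 0] (sel [w101, w103] [nat_lit 0, nat_lit 1]) [] (dn (nat_lit 16) (nat_lit 0x36021dc1)) (bit (nat_lit 119)) s106 = true := by decide +kernel
theorem o108 (M : PM G Ω 351 H15.StdO73.nets) (hN : Nat.card G = 4585351680) : Orb M ⊤ [nat_lit 293, nat_lit 187, nat_lit 164, nat_lit 18, nat_lit 1, nat_lit 0] (nat_lit 119) s106 :=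
  (Orb.ext le_top (orb_bit ⊤ [nat_lit 293, nat_lit 187, nat_lit 164, nat_lit 18, nat_lit 1, nat_lit 0] (b := (nat_lit 119)) rfl) k107)
noncomputable def s109 : Nat := (nat_lit 0x20000000000000000000000000000000080000000000000000)
theorem k110 : orbChk (nat_lit 351) H15.StdO73.nets F [nat_lit 119, nat_lit 293, nat_lit 187, nat_lit 164, nat_lit 18, nat_lit 1, nat_lit 0] (sel [w103] [nat_lit 0]) [] (dn (nat_lit 16) (nat_lit 0x3141)) (bit (nat_lit 197)) s109 = true := by decide +kernel
theorem o111 (M : PM G Ω 351 H15.StdO73.nets) (hN : Nat.card G = 4585351680) : Orb M ⊤ [nat_lit 119, nat_lit 293, nat_lit 187, nat_lit 164, nat_lit 18, nat_lit 1, nat_lit 0] (nat_lit 197) s109 :=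
  (Orb.ext le_top (orb_bit ⊤ [nat_lit 119, nat_lit 293, nat_lit 187, nat_lit 164, nat_lit 18, nat_lit 1, nat_lit 0] (b := (nat_lit 197)) rfl) k110)
noncomputable def c112 : Chn := [((nat_lit 0), (full (nat_lit 351))), ((nat_lit 1), L.KO73.s36), ((nat_lit 18), s88), ((nat_lit 164), s91), ((nat_lit 187), s96), ((nat_lit 293), s100), ((nat_lit 119), s106), ((nat_lit 197), s109)]
theorem k113 : Nat.ble 4585351680 (cval (nat_lit 351) c112) = true := by decide +kernel
theorem e114 (M : PM G Ω 351 H15.StdO73.nets) (hN : Nat.card G = 4585351680) : EC M ⊤ [] c112 :=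
  ec_top (c := c112) ⟨(L.KO73.o8 M hN), ⟨(L.KO73.o38 M hN), ⟨(o90 M hN), ⟨(o95 M hN), ⟨(o99 M hN), ⟨(o105 M hN), ⟨(o108 M hN), ⟨(o111 M hN), trivial⟩⟩⟩⟩⟩⟩⟩⟩ hN k113
noncomputable def w115 : Word := [nat_lit 14, nat_lit 22, nat_lit 27, nat_lit 15, nat_lit 6, nat_lit 18, nat_lit 8, nat_lit 21]
noncomputable def w116 : Word := [nat_lit 20, nat_lit 29, nat_lit 20, nat_lit 12, nat_lit 16, nat_lit 12, nat_lit 0]
noncomputable def p117 : Prs := [(w116, w115)]
noncomputable def b118 : List (Nat × Nat) := []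
noncomputable def w119 : Word := [nat_lit 16, nat_lit 26, nat_lit 23, nat_lit 26, nat_lit 21, nat_lit 0, nat_lit 19, nat_lit 26]
noncomputable def w120 : Word := [nat_lit 2, nat_lit 30, nat_lit 22, nat_lit 22, nat_lit 24, nat_lit 17, nat_lit 15, nat_lit 6, nat_lit 15]
noncomputable def y121 : List Word := [w119, w120]
theorem k122 : relK F bs0 (commR (snds p117) y121) = true := by decide +kernel
theorem x123 (M : PM G Ω 351 H15.StdO73.nets) (hN : Nat.card G = 4585351680) : Cx M (fun g => Pr M g p117) b118 [] p117 y121 :=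
  cx_conj (fun _ _ => fa_nil) (rels_base (base0 M hN) k122)
noncomputable def t124 : KT := KT.alt [] (KT.stp (nat_lit 0) [nat_lit 0] (dw (nat_lit 0x1213)) (KT.mem (nat_lit 0) [nat_lit 1] (SE.lev (nat_lit 2))))
 (KT.alt (dw (nat_lit 0x03)) (KT.mem (nat_lit 0) [nat_lit 0] (SE.lev (nat_lit 1)))
 (KT.nil (SE.lev (nat_lit 0)) [nat_lit 0, nat_lit 1] [dw (nat_lit 0x01), dw (nat_lit 0x03), dw (nat_lit 0x01), dw (nat_lit 0x03), dw (nat_lit 0x01), dw (nat_lit 0x03), dw (nat_lit 0x01), dw (nat_lit 0x03)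
, dw (nat_lit 0x01)] (dn (nat_lit 16) (nat_lit 0x28c120822501360156811c021c011e022b4235c114424a014fc134c234c1410241014c4142c242c1424220c21a8123824ec151c11682504101012401080138c2108206c21b421b41540255813d82358105822cc20d820d811bc21bc132823281298146022bc10a02324232414bc11b8215813ac10d4216c21c814282428107024dc22202220136c236c1310231014f022901500234824b024b0122c222c112c24582514211c22c4212013b022482248107c12e422e4129c229c110423bc223022301024218c110c21f421f4139820602060103c203c115011d421d410bc20bc11b021b010a820a810c820c811d021d014e012d422d41370102822b8255c224420f4239023f02564241c2478246c21d824982004244c207425782380251020d024d8217823a42288245c218822ac2))))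
theorem k125 : ktChk (nat_lit 351) H15.StdO73.nets F c112 b118 [] p117 y121 [] [] (nat_lit 0) (nat_lit 0) 0 0 t124 = true := by decide +kernel
theorem l126 (M : PM G Ω 351 H15.StdO73.nets) (hN : Nat.card G = 4585351680) : Cl M (fun g => Pr M g p117) [] [] (nat_lit 0) 0 :=
  cl_tree (e114 M hN) (x123 M hN) (dd0 _ _ _ _) k125
noncomputable def w127 : Word := [nat_lit 13, nat_lit 11, nat_lit 1, nat_lit 20, nat_lit 25, nat_lit 5]
theorem k128 : relK F bs0 [(List.append VO73x3.rd w127, List.append w127 w115)] = true := by decide +kernel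
theorem k129 : relK F bs0 [(List.append VO73x3.rf w127, List.append w127 w116)] = true := by decide +kernel
theorem q130 (M : PM G Ω 351 H15.StdO73.nets) (hN : Nat.card G = 4585351680) : ¬ IsConj (ev M.gen VO73x3.rf) (ev M.gen VO73x3.rd) :=
  fun h => nconj_of (l126 M hN) (((conj_of_rel' (rels_base (base0 M hN) k129)).symm.trans h).trans (conj_of_rel' (rels_base (base0 M hN) k128)))
noncomputable def w131 : Word := [nat_lit 16, nat_lit 22, nat_lit 4, nat_lit 15, nat_lit 6, nat_lit 24, nat_lit 16]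
theorem k132 : relK F bs0 [(List.append (invW VO73x3.rd) w131, List.append w131 VO73x3.rd)] = true := by decide +kernel
theorem k133 : orbChk (nat_lit 351) H15.StdO73.nets F [nat_lit 1, nat_lit 0] (sel [w29, w30, w31] [nat_lit 0, nat_lit 1, nat_lit 2]) [dw (nat_lit 0x01), dw (nat_lit 0x03), dw (nat_lit 0x01), dw (nat_lit 0x03), dw (nat_lit 0x05), dw (nat_lit 0x03)] (dn (nat_lit 16) (nat_lit 0x00c3030335c314830a81498221832182468346825602358335812f032f020d030d0244834481488348811f431f415343534115831581378335033501428317c11e81)) (bit (nat_lit 64)) s88 = true := by decide +kernel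
theorem o134 (M : PM G Ω 351 H15.StdO73.nets) (hN : Nat.card G = 4585351680) : Orb M ⊤ [nat_lit 1, nat_lit 0] (nat_lit 64) s88 :=
  (Orb.ext le_top (orb_bit ⊤ [nat_lit 1, nat_lit 0] (b := (nat_lit 64)) rfl) k133)
noncomputable def s135 : Nat := (nat_lit 0xa000002000000000200000008000000000000080000000000080000000000000000000000000101000000)
noncomputable def w136 : Word := [nat_lit 8, nat_lit 30, nat_lit 8]
noncomputable def w137 : Word := [nat_lit 15, nat_lit 28, nat_lit 27, nat_lit 14]
theorem k138 : orbChk (nat_lit 351) H15.StdO73.nets F [nat_lit 64, nat_lit 1, nat_lit 0] (sel [w35, w136, w137] [nat_lit 0, nat_lit 1, nat_lit 2]) [] (dn (nat_lit 16) (nat_lit 0x3cc30602080308012ec24e434e424e41)) (bit (nat_lit 313)) s135 = true := by decide +kernel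
theorem o139 (M : PM G Ω 351 H15.StdO73.nets) (hN : Nat.card G = 4585351680) : Orb M ⊤ [nat_lit 64, nat_lit 1, nat_lit 0] (nat_lit 313) s135 :=
  (Orb.ext le_top (orb_bit ⊤ [nat_lit 64, nat_lit 1, nat_lit 0] (b := (nat_lit 313)) rfl) k138)
noncomputable def s140 : Nat := (nat_lit 0x8000000000000000000000000000000000000000000000000080000000000000000000000000000000000)
noncomputable def w141 : Word := [nat_lit 4, nat_lit 18, nat_lit 28, nat_lit 20, nat_lit 4]
theorem k142 : orbChk (nat_lit 351) H15.StdO73.nets F [nat_lit 313, nat_lit 64, nat_lit 1, nat_lit 0] (sel [w141] [nat_lit 0]) [] (dn (nat_lit 16) (nat_lit 0x22c1)) (bit (nat_lit 139)) s140 = true := by decide +kernel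
theorem o143 (M : PM G Ω 351 H15.StdO73.nets) (hN : Nat.card G = 4585351680) : Orb M ⊤ [nat_lit 313, nat_lit 64, nat_lit 1, nat_lit 0] (nat_lit 139) s140 :=
  (Orb.ext le_top (orb_bit ⊤ [nat_lit 313, nat_lit 64, nat_lit 1, nat_lit 0] (b := (nat_lit 139)) rfl) k142)
noncomputable def s144 : Nat := (nat_lit 0x800000200000000080000040000000000000201000000000000000008400000000000000000000000400000)
noncomputable def w145 : Word := [nat_lit 29, nat_lit 26]
theorem k146 : orbChk (nat_lit 351) H15.StdO73.nets F [nat_lit 139, nat_lit 313, nat_lit 64, nat_lit 1, nat_lit 0] (sel [w101, w145, w45] [nat_lit 0, nat_lit 1, nat_lit 2]) [] (dn (nat_lit 16) (nat_lit 0x3242504146c130021ec3408305820581)) (bit (nat_lit 22)) s144 = true := by decide +kernel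
theorem o147 (M : PM G Ω 351 H15.StdO73.nets) (hN : Nat.card G = 4585351680) : Orb M ⊤ [nat_lit 139, nat_lit 313, nat_lit 64, nat_lit 1, nat_lit 0] (nat_lit 22) s144 :=
  (Orb.ext le_top (orb_bit ⊤ [nat_lit 139, nat_lit 313, nat_lit 64, nat_lit 1, nat_lit 0] (b := (nat_lit 22)) rfl) k146)
noncomputable def s148 : Nat := (nat_lit 0x10000000000000000000000000000020000020000000000000000)
theorem k149 : orbChk (nat_lit 351) H15.StdO73.nets F [nat_lit 22, nat_lit 139, nat_lit 313, nat_lit 64, nat_lit 1, nat_lit 0] (sel [w40, w45] [nat_lit 0, nat_lit 1]) [] (dn (nat_lit 16) (nat_lit 0x10421641)) (bit (nat_lit 89)) s148 = true := by decide +kernel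
theorem o150 (M : PM G Ω 351 H15.StdO73.nets) (hN : Nat.card G = 4585351680) : Orb M ⊤ [nat_lit 22, nat_lit 139, nat_lit 313, nat_lit 64, nat_lit 1, nat_lit 0] (nat_lit 89) s148 :=
  (Orb.ext le_top (orb_bit ⊤ [nat_lit 22, nat_lit 139, nat_lit 313, nat_lit 64, nat_lit 1, nat_lit 0] (b := (nat_lit 89)) rfl) k149)
noncomputable def s151 : Nat := (nat_lit 0x80000000000000000000000000000000000000000000000000000000000800000000000000000)
theorem k152 : orbChk (nat_lit 351) H15.StdO73.nets F [nat_lit 89, nat_lit 22, nat_lit 139, nat_lit 313, nat_lit 64, nat_lit 1, nat_lit 0] (sel [w45] [nat_lit 0]) [] (dn (nat_lit 16) (nat_lit 0x4cc1)) (bit (nat_lit 307)) s151 = true := by decide +kernel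
theorem o153 (M : PM G Ω 351 H15.StdO73.nets) (hN : Nat.card G = 4585351680) : Orb M ⊤ [nat_lit 89, nat_lit 22, nat_lit 139, nat_lit 313, nat_lit 64, nat_lit 1, nat_lit 0] (nat_lit 307) s151 :=
  (Orb.ext le_top (orb_bit ⊤ [nat_lit 89, nat_lit 22, nat_lit 139, nat_lit 313, nat_lit 64, nat_lit 1, nat_lit 0] (b := (nat_lit 307)) rfl) k152)
noncomputable def c154 : Chn := [((nat_lit 0), (full (nat_lit 351))), ((nat_lit 1), L.KO73.s36), ((nat_lit 64), s88), ((nat_lit 313), s135), ((nat_lit 139), s140), ((nat_lit 22), s144), ((nat_lit 89), s148), ((nat_lit 307), s151)]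
theorem k155 : Nat.ble 4585351680 (cval (nat_lit 351) c154) = true := by decide +kernel
theorem e156 (M : PM G Ω 351 H15.StdO73.nets) (hN : Nat.card G = 4585351680) : EC M ⊤ [] c154 :=
  ec_top (c := c154) ⟨(L.KO73.o8 M hN), ⟨(L.KO73.o38 M hN), ⟨(o134 M hN), ⟨(o139 M hN), ⟨(o143 M hN), ⟨(o147 M hN), ⟨(o150 M hN), ⟨(o153 M hN), trivial⟩⟩⟩⟩⟩⟩⟩⟩ hN k155
noncomputable def w157 : Word := [nat_lit 27, nat_lit 27, nat_lit 29, nat_lit 22, nat_lit 18, nat_lit 4, nat_lit 8, nat_lit 22, nat_lit 0]
noncomputable def w158 : Word := [nat_lit 0, nat_lit 24, nat_lit 23, nat_lit 20, nat_lit 17, nat_lit 20, nat_lit 22]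
noncomputable def p159 : Prs := [(w158, w157)]
noncomputable def b160 : List (Nat × Nat) := []
noncomputable def w161 : Word := [nat_lit 28, nat_lit 30, nat_lit 19, nat_lit 4, nat_lit 17, nat_lit 0, nat_lit 16, nat_lit 10, nat_lit 24, nat_lit 16]
noncomputable def w162 : Word := [nat_lit 30, nat_lit 28, nat_lit 24, nat_lit 20, nat_lit 29, nat_lit 2, nat_lit 6, nat_lit 24, nat_lit 27, nat_lit 18]
noncomputable def y163 : List Word := [w161, w162]
theorem k164 : relK F bs0 (commR (snds p159) y163) = true := by decide +kernel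
theorem x165 (M : PM G Ω 351 H15.StdO73.nets) (hN : Nat.card G = 4585351680) : Cx M (fun g => Pr M g p159) b160 [] p159 y163 :=
  cx_conj (fun _ _ => fa_nil) (rels_base (base0 M hN) k164)
noncomputable def t166 : KT := KT.alt (dw (nat_lit 0x03)) (KT.mem (nat_lit 0) [nat_lit 0] (SE.lev (nat_lit 1)))
 (KT.alt (dw (nat_lit 0x01)) (KT.stp (nat_lit 0) [nat_lit 1] (dw (nat_lit 0x01)) (KT.mem (nat_lit 0) [nat_lit 0] (SE.lev (nat_lit 2))))
 (KT.nil (SE.lev (nat_lit 0)) [nat_lit 0, nat_lit 1] [dw (nat_lit 0x01), dw (nat_lit 0x03), dw (nat_lit 0x01), dw (nat_lit 0x03), dw (nat_lit 0x01), dw (nat_lit 0x03), dw (nat_lit 0x01), dw (nat_lit 0x03)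
, dw (nat_lit 0x01)] (dn (nat_lit 16) (nat_lit 0x468141015642364245c22a810f820f8144013c421e811302130139c234022f011a4203022fc2300233410782078154c11b814d824d814b424a42304232421d820dc20d813502294244c244c134c234c13c023c0118c25102510129011d01098138c2264226821f81220226014582028108c22b0110023f41180205c12282404223c24a02308243021ac247820c014f824f814c423e81258216820382288209c1568200c23e4205020501218254822a414c8111c21d424d410b820b8153021b421b412d4242011f0104810d420d411e421e4112813f823f813bc239824b820e4241812482248154423a8137c2044117011101200220010a020bc20bc12ac22cc222c21582158148c248c12f413882388122412341054205414a8256025601384238414b011542184147024701084212024e024ac24ac10c4253c233011342134156c256c10942094141c206c22a0225420e8240c2354215c20ec20b024dc21c8250824c0240022e0213c21e023b024cc2014217420a421ec2210206422c8237823dc214025702))))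
theorem k167 : ktChk (nat_lit 351) H15.StdO73.nets F c154 b160 [] p159 y163 [] [] (nat_lit 0) (nat_lit 0) 0 0 t166 = true := by decide +kernel
theorem l168 (M : PM G Ω 351 H15.StdO73.nets) (hN : Nat.card G = 4585351680) : Cl M (fun g => Pr M g p159) [] [] (nat_lit 0) 0 :=
  cl_tree (e156 M hN) (x165 M hN) (dd0 _ _ _ _) k167
noncomputable def w169 : Word := [nat_lit 13, nat_lit 7, nat_lit 1, nat_lit 14, nat_lit 19, nat_lit 14]
theorem k170 : relK F bs0 [(List.append VO73x3.re w169, List.append w169 w157)] = true := by decide +kernel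
theorem k171 : relK F bs0 [(List.append VO73x3.rf w169, List.append w169 w158)] = true := by decide +kernel
theorem q172 (M : PM G Ω 351 H15.StdO73.nets) (hN : Nat.card G = 4585351680) : ¬ IsConj (ev M.gen VO73x3.rf) (ev M.gen VO73x3.re) :=
  fun h => nconj_of (l168 M hN) (((conj_of_rel' (rels_base (base0 M hN) k171)).symm.trans h).trans (conj_of_rel' (rels_base (base0 M hN) k170)))
noncomputable def w173 : Word := [nat_lit 4, nat_lit 24, nat_lit 26, nat_lit 19, nat_lit 2, nat_lit 18, nat_lit 2, nat_lit 29, nat_lit 4]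
theorem k174 : relK F bs0 [(List.append (invW VO73x3.re) w173, List.append w173 VO73x3.re)] = true := by decide +kernel
theorem nc5 (M : PM G Ω 351 H15.StdO73.nets) (hN : Nat.card G = 4585351680) : ∀ j < 5, ¬ CjS (sub M.gen [VO73x3.rf]) (sub M.gen [getL [] xs j]) :=
  fun j hj => by interval_cases j; exacts [(fc5 M hN).nc (fc0 M hN) (by decide), (fc5 M hN).nc (fc1 M hN) (by decide), (fc5 M hN).nc (fc2 M hN) (by decide), nc3r (ord5 M hN) (ord3 M hN) (q130 M hN) (conj_of_rel' (rels_base (base0 M hN) k132)), nc3r (ord5 M hN) (ord4 M hN) (q172 M hN) (conj_of_rel' (rels_base (base0 M hN) k174))]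
noncomputable def s175 : Nat := (nat_lit 0x1000000400040000000010800000000020100080100000000000000000000000000000000000000000000000)
theorem k176 : band (Nat.ble (nat_lit 351) (Nat.pow 2 (nat_lit 9))) (fsChk (nat_lit 351) (nat_lit 9) H15.StdO73.nets VO73x3.rg s175 (full (nat_lit 351)) 0 0 (nat_lit 9)) = true := by decide +kernel
theorem f177 (M : PM G Ω 351 H15.StdO73.nets) (hN : Nat.card G = 4585351680) : IsFix M VO73x3.rg s175 :=
  fix_one k176
theorem k178 : relK F bs0 [(powW VO73x3.rg 3, [])] = true := by decide +kernel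
theorem r179 (M : PM G Ω 351 H15.StdO73.nets) (hN : Nat.card G = 4585351680) : orderOf (ev M.gen VO73x3.rg) = 3 :=
  order_of_rel (F := F) (b := 0) (by norm_num) (rels_base (base0 M hN) k178) (by decide +kernel)
theorem ord6 (M : PM G Ω 351 H15.StdO73.nets) (hN : Nat.card G = 4585351680) : orderOf (ev M.gen VO73x3.rg) = 3 :=
  (r179 M hN)
noncomputable def B6 : Nat := s175
theorem fix6 (M : PM G Ω 351 H15.StdO73.nets) (hN : Nat.card G = 4585351680) : IsFixL M [VO73x3.rg] B6 :=
  IsFix.fixL (f177 M hN)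
theorem k180 : Nat.beq (pop (nat_lit 351) B6) 9 = true := by decide +kernel
theorem fc6 (M : PM G Ω 351 H15.StdO73.nets) (hN : Nat.card G = 4585351680) : FixC M [VO73x3.rg] 9 :=
  ⟨_, fix6 M hN, Nat.eq_of_beq_eq_true k180⟩
theorem nc6 (M : PM G Ω 351 H15.StdO73.nets) (hN : Nat.card G = 4585351680) : ∀ j < 6, ¬ CjS (sub M.gen [VO73x3.rg]) (sub M.gen [getL [] xs j]) :=
  fun j hj => by interval_cases j; exacts [(fc6 M hN).nc (fc0 M hN) (by decide), (fc6 M hN).nc (fc1 M hN) (by decide), (fc6 M hN).nc (fc2 M hN) (by decide), (fc6 M hN).nc (fc3 M hN) (by decide), (fc6 M hN).nc (fc4 M hN) (by decide), (fc6 M hN).nc (fc5 M hN) (by decide)]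
theorem kl (M : PM G Ω 351 H15.StdO73.nets) (hN : Nat.card G = 4585351680) : Kl M.gen 3 7 xs :=
  kl_of (by norm_num) (fun i hi => by interval_cases i; exacts [ord0 M hN, ord1 M hN, ord2 M hN, ord3 M hN, ord4 M hN, ord5 M hN, ord6 M hN]) (VO73x3.cover M hN)
    (fa_cons (hr_self (xs := xs) (i := 0) (by decide)) (fa_cons (hr_self (xs := xs) (i := 1) (by decide)) (fa_cons (hr_self (xs := xs) (i := 2) (by decide)) (fa_cons (hr_self (xs := xs) (i := 3) (by decide)) (fa_cons (hr_self (xs := xs) (i := 4) (by decide)) (fa_cons (hr_self (xs := xs) (i := 5) (by decide)) (fa_cons (hr_self (xs := xs) (i := 6) (by decide)) (fa_nil))))))))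
    (fun i hi => by interval_cases i; exacts [fun _ h => absurd h (Nat.not_lt_zero _), nc1 M hN, nc2 M hN, nc3 M hN, nc4 M hN, nc5 M hN, nc6 M hN])

end L.CO73x3
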