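import Cfsg.Agent.L.KO8p3T
import Cfsg.Agent.L.KF

/-! Generated certificate (toolsL/cg.hpp). -/
set_option autoImplicit false
set_option maxRecDepth 200000
set_option Elab.async false
set_option linter.unusedVariables false
set_option linter.unusedSectionVars false

namespace L.KO8p3
open H14 L.KO8p3T
variable {G Ω : Type*} [Group G] [Finite G] [MulAction G Ω]

noncomputable def w0 : Word := [nat_lit 18]
noncomputable def w1 : Word := [nat_lit 34]
noncomputable def w2 : Word := [nat_lit 0]
theorem k3 : orbChk (nat_lit 1080) H15.StdO8p3.nets F [] (sel [w0, w1, w2] [nat_lit 0, nat_lit 1, nat_lit 2]) [dw (nat_lit 0x05), dw (nat_lit 0x01), dw (nat_lit 0x03), dw (nat_lit 0x05), dw (nat_lit 0x01), dw (nat_lit 0x05), dw (nat_lit 0x01), dw (nat_lit 0x03)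
, dw (nat_lit 0x05), dw (nat_lit 0x01), dw (nat_lit 0x03), dw (nat_lit 0x01), dw (nat_lit 0x05), dw (nat_lit 0x01), dw (nat_lit 0x03), dw (nat_lit 0x01)
, dw (nat_lit 0x05)] (dn (nat_lit 20) (nat_lit 0x10b41036010ee41014c10790107982091c102341019410d20202d010d402)) (bit (nat_lit 0)) (full (nat_lit 1080)) = true := by decide +kernel
theorem o4 (M : PM G Ω 1080 H15.StdO8p3.nets) (hN : Nat.card G = 4952179814400) : Orb M ⊤ [] (nat_lit 0) (full (nat_lit 1080)) :=
  (Orb.ext le_top (orb_bit ⊤ [] (b := (nat_lit 0)) rfl) k3)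
noncomputable def s5 : Nat := (nat_lit 0x41692001d70330500015cb242981483344402200714820a0a302eb2412600428b48c31fc0684179c412100812ad521000094c9a4c10b09477d34054026668ad223835610010540802241f58763a6198c761d21102212a2ba100228101000b5006288146892008a54948a505a851c12a011d050575f74058802492124c1060464208181d09fb81c)
noncomputable def w6 : Word := [nat_lit 14]
noncomputable def w7 : Word := [nat_lit 16]
theorem k8 : orbChk (nat_lit 1080) H15.StdO8p3.nets F [nat_lit 0] (sel [w6, w7, w0] [nat_lit 0, nat_lit 1, nat_lit 2]) [dw (nat_lit 0x01), dw (nat_lit 0x01), dw (nat_lit 0x05), dw (nat_lit 0x01), dw (nat_lit 0x05), dw (nat_lit 0x03), dw (nat_lit 0x01), dw (nat_lit 0x05)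
, dw (nat_lit 0x03), dw (nat_lit 0x01), dw (nat_lit 0x05), dw (nat_lit 0x01), dw (nat_lit 0x03)] (dn (nat_lit 20) (nat_lit 0x0884301683055030c7c30e1430ee4107c43102430abc1061430208308e410728302b030c003029030d0830a7c30fa830b7c310b830734307443)) (bit (nat_lit 2)) s5 = true := by decide +kernel
theorem o9 (M : PM G Ω 1080 H15.StdO8p3.nets) (hN : Nat.card G = 4952179814400) : Orb M ⊤ [nat_lit 0] (nat_lit 2) s5 :=
  (Orb.ext le_top (orb_bit ⊤ [nat_lit 0] (b := (nat_lit 2)) rfl) k8)
noncomputable def s10 : Nat := (nat_lit 0x414000005301000000044a000100000140000000000800a08302220412000000200c010002040380000000810a1400000000880000000100510000000600020001021200010440802000048600240000420520000210802a000008000000b40000800008800080041080400281100000100040031444048002080104c1000004208181c0069818)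
noncomputable def w11 : Word := [nat_lit 20]
theorem k12 : orbChk (nat_lit 1080) H15.StdO8p3.nets F [nat_lit 2, nat_lit 0] (sel [w7, w0, w11] [nat_lit 0, nat_lit 1, nat_lit 2]) [dw (nat_lit 0x01), dw (nat_lit 0x03), dw (nat_lit 0x05), dw (nat_lit 0x03), dw (nat_lit 0x01), dw (nat_lit 0x05), dw (nat_lit 0x03), dw (nat_lit 0x05)
, dw (nat_lit 0x01)] (dn (nat_lit 20) (nat_lit 0x09c0209c0105f42051c20080300802105020260309483003c30cac30768207642051430d4420b60203402)) (bit (nat_lit 3)) s10 = true := by decide +kernel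
theorem o13 (M : PM G Ω 1080 H15.StdO8p3.nets) (hN : Nat.card G = 4952179814400) : Orb M ⊤ [nat_lit 2, nat_lit 0] (nat_lit 3) s10 :=
  (Orb.ext le_top (orb_bit ⊤ [nat_lit 2, nat_lit 0] (b := (nat_lit 3)) rfl) k12)
noncomputable def s14 : Nat := (nat_lit 0x404000001001000000000a0000000000400000000000002000022004000000000008000000040200000000010204000000008000000001000000000000000000010000000000008000000082000400000000200000100002000008000000140000000000000000041080000000000000000000020404008000080104c000000000000100040800)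
noncomputable def w15 : Word := [nat_lit 22]
noncomputable def w16 : Word := [nat_lit 24]
theorem k17 : orbChk (nat_lit 1080) H15.StdO8p3.nets F [nat_lit 3, nat_lit 2, nat_lit 0] (sel [w11, w15, w16] [nat_lit 0, nat_lit 1, nat_lit 2]) [dw (nat_lit 0x01), dw (nat_lit 0x03), dw (nat_lit 0x05), dw (nat_lit 0x01)] (dn (nat_lit 20) (nat_lit 0x0d6810ed820a003015c30b2830b28103e830df4208c0307fc301683016820da41050830b4430b44101583015810c2830d9430d9420d94110b810264301803077c3077c2004830f8c30f8c2)) (bit (nat_lit 11)) s14 = true := by decide +kernel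
theorem o18 (M : PM G Ω 1080 H15.StdO8p3.nets) (hN : Nat.card G = 4952179814400) : Orb M ⊤ [nat_lit 3, nat_lit 2, nat_lit 0] (nat_lit 11) s14 :=
  (Orb.ext le_top (orb_bit ⊤ [nat_lit 3, nat_lit 2, nat_lit 0] (b := (nat_lit 11)) rfl) k17)
noncomputable def s19 : Nat := (nat_lit 0x100000043000000000400000100000000000000000000008200020012000000200400000200008000000080000000000000000000000000410000000400020000020200010000002000040000000000400100000200802800000000000020000080000800000000000000028000000000000001104000000000000001000004008000c0029010)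
noncomputable def w20 : Word := [nat_lit 26]
noncomputable def w21 : Word := [nat_lit 28]
noncomputable def w22 : Word := [nat_lit 30]
theorem k23 : orbChk (nat_lit 1080) H15.StdO8p3.nets F [nat_lit 11, nat_lit 3, nat_lit 2, nat_lit 0] (sel [w20, w21, w22] [nat_lit 0, nat_lit 1, nat_lit 2]) [dw (nat_lit 0x01), dw (nat_lit 0x03), dw (nat_lit 0x05), dw (nat_lit 0x01), dw (nat_lit 0x03)] (dn (nat_lit 20) (nat_lit 0x0bfc100bc2003c30dc41061c3061c1088430884201402014011044305f4210403104021040109c0309c010d5030d5010f4030f4010ca830b7c30b7c1)) (bit (nat_lit 4)) s19 = true := by decide +kernel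
theorem o24 (M : PM G Ω 1080 H15.StdO8p3.nets) (hN : Nat.card G = 4952179814400) : Orb M ⊤ [nat_lit 11, nat_lit 3, nat_lit 2, nat_lit 0] (nat_lit 4) s19 :=
  (Orb.ext le_top (orb_bit ⊤ [nat_lit 11, nat_lit 3, nat_lit 2, nat_lit 0] (b := (nat_lit 4)) rfl) k23)
noncomputable def s25 : Nat := (nat_lit 0x41008000000100000c0001a800000001400000008400000040000002000002000000008800000000008000000100800140b3000000000000008000001000000010000000000000000000440001000020000000000000200400000000008000000100000000200000000004000400000a00000000000000000000000000044002000000000)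
noncomputable def w26 : Word := [nat_lit 32]
theorem k27 : orbChk (nat_lit 1080) H15.StdO8p3.nets F [nat_lit 4, nat_lit 11, nat_lit 3, nat_lit 2, nat_lit 0] (sel [w26, w1] [nat_lit 0, nat_lit 1]) [dw (nat_lit 0x01), dw (nat_lit 0x03), dw (nat_lit 0x01)] (dn (nat_lit 20) (nat_lit 0x05c420c1c106a4206a4104ec10df810f241074810f1c2033820d1420d141104c20a5420f7c10f2c21088206f0206f01090010a9010f3010a6410af020af0100d810a5010acc108802088010e88110702096c102f8202f810a6020a60107382073810e9020e901)) (bit (nat_lit 37)) s25 = true := by decide +kernel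
theorem o28 (M : PM G Ω 1080 H15.StdO8p3.nets) (hN : Nat.card G = 4952179814400) : Orb M ⊤ [nat_lit 4, nat_lit 11, nat_lit 3, nat_lit 2, nat_lit 0] (nat_lit 37) s25 :=
  (Orb.ext le_top (orb_bit ⊤ [nat_lit 4, nat_lit 11, nat_lit 3, nat_lit 2, nat_lit 0] (b := (nat_lit 37)) rfl) k27)
noncomputable def c29 : Chn := [((nat_lit 0), (full (nat_lit 1080))), ((nat_lit 2), s5), ((nat_lit 3), s10), ((nat_lit 11), s14), ((nat_lit 4), s19), ((nat_lit 37), s25)]
theorem k30 : Nat.ble 4952179814400 (cval (nat_lit 1080) c29) = true := by decide +kernel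
theorem e31 (M : PM G Ω 1080 H15.StdO8p3.nets) (hN : Nat.card G = 4952179814400) : EC M ⊤ [] c29 :=
  ec_top (c := c29) ⟨(o4 M hN), ⟨(o9 M hN), ⟨(o13 M hN), ⟨(o18 M hN), ⟨(o24 M hN), ⟨(o28 M hN), trivial⟩⟩⟩⟩⟩⟩ hN k30
noncomputable def bs0 : List Nat := [nat_lit 0, nat_lit 2, nat_lit 3, nat_lit 11, nat_lit 4, nat_lit 37]
theorem base0 (M : PM G Ω 1080 H15.StdO8p3.nets) (hN : Nat.card G = 4952179814400) : IsBase M bs0 :=
  base_of_ec (e31 M hN) (by decide +kernel)
noncomputable def s32 : Nat := (nat_lit 0xbe96dffe28fccfafffea34dbd67eb7ccbbbfddff8eb7df5f5cfd14dbed9ffbd74b73ce03f97be863bedeff7ed52adeffff6b365b3ef4f6b882cbfabfd999752ddc7ca9effefabf7fddbe0a789c59e67389e2deefdded5d45effdd7efefff4aff9d77eb976dff75ab6b75afa57ae3ed5fee2fafa8a08bfa77fdb6dedb3ef9fb9bdf7e7e2f6047e2)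
theorem k33 : orbChk (nat_lit 1080) H15.StdO8p3.nets F [nat_lit 0] (sel [w6, w7, w0, w11, w15, w16, w20, w21, w22, w26, w1] [nat_lit 0, nat_lit 1, nat_lit 2, nat_lit 3, nat_lit 4, nat_lit 5, nat_lit 6, nat_lit 7, nat_lit 8, nat_lit 9, nat_lit 10]) [dw (nat_lit 0x01), dw (nat_lit 0x03), dw (nat_lit 0x05), dw (nat_lit 0x07), dw (nat_lit 0x0d), dw (nat_lit 0x11), dw (nat_lit 0x15), dw (nat_lit 0x01)
, dw (nat_lit 0x13), dw (nat_lit 0x0f), dw (nat_lit 0x01), dw (nat_lit 0x0d)] (dn (nat_lit 20) (nat_lit 0x06903)) (bit (nat_lit 1)) s32 = true := by decide +kernel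
theorem o34 (M : PM G Ω 1080 H15.StdO8p3.nets) (hN : Nat.card G = 4952179814400) : Orb M ⊤ [nat_lit 0] (nat_lit 1) s32 :=
  (Orb.ext le_top (orb_bit ⊤ [nat_lit 0] (b := (nat_lit 1)) rfl) k33)

end L.KO8p3
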