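import Cfsg.Agent.L.KC
import Cfsg.Agent.L.KO8p3

/-! Generated certificate (toolsL/cg.hpp). -/
set_option autoImplicit false
set_option maxRecDepth 200000
set_option Elab.async false
set_option linter.unusedVariables false
set_option linter.unusedSectionVars false

namespace L.VO8p3x3
open H14 L.KO8p3T L.KO8p3
variable {G Ω : Type*} [Group G] [Finite G] [MulAction G Ω]

noncomputable def w0 : Word := [nat_lit 0, nat_lit 34, nat_lit 26, nat_lit 24, nat_lit 20, nat_lit 16, nat_lit 18, nat_lit 34, nat_lit 15, nat_lit 20, nat_lit 33, nat_lit 1]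
noncomputable def w1 : Word := [nat_lit 33, nat_lit 33, nat_lit 18, nat_lit 30, nat_lit 14, nat_lit 22, nat_lit 33, nat_lit 0, nat_lit 21, nat_lit 28, nat_lit 10, nat_lit 2]
noncomputable def w2 : Word := [nat_lit 0, nat_lit 34, nat_lit 32, nat_lit 30, nat_lit 27, nat_lit 22, nat_lit 30, nat_lit 19, nat_lit 21, nat_lit 4, nat_lit 0]
noncomputable def w3 : Word := [nat_lit 15, nat_lit 33, nat_lit 27, nat_lit 28, nat_lit 21, nat_lit 19, nat_lit 0, nat_lit 14, nat_lit 19, nat_lit 24, nat_lit 20]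
noncomputable def w4 : Word := [nat_lit 0, nat_lit 32, nat_lit 34, nat_lit 33, nat_lit 34, nat_lit 20, nat_lit 20, nat_lit 18, nat_lit 18, nat_lit 1]
noncomputable def w5 : Word := [nat_lit 2, nat_lit 24, nat_lit 21, nat_lit 16, nat_lit 25, nat_lit 14, nat_lit 21, nat_lit 13, nat_lit 26, nat_lit 19, nat_lit 2]
noncomputable def w6 : Word := [nat_lit 20, nat_lit 30, nat_lit 20, nat_lit 24, nat_lit 18, nat_lit 14, nat_lit 0, nat_lit 15, nat_lit 20, nat_lit 10, nat_lit 0]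
noncomputable def w7 : Word := [nat_lit 14, nat_lit 30, nat_lit 33, nat_lit 20, nat_lit 16, nat_lit 14, nat_lit 30, nat_lit 24, nat_lit 13, nat_lit 26, nat_lit 8, nat_lit 24]
noncomputable def w8 : Word := [nat_lit 34, nat_lit 30, nat_lit 33, nat_lit 19, nat_lit 21, nat_lit 25, nat_lit 15, nat_lit 5, nat_lit 24, nat_lit 0, nat_lit 15, nat_lit 16]
noncomputable def w9 : Word := [nat_lit 32, nat_lit 34, nat_lit 32, nat_lit 32, nat_lit 16, nat_lit 20, nat_lit 14, nat_lit 20, nat_lit 19, nat_lit 19]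
noncomputable def w10 : Word := [nat_lit 16, nat_lit 24, nat_lit 24, nat_lit 16, nat_lit 18, nat_lit 15, nat_lit 15, nat_lit 29, nat_lit 0, nat_lit 24, nat_lit 20]
noncomputable def w11 : Word := [nat_lit 26, nat_lit 16, nat_lit 33, nat_lit 14, nat_lit 30, nat_lit 25, nat_lit 13, nat_lit 14, nat_lit 21, nat_lit 29]
noncomputable def zs : List Word := [w0, w1, w2, w3, w4, w5, w6, w7, w8, w9, w10, w11]
noncomputable def w12 : Word := [nat_lit 6, nat_lit 32, nat_lit 34, nat_lit 28, nat_lit 14, nat_lit 20, nat_lit 14, nat_lit 1, nat_lit 8, nat_lit 10, nat_lit 29, nat_lit 13]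
noncomputable def w13 : Word := [nat_lit 32, nat_lit 26, nat_lit 32, nat_lit 16, nat_lit 30, nat_lit 20, nat_lit 14, nat_lit 26, nat_lit 8, nat_lit 27, nat_lit 12]
noncomputable def w14 : Word := [nat_lit 1, nat_lit 34, nat_lit 22, nat_lit 16, nat_lit 25, nat_lit 25, nat_lit 0, nat_lit 22, nat_lit 0, nat_lit 14, nat_lit 25]
noncomputable def w15 : Word := [nat_lit 10, nat_lit 32, nat_lit 21, nat_lit 16, nat_lit 14, nat_lit 25, nat_lit 0, nat_lit 21, nat_lit 4, nat_lit 2]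
noncomputable def w16 : Word := [nat_lit 33, nat_lit 28, nat_lit 26, nat_lit 22, nat_lit 16, nat_lit 14, nat_lit 20, nat_lit 1, nat_lit 5, nat_lit 6, nat_lit 19]
noncomputable def w17 : Word := [nat_lit 30, nat_lit 27, nat_lit 25, nat_lit 16, nat_lit 22, nat_lit 15, nat_lit 18, nat_lit 5, nat_lit 24, nat_lit 34, nat_lit 30]
noncomputable def hs : List Word := [w12, w13, w14, w15, w16, w17]
noncomputable def ws : List Word := List.append zs hs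
theorem k18 : nrmRow F bs0 ws (nat_lit 12) (nat_lit 0) (nat_lit 1) [[nat_lit 21, nat_lit 16, nat_lit 2],
 [nat_lit 4],
 [nat_lit 22, nat_lit 21, nat_lit 18, nat_lit 10, nat_lit 6],
 [nat_lit 17, nat_lit 12, nat_lit 8],
 [nat_lit 22, nat_lit 21, nat_lit 18, nat_lit 10],
 [nat_lit 12],
 [nat_lit 20, nat_lit 19, nat_lit 14],
 [nat_lit 20, nat_lit 16],
 [nat_lit 22, nat_lit 18],
 [nat_lit 20],
 [nat_lit 22]] (nat_lit 8191) = true := by decide +kernel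
theorem k19 : nrmRow F bs0 ws (nat_lit 12) (nat_lit 1) (nat_lit 2) [[nat_lit 4],
 [nat_lit 22, nat_lit 21, nat_lit 16, nat_lit 15, nat_lit 13, nat_lit 8, nat_lit 6],
 [nat_lit 17, nat_lit 8],
 [nat_lit 20, nat_lit 18, nat_lit 17, nat_lit 12, nat_lit 10],
 [nat_lit 21, nat_lit 12],
 [nat_lit 21, nat_lit 16, nat_lit 14],
 [nat_lit 16],
 [nat_lit 21, nat_lit 18],
 [nat_lit 20],
 [nat_lit 22]] (nat_lit 8191) = true := by decide +kernel
theorem k20 : nrmRow F bs0 ws (nat_lit 12) (nat_lit 2) (nat_lit 3) [[nat_lit 17, nat_lit 13, nat_lit 8, nat_lit 6],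
 [nat_lit 8],
 [nat_lit 22, nat_lit 17, nat_lit 12, nat_lit 10],
 [nat_lit 12],
 [nat_lit 21, nat_lit 16, nat_lit 14],
 [nat_lit 16],
 [nat_lit 21, nat_lit 18],
 [nat_lit 20],
 [nat_lit 22]] (nat_lit 8191) = true := by decide +kernel
theorem k21 : nrmRow F bs0 ws (nat_lit 12) (nat_lit 3) (nat_lit 4) [[nat_lit 22, nat_lit 8],
 [nat_lit 10],
 [nat_lit 12],
 [nat_lit 22, nat_lit 14],
 [nat_lit 22, nat_lit 16],
 [nat_lit 22, nat_lit 18],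
 [nat_lit 22, nat_lit 20],
 [nat_lit 22]] (nat_lit 8191) = true := by decide +kernel
theorem k22 : nrmRow F bs0 ws (nat_lit 12) (nat_lit 4) (nat_lit 5) [[nat_lit 23, nat_lit 10],
 [nat_lit 12],
 [nat_lit 22, nat_lit 14],
 [nat_lit 16],
 [nat_lit 22, nat_lit 18],
 [nat_lit 20],
 [nat_lit 22]] (nat_lit 8191) = true := by decide +kernel
theorem k23 : nrmRow F bs0 ws (nat_lit 12) (nat_lit 5) (nat_lit 6) [[nat_lit 12],
 [nat_lit 14],
 [nat_lit 23, nat_lit 16],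
 [nat_lit 18],
 [nat_lit 20],
 [nat_lit 22]] (nat_lit 8191) = true := by decide +kernel
theorem k24 : nrmRow F bs0 ws (nat_lit 12) (nat_lit 6) (nat_lit 7) [[nat_lit 22, nat_lit 14],
 [nat_lit 16],
 [nat_lit 18],
 [nat_lit 20],
 [nat_lit 22]] (nat_lit 8191) = true := by decide +kernel
theorem k25 : nrmRow F bs0 ws (nat_lit 12) (nat_lit 7) (nat_lit 8) [[nat_lit 16],
 [nat_lit 18],
 [nat_lit 20],
 [nat_lit 22]] (nat_lit 8191) = true := by decide +kernel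
theorem k26 : nrmRow F bs0 ws (nat_lit 12) (nat_lit 8) (nat_lit 9) [[nat_lit 18],
 [nat_lit 20],
 [nat_lit 22]] (nat_lit 8191) = true := by decide +kernel
theorem k27 : nrmRow F bs0 ws (nat_lit 12) (nat_lit 9) (nat_lit 10) [[nat_lit 20],
 [nat_lit 22]] (nat_lit 8191) = true := by decide +kernel
theorem k28 : nrmRow F bs0 ws (nat_lit 12) (nat_lit 10) (nat_lit 11) [[nat_lit 22]] (nat_lit 8191) = true := by decide +kernel
theorem k29 : nrmRow F bs0 ws (nat_lit 12) (nat_lit 11) (nat_lit 12) [] (nat_lit 8191) = true := by decide +kernel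
theorem k30 : nrmRow F bs0 ws (nat_lit 12) (nat_lit 12) (nat_lit 1) [[nat_lit 18, nat_lit 16, nat_lit 14, nat_lit 13, nat_lit 9, nat_lit 3],
 [nat_lit 20, nat_lit 16, nat_lit 13, nat_lit 9, nat_lit 5],
 [nat_lit 23, nat_lit 16, nat_lit 12, nat_lit 9, nat_lit 7],
 [nat_lit 23, nat_lit 21, nat_lit 16, nat_lit 12, nat_lit 8],
 [nat_lit 22, nat_lit 20, nat_lit 18, nat_lit 17, nat_lit 12, nat_lit 10],
 [nat_lit 22, nat_lit 13],
 [nat_lit 21, nat_lit 16, nat_lit 14],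
 [nat_lit 21, nat_lit 17],
 [nat_lit 19],
 [nat_lit 23, nat_lit 20],
 [nat_lit 23]] (nat_lit 8190) = true := by decide +kernel
theorem k31 : nrmRow F bs0 ws (nat_lit 12) (nat_lit 13) (nat_lit 4) [[nat_lit 17, nat_lit 9],
 [nat_lit 22, nat_lit 18, nat_lit 17, nat_lit 12, nat_lit 11],
 [nat_lit 21, nat_lit 13],
 [nat_lit 23, nat_lit 21, nat_lit 16, nat_lit 15],
 [nat_lit 22, nat_lit 17],
 [nat_lit 22, nat_lit 21, nat_lit 19],
 [nat_lit 23, nat_lit 21],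
 [nat_lit 22]] (nat_lit 8176) = true := by decide +kernel
theorem k32 : nrmRow F bs0 ws (nat_lit 12) (nat_lit 14) (nat_lit 8) [[nat_lit 22, nat_lit 20, nat_lit 16],
 [nat_lit 20, nat_lit 18],
 [nat_lit 22],
 [nat_lit 21]] (nat_lit 5888) = true := by decide +kernel
theorem k33 : nrmRow F bs0 ws (nat_lit 12) (nat_lit 15) (nat_lit 5) [[nat_lit 23, nat_lit 16, nat_lit 13, nat_lit 11],
 [nat_lit 20, nat_lit 18, nat_lit 14, nat_lit 10],
 [nat_lit 22, nat_lit 20, nat_lit 17, nat_lit 15],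
 [nat_lit 22, nat_lit 20, nat_lit 18, nat_lit 14],
 [nat_lit 18],
 [nat_lit 20, nat_lit 19],
 [nat_lit 22]] (nat_lit 6816) = true := by decide +kernel
theorem k34 : nrmRow F bs0 ws (nat_lit 12) (nat_lit 16) (nat_lit 7) [[nat_lit 23, nat_lit 20, nat_lit 19, nat_lit 17],
 [nat_lit 22, nat_lit 21, nat_lit 17],
 [nat_lit 22, nat_lit 20, nat_lit 16, nat_lit 14],
 [nat_lit 20, nat_lit 17],
 [nat_lit 22]] (nat_lit 6272) = true := by decide +kernel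
theorem k35 : nrmRow F bs0 ws (nat_lit 12) (nat_lit 17) (nat_lit 11) [[nat_lit 23]] (nat_lit 6144) = true := by decide +kernel
noncomputable def nm : List Nat := [nat_lit 8191, nat_lit 8191, nat_lit 8191, nat_lit 8191, nat_lit 8191, nat_lit 8191, nat_lit 8191, nat_lit 8191, nat_lit 8191, nat_lit 8191, nat_lit 8191, nat_lit 8191, nat_lit 8190, nat_lit 8176, nat_lit 5888, nat_lit 6816, nat_lit 6272, nat_lit 6144]
theorem hn (M : PM G Ω 1080 H15.StdO8p3.nets) (hN : Nat.card G = 4952179814400) : NrmL (loc M.gen ws) 12 0 nm :=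
  (nrm_cons (base0 M hN) k18 (nrm_cons (base0 M hN) k19 (nrm_cons (base0 M hN) k20 (nrm_cons (base0 M hN) k21 (nrm_cons (base0 M hN) k22 (nrm_cons (base0 M hN) k23 (nrm_cons (base0 M hN) k24 (nrm_cons (base0 M hN) k25 (nrm_cons (base0 M hN) k26 (nrm_cons (base0 M hN) k27 (nrm_cons (base0 M hN) k28 (nrm_cons (base0 M hN) k29 (nrm_cons (base0 M hN) k30 (nrm_cons (base0 M hN) k31 (nrm_cons (base0 M hN) k32 (nrm_cons (base0 M hN) k33 (nrm_cons (base0 M hN) k34 (nrm_cons (base0 M hN) k35 trivial))))))))))))))))))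
noncomputable def s36 : Nat := (nat_lit 0xd55c0003454560a0090028029002cc022800910040010748b4040081483881104040044000102103018084812504a044490000869e210c0000122a9080a28002288580020505040404006a04102890480e01244458100026601307246080241088c802a4a521980002819080a440ae00050908042200f002096129100410200820300a6268a0a0)
noncomputable def s37 : Nat := (nat_lit 0x200000000000000000000000004000000000000004000000000000001000010000000000000000000400000000400000000002000000000400010100000000000000000000000000000000000200210000020000000000000000120001000000000010000000000000200000020000000000050000000080000000000000009001000)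
noncomputable def s38 : Nat := (nat_lit 0x200000000000000000000000000000000000000000000002000000000000000000000000000000000000000000000000000000000000000000000000000000000000000000000000000000000000000000000000000000000000000000000000000000080000000000000000000000000000000000)
noncomputable def s39 : Nat := (nat_lit 0x400000000000000000000000010000000000000000000000000000000000000000000000000000000000000000000000000000000000000000000000000000000000000000000000000000000000000000001000000)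
noncomputable def s40 : Nat := (nat_lit 0x40000000000000000000000000000000000000000000000000000000000000000000000000000000000008000000000000000000000000200000000000000000000000000000000000)
noncomputable def s41 : Nat := (nat_lit 0x2000000000000000000000000000000000000000000000000000000000000000000000000000000000000000010000000000000000000000000000000000000000000000000000000000000000000000000000000000000000000000000000000000000000000000000004000000000000000000000000000000000000000)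
noncomputable def c42 : Chn := [((nat_lit 5), s36), ((nat_lit 12), s37), ((nat_lit 139), s38), ((nat_lit 24), s39), ((nat_lit 141), s40), ((nat_lit 158), s41)]
noncomputable def d43 : List OD := [⟨[nat_lit 3, nat_lit 5, nat_lit 1], [dw (nat_lit 0x01), dw (nat_lit 0x03), dw (nat_lit 0x05), dw (nat_lit 0x01), dw (nat_lit 0x03), dw (nat_lit 0x05), dw (nat_lit 0x03), dw (nat_lit 0x01)
], (dn (nat_lit 20) (nat_lit 0x0cf01021020ed4206882021410a4c10cd830fcc20fcc110dc2063020d5820d34308bc20d4c30114203c420a7c2030c21028110c82093c20558206a020e0430e04206ec20df830df82037c3037c210d8310d82053c3106430be420be4107501005820058110ac310ac1007810390203901078c3003c3003c2006430798209b010b7c201b8210b0210b010dc820dc810bbc20ad820ad81071c208a8102681106021060106f821040310401098c2098c10af830af820af810b60105082050810130205e4205e4105e8208e4308e42064c3064c2064c1069430694201a030ac030ac010d2c10d1c30d1c109243092410ddc30ddc10304106cc10a5030a5010b1c30b1c1045410f6430f64105b01101810e0831048303bc30f50300d4305a020580305802055420a202080830a0c205143051420a6830a6820f0c2076820be020ee4206683066821058310582084830848204cc304cc20c1430fc030e9c310c0310203041c3082030c00304f03))⟩,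
 ⟨[nat_lit 0, nat_lit 1], [], (dn (nat_lit 20) (nat_lit 0x0ea820ea8109f4202b420324208f0208f01006010910204b020db820db81006c2006c10614106702067010cc0201f8201f810500205001016c2016c10030200301))⟩,
 ⟨[nat_lit 8], [], (dn (nat_lit 20) (nat_lit 0x0ba41022c1))⟩,
 ⟨[nat_lit 6], [], (dn (nat_lit 20) (nat_lit 0x0910100601))⟩,
 ⟨[nat_lit 4], [], (dn (nat_lit 20) (nat_lit 0x0918102341))⟩,
 ⟨[nat_lit 2], [], (dn (nat_lit 20) (nat_lit 0x0a30102781))⟩]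
theorem k44 : ocChk (nat_lit 1080) H15.StdO8p3.nets F zs c42 d43 [] = true := by decide +kernel
theorem o45 (M : PM G Ω 1080 H15.StdO8p3.nets) (hN : Nat.card G = 4952179814400) : OC M (Nn (loc M.gen ws) 12 0) [] c42 :=
  oc_of (sub_le_Nn M.gen zs hs (m := 12) rfl) k44
theorem k46 : powChk F bs0 ws (nat_lit 3) (nat_lit 12) nm [[nat_lit 21],
 [],
 [],
 [],
 [],
 [],
 [],
 [],
 [],
 [],
 [],
 []] = true := by decide +kernel
theorem pc (M : PM G Ω 1080 H15.StdO8p3.nets) (hN : Nat.card G = 4952179814400) : Pc (loc M.gen ws) 3 12 ∧ ∀ i ≤ 12, Nat.card (Nn (loc M.gen ws) 12 i) = 3 ^ (12 - i) :=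
  pc_of (base0 M hN) (by norm_num) (hn M hN) k46 (OC.le_card' (o45 M hN) (by decide +kernel))
noncomputable def ra : Word := [nat_lit 26, nat_lit 16, nat_lit 33, nat_lit 14, nat_lit 30, nat_lit 25, nat_lit 13, nat_lit 14, nat_lit 21, nat_lit 29] -- fix 108
noncomputable def rb : Word := [nat_lit 20, nat_lit 30, nat_lit 20, nat_lit 24, nat_lit 18, nat_lit 14, nat_lit 0, nat_lit 15, nat_lit 20, nat_lit 10, nat_lit 0] -- fix 135
noncomputable def rc : Word := [nat_lit 10, nat_lit 20, nat_lit 25, nat_lit 13, nat_lit 24, nat_lit 21, nat_lit 10] -- fix 108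
noncomputable def rd : Word := [nat_lit 33, nat_lit 33, nat_lit 18, nat_lit 30, nat_lit 14, nat_lit 22, nat_lit 33, nat_lit 0, nat_lit 21, nat_lit 28, nat_lit 10, nat_lit 2] -- fix 27
noncomputable def re : Word := [nat_lit 8, nat_lit 32, nat_lit 29, nat_lit 24, nat_lit 18, nat_lit 20, nat_lit 24, nat_lit 15, nat_lit 20, nat_lit 10, nat_lit 25] -- fix 0
noncomputable def rf : Word := [nat_lit 22, nat_lit 16, nat_lit 21, nat_lit 25, nat_lit 14, nat_lit 29, nat_lit 34, nat_lit 1, nat_lit 26, nat_lit 19, nat_lit 12, nat_lit 30] -- fix 0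
noncomputable def rg : Word := [nat_lit 6, nat_lit 32, nat_lit 26, nat_lit 32, nat_lit 25, nat_lit 30, nat_lit 18, nat_lit 18, nat_lit 14, nat_lit 29, nat_lit 19, nat_lit 12] -- fix 18
noncomputable def rh : Word := [nat_lit 8, nat_lit 26, nat_lit 30, nat_lit 20, nat_lit 29, nat_lit 18, nat_lit 14, nat_lit 18, nat_lit 5, nat_lit 20] -- fix 0
noncomputable def ri : Word := [nat_lit 25, nat_lit 32, nat_lit 26, nat_lit 22, nat_lit 16, nat_lit 24, nat_lit 13, nat_lit 20, nat_lit 27, nat_lit 13, nat_lit 0] -- fix 0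
noncomputable def rj : Word := [nat_lit 28, nat_lit 30, nat_lit 25, nat_lit 30, nat_lit 19, nat_lit 15, nat_lit 15, nat_lit 1, nat_lit 14, nat_lit 0, nat_lit 24, nat_lit 5] -- fix 27
noncomputable def rk : Word := [nat_lit 32, nat_lit 32, nat_lit 29, nat_lit 16, nat_lit 19, nat_lit 14, nat_lit 20, nat_lit 27, nat_lit 1, nat_lit 14, nat_lit 34, nat_lit 16, nat_lit 5] -- fix 9
noncomputable def rl : Word := [nat_lit 6, nat_lit 26, nat_lit 18, nat_lit 22, nat_lit 15, nat_lit 33, nat_lit 14, nat_lit 0, nat_lit 24, nat_lit 22, nat_lit 20, nat_lit 4] -- fix 0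
noncomputable def rm : Word := [nat_lit 30, nat_lit 34, nat_lit 32, nat_lit 22, nat_lit 21, nat_lit 15, nat_lit 18, nat_lit 29, nat_lit 13, nat_lit 20, nat_lit 14, nat_lit 14] -- fix 0
noncomputable def reps : List Word := [ra, rb, rc, rd, re, rf, rg, rh, ri, rj, rk, rl, rm]
noncomputable def cl : List (Word × Nat) := [([], (nat_lit 11)),
 ([nat_lit 20], (nat_lit 11)),
 ([nat_lit 12], (nat_lit 11)),
 ([nat_lit 4], (nat_lit 11)),
 ([nat_lit 2], (nat_lit 11)),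
 ([nat_lit 11, nat_lit 8], (nat_lit 11)),
 ([nat_lit 18, nat_lit 16], (nat_lit 11)),
 ([nat_lit 19, nat_lit 16], (nat_lit 11)),
 ([nat_lit 18, nat_lit 12], (nat_lit 11)),
 ([nat_lit 19, nat_lit 12], (nat_lit 11)),
 ([nat_lit 18, nat_lit 2], (nat_lit 11)),
 ([nat_lit 4, nat_lit 2], (nat_lit 11)),
 ([nat_lit 2, nat_lit 0], (nat_lit 11)),
 ([nat_lit 6, nat_lit 4], (nat_lit 11)),
 ([nat_lit 17, nat_lit 12], (nat_lit 11)),
 ([nat_lit 9, nat_lit 0], (nat_lit 11)),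
 ([nat_lit 18, nat_lit 4, nat_lit 2], (nat_lit 11)),
 ([nat_lit 18, nat_lit 6, nat_lit 4], (nat_lit 11)),
 ([nat_lit 19, nat_lit 6, nat_lit 4], (nat_lit 11)),
 ([nat_lit 19, nat_lit 16, nat_lit 12], (nat_lit 11)),
 ([nat_lit 15, nat_lit 4, nat_lit 0], (nat_lit 11)),
 ([nat_lit 18, nat_lit 16, nat_lit 12], (nat_lit 11)),
 ([nat_lit 20, nat_lit 10, nat_lit 8], (nat_lit 11)),
 ([nat_lit 21, nat_lit 11, nat_lit 8], (nat_lit 11)),
 ([nat_lit 20, nat_lit 11, nat_lit 8], (nat_lit 11)),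
 ([], (nat_lit 10)),
 ([nat_lit 18], (nat_lit 10)),
 ([nat_lit 16], (nat_lit 10)),
 ([nat_lit 12], (nat_lit 10)),
 ([nat_lit 4], (nat_lit 10)),
 ([nat_lit 2], (nat_lit 10)),
 ([nat_lit 0], (nat_lit 10)),
 ([nat_lit 9, nat_lit 0], (nat_lit 10)),
 ([nat_lit 16, nat_lit 12], (nat_lit 10)),
 ([nat_lit 17, nat_lit 12], (nat_lit 10)),
 ([nat_lit 6, nat_lit 4], (nat_lit 10)),
 ([nat_lit 3, nat_lit 0], (nat_lit 10)),
 ([nat_lit 2, nat_lit 0], (nat_lit 10)),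
 ([nat_lit 4, nat_lit 2], (nat_lit 10)),
 ([nat_lit 11, nat_lit 8], (nat_lit 10)),
 ([nat_lit 15, nat_lit 0], (nat_lit 10)),
 ([nat_lit 14, nat_lit 4], (nat_lit 10)),
 ([nat_lit 10, nat_lit 8], (nat_lit 10)),
 ([nat_lit 18, nat_lit 2], (nat_lit 10)),
 ([nat_lit 18, nat_lit 4], (nat_lit 10)),
 ([nat_lit 19, nat_lit 12], (nat_lit 10)),
 ([nat_lit 18, nat_lit 12], (nat_lit 10)),
 ([nat_lit 19, nat_lit 16], (nat_lit 10)),
 ([nat_lit 14, nat_lit 0], (nat_lit 10)),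
 ([nat_lit 18, nat_lit 16], (nat_lit 10)),
 ([nat_lit 10, nat_lit 2, nat_lit 0], (nat_lit 10)),
 ([nat_lit 18, nat_lit 16, nat_lit 12], (nat_lit 10)),
 ([nat_lit 15, nat_lit 5, nat_lit 0], (nat_lit 10)),
 ([nat_lit 15, nat_lit 4, nat_lit 0], (nat_lit 10)),
 ([nat_lit 14, nat_lit 3, nat_lit 0], (nat_lit 10)),
 ([nat_lit 14, nat_lit 2, nat_lit 0], (nat_lit 10)),
 ([nat_lit 14, nat_lit 10, nat_lit 8], (nat_lit 10)),
 ([nat_lit 15, nat_lit 11, nat_lit 8], (nat_lit 10)),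
 ([nat_lit 15, nat_lit 10, nat_lit 8], (nat_lit 10)),
 ([nat_lit 11, nat_lit 3, nat_lit 0], (nat_lit 10)),
 ([nat_lit 14, nat_lit 11, nat_lit 8], (nat_lit 10)),
 ([nat_lit 19, nat_lit 16, nat_lit 12], (nat_lit 10)),
 ([nat_lit 19, nat_lit 17, nat_lit 12], (nat_lit 10)),
 ([nat_lit 18, nat_lit 17, nat_lit 12], (nat_lit 10)),
 ([nat_lit 19, nat_lit 6, nat_lit 4], (nat_lit 10)),
 ([nat_lit 18, nat_lit 6, nat_lit 4], (nat_lit 10)),
 ([nat_lit 18, nat_lit 4, nat_lit 2], (nat_lit 10)),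
 ([nat_lit 18, nat_lit 14, nat_lit 11, nat_lit 8], (nat_lit 10)),
 ([nat_lit 19, nat_lit 15, nat_lit 10, nat_lit 8], (nat_lit 10)),
 ([], (nat_lit 9)),
 ([nat_lit 16], (nat_lit 9)),
 ([nat_lit 12], (nat_lit 9)),
 ([nat_lit 4], (nat_lit 9)),
 ([nat_lit 2], (nat_lit 9)),
 ([nat_lit 0], (nat_lit 9)),
 ([nat_lit 10, nat_lit 8], (nat_lit 9)),
 ([nat_lit 14, nat_lit 4], (nat_lit 9)),
 ([nat_lit 14, nat_lit 0], (nat_lit 9)),
 ([nat_lit 15, nat_lit 0], (nat_lit 9)),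
 ([nat_lit 11, nat_lit 8], (nat_lit 9)),
 ([nat_lit 4, nat_lit 2], (nat_lit 9)),
 ([nat_lit 2, nat_lit 0], (nat_lit 9)),
 ([nat_lit 3, nat_lit 0], (nat_lit 9)),
 ([nat_lit 9, nat_lit 0], (nat_lit 9)),
 ([nat_lit 6, nat_lit 4], (nat_lit 9)),
 ([nat_lit 17, nat_lit 12], (nat_lit 9)),
 ([nat_lit 16, nat_lit 12], (nat_lit 9)),
 ([nat_lit 14, nat_lit 11, nat_lit 8], (nat_lit 9)),
 ([nat_lit 11, nat_lit 3, nat_lit 0], (nat_lit 9)),
 ([nat_lit 10, nat_lit 2, nat_lit 0], (nat_lit 9)),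
 ([nat_lit 15, nat_lit 5, nat_lit 0], (nat_lit 9)),
 ([nat_lit 15, nat_lit 4, nat_lit 0], (nat_lit 9)),
 ([nat_lit 14, nat_lit 3, nat_lit 0], (nat_lit 9)),
 ([nat_lit 14, nat_lit 2, nat_lit 0], (nat_lit 9)),
 ([nat_lit 14, nat_lit 10, nat_lit 8], (nat_lit 9)),
 ([nat_lit 15, nat_lit 11, nat_lit 8], (nat_lit 9)),
 ([nat_lit 15, nat_lit 10, nat_lit 8], (nat_lit 9)),
 ([], (nat_lit 8)),
 ([nat_lit 14], (nat_lit 8)),
 ([nat_lit 12], (nat_lit 8)),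
 ([nat_lit 4], (nat_lit 8)),
 ([nat_lit 2], (nat_lit 8)),
 ([nat_lit 0], (nat_lit 8)),
 ([nat_lit 6, nat_lit 4], (nat_lit 8)),
 ([nat_lit 9, nat_lit 0], (nat_lit 8)),
 ([nat_lit 3, nat_lit 0], (nat_lit 8)),
 ([nat_lit 2, nat_lit 0], (nat_lit 8)),
 ([nat_lit 4, nat_lit 2], (nat_lit 8)),
 ([nat_lit 6, nat_lit 2], (nat_lit 8)),
 ([nat_lit 11, nat_lit 8], (nat_lit 8)),
 ([nat_lit 10, nat_lit 8], (nat_lit 8)),
 ([nat_lit 15, nat_lit 0], (nat_lit 8)),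
 ([nat_lit 14, nat_lit 0], (nat_lit 8)),
 ([nat_lit 14, nat_lit 4], (nat_lit 8)),
 ([nat_lit 14, nat_lit 12], (nat_lit 8)),
 ([nat_lit 14, nat_lit 11, nat_lit 8], (nat_lit 8)),
 ([nat_lit 6, nat_lit 4, nat_lit 2], (nat_lit 8)),
 ([nat_lit 11, nat_lit 3, nat_lit 0], (nat_lit 8)),
 ([nat_lit 10, nat_lit 2, nat_lit 0], (nat_lit 8)),
 ([nat_lit 14, nat_lit 9, nat_lit 0], (nat_lit 8)),
 ([nat_lit 15, nat_lit 5, nat_lit 0], (nat_lit 8)),
 ([nat_lit 15, nat_lit 4, nat_lit 0], (nat_lit 8)),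
 ([nat_lit 14, nat_lit 3, nat_lit 0], (nat_lit 8)),
 ([nat_lit 14, nat_lit 2, nat_lit 0], (nat_lit 8)),
 ([nat_lit 14, nat_lit 10, nat_lit 8], (nat_lit 8)),
 ([nat_lit 15, nat_lit 11, nat_lit 8], (nat_lit 8)),
 ([nat_lit 15, nat_lit 10, nat_lit 8], (nat_lit 8)),
 ([nat_lit 9, nat_lit 5, nat_lit 2, nat_lit 0], (nat_lit 8)),
 ([nat_lit 9, nat_lit 4, nat_lit 3, nat_lit 0], (nat_lit 8)),
 ([], (nat_lit 7)),
 ([nat_lit 12], (nat_lit 7)),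
 ([nat_lit 4], (nat_lit 7)),
 ([nat_lit 2], (nat_lit 7)),
 ([nat_lit 0], (nat_lit 7)),
 ([nat_lit 10, nat_lit 8], (nat_lit 7)),
 ([nat_lit 11, nat_lit 8], (nat_lit 7)),
 ([nat_lit 6, nat_lit 4], (nat_lit 7)),
 ([nat_lit 6, nat_lit 2], (nat_lit 7)),
 ([nat_lit 4, nat_lit 2], (nat_lit 7)),
 ([nat_lit 5, nat_lit 2], (nat_lit 7)),
 ([nat_lit 2, nat_lit 0], (nat_lit 7)),
 ([nat_lit 3, nat_lit 0], (nat_lit 7)),
 ([nat_lit 4, nat_lit 0], (nat_lit 7)),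
 ([nat_lit 5, nat_lit 0], (nat_lit 7)),
 ([nat_lit 9, nat_lit 0], (nat_lit 7)),
 ([nat_lit 12, nat_lit 5, nat_lit 2], (nat_lit 7)),
 ([nat_lit 10, nat_lit 2, nat_lit 0], (nat_lit 7)),
 ([nat_lit 11, nat_lit 3, nat_lit 0], (nat_lit 7)),
 ([nat_lit 10, nat_lit 4, nat_lit 0], (nat_lit 7)),
 ([nat_lit 5, nat_lit 2, nat_lit 0], (nat_lit 7)),
 ([nat_lit 6, nat_lit 4, nat_lit 2], (nat_lit 7)),
 ([nat_lit 5, nat_lit 3, nat_lit 0], (nat_lit 7)),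
 ([nat_lit 4, nat_lit 3, nat_lit 0], (nat_lit 7)),
 ([nat_lit 4, nat_lit 2, nat_lit 0], (nat_lit 7)),
 ([nat_lit 11, nat_lit 5, nat_lit 0], (nat_lit 7)),
 ([nat_lit 11, nat_lit 4, nat_lit 2, nat_lit 0], (nat_lit 7)),
 ([nat_lit 10, nat_lit 5, nat_lit 3, nat_lit 0], (nat_lit 7)),
 ([nat_lit 10, nat_lit 8, nat_lit 5, nat_lit 2], (nat_lit 7)),
 ([nat_lit 11, nat_lit 8, nat_lit 5, nat_lit 2], (nat_lit 7)),
 ([nat_lit 9, nat_lit 5, nat_lit 2, nat_lit 0], (nat_lit 7)),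
 ([nat_lit 9, nat_lit 4, nat_lit 3, nat_lit 0], (nat_lit 7)),
 ([], (nat_lit 6)),
 ([nat_lit 10], (nat_lit 6)),
 ([nat_lit 8], (nat_lit 6)),
 ([nat_lit 4], (nat_lit 6)),
 ([nat_lit 2], (nat_lit 6)),
 ([nat_lit 0], (nat_lit 6)),
 ([nat_lit 9, nat_lit 0], (nat_lit 6)),
 ([nat_lit 5, nat_lit 0], (nat_lit 6)),
 ([nat_lit 4, nat_lit 0], (nat_lit 6)),
 ([nat_lit 3, nat_lit 0], (nat_lit 6)),
 ([nat_lit 2, nat_lit 0], (nat_lit 6)),
 ([nat_lit 5, nat_lit 2], (nat_lit 6)),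
 ([nat_lit 4, nat_lit 2], (nat_lit 6)),
 ([nat_lit 6, nat_lit 2], (nat_lit 6)),
 ([nat_lit 6, nat_lit 4], (nat_lit 6)),
 ([nat_lit 10, nat_lit 2], (nat_lit 6)),
 ([nat_lit 10, nat_lit 4], (nat_lit 6)),
 ([nat_lit 11, nat_lit 8], (nat_lit 6)),
 ([nat_lit 10, nat_lit 8], (nat_lit 6)),
 ([nat_lit 11, nat_lit 5, nat_lit 0], (nat_lit 6)),
 ([nat_lit 6, nat_lit 2, nat_lit 0], (nat_lit 6)),
 ([nat_lit 6, nat_lit 3, nat_lit 0], (nat_lit 6)),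
 ([nat_lit 6, nat_lit 5, nat_lit 0], (nat_lit 6)),
 ([nat_lit 4, nat_lit 2, nat_lit 0], (nat_lit 6)),
 ([nat_lit 4, nat_lit 3, nat_lit 0], (nat_lit 6)),
 ([nat_lit 5, nat_lit 3, nat_lit 0], (nat_lit 6)),
 ([nat_lit 8, nat_lit 5, nat_lit 2], (nat_lit 6)),
 ([nat_lit 6, nat_lit 4, nat_lit 0], (nat_lit 6)),
 ([nat_lit 6, nat_lit 4, nat_lit 2], (nat_lit 6)),
 ([nat_lit 5, nat_lit 2, nat_lit 0], (nat_lit 6)),
 ([nat_lit 10, nat_lit 4, nat_lit 0], (nat_lit 6)),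
 ([nat_lit 11, nat_lit 3, nat_lit 0], (nat_lit 6)),
 ([nat_lit 10, nat_lit 2, nat_lit 0], (nat_lit 6)),
 ([nat_lit 10, nat_lit 5, nat_lit 2], (nat_lit 6)),
 ([nat_lit 10, nat_lit 4, nat_lit 2], (nat_lit 6)),
 ([nat_lit 11, nat_lit 4, nat_lit 2, nat_lit 0], (nat_lit 6)),
 ([nat_lit 10, nat_lit 5, nat_lit 3, nat_lit 0], (nat_lit 6)),
 ([nat_lit 10, nat_lit 8, nat_lit 5, nat_lit 2], (nat_lit 6)),
 ([nat_lit 11, nat_lit 8, nat_lit 5, nat_lit 2], (nat_lit 6)),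
 ([nat_lit 9, nat_lit 5, nat_lit 2, nat_lit 0], (nat_lit 6)),
 ([nat_lit 9, nat_lit 4, nat_lit 3, nat_lit 0], (nat_lit 6)),
 ([nat_lit 6, nat_lit 4, nat_lit 2, nat_lit 0], (nat_lit 6)),
 ([nat_lit 6, nat_lit 5, nat_lit 3, nat_lit 0], (nat_lit 6)),
 ([], (nat_lit 5)),
 ([nat_lit 8], (nat_lit 5)),
 ([nat_lit 4], (nat_lit 5)),
 ([nat_lit 2], (nat_lit 5)),
 ([nat_lit 0], (nat_lit 5)),
 ([nat_lit 6, nat_lit 4], (nat_lit 5)),
 ([nat_lit 6, nat_lit 2], (nat_lit 5)),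
 ([nat_lit 4, nat_lit 2], (nat_lit 5)),
 ([nat_lit 5, nat_lit 2], (nat_lit 5)),
 ([nat_lit 2, nat_lit 0], (nat_lit 5)),
 ([nat_lit 3, nat_lit 0], (nat_lit 5)),
 ([nat_lit 5, nat_lit 0], (nat_lit 5)),
 ([nat_lit 9, nat_lit 0], (nat_lit 5)),
 ([nat_lit 4, nat_lit 0], (nat_lit 5)),
 ([nat_lit 5, nat_lit 2, nat_lit 0], (nat_lit 5)),
 ([nat_lit 6, nat_lit 4, nat_lit 2], (nat_lit 5)),
 ([nat_lit 6, nat_lit 4, nat_lit 0], (nat_lit 5)),
 ([nat_lit 6, nat_lit 5, nat_lit 0], (nat_lit 5)),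
 ([nat_lit 6, nat_lit 2, nat_lit 0], (nat_lit 5)),
 ([nat_lit 6, nat_lit 3, nat_lit 0], (nat_lit 5)),
 ([nat_lit 4, nat_lit 2, nat_lit 0], (nat_lit 5)),
 ([nat_lit 4, nat_lit 3, nat_lit 0], (nat_lit 5)),
 ([nat_lit 5, nat_lit 3, nat_lit 0], (nat_lit 5)),
 ([nat_lit 8, nat_lit 5, nat_lit 2], (nat_lit 5)),
 ([nat_lit 9, nat_lit 5, nat_lit 2, nat_lit 0], (nat_lit 5)),
 ([nat_lit 9, nat_lit 4, nat_lit 3, nat_lit 0], (nat_lit 5)),
 ([nat_lit 6, nat_lit 4, nat_lit 2, nat_lit 0], (nat_lit 5)),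
 ([nat_lit 6, nat_lit 5, nat_lit 3, nat_lit 0], (nat_lit 5)),
 ([], (nat_lit 4)),
 ([nat_lit 6], (nat_lit 4)),
 ([nat_lit 4], (nat_lit 4)),
 ([nat_lit 2], (nat_lit 4)),
 ([nat_lit 0], (nat_lit 4)),
 ([nat_lit 5, nat_lit 0], (nat_lit 4)),
 ([nat_lit 3, nat_lit 0], (nat_lit 4)),
 ([nat_lit 2, nat_lit 0], (nat_lit 4)),
 ([nat_lit 4, nat_lit 0], (nat_lit 4)),
 ([nat_lit 5, nat_lit 2], (nat_lit 4)),
 ([nat_lit 4, nat_lit 2], (nat_lit 4)),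
 ([nat_lit 6, nat_lit 0], (nat_lit 4)),
 ([nat_lit 6, nat_lit 2], (nat_lit 4)),
 ([nat_lit 6, nat_lit 4], (nat_lit 4)),
 ([nat_lit 6, nat_lit 5, nat_lit 2], (nat_lit 4)),
 ([nat_lit 5, nat_lit 3, nat_lit 0], (nat_lit 4)),
 ([nat_lit 4, nat_lit 3, nat_lit 0], (nat_lit 4)),
 ([nat_lit 5, nat_lit 2, nat_lit 0], (nat_lit 4)),
 ([nat_lit 4, nat_lit 2, nat_lit 0], (nat_lit 4)),
 ([nat_lit 6, nat_lit 3, nat_lit 0], (nat_lit 4)),
 ([nat_lit 6, nat_lit 2, nat_lit 0], (nat_lit 4)),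
 ([nat_lit 6, nat_lit 5, nat_lit 0], (nat_lit 4)),
 ([nat_lit 6, nat_lit 4, nat_lit 0], (nat_lit 4)),
 ([nat_lit 6, nat_lit 4, nat_lit 2], (nat_lit 4)),
 ([nat_lit 6, nat_lit 4, nat_lit 2, nat_lit 0], (nat_lit 4)),
 ([nat_lit 6, nat_lit 5, nat_lit 2, nat_lit 0], (nat_lit 4)),
 ([nat_lit 6, nat_lit 4, nat_lit 3, nat_lit 0], (nat_lit 4)),
 ([nat_lit 6, nat_lit 5, nat_lit 3, nat_lit 0], (nat_lit 4)),
 ([], (nat_lit 3)),
 ([nat_lit 4], (nat_lit 3)),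
 ([nat_lit 2], (nat_lit 3)),
 ([nat_lit 0], (nat_lit 3)),
 ([nat_lit 4, nat_lit 2], (nat_lit 3)),
 ([nat_lit 5, nat_lit 2], (nat_lit 3)),
 ([nat_lit 4, nat_lit 0], (nat_lit 3)),
 ([nat_lit 5, nat_lit 0], (nat_lit 3)),
 ([nat_lit 2, nat_lit 0], (nat_lit 3)),
 ([nat_lit 3, nat_lit 0], (nat_lit 3)),
 ([nat_lit 4, nat_lit 2, nat_lit 0], (nat_lit 3)),
 ([nat_lit 5, nat_lit 2, nat_lit 0], (nat_lit 3)),
 ([nat_lit 4, nat_lit 3, nat_lit 0], (nat_lit 3)),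
 ([nat_lit 5, nat_lit 3, nat_lit 0], (nat_lit 3)),
 ([], (nat_lit 2)),
 ([nat_lit 2], (nat_lit 2)),
 ([nat_lit 0], (nat_lit 2)),
 ([nat_lit 2, nat_lit 0], (nat_lit 2)),
 ([nat_lit 3, nat_lit 0], (nat_lit 2)),
 ([], (nat_lit 1)),
 ([nat_lit 0], (nat_lit 1)),
 ([], (nat_lit 0))]
noncomputable def i47 : List (List Ins) := [[Ins.leaf (nat_lit 1000) [], Ins.leaf (nat_lit 0) [], Ins.leaf (nat_lit 0) [nat_lit 4, nat_lit 32, nat_lit 28, nat_lit 22, nat_lit 28, nat_lit 19, nat_lit 28, nat_lit 0, nat_lit 24, nat_lit 12, nat_lit 32, nat_lit 24]],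
 [Ins.leaf (nat_lit 0) [nat_lit 1, nat_lit 34, nat_lit 22, nat_lit 16, nat_lit 25, nat_lit 25, nat_lit 0, nat_lit 22, nat_lit 0, nat_lit 14, nat_lit 25], Ins.leaf (nat_lit 0) [nat_lit 0, nat_lit 33, nat_lit 29, nat_lit 26, nat_lit 21, nat_lit 14, nat_lit 29, nat_lit 0, nat_lit 14, nat_lit 32, nat_lit 28, nat_lit 12], Ins.leaf (nat_lit 0) [nat_lit 4, nat_lit 16, nat_lit 14, nat_lit 14, nat_lit 14, nat_lit 18, nat_lit 1, nat_lit 26, nat_lit 26, nat_lit 18, nat_lit 12]],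
 [Ins.leaf (nat_lit 1) [], Ins.leaf (nat_lit 1) [nat_lit 14, nat_lit 30, nat_lit 33, nat_lit 20, nat_lit 16, nat_lit 14, nat_lit 30, nat_lit 24, nat_lit 13, nat_lit 26, nat_lit 8, nat_lit 24], Ins.leaf (nat_lit 1) [nat_lit 10, nat_lit 29, nat_lit 19, nat_lit 21, nat_lit 14, nat_lit 1, nat_lit 8, nat_lit 13, nat_lit 15, nat_lit 5, nat_lit 24]],
 [Ins.leaf (nat_lit 1) [nat_lit 34, nat_lit 33, nat_lit 34, nat_lit 24, nat_lit 16, nat_lit 24, nat_lit 18, nat_lit 13, nat_lit 25, nat_lit 5, nat_lit 12, nat_lit 14], Ins.leaf (nat_lit 2) [], Ins.leaf (nat_lit 0) [nat_lit 0, nat_lit 20, nat_lit 33, nat_lit 19, nat_lit 28, nat_lit 14, nat_lit 19, nat_lit 28, nat_lit 1, nat_lit 10, nat_lit 33, nat_lit 30]],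
 [Ins.leaf (nat_lit 3) [], Ins.leaf (nat_lit 4) [], Ins.leaf (nat_lit 5) []],
 [Ins.leaf (nat_lit 6) [], Ins.leaf (nat_lit 6) [nat_lit 32, nat_lit 34, nat_lit 32, nat_lit 32, nat_lit 16, nat_lit 20, nat_lit 14, nat_lit 20, nat_lit 19, nat_lit 19], Ins.leaf (nat_lit 6) [nat_lit 19, nat_lit 30, nat_lit 21, nat_lit 29, nat_lit 18, nat_lit 14, nat_lit 18, nat_lit 22, nat_lit 33, nat_lit 15]],
 [Ins.leaf (nat_lit 7) [], Ins.leaf (nat_lit 7) [nat_lit 2, nat_lit 24, nat_lit 21, nat_lit 16, nat_lit 25, nat_lit 14, nat_lit 21, nat_lit 13, nat_lit 26, nat_lit 19, nat_lit 2], Ins.leaf (nat_lit 7) [nat_lit 25, nat_lit 32, nat_lit 34, nat_lit 18, nat_lit 20, nat_lit 15, nat_lit 25, nat_lit 13, nat_lit 24, nat_lit 1, nat_lit 20, nat_lit 4]],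
 [Ins.leaf (nat_lit 8) [], Ins.leaf (nat_lit 8) [nat_lit 2, nat_lit 24, nat_lit 21, nat_lit 16, nat_lit 25, nat_lit 14, nat_lit 21, nat_lit 13, nat_lit 26, nat_lit 19, nat_lit 2], Ins.leaf (nat_lit 8) [nat_lit 25, nat_lit 32, nat_lit 34, nat_lit 18, nat_lit 20, nat_lit 15, nat_lit 25, nat_lit 13, nat_lit 24, nat_lit 1, nat_lit 20, nat_lit 4]],
 [Ins.leaf (nat_lit 3) [nat_lit 33, nat_lit 33, nat_lit 29, nat_lit 20, nat_lit 19, nat_lit 30, nat_lit 15, nat_lit 20, nat_lit 2, nat_lit 6, nat_lit 20, nat_lit 10], Ins.leaf (nat_lit 3) [nat_lit 30, nat_lit 20, nat_lit 19, nat_lit 16, nat_lit 32, nat_lit 1, nat_lit 19, nat_lit 26, nat_lit 16, nat_lit 25], Ins.leaf (nat_lit 3) [nat_lit 33, nat_lit 33, nat_lit 30, nat_lit 26, nat_lit 24, nat_lit 14, nat_lit 16, nat_lit 5, nat_lit 27, nat_lit 4, nat_lit 33, nat_lit 24]],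
 [Ins.leaf (nat_lit 9) [], Ins.leaf (nat_lit 9) [nat_lit 14, nat_lit 30, nat_lit 33, nat_lit 20, nat_lit 16, nat_lit 14, nat_lit 30, nat_lit 24, nat_lit 13, nat_lit 26, nat_lit 8, nat_lit 24], Ins.leaf (nat_lit 9) [nat_lit 10, nat_lit 29, nat_lit 19, nat_lit 21, nat_lit 14, nat_lit 1, nat_lit 8, nat_lit 13, nat_lit 15, nat_lit 5, nat_lit 24]],
 [Ins.leaf (nat_lit 10) [], Ins.leaf (nat_lit 10) [nat_lit 10, nat_lit 20, nat_lit 27, nat_lit 16, nat_lit 18, nat_lit 15, nat_lit 21, nat_lit 15, nat_lit 0, nat_lit 16, nat_lit 24, nat_lit 20], Ins.leaf (nat_lit 10) [nat_lit 2, nat_lit 27, nat_lit 24, nat_lit 20, nat_lit 18, nat_lit 14, nat_lit 27, nat_lit 5, nat_lit 8, nat_lit 27, nat_lit 29, nat_lit 20]],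
 [Ins.leaf (nat_lit 9) [nat_lit 8, nat_lit 26, nat_lit 20, nat_lit 19, nat_lit 27, nat_lit 15, nat_lit 0, nat_lit 34, nat_lit 24, nat_lit 30, nat_lit 32], Ins.leaf (nat_lit 11) [], Ins.leaf (nat_lit 12) []],
 [Ins.leaf (nat_lit 10) [nat_lit 0, nat_lit 33, nat_lit 30, nat_lit 21, nat_lit 14, nat_lit 21, nat_lit 24, nat_lit 0, nat_lit 15, nat_lit 12, nat_lit 18], Ins.leaf (nat_lit 10) [nat_lit 24, nat_lit 18, nat_lit 14, nat_lit 29, nat_lit 1, nat_lit 18, nat_lit 4, nat_lit 26, nat_lit 6], Ins.leaf (nat_lit 10) [nat_lit 2, nat_lit 27, nat_lit 24, nat_lit 16, nat_lit 22, nat_lit 21, nat_lit 15, nat_lit 1, nat_lit 18, nat_lit 25, nat_lit 30, nat_lit 2]],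
 [Ins.leaf (nat_lit 10) [nat_lit 12, nat_lit 20, nat_lit 30, nat_lit 18, nat_lit 20, nat_lit 24, nat_lit 15, nat_lit 24, nat_lit 10, nat_lit 21], Ins.leaf (nat_lit 10) [nat_lit 15, nat_lit 33, nat_lit 18, nat_lit 29, nat_lit 14, nat_lit 16, nat_lit 30, nat_lit 5, nat_lit 28, nat_lit 12, nat_lit 33, nat_lit 30], Ins.leaf (nat_lit 10) [nat_lit 15, nat_lit 24, nat_lit 24, nat_lit 16, nat_lit 21, nat_lit 34, nat_lit 0, nat_lit 34, nat_lit 18, nat_lit 18]],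
 [Ins.leaf (nat_lit 2) [nat_lit 1, nat_lit 32, nat_lit 32, nat_lit 28, nat_lit 21, nat_lit 24, nat_lit 14, nat_lit 27, nat_lit 34, nat_lit 4], Ins.leaf (nat_lit 2) [nat_lit 32, nat_lit 27, nat_lit 30, nat_lit 20, nat_lit 19, nat_lit 27, nat_lit 15, nat_lit 21, nat_lit 5, nat_lit 30, nat_lit 32, nat_lit 12], Ins.leaf (nat_lit 2) [nat_lit 32, nat_lit 34, nat_lit 20, nat_lit 33, nat_lit 16, nat_lit 19, nat_lit 34, nat_lit 15, nat_lit 2, nat_lit 1, nat_lit 27, nat_lit 21]],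
 [Ins.leaf (nat_lit 10) [nat_lit 1, nat_lit 19, nat_lit 21, nat_lit 14, nat_lit 30, nat_lit 0, nat_lit 24, nat_lit 30, nat_lit 18, nat_lit 10], Ins.leaf (nat_lit 10) [nat_lit 12, nat_lit 32, nat_lit 34, nat_lit 33, nat_lit 30, nat_lit 34, nat_lit 24, nat_lit 13, nat_lit 18, nat_lit 34, nat_lit 28], Ins.leaf (nat_lit 10) [nat_lit 34, nat_lit 32, nat_lit 30, nat_lit 32, nat_lit 25, nat_lit 19, nat_lit 30, nat_lit 5, nat_lit 25, nat_lit 12, nat_lit 19, nat_lit 20]],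
 [Ins.leaf (nat_lit 10) [nat_lit 28, nat_lit 27, nat_lit 25, nat_lit 18, nat_lit 20, nat_lit 14, nat_lit 25, nat_lit 15, nat_lit 5, nat_lit 33, nat_lit 0, nat_lit 14, nat_lit 18], Ins.leaf (nat_lit 10) [nat_lit 20, nat_lit 30, nat_lit 22, nat_lit 14, nat_lit 13, nat_lit 20, nat_lit 22, nat_lit 18], Ins.leaf (nat_lit 10) [nat_lit 34, nat_lit 29, nat_lit 22, nat_lit 16, nat_lit 14, nat_lit 19, nat_lit 21, nat_lit 0, nat_lit 19, nat_lit 16, nat_lit 1, nat_lit 25]],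
 [Ins.ord (nat_lit 11) (nat_lit 2) [], Ins.ord (nat_lit 11) (nat_lit 2) [], Ins.ord (nat_lit 11) (nat_lit 2) []],
 [Ins.ord (nat_lit 11) (nat_lit 1) [], Ins.ord (nat_lit 11) (nat_lit 1) [], Ins.ord (nat_lit 11) (nat_lit 1) []],
 [Ins.leaf (nat_lit 11) [nat_lit 0, nat_lit 28, nat_lit 24, nat_lit 33, nat_lit 14, nat_lit 22, nat_lit 16, nat_lit 13, nat_lit 19, nat_lit 14, nat_lit 1, nat_lit 30], Ins.leaf (nat_lit 11) [nat_lit 1, nat_lit 29, nat_lit 25, nat_lit 15, nat_lit 26, nat_lit 5, nat_lit 26, nat_lit 0, nat_lit 24], Ins.leaf (nat_lit 11) [nat_lit 34, nat_lit 33, nat_lit 30, nat_lit 20, nat_lit 25, nat_lit 14, nat_lit 33, nat_lit 1, nat_lit 12, nat_lit 14, nat_lit 29, nat_lit 2]],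
 [Ins.ord (nat_lit 11) (nat_lit 1) [], Ins.ord (nat_lit 11) (nat_lit 1) [], Ins.ord (nat_lit 11) (nat_lit 1) []],
 [Ins.leaf (nat_lit 5) [nat_lit 21, nat_lit 27, nat_lit 20, nat_lit 33, nat_lit 19, nat_lit 14, nat_lit 16, nat_lit 30, nat_lit 1, nat_lit 32, nat_lit 8, nat_lit 29], Ins.leaf (nat_lit 5) [nat_lit 0, nat_lit 28, nat_lit 26, nat_lit 29, nat_lit 16, nat_lit 18, nat_lit 15, nat_lit 21, nat_lit 6, nat_lit 14, nat_lit 1, nat_lit 20], Ins.leaf (nat_lit 5) [nat_lit 30, nat_lit 26, nat_lit 24, nat_lit 20, nat_lit 19, nat_lit 21, nat_lit 14, nat_lit 14, nat_lit 28, nat_lit 0, nat_lit 16, nat_lit 22, nat_lit 4]],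
 [Ins.leaf (nat_lit 12) [nat_lit 32, nat_lit 34, nat_lit 26, nat_lit 16, nat_lit 21, nat_lit 30, nat_lit 14, nat_lit 22, nat_lit 8, nat_lit 20, nat_lit 0, nat_lit 6], Ins.leaf (nat_lit 12) [nat_lit 2, nat_lit 28, nat_lit 21, nat_lit 19, nat_lit 14, nat_lit 33, nat_lit 8, nat_lit 22, nat_lit 10, nat_lit 20, nat_lit 30], Ins.leaf (nat_lit 12) [nat_lit 27, nat_lit 28, nat_lit 19, nat_lit 20, nat_lit 14, nat_lit 19, nat_lit 6, nat_lit 1, nat_lit 10, nat_lit 8, nat_lit 14]],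
 [Ins.leaf (nat_lit 10) [nat_lit 14, nat_lit 34, nat_lit 33, nat_lit 14, nat_lit 22, nat_lit 0, nat_lit 16, nat_lit 18, nat_lit 13, nat_lit 6], Ins.leaf (nat_lit 10) [nat_lit 0, nat_lit 20, nat_lit 32, nat_lit 18, nat_lit 14, nat_lit 14, nat_lit 24, nat_lit 1, nat_lit 32, nat_lit 1, nat_lit 24], Ins.leaf (nat_lit 10) [nat_lit 29, nat_lit 26, nat_lit 29, nat_lit 24, nat_lit 14, nat_lit 18, nat_lit 16, nat_lit 13, nat_lit 32, nat_lit 21, nat_lit 13]],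
 [Ins.leaf (nat_lit 4) [nat_lit 32, nat_lit 29, nat_lit 27, nat_lit 21, nat_lit 25, nat_lit 19, nat_lit 16, nat_lit 15, nat_lit 16, nat_lit 2, nat_lit 0, nat_lit 29], Ins.leaf (nat_lit 4) [nat_lit 22, nat_lit 33, nat_lit 26, nat_lit 14, nat_lit 18, nat_lit 15, nat_lit 0, nat_lit 21, nat_lit 15, nat_lit 20, nat_lit 16], Ins.leaf (nat_lit 4) [nat_lit 34, nat_lit 28, nat_lit 27, nat_lit 18, nat_lit 14, nat_lit 33, nat_lit 15, nat_lit 5, nat_lit 33, nat_lit 30, nat_lit 16]],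
 [Ins.ref (nat_lit 0), Ins.ref (nat_lit 1), Ins.jmp (nat_lit 1) [nat_lit 27] [nat_lit 22]],
 [Ins.jmp (nat_lit 1) [nat_lit 5, nat_lit 30] [], Ins.jmp (nat_lit 1) [nat_lit 30] [], Ins.jmp (nat_lit 1) [nat_lit 4, nat_lit 30] []],
 [Ins.jmp (nat_lit 1) [nat_lit 1, nat_lit 32] [nat_lit 22], Ins.jmp (nat_lit 1) [nat_lit 0, nat_lit 32] [nat_lit 22], Ins.jmp (nat_lit 1) [nat_lit 32] [nat_lit 22]],
 [Ins.ref (nat_lit 2), Ins.jmp (nat_lit 2) [nat_lit 2] [], Ins.jmp (nat_lit 2) [nat_lit 3] []],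
 [Ins.ref (nat_lit 3), Ins.jmp (nat_lit 3) [nat_lit 19] [], Ins.jmp (nat_lit 3) [nat_lit 18] []],
 [Ins.ref (nat_lit 4), Ins.jmp (nat_lit 4) [nat_lit 19] [], Ins.jmp (nat_lit 4) [nat_lit 18] []],
 [Ins.ord (nat_lit 10) (nat_lit 2) [], Ins.ord (nat_lit 10) (nat_lit 2) [], Ins.ord (nat_lit 10) (nat_lit 2) []],
 [Ins.ref (nat_lit 15), Ins.jmp (nat_lit 15) [nat_lit 16] [], Ins.jmp (nat_lit 15) [nat_lit 17] []],
 [Ins.jmp (nat_lit 1) [nat_lit 3, nat_lit 35, nat_lit 33] [], Ins.jmp (nat_lit 1) [nat_lit 35, nat_lit 33] [], Ins.jmp (nat_lit 1) [nat_lit 2, nat_lit 35, nat_lit 33] []],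
 [Ins.ref (nat_lit 14), Ins.jmp (nat_lit 14) [nat_lit 2] [], Ins.jmp (nat_lit 14) [nat_lit 3] []],
 [Ins.ref (nat_lit 13), Ins.jmp (nat_lit 13) [nat_lit 19] [nat_lit 23], Ins.jmp (nat_lit 13) [nat_lit 18] [nat_lit 22]],
 [Ins.ord (nat_lit 10) (nat_lit 1) [], Ins.ord (nat_lit 10) (nat_lit 1) [], Ins.ord (nat_lit 10) (nat_lit 1) []],
 [Ins.ref (nat_lit 12), Ins.jmp (nat_lit 12) [nat_lit 19] [nat_lit 22], Ins.jmp (nat_lit 12) [nat_lit 18] [nat_lit 23]],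
 [Ins.ref (nat_lit 11), Ins.jmp (nat_lit 11) [nat_lit 18] [], Ins.jmp (nat_lit 11) [nat_lit 19] []],
 [Ins.ref (nat_lit 5), Ins.ref (nat_lit 24), Ins.ref (nat_lit 23)],
 [Ins.ord (nat_lit 10) (nat_lit 2) [nat_lit 22], Ins.ord (nat_lit 10) (nat_lit 2) [nat_lit 22], Ins.ord (nat_lit 10) (nat_lit 2) [nat_lit 22]],
 [Ins.jmp (nat_lit 13) [nat_lit 11, nat_lit 34, nat_lit 6, nat_lit 3, nat_lit 35] [nat_lit 22], Ins.jmp (nat_lit 13) [nat_lit 19, nat_lit 11, nat_lit 34, nat_lit 6, nat_lit 3, nat_lit 35] [nat_lit 22], Ins.jmp (nat_lit 13) [nat_lit 18, nat_lit 11, nat_lit 34, nat_lit 6, nat_lit 3, nat_lit 35] [nat_lit 22]],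
 [Ins.jmp (nat_lit 5) [nat_lit 1, nat_lit 34, nat_lit 0, nat_lit 33] [], Ins.ref (nat_lit 22), Ins.jmp (nat_lit 23) [nat_lit 0, nat_lit 27, nat_lit 4, nat_lit 35] [nat_lit 23]],
 [Ins.ref (nat_lit 10), Ins.jmp (nat_lit 10) [nat_lit 19] [], Ins.jmp (nat_lit 10) [nat_lit 18] []],
 [Ins.jmp (nat_lit 13) [nat_lit 24, nat_lit 14, nat_lit 6, nat_lit 35, nat_lit 3] [], Ins.jmp (nat_lit 13) [nat_lit 19, nat_lit 24, nat_lit 14, nat_lit 6, nat_lit 35, nat_lit 3] [], Ins.jmp (nat_lit 13) [nat_lit 18, nat_lit 24, nat_lit 14, nat_lit 6, nat_lit 35, nat_lit 3] []],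
 [Ins.ref (nat_lit 9), Ins.jmp (nat_lit 9) [nat_lit 5] [], Ins.jmp (nat_lit 9) [nat_lit 4] []],
 [Ins.ref (nat_lit 8), Ins.jmp (nat_lit 8) [nat_lit 4] [], Ins.jmp (nat_lit 8) [nat_lit 5] []],
 [Ins.ref (nat_lit 7), Ins.jmp (nat_lit 7) [nat_lit 5] [], Ins.jmp (nat_lit 7) [nat_lit 4] []],
 [Ins.ord (nat_lit 10) (nat_lit 2) [nat_lit 23], Ins.ord (nat_lit 10) (nat_lit 2) [nat_lit 23], Ins.ord (nat_lit 10) (nat_lit 2) [nat_lit 23]],
 [Ins.ref (nat_lit 6), Ins.jmp (nat_lit 6) [nat_lit 4] [], Ins.jmp (nat_lit 6) [nat_lit 5] []],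
 [Ins.ord (nat_lit 10) (nat_lit 2) [nat_lit 22], Ins.ord (nat_lit 10) (nat_lit 2) [nat_lit 22], Ins.ord (nat_lit 10) (nat_lit 2) [nat_lit 22]],
 [Ins.ref (nat_lit 21), Ins.jmp (nat_lit 21) [nat_lit 4] [], Ins.jmp (nat_lit 21) [nat_lit 5] []],
 [Ins.ord (nat_lit 10) (nat_lit 1) [nat_lit 22], Ins.ord (nat_lit 10) (nat_lit 1) [nat_lit 22], Ins.ord (nat_lit 10) (nat_lit 1) [nat_lit 22]],
 [Ins.ref (nat_lit 20), Ins.jmp (nat_lit 20) [nat_lit 19] [nat_lit 22], Ins.jmp (nat_lit 20) [nat_lit 18] [nat_lit 23]],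
 [Ins.ord (nat_lit 10) (nat_lit 2) [nat_lit 23], Ins.ord (nat_lit 10) (nat_lit 2) [nat_lit 23], Ins.ord (nat_lit 10) (nat_lit 2) [nat_lit 23]],
 [Ins.ord (nat_lit 10) (nat_lit 2) [nat_lit 23], Ins.ord (nat_lit 10) (nat_lit 2) [nat_lit 23], Ins.ord (nat_lit 10) (nat_lit 2) [nat_lit 23]],
 [Ins.jmp (nat_lit 23) [nat_lit 33, nat_lit 30, nat_lit 1, nat_lit 34] [], Ins.jmp (nat_lit 8) [nat_lit 0, nat_lit 31, nat_lit 35] [], Ins.jmp (nat_lit 5) [nat_lit 2, nat_lit 31, nat_lit 5, nat_lit 0, nat_lit 35, nat_lit 2] [nat_lit 23]],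
 [Ins.jmp (nat_lit 9) [nat_lit 2, nat_lit 35, nat_lit 5, nat_lit 31] [nat_lit 23], Ins.jmp (nat_lit 5) [nat_lit 32, nat_lit 4, nat_lit 2, nat_lit 31] [nat_lit 23], Ins.jmp (nat_lit 23) [nat_lit 31, nat_lit 4, nat_lit 2, nat_lit 32] [nat_lit 23]],
 [Ins.jmp (nat_lit 23) [nat_lit 5, nat_lit 30, nat_lit 5, nat_lit 1, nat_lit 34] [nat_lit 22], Ins.jmp (nat_lit 23) [nat_lit 4, nat_lit 3, nat_lit 1, nat_lit 30, nat_lit 5, nat_lit 1, nat_lit 34] [nat_lit 22], Ins.jmp (nat_lit 23) [nat_lit 21, nat_lit 17, nat_lit 2, nat_lit 0, nat_lit 30, nat_lit 5, nat_lit 1, nat_lit 34] [nat_lit 22]],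
 [Ins.ord (nat_lit 10) (nat_lit 1) [nat_lit 22], Ins.ord (nat_lit 10) (nat_lit 1) [nat_lit 22], Ins.ord (nat_lit 10) (nat_lit 1) [nat_lit 22]],
 [Ins.jmp (nat_lit 23) [nat_lit 31, nat_lit 32, nat_lit 0] [], Ins.jmp (nat_lit 23) [nat_lit 3, nat_lit 1, nat_lit 31, nat_lit 32, nat_lit 0] [], Ins.jmp (nat_lit 23) [nat_lit 21, nat_lit 17, nat_lit 2, nat_lit 0, nat_lit 31, nat_lit 32, nat_lit 0] []],
 [Ins.ref (nat_lit 19), Ins.jmp (nat_lit 19) [nat_lit 5] [], Ins.jmp (nat_lit 19) [nat_lit 4] []],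
 [Ins.jmp (nat_lit 22) [nat_lit 30, nat_lit 4, nat_lit 35] [nat_lit 22], Ins.jmp (nat_lit 22) [nat_lit 5, nat_lit 30, nat_lit 4, nat_lit 35] [nat_lit 22], Ins.jmp (nat_lit 22) [nat_lit 4, nat_lit 30, nat_lit 4, nat_lit 35] [nat_lit 22]],
 [Ins.jmp (nat_lit 24) [nat_lit 31, nat_lit 5, nat_lit 35] [nat_lit 23], Ins.jmp (nat_lit 24) [nat_lit 4, nat_lit 31, nat_lit 5, nat_lit 35] [nat_lit 23], Ins.jmp (nat_lit 24) [nat_lit 5, nat_lit 31, nat_lit 5, nat_lit 35] [nat_lit 23]],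
 [Ins.ref (nat_lit 18), Ins.jmp (nat_lit 18) [nat_lit 19] [nat_lit 23], Ins.jmp (nat_lit 18) [nat_lit 18] [nat_lit 22]],
 [Ins.ref (nat_lit 17), Ins.jmp (nat_lit 17) [nat_lit 19] [nat_lit 23], Ins.jmp (nat_lit 17) [nat_lit 18] [nat_lit 22]],
 [Ins.ref (nat_lit 16), Ins.jmp (nat_lit 16) [nat_lit 18] [], Ins.jmp (nat_lit 16) [nat_lit 19] []],
 [Ins.jmp (nat_lit 6) [nat_lit 3, nat_lit 31, nat_lit 35] [], Ins.jmp (nat_lit 9) [nat_lit 2, nat_lit 35, nat_lit 33] [nat_lit 22], Ins.jmp (nat_lit 24) [nat_lit 30, nat_lit 2, nat_lit 33] [nat_lit 22]],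
 [Ins.jmp (nat_lit 22) [nat_lit 31, nat_lit 5, nat_lit 33] [nat_lit 23], Ins.jmp (nat_lit 7) [nat_lit 30, nat_lit 5, nat_lit 35] [nat_lit 23], Ins.jmp (nat_lit 8) [nat_lit 2, nat_lit 35, nat_lit 33] [nat_lit 23]],
 [Ins.ref (nat_lit 25), Ins.ref (nat_lit 26), Ins.jmp (nat_lit 26) [nat_lit 25] []],
 [Ins.ref (nat_lit 27), Ins.ref (nat_lit 49), Ins.ref (nat_lit 47)],
 [Ins.ref (nat_lit 28), Ins.ref (nat_lit 46), Ins.ref (nat_lit 45)],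
 [Ins.ref (nat_lit 29), Ins.ref (nat_lit 44), Ins.jmp (nat_lit 44) [nat_lit 6, nat_lit 11, nat_lit 26] [nat_lit 22, nat_lit 20]],
 [Ins.ref (nat_lit 30), Ins.ref (nat_lit 43), Ins.jmp (nat_lit 43) [nat_lit 6, nat_lit 11, nat_lit 26] [nat_lit 22]],
 [Ins.ref (nat_lit 31), Ins.jmp (nat_lit 31) [nat_lit 15] [nat_lit 22, nat_lit 20], Ins.jmp (nat_lit 31) [nat_lit 14] [nat_lit 23, nat_lit 21]],
 [Ins.ref (nat_lit 42), Ins.jmp (nat_lit 42) [nat_lit 4, nat_lit 1] [nat_lit 22], Ins.jmp (nat_lit 42) [nat_lit 5, nat_lit 0] [nat_lit 22, nat_lit 21]],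
 [Ins.ref (nat_lit 41), Ins.jmp (nat_lit 41) [nat_lit 0] [nat_lit 22, nat_lit 20], Ins.jmp (nat_lit 41) [nat_lit 1] [nat_lit 21]],
 [Ins.ref (nat_lit 48), Ins.jmp (nat_lit 48) [nat_lit 15] [nat_lit 22, nat_lit 20], Ins.jmp (nat_lit 48) [nat_lit 14] [nat_lit 23, nat_lit 21]],
 [Ins.ref (nat_lit 40), Ins.jmp (nat_lit 40) [nat_lit 15] [nat_lit 22, nat_lit 20], Ins.jmp (nat_lit 40) [nat_lit 14] [nat_lit 23, nat_lit 21]],
 [Ins.ref (nat_lit 39), Ins.jmp (nat_lit 39) [nat_lit 4, nat_lit 0] [nat_lit 23, nat_lit 20], Ins.jmp (nat_lit 39) [nat_lit 5, nat_lit 1] [nat_lit 23, nat_lit 20]],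
 [Ins.ref (nat_lit 38), Ins.ref (nat_lit 66), Ins.jmp (nat_lit 66) [nat_lit 6, nat_lit 11, nat_lit 27] [nat_lit 20]],
 [Ins.ref (nat_lit 37), Ins.jmp (nat_lit 37) [nat_lit 15, nat_lit 2] [nat_lit 22, nat_lit 20], Ins.jmp (nat_lit 37) [nat_lit 14, nat_lit 3] [nat_lit 23, nat_lit 21]],
 [Ins.ref (nat_lit 36), Ins.jmp (nat_lit 36) [nat_lit 15, nat_lit 3] [nat_lit 22, nat_lit 20], Ins.jmp (nat_lit 36) [nat_lit 14, nat_lit 2] [nat_lit 23, nat_lit 21]],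
 [Ins.ref (nat_lit 32), Ins.jmp (nat_lit 32) [nat_lit 15] [nat_lit 23, nat_lit 20], Ins.jmp (nat_lit 32) [nat_lit 14] [nat_lit 22, nat_lit 21]],
 [Ins.ref (nat_lit 35), Ins.ref (nat_lit 65), Ins.ref (nat_lit 64)],
 [Ins.ref (nat_lit 34), Ins.ref (nat_lit 63), Ins.ref (nat_lit 62)],
 [Ins.ref (nat_lit 33), Ins.ref (nat_lit 51), Ins.ref (nat_lit 61)],
 [Ins.ref (nat_lit 60), Ins.ref (nat_lit 67), Ins.jmp (nat_lit 60) [nat_lit 25] [nat_lit 23]],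
 [Ins.ref (nat_lit 59), Ins.jmp (nat_lit 59) [nat_lit 9, nat_lit 2] [nat_lit 22, nat_lit 21], Ins.jmp (nat_lit 59) [nat_lit 8, nat_lit 3] [nat_lit 21]],
 [Ins.ref (nat_lit 50), Ins.jmp (nat_lit 50) [nat_lit 11, nat_lit 5] [nat_lit 22], Ins.jmp (nat_lit 50) [nat_lit 15, nat_lit 1] [nat_lit 20]],
 [Ins.ref (nat_lit 52), Ins.jmp (nat_lit 52) [nat_lit 1] [nat_lit 20], Ins.jmp (nat_lit 52) [nat_lit 0] [nat_lit 23, nat_lit 21]],
 [Ins.ref (nat_lit 53), Ins.jmp (nat_lit 53) [nat_lit 1] [nat_lit 20], Ins.jmp (nat_lit 53) [nat_lit 0] [nat_lit 23, nat_lit 21]],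
 [Ins.ref (nat_lit 54), Ins.jmp (nat_lit 54) [nat_lit 15, nat_lit 4] [nat_lit 22, nat_lit 21], Ins.jmp (nat_lit 54) [nat_lit 14, nat_lit 5] [nat_lit 23, nat_lit 20]],
 [Ins.ref (nat_lit 55), Ins.jmp (nat_lit 55) [nat_lit 15, nat_lit 5] [nat_lit 22], Ins.jmp (nat_lit 55) [nat_lit 14, nat_lit 4] [nat_lit 23]],
 [Ins.ref (nat_lit 56), Ins.jmp (nat_lit 56) [nat_lit 3, nat_lit 0] [nat_lit 22], Ins.jmp (nat_lit 56) [nat_lit 2, nat_lit 1] [nat_lit 23, nat_lit 20]],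
 [Ins.ref (nat_lit 57), Ins.jmp (nat_lit 57) [nat_lit 4, nat_lit 2, nat_lit 1] [nat_lit 22], Ins.jmp (nat_lit 57) [nat_lit 16, nat_lit 5, nat_lit 3, nat_lit 0] [nat_lit 22, nat_lit 20]],
 [Ins.ref (nat_lit 58), Ins.jmp (nat_lit 58) [nat_lit 5, nat_lit 25] [nat_lit 21], Ins.ref (nat_lit 68)],
 [Ins.ref (nat_lit 69), Ins.ref (nat_lit 70), Ins.jmp (nat_lit 70) [nat_lit 25] [nat_lit 23, nat_lit 20]],
 [Ins.jmp (nat_lit 70) [nat_lit 31] [nat_lit 23, nat_lit 21, nat_lit 18], Ins.jmp (nat_lit 70) [nat_lit 5, nat_lit 31] [nat_lit 23, nat_lit 19], Ins.jmp (nat_lit 70) [nat_lit 4, nat_lit 31] [nat_lit 23, nat_lit 20]],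
 [Ins.ref (nat_lit 71), Ins.ref (nat_lit 86), Ins.ref (nat_lit 85)],
 [Ins.ref (nat_lit 72), Ins.jmp (nat_lit 72) [nat_lit 14] [nat_lit 20], Ins.jmp (nat_lit 72) [nat_lit 15] [nat_lit 21]],
 [Ins.ref (nat_lit 73), Ins.jmp (nat_lit 73) [nat_lit 14] [nat_lit 20], Ins.jmp (nat_lit 73) [nat_lit 15] [nat_lit 21]],
 [Ins.ref (nat_lit 74), Ins.jmp (nat_lit 74) [nat_lit 2] [nat_lit 21], Ins.jmp (nat_lit 74) [nat_lit 3] [nat_lit 20]],
 [Ins.ref (nat_lit 84), Ins.jmp (nat_lit 84) [nat_lit 14] [nat_lit 23, nat_lit 20], Ins.jmp (nat_lit 84) [nat_lit 15] [nat_lit 22, nat_lit 21]],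
 [Ins.ref (nat_lit 83), Ins.jmp (nat_lit 83) [nat_lit 6, nat_lit 8, nat_lit 27] [nat_lit 20, nat_lit 19], Ins.jmp (nat_lit 85) [nat_lit 28, nat_lit 5, nat_lit 30] [nat_lit 20]],
 [Ins.ref (nat_lit 82), Ins.jmp (nat_lit 82) [nat_lit 15] [nat_lit 22, nat_lit 19], Ins.jmp (nat_lit 82) [nat_lit 14] [nat_lit 23, nat_lit 18]],
 [Ins.ref (nat_lit 81), Ins.jmp (nat_lit 81) [nat_lit 14] [nat_lit 23, nat_lit 20, nat_lit 18], Ins.jmp (nat_lit 81) [nat_lit 15] [nat_lit 22, nat_lit 21, nat_lit 19]],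
 [Ins.ref (nat_lit 80), Ins.jmp (nat_lit 80) [nat_lit 15] [nat_lit 20], Ins.jmp (nat_lit 80) [nat_lit 14] [nat_lit 21]],
 [Ins.ord (nat_lit 8) (nat_lit 1) [nat_lit 21], Ins.ord (nat_lit 8) (nat_lit 1) [nat_lit 21], Ins.ord (nat_lit 8) (nat_lit 1) [nat_lit 21]],
 [Ins.ref (nat_lit 79), Ins.jmp (nat_lit 79) [nat_lit 5, nat_lit 2] [nat_lit 23, nat_lit 20, nat_lit 19], Ins.jmp (nat_lit 79) [nat_lit 4, nat_lit 3] [nat_lit 22, nat_lit 21, nat_lit 18]],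
 [Ins.ref (nat_lit 75), Ins.jmp (nat_lit 75) [nat_lit 5, nat_lit 2] [nat_lit 22, nat_lit 21, nat_lit 18], Ins.jmp (nat_lit 75) [nat_lit 4, nat_lit 3] [nat_lit 23, nat_lit 20, nat_lit 19]],
 [Ins.ref (nat_lit 78), Ins.jmp (nat_lit 78) [nat_lit 4] [nat_lit 20], Ins.jmp (nat_lit 78) [nat_lit 5] [nat_lit 21]],
 [Ins.ref (nat_lit 77), Ins.jmp (nat_lit 77) [nat_lit 5] [nat_lit 20], Ins.jmp (nat_lit 77) [nat_lit 4] [nat_lit 21]],
 [Ins.ref (nat_lit 76), Ins.jmp (nat_lit 76) [nat_lit 14] [nat_lit 20], Ins.jmp (nat_lit 76) [nat_lit 15] [nat_lit 21]],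
 [Ins.jmp (nat_lit 83) [nat_lit 24, nat_lit 31, nat_lit 28] [nat_lit 20, nat_lit 18], Ins.jmp (nat_lit 83) [nat_lit 5, nat_lit 24, nat_lit 31, nat_lit 28] [nat_lit 22, nat_lit 19], Ins.jmp (nat_lit 83) [nat_lit 4, nat_lit 24, nat_lit 31, nat_lit 28] [nat_lit 23, nat_lit 21]],
 [Ins.ref (nat_lit 87), Ins.jmp (nat_lit 87) [nat_lit 5, nat_lit 2] [nat_lit 23, nat_lit 20, nat_lit 19], Ins.jmp (nat_lit 87) [nat_lit 4, nat_lit 3] [nat_lit 22, nat_lit 21, nat_lit 18]],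
 [Ins.ord (nat_lit 8) (nat_lit 2) [nat_lit 20], Ins.ord (nat_lit 8) (nat_lit 2) [nat_lit 20], Ins.ord (nat_lit 8) (nat_lit 2) [nat_lit 20]],
 [Ins.ref (nat_lit 88), Ins.jmp (nat_lit 88) [nat_lit 15] [nat_lit 23, nat_lit 19], Ins.jmp (nat_lit 88) [nat_lit 14] [nat_lit 22, nat_lit 18]],
 [Ins.ref (nat_lit 89), Ins.jmp (nat_lit 89) [nat_lit 14] [nat_lit 22, nat_lit 20, nat_lit 18], Ins.jmp (nat_lit 89) [nat_lit 15] [nat_lit 23, nat_lit 21, nat_lit 19]],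
 [Ins.jmp (nat_lit 83) [nat_lit 6, nat_lit 5, nat_lit 31] [nat_lit 23, nat_lit 21], Ins.jmp (nat_lit 83) [nat_lit 5, nat_lit 6, nat_lit 5, nat_lit 31] [nat_lit 18], Ins.jmp (nat_lit 83) [nat_lit 4, nat_lit 6, nat_lit 5, nat_lit 31] [nat_lit 22, nat_lit 20, nat_lit 19]],
 [Ins.ref (nat_lit 90), Ins.jmp (nat_lit 90) [nat_lit 15] [nat_lit 22, nat_lit 19], Ins.jmp (nat_lit 90) [nat_lit 14] [nat_lit 23, nat_lit 18]],
 [Ins.ref (nat_lit 91), Ins.jmp (nat_lit 91) [nat_lit 14] [nat_lit 23, nat_lit 20, nat_lit 18], Ins.jmp (nat_lit 91) [nat_lit 15] [nat_lit 22, nat_lit 21, nat_lit 19]],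
 [Ins.ref (nat_lit 92), Ins.jmp (nat_lit 92) [nat_lit 15] [nat_lit 22, nat_lit 19], Ins.jmp (nat_lit 92) [nat_lit 14] [nat_lit 23, nat_lit 18]],
 [Ins.ref (nat_lit 93), Ins.jmp (nat_lit 93) [nat_lit 14] [nat_lit 23, nat_lit 20, nat_lit 18], Ins.jmp (nat_lit 93) [nat_lit 15] [nat_lit 22, nat_lit 21, nat_lit 19]],
 [Ins.ref (nat_lit 94), Ins.jmp (nat_lit 94) [nat_lit 5, nat_lit 2] [nat_lit 22, nat_lit 21, nat_lit 18], Ins.jmp (nat_lit 94) [nat_lit 4, nat_lit 3] [nat_lit 23, nat_lit 20, nat_lit 19]],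
 [Ins.ref (nat_lit 95), Ins.jmp (nat_lit 95) [nat_lit 5, nat_lit 2] [nat_lit 23, nat_lit 20, nat_lit 19], Ins.jmp (nat_lit 95) [nat_lit 4, nat_lit 3] [nat_lit 22, nat_lit 21, nat_lit 18]],
 [Ins.ref (nat_lit 96), Ins.jmp (nat_lit 96) [nat_lit 5, nat_lit 2] [nat_lit 22, nat_lit 21, nat_lit 18], Ins.jmp (nat_lit 96) [nat_lit 4, nat_lit 3] [nat_lit 23, nat_lit 20, nat_lit 19]],
 [Ins.jmp (nat_lit 86) [nat_lit 28, nat_lit 5, nat_lit 30] [nat_lit 23, nat_lit 21], Ins.jmp (nat_lit 83) [nat_lit 29, nat_lit 4, nat_lit 30, nat_lit 5, nat_lit 28] [nat_lit 22], Ins.jmp (nat_lit 83) [nat_lit 28, nat_lit 5, nat_lit 31, nat_lit 4, nat_lit 28] [nat_lit 22]],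
 [Ins.jmp (nat_lit 83) [nat_lit 28, nat_lit 4, nat_lit 30, nat_lit 28] [nat_lit 20], Ins.jmp (nat_lit 71) [nat_lit 28, nat_lit 5, nat_lit 30] [nat_lit 22], Ins.jmp (nat_lit 83) [nat_lit 29, nat_lit 4, nat_lit 31, nat_lit 5, nat_lit 28] [nat_lit 23]],
 [Ins.ref (nat_lit 97), Ins.ref (nat_lit 98), Ins.jmp (nat_lit 98) [nat_lit 27] [nat_lit 23, nat_lit 21, nat_lit 16]],
 [Ins.ref (nat_lit 99), Ins.ref (nat_lit 114), Ins.jmp (nat_lit 114) [nat_lit 24, nat_lit 27] [nat_lit 17]],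
 [Ins.ref (nat_lit 100), Ins.ref (nat_lit 113), Ins.jmp (nat_lit 113) [nat_lit 6, nat_lit 11, nat_lit 27] [nat_lit 22, nat_lit 20]],
 [Ins.ref (nat_lit 101), Ins.jmp (nat_lit 113) [nat_lit 29, nat_lit 6, nat_lit 28] [nat_lit 20], Ins.jmp (nat_lit 113) [nat_lit 24, nat_lit 29, nat_lit 7] [nat_lit 22, nat_lit 21, nat_lit 18, nat_lit 16]],
 [Ins.ref (nat_lit 102), Ins.ref (nat_lit 112), Ins.ref (nat_lit 111)],
 [Ins.ref (nat_lit 110), Ins.ref (nat_lit 124), Ins.ref (nat_lit 126)],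
 [Ins.ref (nat_lit 109), Ins.ref (nat_lit 115), Ins.ref (nat_lit 125)],
 [Ins.ref (nat_lit 103), Ins.jmp (nat_lit 103) [nat_lit 6, nat_lit 2] [nat_lit 23, nat_lit 16], Ins.jmp (nat_lit 103) [nat_lit 7, nat_lit 3] [nat_lit 20, nat_lit 16]],
 [Ins.ref (nat_lit 108), Ins.jmp (nat_lit 108) [nat_lit 7, nat_lit 5] [nat_lit 16], Ins.jmp (nat_lit 108) [nat_lit 6, nat_lit 4] [nat_lit 22, nat_lit 17]],
 [Ins.ref (nat_lit 107), Ins.jmp (nat_lit 113) [nat_lit 25, nat_lit 7, nat_lit 29, nat_lit 6] [nat_lit 23, nat_lit 20, nat_lit 19], Ins.jmp (nat_lit 113) [nat_lit 6, nat_lit 10, nat_lit 28, nat_lit 6] [nat_lit 21, nat_lit 17]],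
 [Ins.jmp (nat_lit 98) [nat_lit 28] [nat_lit 22, nat_lit 20, nat_lit 18], Ins.jmp (nat_lit 98) [nat_lit 7, nat_lit 28] [nat_lit 23, nat_lit 20, nat_lit 18], Ins.jmp (nat_lit 98) [nat_lit 6, nat_lit 28] [nat_lit 18]],
 [Ins.ref (nat_lit 106), Ins.ref (nat_lit 123), Ins.jmp (nat_lit 111) [nat_lit 6, nat_lit 29, nat_lit 6] [nat_lit 23, nat_lit 21]],
 [Ins.ref (nat_lit 105), Ins.ref (nat_lit 122), Ins.jmp (nat_lit 111) [nat_lit 29, nat_lit 6, nat_lit 28] [nat_lit 23, nat_lit 21]],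
 [Ins.jmp (nat_lit 102) [nat_lit 6, nat_lit 29, nat_lit 6] [nat_lit 23], Ins.jmp (nat_lit 122) [nat_lit 29, nat_lit 6, nat_lit 28] [nat_lit 23, nat_lit 20], Ins.ref (nat_lit 121)],
 [Ins.jmp (nat_lit 102) [nat_lit 29, nat_lit 6, nat_lit 28] [nat_lit 23, nat_lit 20], Ins.jmp (nat_lit 123) [nat_lit 29, nat_lit 7, nat_lit 28] [nat_lit 22], Ins.ref (nat_lit 120)],
 [Ins.ref (nat_lit 104), Ins.ref (nat_lit 119), Ins.jmp (nat_lit 119) [nat_lit 6, nat_lit 8, nat_lit 27] [nat_lit 22, nat_lit 19, nat_lit 17]],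
 [Ins.jmp (nat_lit 114) [nat_lit 28] [nat_lit 18], Ins.jmp (nat_lit 114) [nat_lit 7, nat_lit 28] [nat_lit 22, nat_lit 21, nat_lit 18], Ins.jmp (nat_lit 114) [nat_lit 6, nat_lit 28] [nat_lit 23, nat_lit 18]],
 [Ins.ref (nat_lit 118), Ins.jmp (nat_lit 118) [nat_lit 27] [nat_lit 23, nat_lit 20, nat_lit 19], Ins.jmp (nat_lit 126) [nat_lit 6, nat_lit 11, nat_lit 29] [nat_lit 22, nat_lit 19, nat_lit 16]],
 [Ins.ref (nat_lit 117), Ins.jmp (nat_lit 117) [nat_lit 7, nat_lit 26] [nat_lit 19, nat_lit 16], Ins.jmp (nat_lit 125) [nat_lit 7, nat_lit 11, nat_lit 28] [nat_lit 18]],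
 [Ins.jmp (nat_lit 110) [nat_lit 6, nat_lit 11, nat_lit 29] [nat_lit 22, nat_lit 16], Ins.jmp (nat_lit 118) [nat_lit 7, nat_lit 11, nat_lit 29] [nat_lit 21, nat_lit 19, nat_lit 17], Ins.jmp (nat_lit 118) [nat_lit 25, nat_lit 6, nat_lit 28] [nat_lit 20, nat_lit 19]]]
theorem k48 : cvChk F bs0 ws (nat_lit 3) (nat_lit 12) nm reps cl i47 (nat_lit 0) (nat_lit 149) = true := by decide +kernel
theorem v49 (M : PM G Ω 1080 H15.StdO8p3.nets) (hN : Nat.card G = 4952179814400) : CvA (loc M.gen ws) (Rp M.gen reps) 3 12 cl 149 :=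
  cv_step (base0 M hN) (by norm_num) (hn M hN) (pc M hN).1 (cv_zero _ _ _ _ _) k48
noncomputable def i50 : List (List Ins) := [[Ins.jmp (nat_lit 106) [nat_lit 7, nat_lit 28, nat_lit 7] [nat_lit 20, nat_lit 18], Ins.jmp (nat_lit 122) [nat_lit 29, nat_lit 7, nat_lit 28] [nat_lit 22, nat_lit 20], Ins.jmp (nat_lit 120) [nat_lit 29, nat_lit 7, nat_lit 28] [nat_lit 22, nat_lit 21]],
 [Ins.ref (nat_lit 116), Ins.jmp (nat_lit 116) [nat_lit 6, nat_lit 3] [nat_lit 23, nat_lit 21, nat_lit 17], Ins.jmp (nat_lit 116) [nat_lit 6, nat_lit 5] [nat_lit 22, nat_lit 20, nat_lit 16]],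
 [Ins.jmp (nat_lit 105) [nat_lit 29, nat_lit 6, nat_lit 28] [nat_lit 23, nat_lit 21], Ins.jmp (nat_lit 112) [nat_lit 6, nat_lit 29, nat_lit 6] [nat_lit 23, nat_lit 20], Ins.jmp (nat_lit 120) [nat_lit 29, nat_lit 6, nat_lit 28] [nat_lit 23]],
 [Ins.jmp (nat_lit 105) [nat_lit 29, nat_lit 7, nat_lit 28] [nat_lit 22], Ins.jmp (nat_lit 123) [nat_lit 7, nat_lit 28, nat_lit 7] [nat_lit 23, nat_lit 21, nat_lit 19], Ins.jmp (nat_lit 121) [nat_lit 7, nat_lit 28, nat_lit 7] [nat_lit 23, nat_lit 20, nat_lit 19]],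
 [Ins.jmp (nat_lit 106) [nat_lit 29, nat_lit 7, nat_lit 28] [nat_lit 22, nat_lit 21], Ins.jmp (nat_lit 112) [nat_lit 29, nat_lit 6, nat_lit 28] [nat_lit 23], Ins.jmp (nat_lit 121) [nat_lit 29, nat_lit 7, nat_lit 28] [nat_lit 22, nat_lit 20]],
 [Ins.jmp (nat_lit 109) [nat_lit 7, nat_lit 11, nat_lit 28] [nat_lit 23, nat_lit 20, nat_lit 19], Ins.jmp (nat_lit 117) [nat_lit 6, nat_lit 10, nat_lit 28] [nat_lit 22, nat_lit 21, nat_lit 18, nat_lit 17], Ins.jmp (nat_lit 117) [nat_lit 24, nat_lit 6, nat_lit 29] [nat_lit 17]],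
 [Ins.jmp (nat_lit 117) [nat_lit 24, nat_lit 28, nat_lit 7] [nat_lit 22, nat_lit 20, nat_lit 17], Ins.jmp (nat_lit 115) [nat_lit 7, nat_lit 11, nat_lit 28] [nat_lit 22, nat_lit 21], Ins.jmp (nat_lit 117) [nat_lit 11, nat_lit 29, nat_lit 7] [nat_lit 23, nat_lit 20, nat_lit 18, nat_lit 16]],
 [Ins.jmp (nat_lit 118) [nat_lit 25, nat_lit 7, nat_lit 29, nat_lit 6] [nat_lit 23, nat_lit 17], Ins.jmp (nat_lit 124) [nat_lit 6, nat_lit 11, nat_lit 29] [nat_lit 22, nat_lit 18, nat_lit 16], Ins.jmp (nat_lit 118) [nat_lit 10, nat_lit 28, nat_lit 6] [nat_lit 23, nat_lit 20, nat_lit 16]],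
 [Ins.jmp (nat_lit 118) [nat_lit 29, nat_lit 11, nat_lit 6, nat_lit 28] [nat_lit 22, nat_lit 20, nat_lit 16], Ins.jmp (nat_lit 118) [nat_lit 7, nat_lit 29, nat_lit 11, nat_lit 6, nat_lit 28] [nat_lit 22, nat_lit 21, nat_lit 16], Ins.jmp (nat_lit 118) [nat_lit 6, nat_lit 29, nat_lit 11, nat_lit 6, nat_lit 28] [nat_lit 23, nat_lit 21, nat_lit 16]],
 [Ins.jmp (nat_lit 117) [nat_lit 27, nat_lit 28, nat_lit 6] [nat_lit 23, nat_lit 20, nat_lit 18], Ins.jmp (nat_lit 117) [nat_lit 7, nat_lit 27, nat_lit 28, nat_lit 6] [nat_lit 23, nat_lit 21, nat_lit 18], Ins.jmp (nat_lit 117) [nat_lit 6, nat_lit 27, nat_lit 28, nat_lit 6] [nat_lit 22, nat_lit 21, nat_lit 18]],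
 [Ins.ref (nat_lit 127), Ins.jmp (nat_lit 119) [nat_lit 7, nat_lit 28, nat_lit 7] [nat_lit 22, nat_lit 18, nat_lit 16], Ins.jmp (nat_lit 119) [nat_lit 24, nat_lit 8, nat_lit 29, nat_lit 7] [nat_lit 23, nat_lit 18]],
 [Ins.ref (nat_lit 128), Ins.jmp (nat_lit 119) [nat_lit 6, nat_lit 29, nat_lit 6] [nat_lit 17], Ins.jmp (nat_lit 119) [nat_lit 7, nat_lit 28, nat_lit 8, nat_lit 27] [nat_lit 23, nat_lit 21]],
 [Ins.ref (nat_lit 129), Ins.ref (nat_lit 130), Ins.jmp (nat_lit 130) [nat_lit 25] [nat_lit 22]],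
 [Ins.jmp (nat_lit 130) [nat_lit 31] [nat_lit 22, nat_lit 17], Ins.jmp (nat_lit 130) [nat_lit 5, nat_lit 31] [nat_lit 23, nat_lit 21, nat_lit 16, nat_lit 15], Ins.jmp (nat_lit 130) [nat_lit 4, nat_lit 31] [nat_lit 20, nat_lit 14]],
 [Ins.jmp (nat_lit 130) [nat_lit 1, nat_lit 32] [nat_lit 20], Ins.jmp (nat_lit 130) [nat_lit 0, nat_lit 32] [nat_lit 22, nat_lit 20, nat_lit 16], Ins.jmp (nat_lit 130) [nat_lit 32] [nat_lit 23]],
 [Ins.ref (nat_lit 131), Ins.jmp (nat_lit 131) [nat_lit 10] [nat_lit 22, nat_lit 16], Ins.jmp (nat_lit 131) [nat_lit 11] [nat_lit 22, nat_lit 17]],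
 [Ins.ref (nat_lit 132), Ins.jmp (nat_lit 132) [nat_lit 10] [nat_lit 23, nat_lit 19, nat_lit 16], Ins.jmp (nat_lit 132) [nat_lit 11] [nat_lit 18, nat_lit 17]],
 [Ins.ref (nat_lit 133), Ins.jmp (nat_lit 133) [nat_lit 8] [nat_lit 21, nat_lit 16], Ins.jmp (nat_lit 133) [nat_lit 9] [nat_lit 20, nat_lit 17]],
 [Ins.ref (nat_lit 144), Ins.jmp (nat_lit 144) [nat_lit 8] [nat_lit 21, nat_lit 16], Ins.jmp (nat_lit 144) [nat_lit 9] [nat_lit 20, nat_lit 17]],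
 [Ins.ref (nat_lit 143), Ins.jmp (nat_lit 143) [nat_lit 11] [nat_lit 23, nat_lit 20, nat_lit 18, nat_lit 16], Ins.jmp (nat_lit 143) [nat_lit 10] [nat_lit 23, nat_lit 21, nat_lit 19, nat_lit 17]],
 [Ins.ref (nat_lit 142), Ins.jmp (nat_lit 142) [nat_lit 10] [nat_lit 22, nat_lit 19, nat_lit 16], Ins.jmp (nat_lit 142) [nat_lit 11] [nat_lit 22, nat_lit 18, nat_lit 17]],
 [Ins.ref (nat_lit 141), Ins.jmp (nat_lit 141) [nat_lit 11] [nat_lit 16], Ins.jmp (nat_lit 141) [nat_lit 10] [nat_lit 22, nat_lit 17]],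
 [Ins.ref (nat_lit 140), Ins.jmp (nat_lit 140) [nat_lit 10] [nat_lit 23, nat_lit 18, nat_lit 16], Ins.jmp (nat_lit 140) [nat_lit 11] [nat_lit 19, nat_lit 17]],
 [Ins.ref (nat_lit 139), Ins.ref (nat_lit 145), Ins.jmp (nat_lit 145) [nat_lit 27] [nat_lit 22, nat_lit 21, nat_lit 18, nat_lit 14]],
 [Ins.ref (nat_lit 138), Ins.jmp (nat_lit 138) [nat_lit 11] [nat_lit 22, nat_lit 20, nat_lit 18, nat_lit 16], Ins.jmp (nat_lit 138) [nat_lit 10] [nat_lit 21, nat_lit 19, nat_lit 17]],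
 [Ins.ref (nat_lit 137), Ins.jmp (nat_lit 137) [nat_lit 10] [nat_lit 23, nat_lit 19, nat_lit 16], Ins.jmp (nat_lit 137) [nat_lit 11] [nat_lit 18, nat_lit 17]],
 [Ins.ref (nat_lit 136), Ins.jmp (nat_lit 136) [nat_lit 10] [nat_lit 16], Ins.jmp (nat_lit 136) [nat_lit 11] [nat_lit 23, nat_lit 17]],
 [Ins.jmp (nat_lit 137) [nat_lit 6, nat_lit 10, nat_lit 33] [nat_lit 22, nat_lit 20, nat_lit 18, nat_lit 16, nat_lit 14], Ins.jmp (nat_lit 137) [nat_lit 11, nat_lit 6, nat_lit 33] [nat_lit 20, nat_lit 18, nat_lit 17, nat_lit 15], Ins.jmp (nat_lit 137) [nat_lit 6, nat_lit 33] [nat_lit 22, nat_lit 20, nat_lit 18]],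
 [Ins.jmp (nat_lit 136) [nat_lit 6, nat_lit 10, nat_lit 33] [nat_lit 23, nat_lit 21, nat_lit 18, nat_lit 17], Ins.jmp (nat_lit 136) [nat_lit 11, nat_lit 6, nat_lit 33] [nat_lit 18], Ins.jmp (nat_lit 136) [nat_lit 6, nat_lit 33] [nat_lit 20, nat_lit 18, nat_lit 16]],
 [Ins.ref (nat_lit 135), Ins.jmp (nat_lit 135) [nat_lit 4] [nat_lit 22, nat_lit 16], Ins.jmp (nat_lit 135) [nat_lit 5] [nat_lit 23, nat_lit 17]],
 [Ins.ref (nat_lit 134), Ins.jmp (nat_lit 134) [nat_lit 5] [nat_lit 23, nat_lit 16], Ins.jmp (nat_lit 134) [nat_lit 4] [nat_lit 22, nat_lit 17]],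
 [Ins.ref (nat_lit 154), Ins.jmp (nat_lit 154) [nat_lit 11] [nat_lit 22, nat_lit 20, nat_lit 18, nat_lit 16], Ins.jmp (nat_lit 154) [nat_lit 10] [nat_lit 21, nat_lit 19, nat_lit 17]],
 [Ins.ord (nat_lit 6) (nat_lit 2) [nat_lit 20, nat_lit 17], Ins.ord (nat_lit 6) (nat_lit 2) [nat_lit 23, nat_lit 20, nat_lit 17], Ins.ord (nat_lit 6) (nat_lit 2) [nat_lit 22, nat_lit 20, nat_lit 17]],
 [Ins.ord (nat_lit 6) (nat_lit 1) [nat_lit 23, nat_lit 21, nat_lit 19], Ins.ord (nat_lit 6) (nat_lit 1) [nat_lit 21, nat_lit 19], Ins.ord (nat_lit 6) (nat_lit 1) [nat_lit 22, nat_lit 21, nat_lit 19]],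
 [Ins.ord (nat_lit 6) (nat_lit 1) [nat_lit 22, nat_lit 21, nat_lit 18, nat_lit 17], Ins.ord (nat_lit 6) (nat_lit 1) [nat_lit 22, nat_lit 21, nat_lit 18, nat_lit 17], Ins.ord (nat_lit 6) (nat_lit 1) [nat_lit 22, nat_lit 21, nat_lit 18, nat_lit 17]],
 [Ins.ref (nat_lit 153), Ins.jmp (nat_lit 153) [nat_lit 11] [nat_lit 22, nat_lit 21, nat_lit 19, nat_lit 16], Ins.jmp (nat_lit 153) [nat_lit 10] [nat_lit 20, nat_lit 18, nat_lit 17]],
 [Ins.ref (nat_lit 152), Ins.jmp (nat_lit 152) [nat_lit 8] [], Ins.jmp (nat_lit 152) [nat_lit 9] []],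
 [Ins.ref (nat_lit 151), Ins.jmp (nat_lit 151) [nat_lit 10] [nat_lit 16], Ins.jmp (nat_lit 151) [nat_lit 11] [nat_lit 23, nat_lit 17]],
 [Ins.jmp (nat_lit 145) [nat_lit 1, nat_lit 32] [nat_lit 22, nat_lit 21, nat_lit 16, nat_lit 14], Ins.jmp (nat_lit 145) [nat_lit 0, nat_lit 32] [nat_lit 22, nat_lit 14], Ins.jmp (nat_lit 145) [nat_lit 32] [nat_lit 22, nat_lit 20, nat_lit 17, nat_lit 14]],
 [Ins.ord (nat_lit 6) (nat_lit 2) [nat_lit 23, nat_lit 18, nat_lit 16], Ins.ord (nat_lit 6) (nat_lit 2) [nat_lit 23, nat_lit 18, nat_lit 16], Ins.ord (nat_lit 6) (nat_lit 2) [nat_lit 23, nat_lit 18, nat_lit 16]],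
 [Ins.ref (nat_lit 150), Ins.jmp (nat_lit 150) [nat_lit 11] [nat_lit 22, nat_lit 20, nat_lit 18, nat_lit 16], Ins.jmp (nat_lit 150) [nat_lit 10] [nat_lit 21, nat_lit 19, nat_lit 17]],
 [Ins.ref (nat_lit 149), Ins.jmp (nat_lit 149) [nat_lit 8] [nat_lit 20, nat_lit 17], Ins.jmp (nat_lit 149) [nat_lit 9] [nat_lit 21, nat_lit 16]],
 [Ins.ref (nat_lit 148), Ins.jmp (nat_lit 148) [nat_lit 10] [nat_lit 23, nat_lit 19, nat_lit 16], Ins.jmp (nat_lit 148) [nat_lit 11] [nat_lit 18, nat_lit 17]],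
 [Ins.ref (nat_lit 147), Ins.jmp (nat_lit 147) [nat_lit 11] [nat_lit 23, nat_lit 16], Ins.jmp (nat_lit 147) [nat_lit 10] [nat_lit 23, nat_lit 17]],
 [Ins.ref (nat_lit 146), Ins.jmp (nat_lit 146) [nat_lit 10] [nat_lit 18, nat_lit 16], Ins.jmp (nat_lit 146) [nat_lit 11] [nat_lit 23, nat_lit 19, nat_lit 17]],
 [Ins.jmp (nat_lit 145) [nat_lit 31] [nat_lit 22, nat_lit 20, nat_lit 19, nat_lit 16, nat_lit 14], Ins.jmp (nat_lit 145) [nat_lit 5, nat_lit 31] [nat_lit 23, nat_lit 19], Ins.jmp (nat_lit 145) [nat_lit 4, nat_lit 31] [nat_lit 21, nat_lit 19, nat_lit 17, nat_lit 15]],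
 [Ins.jmp (nat_lit 150) [nat_lit 6, nat_lit 11, nat_lit 33] [nat_lit 22, nat_lit 21, nat_lit 18, nat_lit 16, nat_lit 15], Ins.jmp (nat_lit 150) [nat_lit 10, nat_lit 6, nat_lit 33] [nat_lit 22, nat_lit 18, nat_lit 14], Ins.jmp (nat_lit 150) [nat_lit 6, nat_lit 33] [nat_lit 23, nat_lit 20, nat_lit 18, nat_lit 17]],
 [Ins.ref (nat_lit 155), Ins.jmp (nat_lit 155) [nat_lit 11] [nat_lit 21, nat_lit 19, nat_lit 16], Ins.jmp (nat_lit 155) [nat_lit 10] [nat_lit 22, nat_lit 20, nat_lit 18, nat_lit 17]],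
 [Ins.ref (nat_lit 156), Ins.jmp (nat_lit 156) [nat_lit 10] [nat_lit 22, nat_lit 16], Ins.jmp (nat_lit 156) [nat_lit 11] [nat_lit 22, nat_lit 17]],
 [Ins.ref (nat_lit 157), Ins.jmp (nat_lit 157) [nat_lit 5] [nat_lit 23, nat_lit 16], Ins.jmp (nat_lit 157) [nat_lit 4] [nat_lit 22, nat_lit 17]],
 [Ins.ref (nat_lit 158), Ins.jmp (nat_lit 158) [nat_lit 4] [nat_lit 22, nat_lit 16], Ins.jmp (nat_lit 158) [nat_lit 5] [nat_lit 23, nat_lit 17]],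
 [Ins.ref (nat_lit 159), Ins.jmp (nat_lit 159) [nat_lit 8] [nat_lit 20, nat_lit 17], Ins.jmp (nat_lit 159) [nat_lit 9] [nat_lit 21, nat_lit 16]],
 [Ins.ref (nat_lit 160), Ins.jmp (nat_lit 160) [nat_lit 8] [], Ins.jmp (nat_lit 160) [nat_lit 9] []],
 [Ins.ord (nat_lit 6) (nat_lit 1) [nat_lit 21, nat_lit 16], Ins.ord (nat_lit 6) (nat_lit 1) [nat_lit 23, nat_lit 21, nat_lit 16], Ins.ord (nat_lit 6) (nat_lit 1) [nat_lit 22, nat_lit 21, nat_lit 16]],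
 [Ins.ord (nat_lit 6) (nat_lit 2) [nat_lit 22, nat_lit 21, nat_lit 19], Ins.ord (nat_lit 6) (nat_lit 2) [nat_lit 23, nat_lit 21, nat_lit 19], Ins.ord (nat_lit 6) (nat_lit 2) [nat_lit 21, nat_lit 19]],
 [Ins.ref (nat_lit 161), Ins.ref (nat_lit 162), Ins.jmp (nat_lit 162) [nat_lit 27] [nat_lit 20, nat_lit 18, nat_lit 17, nat_lit 12]],
 [Ins.ref (nat_lit 163), Ins.ref (nat_lit 179), Ins.ref (nat_lit 178)],
 [Ins.ref (nat_lit 164), Ins.ref (nat_lit 177), Ins.jmp (nat_lit 177) [nat_lit 6, nat_lit 27] [nat_lit 22, nat_lit 21, nat_lit 18, nat_lit 13]],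
 [Ins.ref (nat_lit 165), Ins.ref (nat_lit 176), Ins.jmp (nat_lit 176) [nat_lit 6, nat_lit 27] [nat_lit 22, nat_lit 21, nat_lit 19, nat_lit 17, nat_lit 13]],
 [Ins.ref (nat_lit 166), Ins.jmp (nat_lit 166) [nat_lit 6] [], Ins.jmp (nat_lit 166) [nat_lit 7] []],
 [Ins.ref (nat_lit 175), Ins.jmp (nat_lit 175) [nat_lit 1] [nat_lit 20, nat_lit 19], Ins.jmp (nat_lit 175) [nat_lit 0] []],
 [Ins.ref (nat_lit 174), Ins.jmp (nat_lit 174) [nat_lit 1] [nat_lit 23, nat_lit 19, nat_lit 17], Ins.jmp (nat_lit 174) [nat_lit 0] [nat_lit 21, nat_lit 16]],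
 [Ins.ref (nat_lit 173), Ins.ref (nat_lit 195), Ins.jmp (nat_lit 195) [nat_lit 6, nat_lit 27] [nat_lit 23, nat_lit 20, nat_lit 19]],
 [Ins.ref (nat_lit 172), Ins.ref (nat_lit 194), Ins.jmp (nat_lit 194) [nat_lit 27] [nat_lit 23, nat_lit 20, nat_lit 19, nat_lit 17, nat_lit 14, nat_lit 12]],
 [Ins.ref (nat_lit 171), Ins.ref (nat_lit 193), Ins.jmp (nat_lit 171) [nat_lit 27] [nat_lit 21, nat_lit 18, nat_lit 17, nat_lit 14, nat_lit 13]],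
 [Ins.ref (nat_lit 170), Ins.jmp (nat_lit 170) [nat_lit 7, nat_lit 27] [nat_lit 22, nat_lit 21, nat_lit 19, nat_lit 17, nat_lit 14], Ins.ref (nat_lit 192)],
 [Ins.ref (nat_lit 168), Ins.jmp (nat_lit 168) [nat_lit 7, nat_lit 27] [nat_lit 23, nat_lit 21, nat_lit 19], Ins.ref (nat_lit 180)],
 [Ins.ref (nat_lit 167), Ins.jmp (nat_lit 167) [nat_lit 6] [], Ins.jmp (nat_lit 167) [nat_lit 7] []],
 [Ins.ref (nat_lit 169), Ins.ref (nat_lit 191), Ins.jmp (nat_lit 169) [nat_lit 27] [nat_lit 23, nat_lit 21, nat_lit 19, nat_lit 17, nat_lit 13]],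
 [Ins.ref (nat_lit 190), Ins.jmp (nat_lit 190) [nat_lit 6] [nat_lit 22, nat_lit 20, nat_lit 18, nat_lit 14], Ins.jmp (nat_lit 190) [nat_lit 7] [nat_lit 23, nat_lit 21, nat_lit 19, nat_lit 15]],
 [Ins.ref (nat_lit 189), Ins.jmp (nat_lit 189) [nat_lit 1] [nat_lit 23, nat_lit 19, nat_lit 17], Ins.jmp (nat_lit 189) [nat_lit 0] [nat_lit 21, nat_lit 16]],
 [Ins.ref (nat_lit 188), Ins.jmp (nat_lit 188) [nat_lit 1] [nat_lit 20, nat_lit 19], Ins.jmp (nat_lit 188) [nat_lit 0] []],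
 [Ins.ref (nat_lit 183), Ins.jmp (nat_lit 183) [nat_lit 1] [nat_lit 20, nat_lit 19], Ins.jmp (nat_lit 183) [nat_lit 0] []],
 [Ins.ref (nat_lit 181), Ins.jmp (nat_lit 181) [nat_lit 1] [nat_lit 23, nat_lit 19, nat_lit 17], Ins.jmp (nat_lit 181) [nat_lit 0] [nat_lit 21, nat_lit 16]],
 [Ins.ref (nat_lit 182), Ins.jmp (nat_lit 182) [nat_lit 1] [nat_lit 22, nat_lit 21, nat_lit 19, nat_lit 16], Ins.jmp (nat_lit 182) [nat_lit 0] [nat_lit 20, nat_lit 17]],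
 [Ins.ref (nat_lit 184), Ins.jmp (nat_lit 184) [nat_lit 7, nat_lit 27] [nat_lit 21, nat_lit 19, nat_lit 16, nat_lit 15], Ins.ref (nat_lit 196)],
 [Ins.ref (nat_lit 185), Ins.jmp (nat_lit 185) [nat_lit 6] [nat_lit 23, nat_lit 21, nat_lit 19, nat_lit 15], Ins.jmp (nat_lit 185) [nat_lit 7] [nat_lit 22, nat_lit 20, nat_lit 18, nat_lit 14]],
 [Ins.ref (nat_lit 186), Ins.ref (nat_lit 197), Ins.jmp (nat_lit 186) [nat_lit 27] [nat_lit 22, nat_lit 21, nat_lit 17, nat_lit 15, nat_lit 13]],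
 [Ins.ref (nat_lit 187), Ins.ref (nat_lit 198), Ins.ref (nat_lit 199)],
 [Ins.ref (nat_lit 200), Ins.jmp (nat_lit 200) [nat_lit 6] [nat_lit 20, nat_lit 18, nat_lit 14], Ins.jmp (nat_lit 200) [nat_lit 7] [nat_lit 21, nat_lit 19, nat_lit 15]],
 [Ins.ref (nat_lit 201), Ins.jmp (nat_lit 201) [nat_lit 6] [nat_lit 21, nat_lit 19, nat_lit 15], Ins.jmp (nat_lit 201) [nat_lit 7] [nat_lit 20, nat_lit 18, nat_lit 14]],
 [Ins.ref (nat_lit 202), Ins.jmp (nat_lit 202) [nat_lit 1] [nat_lit 23, nat_lit 19, nat_lit 17], Ins.jmp (nat_lit 202) [nat_lit 0] [nat_lit 21, nat_lit 16]],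
 [Ins.ref (nat_lit 203), Ins.jmp (nat_lit 203) [nat_lit 1] [nat_lit 22, nat_lit 21, nat_lit 19, nat_lit 16], Ins.jmp (nat_lit 203) [nat_lit 0] [nat_lit 20, nat_lit 17]],
 [Ins.ref (nat_lit 204), Ins.ref (nat_lit 205), Ins.jmp (nat_lit 205) [nat_lit 27] [nat_lit 22, nat_lit 17]],
 [Ins.jmp (nat_lit 205) [nat_lit 31] [nat_lit 23, nat_lit 21, nat_lit 17, nat_lit 12], Ins.jmp (nat_lit 205) [nat_lit 5, nat_lit 31] [nat_lit 23, nat_lit 16, nat_lit 14, nat_lit 11], Ins.jmp (nat_lit 205) [nat_lit 4, nat_lit 31] [nat_lit 22, nat_lit 20, nat_lit 15, nat_lit 13, nat_lit 10]],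
 [Ins.ref (nat_lit 206), Ins.jmp (nat_lit 206) [nat_lit 6] [nat_lit 22, nat_lit 16, nat_lit 12], Ins.jmp (nat_lit 206) [nat_lit 7] [nat_lit 22, nat_lit 17, nat_lit 13]],
 [Ins.ref (nat_lit 207), Ins.jmp (nat_lit 207) [nat_lit 6] [nat_lit 23, nat_lit 14, nat_lit 12], Ins.jmp (nat_lit 207) [nat_lit 7] [nat_lit 22, nat_lit 15, nat_lit 13]],
 [Ins.ref (nat_lit 208), Ins.jmp (nat_lit 208) [nat_lit 27] [nat_lit 23, nat_lit 18, nat_lit 17, nat_lit 12, nat_lit 11], Ins.ref (nat_lit 216)],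
 [Ins.ref (nat_lit 215), Ins.jmp (nat_lit 215) [nat_lit 7] [nat_lit 13, nat_lit 10], Ins.jmp (nat_lit 215) [nat_lit 6] [nat_lit 12, nat_lit 11]],
 [Ins.ref (nat_lit 214), Ins.jmp (nat_lit 214) [nat_lit 7] [nat_lit 21, nat_lit 18, nat_lit 16, nat_lit 14, nat_lit 13, nat_lit 10], Ins.jmp (nat_lit 214) [nat_lit 6] [nat_lit 22, nat_lit 20, nat_lit 19, nat_lit 17, nat_lit 15, nat_lit 12, nat_lit 11]],
 [Ins.ref (nat_lit 213), Ins.jmp (nat_lit 213) [nat_lit 6] [nat_lit 18, nat_lit 17, nat_lit 14, nat_lit 13, nat_lit 11], Ins.jmp (nat_lit 213) [nat_lit 7] [nat_lit 22, nat_lit 19, nat_lit 16, nat_lit 15, nat_lit 12, nat_lit 10]],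
 [Ins.ref (nat_lit 217), Ins.jmp (nat_lit 217) [nat_lit 6] [nat_lit 13, nat_lit 11], Ins.jmp (nat_lit 217) [nat_lit 7] [nat_lit 12, nat_lit 10]],
 [Ins.ref (nat_lit 212), Ins.ref (nat_lit 227), Ins.jmp (nat_lit 227) [nat_lit 27] [nat_lit 23, nat_lit 18, nat_lit 17, nat_lit 14]],
 [Ins.ref (nat_lit 211), Ins.jmp (nat_lit 211) [nat_lit 7] [nat_lit 22, nat_lit 21, nat_lit 15, nat_lit 12], Ins.jmp (nat_lit 211) [nat_lit 6] [nat_lit 23, nat_lit 20, nat_lit 14, nat_lit 13]],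
 [Ins.jmp (nat_lit 208) [nat_lit 5, nat_lit 31] [nat_lit 22, nat_lit 20, nat_lit 18, nat_lit 13], Ins.jmp (nat_lit 208) [nat_lit 4, nat_lit 31] [nat_lit 21, nat_lit 18, nat_lit 17, nat_lit 14, nat_lit 12, nat_lit 11], Ins.jmp (nat_lit 208) [nat_lit 31] [nat_lit 22, nat_lit 18, nat_lit 16, nat_lit 15, nat_lit 10]],
 [Ins.ref (nat_lit 210), Ins.jmp (nat_lit 210) [nat_lit 6] [nat_lit 23, nat_lit 14, nat_lit 12], Ins.jmp (nat_lit 210) [nat_lit 7] [nat_lit 22, nat_lit 15, nat_lit 13]],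
 [Ins.ref (nat_lit 209), Ins.jmp (nat_lit 209) [nat_lit 6] [nat_lit 22, nat_lit 16, nat_lit 12], Ins.jmp (nat_lit 209) [nat_lit 7] [nat_lit 22, nat_lit 17, nat_lit 13]],
 [Ins.jmp (nat_lit 227) [nat_lit 31] [nat_lit 23, nat_lit 19, nat_lit 16, nat_lit 14, nat_lit 12], Ins.jmp (nat_lit 227) [nat_lit 5, nat_lit 31] [nat_lit 22, nat_lit 20, nat_lit 19, nat_lit 15, nat_lit 11], Ins.jmp (nat_lit 227) [nat_lit 4, nat_lit 31] [nat_lit 23, nat_lit 21, nat_lit 19, nat_lit 17, nat_lit 13, nat_lit 10]],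
 [Ins.ref (nat_lit 226), Ins.jmp (nat_lit 226) [nat_lit 6] [nat_lit 19, nat_lit 16, nat_lit 15, nat_lit 13, nat_lit 11], Ins.jmp (nat_lit 226) [nat_lit 7] [nat_lit 23, nat_lit 18, nat_lit 17, nat_lit 14, nat_lit 12, nat_lit 10]],
 [Ins.ref (nat_lit 225), Ins.jmp (nat_lit 225) [nat_lit 27] [nat_lit 22, nat_lit 19, nat_lit 16, nat_lit 15, nat_lit 12, nat_lit 11], Ins.ref (nat_lit 229)],
 [Ins.ref (nat_lit 218), Ins.jmp (nat_lit 218) [nat_lit 27] [nat_lit 14, nat_lit 12, nat_lit 11], Ins.ref (nat_lit 228)],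
 [Ins.ref (nat_lit 224), Ins.jmp (nat_lit 224) [nat_lit 7] [nat_lit 20, nat_lit 19, nat_lit 17, nat_lit 15, nat_lit 13, nat_lit 10], Ins.jmp (nat_lit 224) [nat_lit 6] [nat_lit 23, nat_lit 21, nat_lit 18, nat_lit 16, nat_lit 14, nat_lit 12, nat_lit 11]],
 [Ins.ref (nat_lit 223), Ins.jmp (nat_lit 223) [nat_lit 7] [nat_lit 23, nat_lit 21, nat_lit 18, nat_lit 16, nat_lit 14, nat_lit 13, nat_lit 10], Ins.jmp (nat_lit 223) [nat_lit 6] [nat_lit 23, nat_lit 20, nat_lit 19, nat_lit 17, nat_lit 15, nat_lit 12, nat_lit 11]],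
 [Ins.ref (nat_lit 222), Ins.jmp (nat_lit 222) [nat_lit 6] [nat_lit 18, nat_lit 17, nat_lit 14, nat_lit 13, nat_lit 11], Ins.jmp (nat_lit 222) [nat_lit 7] [nat_lit 22, nat_lit 19, nat_lit 16, nat_lit 15, nat_lit 12, nat_lit 10]],
 [Ins.ref (nat_lit 221), Ins.jmp (nat_lit 221) [nat_lit 7] [nat_lit 22, nat_lit 13, nat_lit 10], Ins.jmp (nat_lit 221) [nat_lit 6] [nat_lit 23, nat_lit 12, nat_lit 11]],
 [Ins.ref (nat_lit 220), Ins.jmp (nat_lit 220) [nat_lit 6] [nat_lit 22, nat_lit 13, nat_lit 11], Ins.jmp (nat_lit 220) [nat_lit 7] [nat_lit 23, nat_lit 12, nat_lit 10]],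
 [Ins.ref (nat_lit 219), Ins.jmp (nat_lit 219) [nat_lit 7] [nat_lit 22, nat_lit 21, nat_lit 15, nat_lit 12], Ins.jmp (nat_lit 219) [nat_lit 6] [nat_lit 23, nat_lit 20, nat_lit 14, nat_lit 13]],
 [Ins.ref (nat_lit 230), Ins.jmp (nat_lit 230) [nat_lit 7] [nat_lit 20, nat_lit 19, nat_lit 17, nat_lit 15, nat_lit 13, nat_lit 10], Ins.jmp (nat_lit 230) [nat_lit 6] [nat_lit 23, nat_lit 21, nat_lit 18, nat_lit 16, nat_lit 14, nat_lit 12, nat_lit 11]],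
 [Ins.jmp (nat_lit 218) [nat_lit 5, nat_lit 31] [nat_lit 20, nat_lit 19, nat_lit 13], Ins.jmp (nat_lit 218) [nat_lit 4, nat_lit 31] [nat_lit 23, nat_lit 21, nat_lit 19, nat_lit 17, nat_lit 14, nat_lit 12, nat_lit 11], Ins.jmp (nat_lit 218) [nat_lit 31] [nat_lit 19, nat_lit 16, nat_lit 15, nat_lit 10]],
 [Ins.jmp (nat_lit 225) [nat_lit 5, nat_lit 31] [nat_lit 23, nat_lit 20, nat_lit 13], Ins.jmp (nat_lit 225) [nat_lit 4, nat_lit 31] [nat_lit 22, nat_lit 21, nat_lit 17, nat_lit 14, nat_lit 12, nat_lit 11], Ins.jmp (nat_lit 225) [nat_lit 31] [nat_lit 23, nat_lit 16, nat_lit 15, nat_lit 10]],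
 [Ins.ref (nat_lit 231), Ins.jmp (nat_lit 231) [nat_lit 6] [nat_lit 23, nat_lit 19, nat_lit 16, nat_lit 15, nat_lit 13, nat_lit 11], Ins.jmp (nat_lit 231) [nat_lit 7] [nat_lit 18, nat_lit 17, nat_lit 14, nat_lit 12, nat_lit 10]],
 [Ins.ref (nat_lit 232), Ins.ref (nat_lit 233), Ins.jmp (nat_lit 233) [nat_lit 25] [nat_lit 17, nat_lit 13, nat_lit 8]],
 [Ins.ref (nat_lit 234), Ins.ref (nat_lit 245), Ins.jmp (nat_lit 245) [nat_lit 27] [nat_lit 21, nat_lit 16, nat_lit 15, nat_lit 12]],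
 [Ins.ref (nat_lit 235), Ins.ref (nat_lit 244), Ins.jmp (nat_lit 244) [nat_lit 27] [nat_lit 23, nat_lit 20, nat_lit 18, nat_lit 12]],
 [Ins.ref (nat_lit 236), Ins.ref (nat_lit 243), Ins.jmp (nat_lit 243) [nat_lit 27] [nat_lit 22, nat_lit 21, nat_lit 18, nat_lit 17, nat_lit 15, nat_lit 11, nat_lit 9]],
 [Ins.ref (nat_lit 242), Ins.ref (nat_lit 255), Ins.jmp (nat_lit 255) [nat_lit 27] [nat_lit 23, nat_lit 18, nat_lit 17, nat_lit 9]],
 [Ins.ref (nat_lit 241), Ins.ref (nat_lit 246), Ins.jmp (nat_lit 246) [nat_lit 27] [nat_lit 23, nat_lit 21, nat_lit 18, nat_lit 16, nat_lit 13, nat_lit 8]],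
 [Ins.ref (nat_lit 240), Ins.ref (nat_lit 254), Ins.jmp (nat_lit 254) [nat_lit 27] [nat_lit 18, nat_lit 16, nat_lit 15, nat_lit 11, nat_lit 8]],
 [Ins.ref (nat_lit 237), Ins.ref (nat_lit 253), Ins.jmp (nat_lit 253) [nat_lit 27] [nat_lit 23, nat_lit 20, nat_lit 18, nat_lit 15, nat_lit 11]],
 [Ins.ref (nat_lit 239), Ins.ref (nat_lit 252), Ins.jmp (nat_lit 252) [nat_lit 27] [nat_lit 16, nat_lit 11, nat_lit 8]],
 [Ins.ref (nat_lit 238), Ins.ref (nat_lit 251), Ins.jmp (nat_lit 251) [nat_lit 27] [nat_lit 20, nat_lit 19, nat_lit 16, nat_lit 14, nat_lit 11]],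
 [Ins.ref (nat_lit 250), Ins.ref (nat_lit 256), Ins.jmp (nat_lit 256) [nat_lit 27] [nat_lit 22, nat_lit 20, nat_lit 17, nat_lit 11]],
 [Ins.ref (nat_lit 249), Ins.ref (nat_lit 257), Ins.jmp (nat_lit 257) [nat_lit 27] [nat_lit 23, nat_lit 21, nat_lit 11, nat_lit 9]],
 [Ins.ref (nat_lit 248), Ins.ref (nat_lit 258), Ins.jmp (nat_lit 258) [nat_lit 27] [nat_lit 21, nat_lit 19, nat_lit 16, nat_lit 14, nat_lit 11, nat_lit 9]],
 [Ins.ref (nat_lit 247), Ins.ref (nat_lit 259), Ins.jmp (nat_lit 259) [nat_lit 27] [nat_lit 19, nat_lit 16, nat_lit 14, nat_lit 11, nat_lit 8]],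
 [Ins.ref (nat_lit 260), Ins.ref (nat_lit 261), Ins.jmp (nat_lit 261) [nat_lit 25] [nat_lit 21, nat_lit 17, nat_lit 8]],
 [Ins.ref (nat_lit 262), Ins.ref (nat_lit 264), Ins.ref (nat_lit 265)],
 [Ins.ref (nat_lit 263), Ins.ref (nat_lit 266), Ins.ref (nat_lit 267)],
 [Ins.ref (nat_lit 268), Ins.ref (nat_lit 270), Ins.ref (nat_lit 271)],
 [Ins.ref (nat_lit 269), Ins.ref (nat_lit 272), Ins.ref (nat_lit 273)],
 [Ins.ref (nat_lit 274), Ins.ref (nat_lit 275), Ins.jmp (nat_lit 275) [nat_lit 25] [nat_lit 22, nat_lit 20, nat_lit 18, nat_lit 16, nat_lit 15, nat_lit 8]],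
 [Ins.ref (nat_lit 276), Ins.ref (nat_lit 277), Ins.ref (nat_lit 278)],
 [Ins.ref (nat_lit 279), Ins.ref (nat_lit 280), Ins.jmp (nat_lit 280) [nat_lit 25] [nat_lit 17, nat_lit 13, nat_lit 10, nat_lit 8]]]
theorem k51 : cvChk F bs0 ws (nat_lit 3) (nat_lit 12) nm reps cl i50 (nat_lit 149) (nat_lit 282) = true := by decide +kernel
theorem v52 (M : PM G Ω 1080 H15.StdO8p3.nets) (hN : Nat.card G = 4952179814400) : CvA (loc M.gen ws) (Rp M.gen reps) 3 12 cl 282 :=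
  cv_step (base0 M hN) (by norm_num) (hn M hN) (pc M hN).1 (v49 M hN) k51
theorem cover (M : PM G Ω 1080 H15.StdO8p3.nets) (hN : Nat.card G = 4952179814400) : ∀ g : G, g ^ 3 = 1 → g = 1 ∨ ∃ w ∈ reps, IsConj (ev M.gen w) g :=
  cv_end (k := 281) (by norm_num) (pc M hN).2 hN (v52 M hN) (by decide +kernel)

end L.VO8p3x3
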