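import Cfsg.Agent.L.KS
import Cfsg.Agent.L.VO8p3x3
import Cfsg.Agent.L.KO8p3

/-! Generated certificate (toolsL/cg.hpp). -/
set_option autoImplicit false
set_option maxRecDepth 200000
set_option Elab.async false
set_option linter.unusedVariables false
set_option linter.unusedSectionVars false

namespace L.CO8p3x3
open H14 L.KO8p3T L.KO8p3
variable {G Ω : Type*} [Group G] [Finite G] [MulAction G Ω]

noncomputable def xs : List Word := [VO8p3x3.ra, VO8p3x3.rb, VO8p3x3.rc, VO8p3x3.rd, VO8p3x3.re, VO8p3x3.rf, VO8p3x3.rg, VO8p3x3.rh, VO8p3x3.ri, VO8p3x3.rj, VO8p3x3.rk, VO8p3x3.rl, VO8p3x3.rm]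
noncomputable def s0 : Nat := (nat_lit 0x8002128141122043410234200000042002000000010062002000004000010900100082000050424000006040008004000040100028000080004040501000000000100000800000000a090000000020021800002400002008808c00812140110042500001000800000c0002002400200240002804508200000a0000000000002009001000)
theorem k1 : band (Nat.ble (nat_lit 1080) (Nat.pow 2 (nat_lit 11))) (fsChk (nat_lit 1080) (nat_lit 11) H15.StdO8p3.nets VO8p3x3.ra s0 (full (nat_lit 1080)) 0 0 (nat_lit 11)) = true := by decide +kernel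
theorem f2 (M : PM G Ω 1080 H15.StdO8p3.nets) (hN : Nat.card G = 4952179814400) : IsFix M VO8p3x3.ra s0 :=
  fix_one k1
theorem k3 : relK F bs0 [(powW VO8p3x3.ra 3, [])] = true := by decide +kernel
theorem r4 (M : PM G Ω 1080 H15.StdO8p3.nets) (hN : Nat.card G = 4952179814400) : orderOf (ev M.gen VO8p3x3.ra) = 3 :=
  order_of_rel (F := F) (b := 0) (by norm_num) (rels_base (base0 M hN) k3) (by decide +kernel)
theorem ord0 (M : PM G Ω 1080 H15.StdO8p3.nets) (hN : Nat.card G = 4952179814400) : orderOf (ev M.gen VO8p3x3.ra) = 3 :=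
  (r4 M hN)
noncomputable def B0 : Nat := s0
theorem fix0 (M : PM G Ω 1080 H15.StdO8p3.nets) (hN : Nat.card G = 4952179814400) : IsFixL M [VO8p3x3.ra] B0 :=
  IsFix.fixL (f2 M hN)
theorem k5 : Nat.beq (pop (nat_lit 1080) B0) 108 = true := by decide +kernel
theorem fc0 (M : PM G Ω 1080 H15.StdO8p3.nets) (hN : Nat.card G = 4952179814400) : FixC M [VO8p3x3.ra] 108 :=
  ⟨_, fix0 M hN, Nat.eq_of_beq_eq_true k5⟩
noncomputable def s6 : Nat := (nat_lit 0x90100000044060c1032060408014c800000421000001020890220000080800000009004000000000514244800040e000800000805210080800002a8080204010280000001501008000000204090890400200220800000420000100a0a880840100400000500001000801800c80400424040008400028804200600918041020002020000a00b020)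
theorem k7 : band (Nat.ble (nat_lit 1080) (Nat.pow 2 (nat_lit 11))) (fsChk (nat_lit 1080) (nat_lit 11) H15.StdO8p3.nets VO8p3x3.rb s6 (full (nat_lit 1080)) 0 0 (nat_lit 11)) = true := by decide +kernel
theorem f8 (M : PM G Ω 1080 H15.StdO8p3.nets) (hN : Nat.card G = 4952179814400) : IsFix M VO8p3x3.rb s6 :=
  fix_one k7
theorem k9 : relK F bs0 [(powW VO8p3x3.rb 3, [])] = true := by decide +kernel
theorem r10 (M : PM G Ω 1080 H15.StdO8p3.nets) (hN : Nat.card G = 4952179814400) : orderOf (ev M.gen VO8p3x3.rb) = 3 :=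
  order_of_rel (F := F) (b := 0) (by norm_num) (rels_base (base0 M hN) k9) (by decide +kernel)
theorem ord1 (M : PM G Ω 1080 H15.StdO8p3.nets) (hN : Nat.card G = 4952179814400) : orderOf (ev M.gen VO8p3x3.rb) = 3 :=
  (r10 M hN)
noncomputable def B1 : Nat := s6
theorem fix1 (M : PM G Ω 1080 H15.StdO8p3.nets) (hN : Nat.card G = 4952179814400) : IsFixL M [VO8p3x3.rb] B1 :=
  IsFix.fixL (f8 M hN)
theorem k11 : Nat.beq (pop (nat_lit 1080) B1) 135 = true := by decide +kernel
theorem fc1 (M : PM G Ω 1080 H15.StdO8p3.nets) (hN : Nat.card G = 4952179814400) : FixC M [VO8p3x3.rb] 135 :=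
  ⟨_, fix1 M hN, Nat.eq_of_beq_eq_true k11⟩
theorem nc1 (M : PM G Ω 1080 H15.StdO8p3.nets) (hN : Nat.card G = 4952179814400) : ∀ j < 1, ¬ CjS (sub M.gen [VO8p3x3.rb]) (sub M.gen [getL [] xs j]) :=
  fun j hj => by interval_cases j; exacts [(fc1 M hN).nc (fc0 M hN) (by decide)]
noncomputable def s12 : Nat := (nat_lit 0x454000000205000001002002000200000004200040000400244000004830000041080010000000020042000004402000400400041220042000000000c000501200808000000400040400480000008000022126105800200000100000c000052080980000042109000800000000422c000420000000282050000100180000000820300869003080)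
theorem k13 : band (Nat.ble (nat_lit 1080) (Nat.pow 2 (nat_lit 11))) (fsChk (nat_lit 1080) (nat_lit 11) H15.StdO8p3.nets VO8p3x3.rc s12 (full (nat_lit 1080)) 0 0 (nat_lit 11)) = true := by decide +kernel
theorem f14 (M : PM G Ω 1080 H15.StdO8p3.nets) (hN : Nat.card G = 4952179814400) : IsFix M VO8p3x3.rc s12 :=
  fix_one k13
theorem k15 : relK F bs0 [(powW VO8p3x3.rc 3, [])] = true := by decide +kernel
theorem r16 (M : PM G Ω 1080 H15.StdO8p3.nets) (hN : Nat.card G = 4952179814400) : orderOf (ev M.gen VO8p3x3.rc) = 3 :=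
  order_of_rel (F := F) (b := 0) (by norm_num) (rels_base (base0 M hN) k15) (by decide +kernel)
theorem ord2 (M : PM G Ω 1080 H15.StdO8p3.nets) (hN : Nat.card G = 4952179814400) : orderOf (ev M.gen VO8p3x3.rc) = 3 :=
  (r16 M hN)
noncomputable def B2 : Nat := s12
theorem fix2 (M : PM G Ω 1080 H15.StdO8p3.nets) (hN : Nat.card G = 4952179814400) : IsFixL M [VO8p3x3.rc] B2 :=
  IsFix.fixL (f14 M hN)
theorem k17 : Nat.beq (pop (nat_lit 1080) B2) 108 = true := by decide +kernel
theorem fc2 (M : PM G Ω 1080 H15.StdO8p3.nets) (hN : Nat.card G = 4952179814400) : FixC M [VO8p3x3.rc] 108 :=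
  ⟨_, fix2 M hN, Nat.eq_of_beq_eq_true k17⟩
noncomputable def s18 : Nat := (nat_lit 0x9082809c00a80000f840105a403ea384010090000a205b40008810c8000c0102000100010829080128080b1e50004e029d2034031a0020208088202808010408484800235002ba00c1000010101104008062902404440440840c1126249140d584028384242a31080a20210442602012482aaa08808a10764d1090930610121318026820000000)
noncomputable def w19 : Word := [nat_lit 27, nat_lit 27]
noncomputable def w20 : Word := [nat_lit 29, nat_lit 29]
noncomputable def w21 : Word := [nat_lit 14, nat_lit 22, nat_lit 15]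
theorem k22 : orbChk (nat_lit 1080) H15.StdO8p3.nets F [nat_lit 1, nat_lit 0] (sel [w19, w20, w21] [nat_lit 0, nat_lit 1, nat_lit 2]) [dw (nat_lit 0x01), dw (nat_lit 0x05), dw (nat_lit 0x01), dw (nat_lit 0x03), dw (nat_lit 0x01), dw (nat_lit 0x05), dw (nat_lit 0x01), dw (nat_lit 0x03)
, dw (nat_lit 0x01)] (dn (nat_lit 20) (nat_lit 0x0b8020f901069c208d820f0010fd010f24301cc201cc1053c303941049c20564301f030bcc208ac3048020d90108b8101b0202d820acc10ae430ae420f6c30f6c1028420f5830520200e0101d830e1820e1030e1010f7020f70100a410c4c30c4c103c41086030f1c104341025c1031410674204542045410548204fc204fc10c2030dbc20dbc104242042410f78101c8103b41094c2094c10130207dc207dc10e9c30b6c30b6c109f4209f41047c302b4302b42056830a4430a44104a4304a4204a41040030400206a4206a4102ac30f6430e4c30e4c102e430b5030e0430e041029430fd420fd410098200981092030c2c30c2c1042c208643026c1070830fd8304e0206b8306b820ac830ac820e0c306b420d2830d28202cc302cc210d0310d02096c3096c2022c30ca030ca0205ac305ac20fb830fb820c343007430be030a903058030f3430b583014430adc30410302f0309943))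 (bit (nat_lit 685)) s18 = true := by decide +kernel
theorem o23 (M : PM G Ω 1080 H15.StdO8p3.nets) (hN : Nat.card G = 4952179814400) : Orb M ⊤ [nat_lit 1, nat_lit 0] (nat_lit 685) s18 :=
  (Orb.ext le_top (orb_bit ⊤ [nat_lit 1, nat_lit 0] (b := (nat_lit 685)) rfl) k22)
noncomputable def s24 : Nat := (nat_lit 0x100000000000000000000002100000004000000000000000000200000000000040800000000020000000000000100000004000000000800042000000000004000800200000000000000000000000100000000002000008000000000000000000000004000000000000800000000000000000010000000000000000000000000000000c00a2000)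
noncomputable def w25 : Word := [nat_lit 26, nat_lit 34, nat_lit 29]
noncomputable def w26 : Word := [nat_lit 14, nat_lit 24, nat_lit 27, nat_lit 29, nat_lit 15]
noncomputable def w27 : Word := [nat_lit 15, nat_lit 18, nat_lit 22, nat_lit 19, nat_lit 14]
theorem k28 : orbChk (nat_lit 1080) H15.StdO8p3.nets F [nat_lit 685, nat_lit 1, nat_lit 0] (sel [w25, w26, w27] [nat_lit 0, nat_lit 1, nat_lit 2]) [] (dn (nat_lit 20) (nat_lit 0x0a0c209c8210c020c04100343088420884108f820f54206542065410d9420d94103ac303ac20aa830aa82004c2004c108bc308bc202702027010cc830cc820cc81)) (bit (nat_lit 818)) s24 = true := by decide +kernel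
theorem o29 (M : PM G Ω 1080 H15.StdO8p3.nets) (hN : Nat.card G = 4952179814400) : Orb M ⊤ [nat_lit 685, nat_lit 1, nat_lit 0] (nat_lit 818) s24 :=
  (Orb.ext le_top (orb_bit ⊤ [nat_lit 685, nat_lit 1, nat_lit 0] (b := (nat_lit 818)) rfl) k28)
noncomputable def s30 : Nat := (nat_lit 0x2000000000000000000000000000000000000000000000000000000000000000000000000000000000000000000000000000000000000000000000000000000000000000000000000000000000000000000000000000000000000000000080000)
noncomputable def w31 : Word := [nat_lit 26, nat_lit 14, nat_lit 20, nat_lit 20, nat_lit 32, nat_lit 19]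
theorem k32 : orbChk (nat_lit 1080) H15.StdO8p3.nets F [nat_lit 818, nat_lit 685, nat_lit 1, nat_lit 0] (sel [w31] [nat_lit 0]) [] (dn (nat_lit 20) (nat_lit 0x004c1)) (bit (nat_lit 19)) s30 = true := by decide +kernel
theorem o33 (M : PM G Ω 1080 H15.StdO8p3.nets) (hN : Nat.card G = 4952179814400) : Orb M ⊤ [nat_lit 818, nat_lit 685, nat_lit 1, nat_lit 0] (nat_lit 19) s30 :=
  (Orb.ext le_top (orb_bit ⊤ [nat_lit 818, nat_lit 685, nat_lit 1, nat_lit 0] (b := (nat_lit 19)) rfl) k32)
noncomputable def s34 : Nat := (nat_lit 0x10000000000000000000000008000000000000000000000000000000080000000000000800000000800000000800000000000000000100004000000200000800000000000000000000000000000000000400000000000004000000040002000800000000400000000000000000800000000000000010000000000000000000)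
noncomputable def w35 : Word := [nat_lit 32, nat_lit 26, nat_lit 33, nat_lit 27]
noncomputable def w36 : Word := [nat_lit 29, nat_lit 14, nat_lit 16, nat_lit 15, nat_lit 28]
noncomputable def w37 : Word := [nat_lit 19, nat_lit 21, nat_lit 24, nat_lit 24, nat_lit 21, nat_lit 18]
theorem k38 : orbChk (nat_lit 1080) H15.StdO8p3.nets F [nat_lit 19, nat_lit 818, nat_lit 685, nat_lit 1, nat_lit 0] (sel [w35, w36, w37] [nat_lit 0, nat_lit 1, nat_lit 2]) [] (dn (nat_lit 20) (nat_lit 0x080c204e8303ec20b6c30e4c20e4c10a4c30a4c1046820468109203092010adc30adc20c4c30c4c20c4c1)) (bit (nat_lit 787)) s34 = true := by decide +kernel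
theorem o39 (M : PM G Ω 1080 H15.StdO8p3.nets) (hN : Nat.card G = 4952179814400) : Orb M ⊤ [nat_lit 19, nat_lit 818, nat_lit 685, nat_lit 1, nat_lit 0] (nat_lit 787) s34 :=
  (Orb.ext le_top (orb_bit ⊤ [nat_lit 19, nat_lit 818, nat_lit 685, nat_lit 1, nat_lit 0] (b := (nat_lit 787)) rfl) k38)
noncomputable def s40 : Nat := (nat_lit 0x2000000000000000004000000000000000000000000000000000000000000100400002000000000000000000000000000000000000000000000001000001000000000000000000000000000000000000000000000800000000000000000000000000000000000000000040000)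
noncomputable def w41 : Word := [nat_lit 16, nat_lit 34, nat_lit 18, nat_lit 28, nat_lit 20, nat_lit 34, nat_lit 21]
noncomputable def w42 : Word := [nat_lit 18, nat_lit 22, nat_lit 15, nat_lit 29, nat_lit 29, nat_lit 14, nat_lit 22, nat_lit 19]
theorem k43 : orbChk (nat_lit 1080) H15.StdO8p3.nets F [nat_lit 787, nat_lit 19, nat_lit 818, nat_lit 685, nat_lit 1, nat_lit 0] (sel [w41, w42] [nat_lit 0, nat_lit 1]) [] (dn (nat_lit 20) (nat_lit 0x0988205d020d84209b0200482004810630206301)) (bit (nat_lit 396)) s40 = true := by decide +kernel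
theorem o44 (M : PM G Ω 1080 H15.StdO8p3.nets) (hN : Nat.card G = 4952179814400) : Orb M ⊤ [nat_lit 787, nat_lit 19, nat_lit 818, nat_lit 685, nat_lit 1, nat_lit 0] (nat_lit 396) s40 :=
  (Orb.ext le_top (orb_bit ⊤ [nat_lit 787, nat_lit 19, nat_lit 818, nat_lit 685, nat_lit 1, nat_lit 0] (b := (nat_lit 396)) rfl) k43)
noncomputable def s45 : Nat := (nat_lit 0x10000000000000000000000000000000000000000000000000000000000000000400000000000000000200000000000000000000000000000000000000000000000000000000000000000000000000000000000000000000000000000000000000000000000000000000000000000000000000000000000000000000000000000)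
noncomputable def w46 : Word := [nat_lit 21, nat_lit 14, nat_lit 26, nat_lit 25, nat_lit 26, nat_lit 25, nat_lit 15, nat_lit 20]
theorem k47 : orbChk (nat_lit 1080) H15.StdO8p3.nets F [nat_lit 396, nat_lit 787, nat_lit 19, nat_lit 818, nat_lit 685, nat_lit 1, nat_lit 0] (sel [w46] [nat_lit 0]) [] (dn (nat_lit 20) (nat_lit 0x100010ad41)) (bit (nat_lit 693)) s45 = true := by decide +kernel
theorem o48 (M : PM G Ω 1080 H15.StdO8p3.nets) (hN : Nat.card G = 4952179814400) : Orb M ⊤ [nat_lit 396, nat_lit 787, nat_lit 19, nat_lit 818, nat_lit 685, nat_lit 1, nat_lit 0] (nat_lit 693) s45 :=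
  (Orb.ext le_top (orb_bit ⊤ [nat_lit 396, nat_lit 787, nat_lit 19, nat_lit 818, nat_lit 685, nat_lit 1, nat_lit 0] (b := (nat_lit 693)) rfl) k47)
noncomputable def c49 : Chn := [((nat_lit 0), (full (nat_lit 1080))), ((nat_lit 1), L.KO8p3.s32), ((nat_lit 685), s18), ((nat_lit 818), s24), ((nat_lit 19), s30), ((nat_lit 787), s34), ((nat_lit 396), s40), ((nat_lit 693), s45)]
theorem k50 : Nat.ble 4952179814400 (cval (nat_lit 1080) c49) = true := by decide +kernel
theorem e51 (M : PM G Ω 1080 H15.StdO8p3.nets) (hN : Nat.card G = 4952179814400) : EC M ⊤ [] c49 :=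
  ec_top (c := c49) ⟨(L.KO8p3.o4 M hN), ⟨(L.KO8p3.o34 M hN), ⟨(o23 M hN), ⟨(o29 M hN), ⟨(o33 M hN), ⟨(o39 M hN), ⟨(o44 M hN), ⟨(o48 M hN), trivial⟩⟩⟩⟩⟩⟩⟩⟩ hN k50
noncomputable def w52 : Word := [nat_lit 15, nat_lit 32, nat_lit 34, nat_lit 33, nat_lit 21, nat_lit 28, nat_lit 16, nat_lit 24, nat_lit 18, nat_lit 14]
noncomputable def w53 : Word := [nat_lit 34, nat_lit 29, nat_lit 30, nat_lit 20, nat_lit 30, nat_lit 18, nat_lit 14, nat_lit 29, nat_lit 12, nat_lit 10]
noncomputable def p54 : Prs := [(w53, w52)]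
noncomputable def s55 : Nat := (nat_lit 0x11000030402c0800000800220020c00842202008000000008222000000040010a0c020000100000108010400001001000241000200280400400808120c00040008102208880008080000020000001201000024020808a90000100000060200000000800000000511100080000010000000000100040088000800040000300000048025202210b)
theorem k56 : band (Nat.ble (nat_lit 1080) (Nat.pow 2 (nat_lit 11))) (fsChk (nat_lit 1080) (nat_lit 11) H15.StdO8p3.nets w53 s55 (full (nat_lit 1080)) 0 0 (nat_lit 11)) = true := by decide +kernel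
theorem f57 (M : PM G Ω 1080 H15.StdO8p3.nets) (hN : Nat.card G = 4952179814400) : IsFix M w53 s55 :=
  fix_one k56
noncomputable def s58 : Nat := (nat_lit 0x10008002200000a20220000221800c4000222804880000000020004005000801088803200010000010001808020040000800000200000804000000091080000050804a2190000000005000000048004000010000600400148200440000240004000002040009200101082800000100000042041000600800000301000010000204091002400001)
theorem k59 : band (Nat.ble (nat_lit 1080) (Nat.pow 2 (nat_lit 11))) (fsChk (nat_lit 1080) (nat_lit 11) H15.StdO8p3.nets w52 s58 (full (nat_lit 1080)) 0 0 (nat_lit 11)) = true := by decide +kernel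
theorem f60 (M : PM G Ω 1080 H15.StdO8p3.nets) (hN : Nat.card G = 4952179814400) : IsFix M w52 s58 :=
  fix_one k59
theorem k61 : relK F bs0 [(w53, flat (fsts p54) [nat_lit 0]), (w52, flat (snds p54) [nat_lit 0])] = true := by decide +kernel
noncomputable def b62 : List (Nat × Nat) := [(s55, s58)]
noncomputable def w63 : Word := [nat_lit 32, nat_lit 34, nat_lit 26, nat_lit 30, nat_lit 25, nat_lit 19, nat_lit 24, nat_lit 0, nat_lit 20, nat_lit 4, nat_lit 34]
noncomputable def w64 : Word := [nat_lit 5, nat_lit 33, nat_lit 30, nat_lit 19, nat_lit 20, nat_lit 0, nat_lit 24, nat_lit 19, nat_lit 5]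
noncomputable def w65 : Word := [nat_lit 33, nat_lit 30, nat_lit 21, nat_lit 14, nat_lit 14, nat_lit 30, nat_lit 15, nat_lit 1, nat_lit 20, nat_lit 24, nat_lit 12, nat_lit 0]
noncomputable def y66 : List Word := [w63, w64, w65]
theorem k67 : relK F bs0 (commR (snds p54) y66) = true := by decide +kernel
theorem x68 (M : PM G Ω 1080 H15.StdO8p3.nets) (hN : Nat.card G = 4952179814400) : Cx M (fun g => Pr M g p54) b62 [] p54 y66 :=
  cx_conj (tb_cons (f57 M hN) (f60 M hN) (rels_base (base0 M hN) k61) (fun _ _ => fa_nil)) (rels_base (base0 M hN) k67)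
noncomputable def t69 : KT := KT.alt [] (KT.cnt (SE.and (SE.lev (nat_lit 1)) (SE.tab (nat_lit 0))))
 (KT.nil (SE.and (SE.lev (nat_lit 0)) (SE.tab (nat_lit 0))) [nat_lit 0, nat_lit 1, nat_lit 2] [dw (nat_lit 0x03), dw (nat_lit 0x01)] (dn (nat_lit 20) (nat_lit 0x0d40306583009030f0c300c8300c820238305f0300e430f54308bc30288302881028820cac30cac108d0210543032030860308602085c30eb4300a03088430884104203042010c743005810c80306a0108503085020ffc1038c30e5c30e8c306f8306f8106f820f4030f401027030270105982013010d4830d4810d482072c3072c108743087410f0830ea430ea4100ac300ac20e6830e6810e682058830588105882042c30acc30acc10bd030bd020f6430f6420ef830ef810ef8205dc30ff430ff410a0c30a0c20fb410fb4203e0310643106411064205c4305c4105c420e9430e941020c3020c209e8309e8101a4301a410fe4301a0301a020cbc30cbc203ac300003)))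
theorem k70 : ktChk (nat_lit 1080) H15.StdO8p3.nets F c49 b62 [] p54 y66 [] [] (nat_lit 0) (nat_lit 0) 0 0 t69 = true := by decide +kernel
theorem l71 (M : PM G Ω 1080 H15.StdO8p3.nets) (hN : Nat.card G = 4952179814400) : Cl M (fun g => Pr M g p54) [] [] (nat_lit 0) 0 :=
  cl_tree (e51 M hN) (x68 M hN) (dd0 _ _ _ _) k70
noncomputable def w72 : Word := [nat_lit 5, nat_lit 14, nat_lit 3, nat_lit 18, nat_lit 18]
theorem k73 : relK F bs0 [(List.append VO8p3x3.ra w72, List.append w72 w52)] = true := by decide +kernel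
theorem k74 : relK F bs0 [(List.append VO8p3x3.rc w72, List.append w72 w53)] = true := by decide +kernel
theorem q75 (M : PM G Ω 1080 H15.StdO8p3.nets) (hN : Nat.card G = 4952179814400) : ¬ IsConj (ev M.gen VO8p3x3.rc) (ev M.gen VO8p3x3.ra) :=
  fun h => nconj_of (l71 M hN) (((conj_of_rel' (rels_base (base0 M hN) k74)).symm.trans h).trans (conj_of_rel' (rels_base (base0 M hN) k73)))
noncomputable def w76 : Word := [nat_lit 8, nat_lit 34, nat_lit 32, nat_lit 27, nat_lit 22, nat_lit 19, nat_lit 15, nat_lit 18, nat_lit 22, nat_lit 20, nat_lit 8]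
theorem k77 : relK F bs0 [(List.append (invW VO8p3x3.ra) w76, List.append w76 VO8p3x3.ra)] = true := by decide +kernel
theorem nc2 (M : PM G Ω 1080 H15.StdO8p3.nets) (hN : Nat.card G = 4952179814400) : ∀ j < 2, ¬ CjS (sub M.gen [VO8p3x3.rc]) (sub M.gen [getL [] xs j]) :=
  fun j hj => by interval_cases j; exacts [nc3r (ord2 M hN) (ord0 M hN) (q75 M hN) (conj_of_rel' (rels_base (base0 M hN) k77)), (fc2 M hN).nc (fc1 M hN) (by decide)]
noncomputable def s78 : Nat := (nat_lit 0x200000080000008c000800000000010000100000800000000000000000001000000000800020040000080000000000080000000010000080000800000000000000000002000000000000000000000000000000040000000000000000240000000000000000040000000001000000000000080001000000000000000000000020)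
theorem k79 : band (Nat.ble (nat_lit 1080) (Nat.pow 2 (nat_lit 11))) (fsChk (nat_lit 1080) (nat_lit 11) H15.StdO8p3.nets VO8p3x3.rd s78 (full (nat_lit 1080)) 0 0 (nat_lit 11)) = true := by decide +kernel
theorem f80 (M : PM G Ω 1080 H15.StdO8p3.nets) (hN : Nat.card G = 4952179814400) : IsFix M VO8p3x3.rd s78 :=
  fix_one k79
theorem k81 : relK F bs0 [(powW VO8p3x3.rd 3, [])] = true := by decide +kernel
theorem r82 (M : PM G Ω 1080 H15.StdO8p3.nets) (hN : Nat.card G = 4952179814400) : orderOf (ev M.gen VO8p3x3.rd) = 3 :=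
  order_of_rel (F := F) (b := 0) (by norm_num) (rels_base (base0 M hN) k81) (by decide +kernel)
theorem ord3 (M : PM G Ω 1080 H15.StdO8p3.nets) (hN : Nat.card G = 4952179814400) : orderOf (ev M.gen VO8p3x3.rd) = 3 :=
  (r82 M hN)
noncomputable def B3 : Nat := s78
theorem fix3 (M : PM G Ω 1080 H15.StdO8p3.nets) (hN : Nat.card G = 4952179814400) : IsFixL M [VO8p3x3.rd] B3 :=
  IsFix.fixL (f80 M hN)
theorem k83 : Nat.beq (pop (nat_lit 1080) B3) 27 = true := by decide +kernel
theorem fc3 (M : PM G Ω 1080 H15.StdO8p3.nets) (hN : Nat.card G = 4952179814400) : FixC M [VO8p3x3.rd] 27 :=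
  ⟨_, fix3 M hN, Nat.eq_of_beq_eq_true k83⟩
theorem nc3 (M : PM G Ω 1080 H15.StdO8p3.nets) (hN : Nat.card G = 4952179814400) : ∀ j < 3, ¬ CjS (sub M.gen [VO8p3x3.rd]) (sub M.gen [getL [] xs j]) :=
  fun j hj => by interval_cases j; exacts [(fc3 M hN).nc (fc0 M hN) (by decide), (fc3 M hN).nc (fc1 M hN) (by decide), (fc3 M hN).nc (fc2 M hN) (by decide)]
theorem k84 : band (Nat.ble (nat_lit 1080) (Nat.pow 2 (nat_lit 11))) (fsChk (nat_lit 1080) (nat_lit 11) H15.StdO8p3.nets VO8p3x3.re (nat_lit 0) (full (nat_lit 1080)) 0 0 (nat_lit 11)) = true := by decide +kernel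
theorem f85 (M : PM G Ω 1080 H15.StdO8p3.nets) (hN : Nat.card G = 4952179814400) : IsFix M VO8p3x3.re (nat_lit 0) :=
  fix_one k84
theorem k86 : relK F bs0 [(powW VO8p3x3.re 3, [])] = true := by decide +kernel
theorem r87 (M : PM G Ω 1080 H15.StdO8p3.nets) (hN : Nat.card G = 4952179814400) : orderOf (ev M.gen VO8p3x3.re) = 3 :=
  order_of_rel (F := F) (b := 0) (by norm_num) (rels_base (base0 M hN) k86) (by decide +kernel)
theorem ord4 (M : PM G Ω 1080 H15.StdO8p3.nets) (hN : Nat.card G = 4952179814400) : orderOf (ev M.gen VO8p3x3.re) = 3 :=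
  (r87 M hN)
noncomputable def B4 : Nat := (nat_lit 0)
theorem fix4 (M : PM G Ω 1080 H15.StdO8p3.nets) (hN : Nat.card G = 4952179814400) : IsFixL M [VO8p3x3.re] B4 :=
  IsFix.fixL (f85 M hN)
theorem k88 : Nat.beq (pop (nat_lit 1080) B4) 0 = true := by decide +kernel
theorem fc4 (M : PM G Ω 1080 H15.StdO8p3.nets) (hN : Nat.card G = 4952179814400) : FixC M [VO8p3x3.re] 0 :=
  ⟨_, fix4 M hN, Nat.eq_of_beq_eq_true k88⟩
theorem nc4 (M : PM G Ω 1080 H15.StdO8p3.nets) (hN : Nat.card G = 4952179814400) : ∀ j < 4, ¬ CjS (sub M.gen [VO8p3x3.re]) (sub M.gen [getL [] xs j]) :=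
  fun j hj => by interval_cases j; exacts [(fc4 M hN).nc (fc0 M hN) (by decide), (fc4 M hN).nc (fc1 M hN) (by decide), (fc4 M hN).nc (fc2 M hN) (by decide), (fc4 M hN).nc (fc3 M hN) (by decide)]
theorem k89 : band (Nat.ble (nat_lit 1080) (Nat.pow 2 (nat_lit 11))) (fsChk (nat_lit 1080) (nat_lit 11) H15.StdO8p3.nets VO8p3x3.rf (nat_lit 0) (full (nat_lit 1080)) 0 0 (nat_lit 11)) = true := by decide +kernel
theorem f90 (M : PM G Ω 1080 H15.StdO8p3.nets) (hN : Nat.card G = 4952179814400) : IsFix M VO8p3x3.rf (nat_lit 0) :=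
  fix_one k89
theorem k91 : relK F bs0 [(powW VO8p3x3.rf 3, [])] = true := by decide +kernel
theorem r92 (M : PM G Ω 1080 H15.StdO8p3.nets) (hN : Nat.card G = 4952179814400) : orderOf (ev M.gen VO8p3x3.rf) = 3 :=
  order_of_rel (F := F) (b := 0) (by norm_num) (rels_base (base0 M hN) k91) (by decide +kernel)
theorem ord5 (M : PM G Ω 1080 H15.StdO8p3.nets) (hN : Nat.card G = 4952179814400) : orderOf (ev M.gen VO8p3x3.rf) = 3 :=
  (r92 M hN)
noncomputable def B5 : Nat := (nat_lit 0)
theorem fix5 (M : PM G Ω 1080 H15.StdO8p3.nets) (hN : Nat.card G = 4952179814400) : IsFixL M [VO8p3x3.rf] B5 :=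
  IsFix.fixL (f90 M hN)
theorem k93 : Nat.beq (pop (nat_lit 1080) B5) 0 = true := by decide +kernel
theorem fc5 (M : PM G Ω 1080 H15.StdO8p3.nets) (hN : Nat.card G = 4952179814400) : FixC M [VO8p3x3.rf] 0 :=
  ⟨_, fix5 M hN, Nat.eq_of_beq_eq_true k93⟩
noncomputable def s94 : Nat := (nat_lit 0x414120004200104000100a00290000000440000040000000a000ab2412200028040810840200029001000000000121000004402001090900053404400020084022800200000000002001500002001184440000002010008810002000000000004208006800000000000800000000008000800050100000000000000001000004008001c00fa000)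
theorem k95 : orbChk (nat_lit 1080) H15.StdO8p3.nets F [nat_lit 1, nat_lit 0] (sel [w19, w20, w21] [nat_lit 0, nat_lit 1, nat_lit 2]) [dw (nat_lit 0x01), dw (nat_lit 0x03), dw (nat_lit 0x01), dw (nat_lit 0x05), dw (nat_lit 0x01), dw (nat_lit 0x03)] (dn (nat_lit 20) (nat_lit 0x0f4c10d9c1046c30a98210c010dd420e5820c7c108d42027810ddc104c42059430d7420f5410f4010bf01070010eb810884200e8200e810c682007c2007c110102101010ec8102fc302fc10d8430d841071020a2c20cf420cf410c44110a011094208c4109b4209b410d50200342003410654206e8307901003c2003c10d8c10b2030b2010078304d8304d8204d810a4020a40106d8306d820a2030a2010f8430f84110b830cc830cc810988108bc30bfc30bfc106c8105d0305d01008030d943)) (bit (nat_lit 18)) s94 = true := by decide +kernel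
theorem o96 (M : PM G Ω 1080 H15.StdO8p3.nets) (hN : Nat.card G = 4952179814400) : Orb M ⊤ [nat_lit 1, nat_lit 0] (nat_lit 18) s94 :=
  (Orb.ext le_top (orb_bit ⊤ [nat_lit 1, nat_lit 0] (b := (nat_lit 18)) rfl) k95)
noncomputable def s97 : Nat := (nat_lit 0x4020000000004000000a000800000004400000400000000000a02412000028040810000200020001000000000121000000000001000900040000000000084022800200000000000001400002000004440000000000008800002000000000004208004000000000000800000000000000800010100000000000000001000004000000c001a000)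
noncomputable def w98 : Word := [nat_lit 25, nat_lit 20, nat_lit 20, nat_lit 25]
noncomputable def w99 : Word := [nat_lit 26, nat_lit 32, nat_lit 27, nat_lit 27]
theorem k100 : orbChk (nat_lit 1080) H15.StdO8p3.nets F [nat_lit 18, nat_lit 1, nat_lit 0] (sel [w21, w98, w99] [nat_lit 0, nat_lit 1, nat_lit 2]) [dw (nat_lit 0x01)] (dn (nat_lit 20) (nat_lit 0x088430e583090c30f8c20f8c10d9420b14306d8306d8206d8109c8309c82007c3007c10d5030cc820a0030cac30eb8105ec304c430c4430c4420c4410d6820f84206e8306e8206e810b2020b2010ec810078308f8208f810bc020bc01059430594103ac303ac203ac10478304781079810b0030b0020034308bc308bc20d7430d74108c4308c4106c83004020a0c30a0c2)) (bit (nat_lit 643)) s97 = true := by decide +kernel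
theorem o101 (M : PM G Ω 1080 H15.StdO8p3.nets) (hN : Nat.card G = 4952179814400) : Orb M ⊤ [nat_lit 18, nat_lit 1, nat_lit 0] (nat_lit 643) s97 :=
  (Orb.ext le_top (orb_bit ⊤ [nat_lit 18, nat_lit 1, nat_lit 0] (b := (nat_lit 643)) rfl) k100)
noncomputable def w102 : Word := [nat_lit 14, nat_lit 22, nat_lit 15, nat_lit 26, nat_lit 32, nat_lit 27, nat_lit 27]
theorem k103 : orbChk (nat_lit 1080) H15.StdO8p3.nets F [nat_lit 643, nat_lit 18, nat_lit 1, nat_lit 0] (sel [w102] [nat_lit 0]) [] (dn (nat_lit 20) (nat_lit 0x01701)) (bit (nat_lit 92)) (nat_lit 0x100000100000000000000000) = true := by decide +kernel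
theorem o104 (M : PM G Ω 1080 H15.StdO8p3.nets) (hN : Nat.card G = 4952179814400) : Orb M ⊤ [nat_lit 643, nat_lit 18, nat_lit 1, nat_lit 0] (nat_lit 92) (nat_lit 0x100000100000000000000000) :=
  (Orb.ext le_top (orb_bit ⊤ [nat_lit 643, nat_lit 18, nat_lit 1, nat_lit 0] (b := (nat_lit 92)) rfl) k103)
noncomputable def s105 : Nat := (nat_lit 0x410000000200000000000000000000000000000000000000000009000000000000000000000000000000000000000000000040200000000000000000000000000000000000000000000000000000010000000000200000000000000000000000000000000000000000000000000000000000000000000000000000000000000000000000000000)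
noncomputable def w106 : Word := [nat_lit 34, nat_lit 30, nat_lit 34, nat_lit 30]
noncomputable def w107 : Word := [nat_lit 15, nat_lit 32, nat_lit 29, nat_lit 34, nat_lit 28, nat_lit 14]
noncomputable def w108 : Word := [nat_lit 28, nat_lit 18, nat_lit 26, nat_lit 18, nat_lit 29, nat_lit 26]
theorem k109 : orbChk (nat_lit 1080) H15.StdO8p3.nets F [nat_lit 92, nat_lit 643, nat_lit 18, nat_lit 1, nat_lit 0] (sel [w106, w107, w108] [nat_lit 0, nat_lit 1, nat_lit 2]) [] (dn (nat_lit 20) (nat_lit 0x0d8c20d8020a98307003070020a7430a7420a741)) (bit (nat_lit 669)) s105 = true := by decide +kernel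
theorem o110 (M : PM G Ω 1080 H15.StdO8p3.nets) (hN : Nat.card G = 4952179814400) : Orb M ⊤ [nat_lit 92, nat_lit 643, nat_lit 18, nat_lit 1, nat_lit 0] (nat_lit 669) s105 :=
  (Orb.ext le_top (orb_bit ⊤ [nat_lit 92, nat_lit 643, nat_lit 18, nat_lit 1, nat_lit 0] (b := (nat_lit 669)) rfl) k109)
noncomputable def s111 : Nat := (nat_lit 0x40000000000000000000000000000000000000000000000000000000000000000000200000000000000000000000000000000000000000000000000000000000000000000000000000000000000000000000000000)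
noncomputable def w112 : Word := [nat_lit 14, nat_lit 25, nat_lit 15, nat_lit 22, nat_lit 14, nat_lit 24, nat_lit 15]
theorem k113 : orbChk (nat_lit 1080) H15.StdO8p3.nets F [nat_lit 669, nat_lit 92, nat_lit 643, nat_lit 18, nat_lit 1, nat_lit 0] (sel [w112] [nat_lit 0]) [] (dn (nat_lit 20) (nat_lit 0x06541)) (bit (nat_lit 405)) s111 = true := by decide +kernel
theorem o114 (M : PM G Ω 1080 H15.StdO8p3.nets) (hN : Nat.card G = 4952179814400) : Orb M ⊤ [nat_lit 669, nat_lit 92, nat_lit 643, nat_lit 18, nat_lit 1, nat_lit 0] (nat_lit 405) s111 :=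
  (Orb.ext le_top (orb_bit ⊤ [nat_lit 669, nat_lit 92, nat_lit 643, nat_lit 18, nat_lit 1, nat_lit 0] (b := (nat_lit 405)) rfl) k113)
noncomputable def s115 : Nat := (nat_lit 0x400000000000000000000000000000000000000000000000002000000000000000000000000000000000000000000000000000000000000040000000000000000000000000208000000000000000000000000000000000000000010000000000000000004000000000000000000000000000000000004800000000)
noncomputable def w116 : Word := [nat_lit 30, nat_lit 34, nat_lit 14, nat_lit 34, nat_lit 15, nat_lit 30]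
noncomputable def w117 : Word := [nat_lit 15, nat_lit 18, nat_lit 16, nat_lit 33, nat_lit 33, nat_lit 19, nat_lit 14]
theorem k118 : orbChk (nat_lit 1080) H15.StdO8p3.nets F [nat_lit 405, nat_lit 669, nat_lit 92, nat_lit 643, nat_lit 18, nat_lit 1, nat_lit 0] (sel [w116, w117] [nat_lit 0, nat_lit 1]) [] (dn (nat_lit 20) (nat_lit 0x00982069c1040020400106b4206b41008c2008c1)) (bit (nat_lit 35)) s115 = true := by decide +kernel
theorem o119 (M : PM G Ω 1080 H15.StdO8p3.nets) (hN : Nat.card G = 4952179814400) : Orb M ⊤ [nat_lit 405, nat_lit 669, nat_lit 92, nat_lit 643, nat_lit 18, nat_lit 1, nat_lit 0] (nat_lit 35) s115 :=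
  (Orb.ext le_top (orb_bit ⊤ [nat_lit 405, nat_lit 669, nat_lit 92, nat_lit 643, nat_lit 18, nat_lit 1, nat_lit 0] (b := (nat_lit 35)) rfl) k118)
noncomputable def s120 : Nat := (nat_lit 0x40000000000000000000000000000000000000000000800000000000000000000000000000000000000000000000000000000000000000000000000000000000000000000000000000000000000000000000000000000000000000000000000000000000000000000000000000000000000000002000000000000000000000000000000)
noncomputable def w121 : Word := [nat_lit 15, nat_lit 21, nat_lit 22, nat_lit 18, nat_lit 26, nat_lit 16, nat_lit 18, nat_lit 14]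
theorem k122 : orbChk (nat_lit 1080) H15.StdO8p3.nets F [nat_lit 35, nat_lit 405, nat_lit 669, nat_lit 92, nat_lit 643, nat_lit 18, nat_lit 1, nat_lit 0] (sel [w121] [nat_lit 0]) [] (dn (nat_lit 20) (nat_lit 0x1068101e41)) (bit (nat_lit 121)) s120 = true := by decide +kernel
theorem o123 (M : PM G Ω 1080 H15.StdO8p3.nets) (hN : Nat.card G = 4952179814400) : Orb M ⊤ [nat_lit 35, nat_lit 405, nat_lit 669, nat_lit 92, nat_lit 643, nat_lit 18, nat_lit 1, nat_lit 0] (nat_lit 121) s120 :=
  (Orb.ext le_top (orb_bit ⊤ [nat_lit 35, nat_lit 405, nat_lit 669, nat_lit 92, nat_lit 643, nat_lit 18, nat_lit 1, nat_lit 0] (b := (nat_lit 121)) rfl) k122)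
noncomputable def c124 : Chn := [((nat_lit 0), (full (nat_lit 1080))), ((nat_lit 1), L.KO8p3.s32), ((nat_lit 18), s94), ((nat_lit 643), s97), ((nat_lit 92), (nat_lit 0x100000100000000000000000)), ((nat_lit 669), s105), ((nat_lit 405), s111), ((nat_lit 35), s115), ((nat_lit 121), s120)]
theorem k125 : Nat.ble 4952179814400 (cval (nat_lit 1080) c124) = true := by decide +kernel
theorem e126 (M : PM G Ω 1080 H15.StdO8p3.nets) (hN : Nat.card G = 4952179814400) : EC M ⊤ [] c124 :=
  ec_top (c := c124) ⟨(L.KO8p3.o4 M hN), ⟨(L.KO8p3.o34 M hN), ⟨(o96 M hN), ⟨(o101 M hN), ⟨(o104 M hN), ⟨(o110 M hN), ⟨(o114 M hN), ⟨(o119 M hN), ⟨(o123 M hN), trivial⟩⟩⟩⟩⟩⟩⟩⟩⟩ hN k125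
noncomputable def w127 : Word := [nat_lit 5, nat_lit 30, nat_lit 33, nat_lit 25, nat_lit 15, nat_lit 20, nat_lit 5, nat_lit 19, nat_lit 14, nat_lit 24, nat_lit 14]
noncomputable def w128 : Word := [nat_lit 5, nat_lit 26, nat_lit 22, nat_lit 28, nat_lit 16, nat_lit 14, nat_lit 14, nat_lit 24, nat_lit 10, nat_lit 5]
noncomputable def p129 : Prs := [(w128, w127)]
noncomputable def b130 : List (Nat × Nat) := []
noncomputable def w131 : Word := [nat_lit 13, nat_lit 32, nat_lit 29, nat_lit 22, nat_lit 18, nat_lit 22, nat_lit 14, nat_lit 14, nat_lit 24, nat_lit 13, nat_lit 32, nat_lit 6]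
noncomputable def w132 : Word := [nat_lit 32, nat_lit 29, nat_lit 16, nat_lit 33, nat_lit 14, nat_lit 21, nat_lit 14, nat_lit 0, nat_lit 18, nat_lit 27, nat_lit 22, nat_lit 13]
noncomputable def w133 : Word := [nat_lit 27, nat_lit 19, nat_lit 16, nat_lit 15, nat_lit 24, nat_lit 16, nat_lit 5, nat_lit 21, nat_lit 15, nat_lit 20, nat_lit 28]
noncomputable def w134 : Word := [nat_lit 32, nat_lit 30, nat_lit 24, nat_lit 29, nat_lit 16, nat_lit 28, nat_lit 14, nat_lit 6, nat_lit 15, nat_lit 25, nat_lit 27, nat_lit 16]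
noncomputable def w135 : Word := [nat_lit 32, nat_lit 27, nat_lit 21, nat_lit 18, nat_lit 30, nat_lit 16, nat_lit 29]
noncomputable def w136 : Word := [nat_lit 6, nat_lit 30, nat_lit 22, nat_lit 1, nat_lit 22, nat_lit 30, nat_lit 6]
noncomputable def w137 : Word := [nat_lit 34, nat_lit 33, nat_lit 16, nat_lit 20, nat_lit 27, nat_lit 14, nat_lit 16, nat_lit 8, nat_lit 15, nat_lit 18, nat_lit 14, nat_lit 25]
noncomputable def w138 : Word := [nat_lit 28, nat_lit 30, nat_lit 25, nat_lit 16, nat_lit 25, nat_lit 25, nat_lit 33, nat_lit 29]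
noncomputable def w139 : Word := [nat_lit 32, nat_lit 32, nat_lit 20, nat_lit 25, nat_lit 18, nat_lit 15, nat_lit 29, nat_lit 19, nat_lit 0, nat_lit 16, nat_lit 20, nat_lit 15]
noncomputable def w140 : Word := [nat_lit 25, nat_lit 16, nat_lit 19, nat_lit 15, nat_lit 25, nat_lit 19, nat_lit 0, nat_lit 24, nat_lit 10, nat_lit 2, nat_lit 15]
noncomputable def w141 : Word := [nat_lit 25, nat_lit 21, nat_lit 19, nat_lit 16, nat_lit 20, nat_lit 15, nat_lit 21, nat_lit 1, nat_lit 8, nat_lit 13, nat_lit 30, nat_lit 26]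
noncomputable def w142 : Word := [nat_lit 34, nat_lit 18, nat_lit 14, nat_lit 16, nat_lit 28, nat_lit 20, nat_lit 24, nat_lit 30]
noncomputable def w143 : Word := [nat_lit 1, nat_lit 34, nat_lit 28, nat_lit 27, nat_lit 16, nat_lit 30, nat_lit 24, nat_lit 0, nat_lit 28, nat_lit 28]
noncomputable def w144 : Word := [nat_lit 27, nat_lit 30, nat_lit 29, nat_lit 19, nat_lit 14, nat_lit 28, nat_lit 0, nat_lit 15, nat_lit 1, nat_lit 2, nat_lit 33]
noncomputable def w145 : Word := [nat_lit 21, nat_lit 24, nat_lit 16, nat_lit 20, nat_lit 24, nat_lit 15, nat_lit 19, nat_lit 15, nat_lit 1, nat_lit 20, nat_lit 6, nat_lit 15]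
noncomputable def w146 : Word := [nat_lit 34, nat_lit 28, nat_lit 26, nat_lit 21, nat_lit 24, nat_lit 14, nat_lit 28, nat_lit 19, nat_lit 5, nat_lit 12, nat_lit 32, nat_lit 20, nat_lit 14]
noncomputable def w147 : Word := [nat_lit 28, nat_lit 25, nat_lit 27, nat_lit 14, nat_lit 14, nat_lit 24, nat_lit 24, nat_lit 8, nat_lit 26, nat_lit 20, nat_lit 16]
noncomputable def w148 : Word := [nat_lit 33, nat_lit 27, nat_lit 30, nat_lit 15, nat_lit 18, nat_lit 20, nat_lit 6, nat_lit 15, nat_lit 18, nat_lit 8, nat_lit 32]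
noncomputable def w149 : Word := [nat_lit 33, nat_lit 34, nat_lit 26, nat_lit 22, nat_lit 14, nat_lit 29, nat_lit 8, nat_lit 30, nat_lit 14, nat_lit 34, nat_lit 14]
noncomputable def w150 : Word := [nat_lit 27, nat_lit 30, nat_lit 24, nat_lit 29, nat_lit 16, nat_lit 22, nat_lit 15, nat_lit 25, nat_lit 34, nat_lit 27]
noncomputable def w151 : Word := [nat_lit 33, nat_lit 30, nat_lit 27, nat_lit 20, nat_lit 16, nat_lit 30, nat_lit 15, nat_lit 15, nat_lit 0, nat_lit 16, nat_lit 34, nat_lit 19, nat_lit 10]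
noncomputable def w152 : Word := [nat_lit 33, nat_lit 30, nat_lit 22, nat_lit 30, nat_lit 19, nat_lit 27, nat_lit 14, nat_lit 14, nat_lit 28, nat_lit 8, nat_lit 33, nat_lit 8]
noncomputable def w153 : Word := [nat_lit 27, nat_lit 16, nat_lit 20, nat_lit 27, nat_lit 14, nat_lit 16, nat_lit 28, nat_lit 24, nat_lit 33, nat_lit 19]
noncomputable def w154 : Word := [nat_lit 29, nat_lit 26, nat_lit 16, nat_lit 21, nat_lit 25, nat_lit 0, nat_lit 20, nat_lit 0, nat_lit 32, nat_lit 0, nat_lit 10]
noncomputable def w155 : Word := [nat_lit 33, nat_lit 27, nat_lit 30, nat_lit 21, nat_lit 24, nat_lit 16, nat_lit 20, nat_lit 20, nat_lit 15, nat_lit 0, nat_lit 24, nat_lit 0, nat_lit 2]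
noncomputable def w156 : Word := [nat_lit 2, nat_lit 32, nat_lit 20, nat_lit 32, nat_lit 19, nat_lit 20, nat_lit 15, nat_lit 25, nat_lit 8, nat_lit 16, nat_lit 6]
noncomputable def w157 : Word := [nat_lit 5, nat_lit 26, nat_lit 30, nat_lit 26, nat_lit 20, nat_lit 34, nat_lit 15, nat_lit 15, nat_lit 21, nat_lit 0, nat_lit 34, nat_lit 24]
noncomputable def y158 : List Word := [w131, w132, w133, w134, w135, w136, w137, w138, w139, w140, w141, w142, w143, w144, w145, w146, w147, w148, w149, w150, w151, w152, w153, w154, w155, w156, w157]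
theorem k159 : relK F bs0 (commR (snds p129) y158) = true := by decide +kernel
theorem x160 (M : PM G Ω 1080 H15.StdO8p3.nets) (hN : Nat.card G = 4952179814400) : Cx M (fun g => Pr M g p129) b130 [] p129 y158 :=
  cx_conj (fun _ _ => fa_nil) (rels_base (base0 M hN) k159)
noncomputable def t161 : KT := KT.alt (dw (nat_lit 0x03)) (KT.stp (nat_lit 0) [nat_lit 1] (dw (nat_lit 0x030f161f)) (KT.br (nat_lit 18) (KT.alt (dw (nat_lit 0x030f161f1c22)) (KT.stp (nat_lit 18) [nat_lit 0] (dw (nat_lit 0x030f1919221f2215)) (KT.br (nat_lit 92) (KT.alt (dw (nat_lit 0x030f1919221f2215)) (KT.br (nat_lit 669) (KT.alt (dw (nat_lit 0x030f1919221f2215)) (KT.mem (nat_lit 669) [nat_lit 0] (SE.lev (nat_lit 6)))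
 (KT.nil (SE.lev (nat_lit 5)) [nat_lit 5, nat_lit 6] [] (dn (nat_lit 20) (nat_lit 0x0ac0206902056820b7020c4c20c4c102d8202d81)))))
 (KT.alt (dw (nat_lit 0x0315190f0f1b111b1e1b211a)) (KT.br (nat_lit 669) (KT.alt (dw (nat_lit 0x0315190f0f1b111b1e1b211a)) (KT.mem (nat_lit 669) [nat_lit 0] (SE.lev (nat_lit 6)))
 (KT.nil (SE.lev (nat_lit 5)) [nat_lit 6, nat_lit 7] [] (dn (nat_lit 20) (nat_lit 0x100010d40109d8107ec110501105020828108282)))))
 (KT.nil (SE.lev (nat_lit 4)) [] [] [])))))
 (KT.alt (dw (nat_lit 0x030f161f1e1e1c1c)) (KT.mem (nat_lit 18) [nat_lit 0] (SE.lev (nat_lit 3)))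
 (KT.alt (dw (nat_lit 0x030f161f)) (KT.stp (nat_lit 18) [nat_lit 0] (dw (nat_lit 0x130319101017111e161f)) (KT.br (nat_lit 92) (KT.alt (dw (nat_lit 0x15031b130f1913111c17151c22)) (KT.cnt (SE.and (SE.lev (nat_lit 5)) (SE.img [nat_lit 0] (SE.lev (nat_lit 5)))))
 (KT.alt (dw (nat_lit 0x130319101017111e161f)) (KT.cnt (SE.and (SE.lev (nat_lit 5)) (SE.img [nat_lit 0] (SE.lev (nat_lit 5)))))
 (KT.nil (SE.lev (nat_lit 4)) [] [] [])))))
 (KT.nil (SE.lev (nat_lit 2)) [nat_lit 2, nat_lit 3, nat_lit 4] [dw (nat_lit 0x05)] (dn (nat_lit 20) (nat_lit 0x058c20eb010af820a1c10364104202042010ac4205a0205a0106dc2041010c0420d6c10e601088430b0410bac20bac30f8420f8410f84303cc203cc103802038030fb820fb810fb830f1420f1410f1430120303e81076420a4810c8020c80105f420688103981094811018110502015c2015c30a8c20a8c10a8c3022c2061c2061c11040210582105810e78200fc20ac020ac01076820768300a0200a0100a0307282072810b3020b3010b303097c105682056830cac10cac306f4206f4106f4302d0202d0102d030b9820b98306a0206a03082820e3c20e3c10e3c308182081810a0420a0410a04309d8209d810e3420e3410dfc20dfc10bfc20bfc107e0207e01))))))))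
 (KT.alt [] (KT.stp (nat_lit 0) [nat_lit 1] (dw (nat_lit 0x221410)) (KT.cnt (SE.and (SE.lev (nat_lit 2)) (SE.img [nat_lit 0] (SE.lev (nat_lit 2))))))
 (KT.alt (dw (nat_lit 0x1b09)) (KT.stp (nat_lit 0) [nat_lit 1] (dw (nat_lit 0x1b092110)) (KT.br (nat_lit 18) (KT.alt (dw (nat_lit 0x1b092110)) (KT.stp (nat_lit 18) [nat_lit 0] (dw (nat_lit 0x1b09101a10151319152322232213)) (KT.br (nat_lit 92) (KT.alt (dw (nat_lit 0x1b09101a10151319152322232213)) (KT.br (nat_lit 669) (KT.alt (dw (nat_lit 0x1b09101a10151319152322232213)) (KT.mem (nat_lit 669) [nat_lit 0] (SE.lev (nat_lit 6)))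
 (KT.nil (SE.lev (nat_lit 5)) [nat_lit 5, nat_lit 26] [] (dn (nat_lit 20) (nat_lit 0x0ac02069020c4c20b70202d8202d810568205681)))))
 (KT.alt (dw (nat_lit 0x1b09101a0f1611141d161b19)) (KT.br (nat_lit 669) (KT.alt (dw (nat_lit 0x1b09101a0f1611141d161b19)) (KT.mem (nat_lit 669) [nat_lit 0] (SE.lev (nat_lit 6)))
 (KT.nil (SE.lev (nat_lit 5)) [nat_lit 7, nat_lit 26] [] (dn (nat_lit 20) (nat_lit 0x10502082821018209d820d6420d6410e3c20e3c1)))))
 (KT.nil (SE.lev (nat_lit 4)) [] [] [])))))
 (KT.nil (SE.lev (nat_lit 2)) [nat_lit 5, nat_lit 7, nat_lit 25] [] (dn (nat_lit 20) (nat_lit 0x0e20302ec20ef020ef010514306fc10c8810c8c30f4030c9430bfc3008030aa410e3c30c5430c5420c5410f64308c83077c308a0308a0210c430c20308683086810c4c30c4c10e2430e2420d4030d40202f020cd420cd4108c4308c4208c410cac109d820910305ac205ac110183101820aa8307c43069830c0c30d6830d682043c3043c2069010c9c30c9c20c9c10fdc30fdc20cec30560305602056010e6820d2030d20208c0205c83105020c6020c60107b8307b820f7c30f7c20ed43055c30b7030b7010f1830f1821060310602099c3099c2099c10fd830fd8110a8309283092820928101383013820d7430d742089820898102dc302dc21068310682106810e0c30e0c20e0c10f0c3))))))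
 (KT.nil (SE.lev (nat_lit 0)) [nat_lit 0, nat_lit 1] [dw (nat_lit 0x01), dw (nat_lit 0x03), dw (nat_lit 0x01), dw (nat_lit 0x03), dw (nat_lit 0x01), dw (nat_lit 0x03), dw (nat_lit 0x01), dw (nat_lit 0x03)
, dw (nat_lit 0x01), dw (nat_lit 0x03), dw (nat_lit 0x01), dw (nat_lit 0x03), dw (nat_lit 0x01), dw (nat_lit 0x03)] (dn (nat_lit 20) (nat_lit 0x01b410564209401034010a281020010fd020a6c20ba8206b010bbc10bec2089020e38208102081010ce420ce41049810068110b0210b01031c206c420f5420b0020acc206e0208b42034820090101a8205b8205b81095c108e41064010b8c20a6810ef4104a8110dc210dc10e8c104f0203901064420f1410628110d0100d8209242092410994104481044c20a2420a24100202002010cb010e1010b8820f3c103142031410294110d810a54109c0104b8102a81022410f3410f2c10aa0103301067c10e6c103c010c1010488109001063010298105ac10fac10d741108810010101a01021010f60109a4107d81040410440100b010bf4107581)))))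
theorem k162 : ktChk (nat_lit 1080) H15.StdO8p3.nets F c124 b130 [] p129 y158 [] [] (nat_lit 0) (nat_lit 0) 0 0 t161 = true := by decide +kernel
theorem l163 (M : PM G Ω 1080 H15.StdO8p3.nets) (hN : Nat.card G = 4952179814400) : Cl M (fun g => Pr M g p129) [] [] (nat_lit 0) 0 :=
  cl_tree (e126 M hN) (x160 M hN) (dd0 _ _ _ _) k162
noncomputable def w164 : Word := [nat_lit 7, nat_lit 3, nat_lit 1, nat_lit 14, nat_lit 29, nat_lit 14, nat_lit 14]
theorem k165 : relK F bs0 [(List.append VO8p3x3.re w164, List.append w164 w127)] = true := by decide +kernel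
theorem k166 : relK F bs0 [(List.append VO8p3x3.rf w164, List.append w164 w128)] = true := by decide +kernel
theorem q167 (M : PM G Ω 1080 H15.StdO8p3.nets) (hN : Nat.card G = 4952179814400) : ¬ IsConj (ev M.gen VO8p3x3.rf) (ev M.gen VO8p3x3.re) :=
  fun h => nconj_of (l163 M hN) (((conj_of_rel' (rels_base (base0 M hN) k166)).symm.trans h).trans (conj_of_rel' (rels_base (base0 M hN) k165)))
noncomputable def w168 : Word := [nat_lit 13, nat_lit 33, nat_lit 29, nat_lit 27, nat_lit 15, nat_lit 15, nat_lit 8, nat_lit 15, nat_lit 27, nat_lit 12, nat_lit 5]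
theorem k169 : relK F bs0 [(List.append (invW VO8p3x3.re) w168, List.append w168 VO8p3x3.re)] = true := by decide +kernel
theorem nc5 (M : PM G Ω 1080 H15.StdO8p3.nets) (hN : Nat.card G = 4952179814400) : ∀ j < 5, ¬ CjS (sub M.gen [VO8p3x3.rf]) (sub M.gen [getL [] xs j]) :=
  fun j hj => by interval_cases j; exacts [(fc5 M hN).nc (fc0 M hN) (by decide), (fc5 M hN).nc (fc1 M hN) (by decide), (fc5 M hN).nc (fc2 M hN) (by decide), (fc5 M hN).nc (fc3 M hN) (by decide), nc3r (ord5 M hN) (ord4 M hN) (q167 M hN) (conj_of_rel' (rels_base (base0 M hN) k169))]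
noncomputable def s170 : Nat := (nat_lit 0x200020000000000000200000000000000000000000000000000000000000000400000000000000400004000000000000000000010000000000000000000000000080000000000000200000000000000000000000001400100000000000000000004000000240000000000000000000000000000000000000009001000)
theorem k171 : band (Nat.ble (nat_lit 1080) (Nat.pow 2 (nat_lit 11))) (fsChk (nat_lit 1080) (nat_lit 11) H15.StdO8p3.nets VO8p3x3.rg s170 (full (nat_lit 1080)) 0 0 (nat_lit 11)) = true := by decide +kernel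
theorem f172 (M : PM G Ω 1080 H15.StdO8p3.nets) (hN : Nat.card G = 4952179814400) : IsFix M VO8p3x3.rg s170 :=
  fix_one k171
theorem k173 : relK F bs0 [(powW VO8p3x3.rg 3, [])] = true := by decide +kernel
theorem r174 (M : PM G Ω 1080 H15.StdO8p3.nets) (hN : Nat.card G = 4952179814400) : orderOf (ev M.gen VO8p3x3.rg) = 3 :=
  order_of_rel (F := F) (b := 0) (by norm_num) (rels_base (base0 M hN) k173) (by decide +kernel)
theorem ord6 (M : PM G Ω 1080 H15.StdO8p3.nets) (hN : Nat.card G = 4952179814400) : orderOf (ev M.gen VO8p3x3.rg) = 3 :=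
  (r174 M hN)
noncomputable def B6 : Nat := s170
theorem fix6 (M : PM G Ω 1080 H15.StdO8p3.nets) (hN : Nat.card G = 4952179814400) : IsFixL M [VO8p3x3.rg] B6 :=
  IsFix.fixL (f172 M hN)
theorem k175 : Nat.beq (pop (nat_lit 1080) B6) 18 = true := by decide +kernel
theorem fc6 (M : PM G Ω 1080 H15.StdO8p3.nets) (hN : Nat.card G = 4952179814400) : FixC M [VO8p3x3.rg] 18 :=
  ⟨_, fix6 M hN, Nat.eq_of_beq_eq_true k175⟩
theorem nc6 (M : PM G Ω 1080 H15.StdO8p3.nets) (hN : Nat.card G = 4952179814400) : ∀ j < 6, ¬ CjS (sub M.gen [VO8p3x3.rg]) (sub M.gen [getL [] xs j]) :=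
  fun j hj => by interval_cases j; exacts [(fc6 M hN).nc (fc0 M hN) (by decide), (fc6 M hN).nc (fc1 M hN) (by decide), (fc6 M hN).nc (fc2 M hN) (by decide), (fc6 M hN).nc (fc3 M hN) (by decide), (fc6 M hN).nc (fc4 M hN) (by decide), (fc6 M hN).nc (fc5 M hN) (by decide)]
theorem k176 : band (Nat.ble (nat_lit 1080) (Nat.pow 2 (nat_lit 11))) (fsChk (nat_lit 1080) (nat_lit 11) H15.StdO8p3.nets VO8p3x3.rh (nat_lit 0) (full (nat_lit 1080)) 0 0 (nat_lit 11)) = true := by decide +kernel
theorem f177 (M : PM G Ω 1080 H15.StdO8p3.nets) (hN : Nat.card G = 4952179814400) : IsFix M VO8p3x3.rh (nat_lit 0) :=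
  fix_one k176
theorem k178 : relK F bs0 [(powW VO8p3x3.rh 3, [])] = true := by decide +kernel
theorem r179 (M : PM G Ω 1080 H15.StdO8p3.nets) (hN : Nat.card G = 4952179814400) : orderOf (ev M.gen VO8p3x3.rh) = 3 :=
  order_of_rel (F := F) (b := 0) (by norm_num) (rels_base (base0 M hN) k178) (by decide +kernel)
theorem ord7 (M : PM G Ω 1080 H15.StdO8p3.nets) (hN : Nat.card G = 4952179814400) : orderOf (ev M.gen VO8p3x3.rh) = 3 :=
  (r179 M hN)
noncomputable def B7 : Nat := (nat_lit 0)
theorem fix7 (M : PM G Ω 1080 H15.StdO8p3.nets) (hN : Nat.card G = 4952179814400) : IsFixL M [VO8p3x3.rh] B7 :=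
  IsFix.fixL (f177 M hN)
theorem k180 : Nat.beq (pop (nat_lit 1080) B7) 0 = true := by decide +kernel
theorem fc7 (M : PM G Ω 1080 H15.StdO8p3.nets) (hN : Nat.card G = 4952179814400) : FixC M [VO8p3x3.rh] 0 :=
  ⟨_, fix7 M hN, Nat.eq_of_beq_eq_true k180⟩
theorem k181 : orbChk (nat_lit 1080) H15.StdO8p3.nets F [nat_lit 1, nat_lit 0] (sel [w19, w20, w21] [nat_lit 0, nat_lit 1, nat_lit 2]) [dw (nat_lit 0x01), dw (nat_lit 0x03), dw (nat_lit 0x01), dw (nat_lit 0x01)] (dn (nat_lit 20) (nat_lit 0x10c020c44109783101010cac300e810270305ec205ec10a40107902047810d743008020d44107d4207d410ec820ec810e58202502025010b1430654304d8210a020c6810b2010d8030d8010cf420a0030a0020a0010f843007c2003c3003c2003c10710106e8306e8206e8103ac303ac105fc307a0207a0110d8210d810d8420d84104c4304c4204c410cec30cec10ff830ff820ff810d8c20d8c108bc208bc10c90110b8310b8210b81046c2046c10a2030a201059420594104743047420474106fc306fc10dd4302782027810aa820aa8108c4308c410630109b0309b010f4c30040300402004010a7420f5430bf030bf0207003)) (bit (nat_lit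 13)) s94 = true := by decide +kernel
theorem o182 (M : PM G Ω 1080 H15.StdO8p3.nets) (hN : Nat.card G = 4952179814400) : Orb M ⊤ [nat_lit 1, nat_lit 0] (nat_lit 13) s94 :=
  (Orb.ext le_top (orb_bit ⊤ [nat_lit 1, nat_lit 0] (b := (nat_lit 13)) rfl) k181)
noncomputable def s183 : Nat := (nat_lit 0x404120000200104000100200200000000400000040000000a000ab201000002800001084000000100100000000000100000440200101010001100400002000002280000000000000200140000200108440000000000000080000000000000000020000080000000000000000000000000000004010000000000000000000000400800000068000)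
noncomputable def w184 : Word := [nat_lit 33, nat_lit 33]
noncomputable def w185 : Word := [nat_lit 14, nat_lit 18, nat_lit 32, nat_lit 26, nat_lit 22]
theorem k186 : orbChk (nat_lit 1080) H15.StdO8p3.nets F [nat_lit 13, nat_lit 1, nat_lit 0] (sel [w184, w21, w185] [nat_lit 0, nat_lit 1, nat_lit 2]) [dw (nat_lit 0x01), dw (nat_lit 0x03), dw (nat_lit 0x01)] (dn (nat_lit 20) (nat_lit 0x0f8420d8c308bc10c7c30c6830ff830a40310b811010310102101010cf430dd420d5030d50107d4307d4207d4105ec20250110a0210a0110943109420ec83071020aa8104c4107983004430044200441046c10cec30cec20cec1003c3004830d7430bf030bf020d9c30d9c209b0309b020c9030d9420d9410b0020ddc30a0030a98307443)) (bit (nat_lit 465)) s183 = true := by decide +kernel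
theorem o187 (M : PM G Ω 1080 H15.StdO8p3.nets) (hN : Nat.card G = 4952179814400) : Orb M ⊤ [nat_lit 13, nat_lit 1, nat_lit 0] (nat_lit 465) s183 :=
  (Orb.ext le_top (orb_bit ⊤ [nat_lit 13, nat_lit 1, nat_lit 0] (b := (nat_lit 465)) rfl) k186)
noncomputable def s188 : Nat := (nat_lit 0x8000000000000000400000000000000000000000000000000000000000000000000000000000000000000000000000000000000000000000000000000000000000000000000000000000000000000000000000000000000000000000000000000000000000000000000000000000000000000000000000000000000000000000000000000000)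
noncomputable def w189 : Word := [nat_lit 24, nat_lit 15, nat_lit 19, nat_lit 27, nat_lit 20, nat_lit 19]
theorem k190 : orbChk (nat_lit 1080) H15.StdO8p3.nets F [nat_lit 465, nat_lit 13, nat_lit 1, nat_lit 0] (sel [w189] [nat_lit 0]) [] (dn (nat_lit 20) (nat_lit 0x0fb81)) (bit (nat_lit 1006)) s188 = true := by decide +kernel
theorem o191 (M : PM G Ω 1080 H15.StdO8p3.nets) (hN : Nat.card G = 4952179814400) : Orb M ⊤ [nat_lit 465, nat_lit 13, nat_lit 1, nat_lit 0] (nat_lit 1006) s188 :=
  (Orb.ext le_top (orb_bit ⊤ [nat_lit 465, nat_lit 13, nat_lit 1, nat_lit 0] (b := (nat_lit 1006)) rfl) k190)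
noncomputable def s192 : Nat := (nat_lit 0x4000000000000000080000000000000000000000000000000200000000000000000002000000000000002000000000000008000000040000000000000000000000000000000000000000000000000000000000000000000000000000000000400000000000080000000000000000000000000000000000000000000000000000000000)
noncomputable def w193 : Word := [nat_lit 19, nat_lit 19, nat_lit 29, nat_lit 29, nat_lit 18, nat_lit 18]
noncomputable def w194 : Word := [nat_lit 14, nat_lit 18, nat_lit 33, nat_lit 27, nat_lit 32, nat_lit 20, nat_lit 19, nat_lit 15]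
theorem k195 : orbChk (nat_lit 1080) H15.StdO8p3.nets F [nat_lit 1006, nat_lit 465, nat_lit 13, nat_lit 1, nat_lit 0] (sel [w193, w194] [nat_lit 0, nat_lit 1]) [] (dn (nat_lit 20) (nat_lit 0x0478209a820a2c20f4c20b1420b14103ac203ac1)) (bit (nat_lit 235)) s192 = true := by decide +kernel
theorem o196 (M : PM G Ω 1080 H15.StdO8p3.nets) (hN : Nat.card G = 4952179814400) : Orb M ⊤ [nat_lit 1006, nat_lit 465, nat_lit 13, nat_lit 1, nat_lit 0] (nat_lit 235) s192 :=
  (Orb.ext le_top (orb_bit ⊤ [nat_lit 1006, nat_lit 465, nat_lit 13, nat_lit 1, nat_lit 0] (b := (nat_lit 235)) rfl) k195)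
noncomputable def s197 : Nat := (nat_lit 0x200000000000000000000000000000000000000000000000000000000040000000000000000000000000000000000000000000000000000000000000000000000000000000000000000000000000000000000000000000000000000000000000000000000000000000000)
noncomputable def w198 : Word := [nat_lit 15, nat_lit 27, nat_lit 29, nat_lit 16, nat_lit 21, nat_lit 34, nat_lit 20, nat_lit 14]
theorem k199 : orbChk (nat_lit 1080) H15.StdO8p3.nets F [nat_lit 235, nat_lit 1006, nat_lit 465, nat_lit 13, nat_lit 1, nat_lit 0] (sel [w198] [nat_lit 0]) [] (dn (nat_lit 20) (nat_lit 0x09a81)) (bit (nat_lit 618)) s197 = true := by decide +kernel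
theorem o200 (M : PM G Ω 1080 H15.StdO8p3.nets) (hN : Nat.card G = 4952179814400) : Orb M ⊤ [nat_lit 235, nat_lit 1006, nat_lit 465, nat_lit 13, nat_lit 1, nat_lit 0] (nat_lit 618) s197 :=
  (Orb.ext le_top (orb_bit ⊤ [nat_lit 235, nat_lit 1006, nat_lit 465, nat_lit 13, nat_lit 1, nat_lit 0] (b := (nat_lit 618)) rfl) k199)
noncomputable def s201 : Nat := (nat_lit 0x800000000000000000000000000100000000000000000000000000000000000000000000040404000000000200000004000000000000000000000000000000000000000000000000000000000000000100000020000000)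
noncomputable def w202 : Word := [nat_lit 15, nat_lit 20, nat_lit 33, nat_lit 33, nat_lit 21, nat_lit 14]
noncomputable def w203 : Word := [nat_lit 29, nat_lit 34, nat_lit 14, nat_lit 34, nat_lit 15, nat_lit 28]
theorem k204 : orbChk (nat_lit 1080) H15.StdO8p3.nets F [nat_lit 618, nat_lit 235, nat_lit 1006, nat_lit 465, nat_lit 13, nat_lit 1, nat_lit 0] (sel [w202, w203] [nat_lit 0, nat_lit 1]) [] (dn (nat_lit 20) (nat_lit 0x0608104e8200e020adc206482064810074200741)) (bit (nat_lit 29)) s201 = true := by decide +kernel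
theorem o205 (M : PM G Ω 1080 H15.StdO8p3.nets) (hN : Nat.card G = 4952179814400) : Orb M ⊤ [nat_lit 618, nat_lit 235, nat_lit 1006, nat_lit 465, nat_lit 13, nat_lit 1, nat_lit 0] (nat_lit 29) s201 :=
  (Orb.ext le_top (orb_bit ⊤ [nat_lit 618, nat_lit 235, nat_lit 1006, nat_lit 465, nat_lit 13, nat_lit 1, nat_lit 0] (b := (nat_lit 29)) rfl) k204)
noncomputable def s206 : Nat := (nat_lit 0x2000000000000000000000000000000000008000000000000000000000000000000000000000000000000000000000001000000000000000000000000000000000)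
noncomputable def w207 : Word := [nat_lit 15, nat_lit 15, nat_lit 16, nat_lit 33, nat_lit 33, nat_lit 14, nat_lit 14]
theorem k208 : orbChk (nat_lit 1080) H15.StdO8p3.nets F [nat_lit 29, nat_lit 618, nat_lit 235, nat_lit 1006, nat_lit 465, nat_lit 13, nat_lit 1, nat_lit 0] (sel [w207] [nat_lit 0]) [] (dn (nat_lit 20) (nat_lit 0x0814102101)) (bit (nat_lit 132)) s206 = true := by decide +kernel
theorem o209 (M : PM G Ω 1080 H15.StdO8p3.nets) (hN : Nat.card G = 4952179814400) : Orb M ⊤ [nat_lit 29, nat_lit 618, nat_lit 235, nat_lit 1006, nat_lit 465, nat_lit 13, nat_lit 1, nat_lit 0] (nat_lit 132) s206 :=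
  (Orb.ext le_top (orb_bit ⊤ [nat_lit 29, nat_lit 618, nat_lit 235, nat_lit 1006, nat_lit 465, nat_lit 13, nat_lit 1, nat_lit 0] (b := (nat_lit 132)) rfl) k208)
noncomputable def c210 : Chn := [((nat_lit 0), (full (nat_lit 1080))), ((nat_lit 1), L.KO8p3.s32), ((nat_lit 13), s94), ((nat_lit 465), s183), ((nat_lit 1006), s188), ((nat_lit 235), s192), ((nat_lit 618), s197), ((nat_lit 29), s201), ((nat_lit 132), s206)]
theorem k211 : Nat.ble 4952179814400 (cval (nat_lit 1080) c210) = true := by decide +kernel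
theorem e212 (M : PM G Ω 1080 H15.StdO8p3.nets) (hN : Nat.card G = 4952179814400) : EC M ⊤ [] c210 :=
  ec_top (c := c210) ⟨(L.KO8p3.o4 M hN), ⟨(L.KO8p3.o34 M hN), ⟨(o182 M hN), ⟨(o187 M hN), ⟨(o191 M hN), ⟨(o196 M hN), ⟨(o200 M hN), ⟨(o205 M hN), ⟨(o209 M hN), trivial⟩⟩⟩⟩⟩⟩⟩⟩⟩ hN k211
noncomputable def w213 : Word := [nat_lit 6, nat_lit 30, nat_lit 34, nat_lit 22, nat_lit 20, nat_lit 15, nat_lit 22, nat_lit 2, nat_lit 6, nat_lit 20, nat_lit 10, nat_lit 2]
noncomputable def w214 : Word := [nat_lit 13, nat_lit 27, nat_lit 22, nat_lit 28, nat_lit 18, nat_lit 16, nat_lit 15, nat_lit 21, nat_lit 14, nat_lit 4, nat_lit 34]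
noncomputable def p215 : Prs := [(w214, w213)]
noncomputable def b216 : List (Nat × Nat) := []
noncomputable def w217 : Word := [nat_lit 21, nat_lit 32, nat_lit 20, nat_lit 20, nat_lit 32, nat_lit 14, nat_lit 22, nat_lit 20, nat_lit 13, nat_lit 29, nat_lit 15, nat_lit 6]
noncomputable def w218 : Word := [nat_lit 33, nat_lit 29, nat_lit 26, nat_lit 20, nat_lit 16, nat_lit 20, nat_lit 15, nat_lit 25, nat_lit 8, nat_lit 15, nat_lit 1, nat_lit 8, nat_lit 24]
noncomputable def w219 : Word := [nat_lit 28, nat_lit 34, nat_lit 32, nat_lit 20, nat_lit 24, nat_lit 18, nat_lit 18, nat_lit 16, nat_lit 5, nat_lit 14, nat_lit 22, nat_lit 26]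
noncomputable def w220 : Word := [nat_lit 26, nat_lit 29, nat_lit 20, nat_lit 29, nat_lit 16, nat_lit 18, nat_lit 14, nat_lit 14, nat_lit 33, nat_lit 20]
noncomputable def w221 : Word := [nat_lit 22, nat_lit 21, nat_lit 16, nat_lit 24, nat_lit 14, nat_lit 28, nat_lit 33, nat_lit 0, nat_lit 8, nat_lit 30, nat_lit 6, nat_lit 34]
noncomputable def w222 : Word := [nat_lit 26, nat_lit 26, nat_lit 30, nat_lit 21, nat_lit 16, nat_lit 24, nat_lit 15, nat_lit 32, nat_lit 6, nat_lit 16, nat_lit 28, nat_lit 14, nat_lit 18]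
noncomputable def w223 : Word := [nat_lit 19, nat_lit 26, nat_lit 26, nat_lit 34, nat_lit 20, nat_lit 14, nat_lit 16, nat_lit 27, nat_lit 0, nat_lit 14, nat_lit 14, nat_lit 4]
noncomputable def w224 : Word := [nat_lit 34, nat_lit 27, nat_lit 28, nat_lit 19, nat_lit 16, nat_lit 32, nat_lit 0, nat_lit 15, nat_lit 20, nat_lit 4, nat_lit 8, nat_lit 18]
noncomputable def w225 : Word := [nat_lit 5, nat_lit 30, nat_lit 27, nat_lit 33, nat_lit 22, nat_lit 28, nat_lit 19, nat_lit 25, nat_lit 8, nat_lit 14, nat_lit 18, nat_lit 5]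
noncomputable def w226 : Word := [nat_lit 33, nat_lit 30, nat_lit 25, nat_lit 16, nat_lit 18, nat_lit 21, nat_lit 25, nat_lit 15, nat_lit 2, nat_lit 14, nat_lit 22, nat_lit 21]
noncomputable def w227 : Word := [nat_lit 33, nat_lit 18, nat_lit 18, nat_lit 16, nat_lit 14, nat_lit 28, nat_lit 5, nat_lit 12, nat_lit 20, nat_lit 1, nat_lit 21]
noncomputable def w228 : Word := [nat_lit 28, nat_lit 22, nat_lit 21, nat_lit 16, nat_lit 19, nat_lit 29, nat_lit 14, nat_lit 30, nat_lit 5, nat_lit 15, nat_lit 29, nat_lit 30]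
noncomputable def w229 : Word := [nat_lit 33, nat_lit 29, nat_lit 20, nat_lit 20, nat_lit 18, nat_lit 14, nat_lit 29, nat_lit 34, nat_lit 13, nat_lit 18, nat_lit 0, nat_lit 4]
noncomputable def w230 : Word := [nat_lit 32, nat_lit 34, nat_lit 24, nat_lit 20, nat_lit 18, nat_lit 21, nat_lit 14, nat_lit 34, nat_lit 8, nat_lit 22, nat_lit 8, nat_lit 32, nat_lit 22]
noncomputable def w231 : Word := [nat_lit 32, nat_lit 24, nat_lit 21, nat_lit 18, nat_lit 20, nat_lit 24, nat_lit 14, nat_lit 14, nat_lit 24, nat_lit 20]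
noncomputable def w232 : Word := [nat_lit 32, nat_lit 32, nat_lit 30, nat_lit 33, nat_lit 20, nat_lit 16, nat_lit 14, nat_lit 32, nat_lit 0, nat_lit 15, nat_lit 27, nat_lit 27, nat_lit 6]
noncomputable def w233 : Word := [nat_lit 20, nat_lit 24, nat_lit 21, nat_lit 16, nat_lit 18, nat_lit 15, nat_lit 19, nat_lit 1, nat_lit 13, nat_lit 27, nat_lit 32, nat_lit 1]
noncomputable def w234 : Word := [nat_lit 30, nat_lit 34, nat_lit 24, nat_lit 20, nat_lit 16, nat_lit 24, nat_lit 15, nat_lit 24, nat_lit 34, nat_lit 33]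
noncomputable def w235 : Word := [nat_lit 26, nat_lit 30, nat_lit 32, nat_lit 21, nat_lit 25, nat_lit 16, nat_lit 32, nat_lit 14, nat_lit 18, nat_lit 18]
noncomputable def w236 : Word := [nat_lit 33, nat_lit 16, nat_lit 30, nat_lit 14, nat_lit 26, nat_lit 29, nat_lit 8, nat_lit 24, nat_lit 34, nat_lit 12]
noncomputable def w237 : Word := [nat_lit 32, nat_lit 32, nat_lit 30, nat_lit 18, nat_lit 16, nat_lit 15, nat_lit 28, nat_lit 28]
noncomputable def w238 : Word := [nat_lit 33, nat_lit 33, nat_lit 28, nat_lit 27, nat_lit 25, nat_lit 30, nat_lit 18, nat_lit 14, nat_lit 0, nat_lit 5, nat_lit 22]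
noncomputable def w239 : Word := [nat_lit 26, nat_lit 20, nat_lit 33, nat_lit 16, nat_lit 20, nat_lit 34, nat_lit 14, nat_lit 16, nat_lit 25, nat_lit 8, nat_lit 15, nat_lit 16]
noncomputable def w240 : Word := [nat_lit 34, nat_lit 29, nat_lit 30, nat_lit 28, nat_lit 16, nat_lit 18, nat_lit 27, nat_lit 14, nat_lit 29, nat_lit 30, nat_lit 5]
noncomputable def w241 : Word := [nat_lit 32, nat_lit 32, nat_lit 28, nat_lit 27, nat_lit 21, nat_lit 29, nat_lit 19, nat_lit 24, nat_lit 14, nat_lit 6, nat_lit 15, nat_lit 24, nat_lit 21]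
noncomputable def w242 : Word := [nat_lit 34, nat_lit 27, nat_lit 30, nat_lit 21, nat_lit 16, nat_lit 33, nat_lit 14, nat_lit 21, nat_lit 14, nat_lit 28, nat_lit 14]
noncomputable def w243 : Word := [nat_lit 26, nat_lit 30, nat_lit 26, nat_lit 20, nat_lit 28, nat_lit 14, nat_lit 22, nat_lit 27, nat_lit 0, nat_lit 16, nat_lit 19, nat_lit 10, nat_lit 1]
noncomputable def w244 : Word := [nat_lit 33, nat_lit 27, nat_lit 28, nat_lit 20, nat_lit 16, nat_lit 33, nat_lit 14, nat_lit 18, nat_lit 21, nat_lit 5, nat_lit 27, nat_lit 15, nat_lit 12]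
noncomputable def w245 : Word := [nat_lit 5, nat_lit 33, nat_lit 28, nat_lit 20, nat_lit 22, nat_lit 27, nat_lit 18, nat_lit 5, nat_lit 33, nat_lit 0, nat_lit 4]
noncomputable def w246 : Word := [nat_lit 2, nat_lit 25, nat_lit 16, nat_lit 19, nat_lit 30, nat_lit 14, nat_lit 16, nat_lit 22, nat_lit 6, nat_lit 15, nat_lit 18, nat_lit 18]
noncomputable def w247 : Word := [nat_lit 28, nat_lit 30, nat_lit 20, nat_lit 27, nat_lit 14, nat_lit 22, nat_lit 33, nat_lit 8, nat_lit 24, nat_lit 2, nat_lit 15]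
noncomputable def w248 : Word := [nat_lit 32, nat_lit 34, nat_lit 33, nat_lit 27, nat_lit 28, nat_lit 24, nat_lit 15, nat_lit 25, nat_lit 15, nat_lit 25, nat_lit 19]
noncomputable def y249 : List Word := [w217, w218, w219, w220, w221, w222, w223, w224, w225, w226, w227, w228, w229, w230, w231, w232, w233, w234, w235, w236, w237, w238, w239, w240, w241, w242, w243, w244, w245, w246, w247, w248]
theorem k250 : relK F bs0 (commR (snds p215) y249) = true := by decide +kernel
theorem x251 (M : PM G Ω 1080 H15.StdO8p3.nets) (hN : Nat.card G = 4952179814400) : Cx M (fun g => Pr M g p215) b216 [] p215 y249 :=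
  cx_conj (fun _ _ => fa_nil) (rels_base (base0 M hN) k250)
noncomputable def t252 : KT := KT.alt [] (KT.stp (nat_lit 0) [nat_lit 0] (dw (nat_lit 0x0f0f0f)) (KT.cnt (SE.and (SE.lev (nat_lit 2)) (SE.img [nat_lit 0] (SE.lev (nat_lit 2))))))
 (KT.alt (dw (nat_lit 0x09)) (KT.stp (nat_lit 0) [nat_lit 0] (dw (nat_lit 0x0910110f)) (KT.br (nat_lit 13) (KT.alt (dw (nat_lit 0x0910110f1c22)) (KT.mem (nat_lit 13) [nat_lit 0] (SE.lev (nat_lit 3)))
 (KT.alt (dw (nat_lit 0x0910110f0f212110)) (KT.stp (nat_lit 13) [nat_lit 0] (dw (nat_lit 0x09150f22111a2223212119)) (KT.br (nat_lit 1006) (KT.alt (dw (nat_lit 0x09211010111c1f151d21212311)) (KT.br (nat_lit 235) (KT.alt (dw (nat_lit 0x09211010111c1f151d21212311)) (KT.mem (nat_lit 235) [nat_lit 0] (SE.lev (nat_lit 6)))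
 (KT.nil (SE.lev (nat_lit 5)) [nat_lit 2, nat_lit 5] [] (dn (nat_lit 20) (nat_lit 0x0b90210a8209e82087c20a8020a801041c2041c1)))))
 (KT.alt (dw (nat_lit 0x09150f22111a2223212119)) (KT.br (nat_lit 235) (KT.alt (dw (nat_lit 0x09150f22111a2223212119)) (KT.mem (nat_lit 235) [nat_lit 0] (SE.lev (nat_lit 6)))
 (KT.nil (SE.lev (nat_lit 5)) [nat_lit 2, nat_lit 5] [] (dn (nat_lit 20) (nat_lit 0x0da42078021074207582057c2057c10914209141)))))
 (KT.nil (SE.lev (nat_lit 4)) [] [] [])))))
 (KT.alt (dw (nat_lit 0x0910110f)) (KT.stp (nat_lit 13) [nat_lit 0] (dw (nat_lit 0x0913101114191d1d19)) (KT.br (nat_lit 1006) (KT.alt (dw (nat_lit 0x0913101114191d1d19)) (KT.cnt (SE.and (SE.lev (nat_lit 5)) (SE.img [nat_lit 0] (SE.lev (nat_lit 5)))))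
 (KT.alt (dw (nat_lit 0x09160f13111c2322)) (KT.cnt (SE.and (SE.lev (nat_lit 5)) (SE.img [nat_lit 0] (SE.lev (nat_lit 5)))))
 (KT.nil (SE.lev (nat_lit 4)) [] [] [])))))
 (KT.nil (SE.lev (nat_lit 2)) [nat_lit 2, nat_lit 3, nat_lit 4] [] (dn (nat_lit 20) (nat_lit 0x062810e80105f020eec20b7010b70204282023030f4830708108302002010be830be810d0830d082018c107c830e5020e14108ac1083c30cc82102020b7c3025c3025c10a3030a301006410064209ec204a8309bc309bc105f4305f4105f42098020774301f820c90106583065810ab430ab4203101031020c0030dd830dd810dd820c8810c88200ac30758300283002820bf010bf0206243062410400304001040020e6c20ffc304181041820c5030c501057c30da430da42045820b80207d830c1810c182006830068104bc304bc109143091420780203a830ec830ec8208b83047c1079c3079c1079c21074200583005810f8c200e02097810978208683086810210302102))))))))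
 (KT.alt (dw (nat_lit 0x100e)) (KT.stp (nat_lit 0) [nat_lit 0] (dw (nat_lit 0x100e0f130f)) (KT.br (nat_lit 13) (KT.alt (dw (nat_lit 0x100e0f130f)) (KT.stp (nat_lit 13) [nat_lit 0] (dw (nat_lit 0x1713061f0f111f111f232102)) (KT.br (nat_lit 1006) (KT.alt (dw (nat_lit 0x1713061f0f111f111f232102)) (KT.br (nat_lit 235) (KT.alt (dw (nat_lit 0x1713061f0f111f111f232102)) (KT.mem (nat_lit 235) [nat_lit 0] (SE.lev (nat_lit 6)))
 (KT.nil (SE.lev (nat_lit 5)) [nat_lit 24, nat_lit 25] [] (dn (nat_lit 20) (nat_lit 0x0ed810cdc10354103dc1031c1031c2095c1095c2)))))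
 (KT.alt (dw (nat_lit 0x100e1317101c141d171d15)) (KT.br (nat_lit 235) (KT.alt (dw (nat_lit 0x100e1317101c141d171d15)) (KT.mem (nat_lit 235) [nat_lit 0] (SE.lev (nat_lit 6)))
 (KT.nil (SE.lev (nat_lit 5)) [nat_lit 24, nat_lit 25] [] (dn (nat_lit 20) (nat_lit 0x0460100fc10b5410320106a0106a020c7810c782)))))
 (KT.nil (SE.lev (nat_lit 4)) [] [] [])))))
 (KT.nil (SE.lev (nat_lit 2)) [nat_lit 22, nat_lit 23] [dw (nat_lit 0x03), dw (nat_lit 0x01)] (dn (nat_lit 20) (nat_lit 0x08b01036c20d5010af4208a01031c103e4103e420cdc2099c10c94109d0104601046020a48210c4103dc20ed810fa410fe010fe0202e420ba010ea4107301049420314108481084820e7010e7020320103202104010e9010e9020a54109e0109e02049810384103842039020e5410e542074c10d3c10d3c208cc10cec20d1c108e0209981099820f8410f842022c1022c20b5c10b5c20fc410fc4210841108420a401080410804200fc100fc20bf410fc810fc8202e8110641106420b9c208d01024010240206bc106101061020aa410aa4204301043020afc20c8c10c8c208101081020e0010e0020c7810c782036410364206a0106a0209b8109b82095c1095c203082))))))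
 (KT.nil (SE.lev (nat_lit 0)) [nat_lit 0, nat_lit 1] [dw (nat_lit 0x01), dw (nat_lit 0x03), dw (nat_lit 0x01), dw (nat_lit 0x03), dw (nat_lit 0x01), dw (nat_lit 0x03), dw (nat_lit 0x01), dw (nat_lit 0x03)
, dw (nat_lit 0x01), dw (nat_lit 0x03), dw (nat_lit 0x01), dw (nat_lit 0x03), dw (nat_lit 0x01), dw (nat_lit 0x03)] (dn (nat_lit 20) (nat_lit 0x085020cb4105f8209442037c10a0c210a410068101c820df820df810054200541013c2009420170208c420340106f810b1420b1410cf810520101502015010ae410b00105f010ce0210182101810fa8107b020b841056820da010da81091810fd8109282076c2031010d102072420478204781014810f70101e810490102a4106d0101081040810c9410a8c109141002010c44105cc1023c109a8108a8107e8100781064410484105401014c107dc10f5c108e810608107741)))))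
theorem k253 : ktChk (nat_lit 1080) H15.StdO8p3.nets F c210 b216 [] p215 y249 [] [] (nat_lit 0) (nat_lit 0) 0 0 t252 = true := by decide +kernel
theorem l254 (M : PM G Ω 1080 H15.StdO8p3.nets) (hN : Nat.card G = 4952179814400) : Cl M (fun g => Pr M g p215) [] [] (nat_lit 0) 0 :=
  cl_tree (e212 M hN) (x251 M hN) (dd0 _ _ _ _) k253
noncomputable def w255 : Word := [nat_lit 21, nat_lit 32, nat_lit 21]
theorem k256 : relK F bs0 [(List.append VO8p3x3.re w255, List.append w255 w213)] = true := by decide +kernel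
theorem k257 : relK F bs0 [(List.append VO8p3x3.rh w255, List.append w255 w214)] = true := by decide +kernel
theorem q258 (M : PM G Ω 1080 H15.StdO8p3.nets) (hN : Nat.card G = 4952179814400) : ¬ IsConj (ev M.gen VO8p3x3.rh) (ev M.gen VO8p3x3.re) :=
  fun h => nconj_of (l254 M hN) (((conj_of_rel' (rels_base (base0 M hN) k257)).symm.trans h).trans (conj_of_rel' (rels_base (base0 M hN) k256)))
noncomputable def w259 : Word := [nat_lit 28, nat_lit 33, nat_lit 33, nat_lit 27, nat_lit 22, nat_lit 14, nat_lit 27, nat_lit 0, nat_lit 25, nat_lit 21, nat_lit 24]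
theorem k260 : relK F bs0 [(List.append (invW VO8p3x3.re) w259, List.append w259 VO8p3x3.re)] = true := by decide +kernel
theorem k261 : orbChk (nat_lit 1080) H15.StdO8p3.nets F [nat_lit 1, nat_lit 0] (sel [w19, w20, w21] [nat_lit 0, nat_lit 1, nat_lit 2]) [dw (nat_lit 0x01), dw (nat_lit 0x05), dw (nat_lit 0x01), dw (nat_lit 0x03), dw (nat_lit 0x01), dw (nat_lit 0x03)] (dn (nat_lit 20) (nat_lit 0x007c20f40109a8106d82027010ff810d8c209b0308842088410078300782007810d5010a4010cec30cec20cf42105810040204c410a2030fb030fb01090c10a7420d4420c043109420aa820aa810798207981003c2003c105d0305d010bfc20bfc108f820b1420b14110b8307d4207d4105fc205fc10ec8306fc206fc110102101010d7420f5430f5410a9830a9820f8c30f8c1098810bf030bf010d9430744109b430d6830eb830eb8107001063010c7c30c7c102bc110d830f8430d803)) (bit (nat_lit 299)) s94 = true := by decide +kernel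
theorem o262 (M : PM G Ω 1080 H15.StdO8p3.nets) (hN : Nat.card G = 4952179814400) : Orb M ⊤ [nat_lit 1, nat_lit 0] (nat_lit 299) s94 :=
  (Orb.ext le_top (orb_bit ⊤ [nat_lit 1, nat_lit 0] (b := (nat_lit 299)) rfl) k261)
noncomputable def s263 : Nat := (nat_lit 0x4100000000001040001002002900000004000000000000008000a32012200028000800040000020000000000000120000004400001010000003004000020084020800000000000002001500002000180440000002010000810000000000000000000004000000000000800000000008000000000100000000000000001000000000001000e0000)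
noncomputable def w264 : Word := [nat_lit 19, nat_lit 22, nat_lit 18]
noncomputable def w265 : Word := [nat_lit 14, nat_lit 14, nat_lit 16, nat_lit 18, nat_lit 16]
noncomputable def w266 : Word := [nat_lit 14, nat_lit 20, nat_lit 16, nat_lit 21, nat_lit 15]
theorem k267 : orbChk (nat_lit 1080) H15.StdO8p3.nets F [nat_lit 299, nat_lit 1, nat_lit 0] (sel [w20, w264, w265, w266] [nat_lit 0, nat_lit 1, nat_lit 2, nat_lit 3]) [dw (nat_lit 0x01), dw (nat_lit 0x03)] (dn (nat_lit 20) (nat_lit 0x06d810cac40cac10d4440d4420f54100441074420cf420b1440fb0307d4208bc10a9810700407a0407a010cec106fc307983079810790210c030d502090c30aa81004c3004c110102101010ec830a2030a4030a4020d7440d7420d7410f4c30f4c20f4c105ec305ec205ec108d4408d4208d4108f8308f820f40400804008030630410d8410d830048400483)) (bit (nat_lit 18)) s263 = true := by decide +kernel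
theorem o268 (M : PM G Ω 1080 H15.StdO8p3.nets) (hN : Nat.card G = 4952179814400) : Orb M ⊤ [nat_lit 299, nat_lit 1, nat_lit 0] (nat_lit 18) s263 :=
  (Orb.ext le_top (orb_bit ⊤ [nat_lit 299, nat_lit 1, nat_lit 0] (b := (nat_lit 18)) rfl) k267)
noncomputable def s269 : Nat := (nat_lit 0x200000000000000000000000000000000000000000000000000000000000000000000000000000000000100000000000000000000000000000000000000000000000000000000000000000000000000000000000000000000000000000000000000000000000000000000000000000000000000000000000000000000)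
noncomputable def w270 : Word := [nat_lit 28, nat_lit 15, nat_lit 28, nat_lit 24, nat_lit 22, nat_lit 18]
theorem k271 : orbChk (nat_lit 1080) H15.StdO8p3.nets F [nat_lit 18, nat_lit 299, nat_lit 1, nat_lit 0] (sel [w270] [nat_lit 0]) [] (dn (nat_lit 20) (nat_lit 0x0f841)) (bit (nat_lit 993)) s269 = true := by decide +kernel
theorem o272 (M : PM G Ω 1080 H15.StdO8p3.nets) (hN : Nat.card G = 4952179814400) : Orb M ⊤ [nat_lit 18, nat_lit 299, nat_lit 1, nat_lit 0] (nat_lit 993) s269 :=
  (Orb.ext le_top (orb_bit ⊤ [nat_lit 18, nat_lit 299, nat_lit 1, nat_lit 0] (b := (nat_lit 993)) rfl) k271)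
noncomputable def s273 : Nat := (nat_lit 0x200000000000000000000000000000000000000000008000000000000000080000000800000000000000000000000200000000000000040000000000000000000000000000000000000100000000000000000000000000000000000000000200000000000000000000000000000000000000000000000000000000000800000000000)
noncomputable def w274 : Word := [nat_lit 27, nat_lit 29, nat_lit 29, nat_lit 26]
theorem k275 : orbChk (nat_lit 1080) H15.StdO8p3.nets F [nat_lit 993, nat_lit 18, nat_lit 299, nat_lit 1, nat_lit 0] (sel [w274, w202] [nat_lit 0, nat_lit 1]) [] (dn (nat_lit 20) (nat_lit 0x104420bfc20a74200bc204742047410c7c20c7c1)) (bit (nat_lit 799)) s273 = true := by decide +kernel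
theorem o276 (M : PM G Ω 1080 H15.StdO8p3.nets) (hN : Nat.card G = 4952179814400) : Orb M ⊤ [nat_lit 993, nat_lit 18, nat_lit 299, nat_lit 1, nat_lit 0] (nat_lit 799) s273 :=
  (Orb.ext le_top (orb_bit ⊤ [nat_lit 993, nat_lit 18, nat_lit 299, nat_lit 1, nat_lit 0] (b := (nat_lit 799)) rfl) k275)
noncomputable def s277 : Nat := (nat_lit 0x8000000000000000000000000800000000000000000000000000000000000000000000000000000000000000000000000000000000000000000000000000000000000000000000000000000000000000000000000000000000000000000000000000000000000000000000000)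
noncomputable def w278 : Word := [nat_lit 27, nat_lit 14, nat_lit 16, nat_lit 15, nat_lit 26]
theorem k279 : orbChk (nat_lit 1080) H15.StdO8p3.nets F [nat_lit 799, nat_lit 993, nat_lit 18, nat_lit 299, nat_lit 1, nat_lit 0] (sel [w278] [nat_lit 0]) [] (dn (nat_lit 20) (nat_lit 0x0bfc1)) (bit (nat_lit 767)) s277 = true := by decide +kernel
theorem o280 (M : PM G Ω 1080 H15.StdO8p3.nets) (hN : Nat.card G = 4952179814400) : Orb M ⊤ [nat_lit 799, nat_lit 993, nat_lit 18, nat_lit 299, nat_lit 1, nat_lit 0] (nat_lit 767) s277 :=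
  (Orb.ext le_top (orb_bit ⊤ [nat_lit 799, nat_lit 993, nat_lit 18, nat_lit 299, nat_lit 1, nat_lit 0] (b := (nat_lit 767)) rfl) k279)
noncomputable def s281 : Nat := (nat_lit 0x200080000000000000000080000000004000000000000000000000000000000000000000000000000000000000020000000000000000000000000000000000000000000200000000000001000100000000008000000000000)
noncomputable def w282 : Word := [nat_lit 32, nat_lit 14, nat_lit 33, nat_lit 33, nat_lit 15, nat_lit 33]
noncomputable def w283 : Word := [nat_lit 15, nat_lit 25, nat_lit 21, nat_lit 30, nat_lit 16, nat_lit 20, nat_lit 22, nat_lit 14]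
theorem k284 : orbChk (nat_lit 1080) H15.StdO8p3.nets F [nat_lit 767, nat_lit 799, nat_lit 993, nat_lit 18, nat_lit 299, nat_lit 1, nat_lit 0] (sel [w282, w283] [nat_lit 0, nat_lit 1]) [] (dn (nat_lit 20) (nat_lit 0x090810b04109ac209ac10acc20acc10554205541)) (bit (nat_lit 341)) s281 = true := by decide +kernel
theorem o285 (M : PM G Ω 1080 H15.StdO8p3.nets) (hN : Nat.card G = 4952179814400) : Orb M ⊤ [nat_lit 767, nat_lit 799, nat_lit 993, nat_lit 18, nat_lit 299, nat_lit 1, nat_lit 0] (nat_lit 341) s281 :=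
  (Orb.ext le_top (orb_bit ⊤ [nat_lit 767, nat_lit 799, nat_lit 993, nat_lit 18, nat_lit 299, nat_lit 1, nat_lit 0] (b := (nat_lit 341)) rfl) k284)
noncomputable def s286 : Nat := (nat_lit 0x10000000000000000000004000000000000000000000000000000000000200000000000000000000000000000000000000000000000000000000000000000)
noncomputable def w287 : Word := [nat_lit 14, nat_lit 19, nat_lit 15, nat_lit 15, nat_lit 33, nat_lit 19, nat_lit 22, nat_lit 14, nat_lit 34]
theorem k288 : orbChk (nat_lit 1080) H15.StdO8p3.nets F [nat_lit 341, nat_lit 767, nat_lit 799, nat_lit 993, nat_lit 18, nat_lit 299, nat_lit 1, nat_lit 0] (sel [w287] [nat_lit 0]) [] (dn (nat_lit 20) (nat_lit 0x0668107c01)) (bit (nat_lit 496)) s286 = true := by decide +kernel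
theorem o289 (M : PM G Ω 1080 H15.StdO8p3.nets) (hN : Nat.card G = 4952179814400) : Orb M ⊤ [nat_lit 341, nat_lit 767, nat_lit 799, nat_lit 993, nat_lit 18, nat_lit 299, nat_lit 1, nat_lit 0] (nat_lit 496) s286 :=
  (Orb.ext le_top (orb_bit ⊤ [nat_lit 341, nat_lit 767, nat_lit 799, nat_lit 993, nat_lit 18, nat_lit 299, nat_lit 1, nat_lit 0] (b := (nat_lit 496)) rfl) k288)
noncomputable def c290 : Chn := [((nat_lit 0), (full (nat_lit 1080))), ((nat_lit 1), L.KO8p3.s32), ((nat_lit 299), s94), ((nat_lit 18), s263), ((nat_lit 993), s269), ((nat_lit 799), s273), ((nat_lit 767), s277), ((nat_lit 341), s281), ((nat_lit 496), s286)]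
theorem k291 : Nat.ble 4952179814400 (cval (nat_lit 1080) c290) = true := by decide +kernel
theorem e292 (M : PM G Ω 1080 H15.StdO8p3.nets) (hN : Nat.card G = 4952179814400) : EC M ⊤ [] c290 :=
  ec_top (c := c290) ⟨(L.KO8p3.o4 M hN), ⟨(L.KO8p3.o34 M hN), ⟨(o262 M hN), ⟨(o268 M hN), ⟨(o272 M hN), ⟨(o276 M hN), ⟨(o280 M hN), ⟨(o285 M hN), ⟨(o289 M hN), trivial⟩⟩⟩⟩⟩⟩⟩⟩⟩ hN k291
noncomputable def w293 : Word := [nat_lit 16, nat_lit 33, nat_lit 34, nat_lit 26, nat_lit 32, nat_lit 14, nat_lit 1, nat_lit 6, nat_lit 1, nat_lit 19, nat_lit 1]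
noncomputable def w294 : Word := [nat_lit 1, nat_lit 30, nat_lit 25, nat_lit 14, nat_lit 32, nat_lit 14, nat_lit 26, nat_lit 20, nat_lit 19]
noncomputable def p295 : Prs := [(w294, w293)]
noncomputable def b296 : List (Nat × Nat) := []
noncomputable def w297 : Word := [nat_lit 30, nat_lit 29, nat_lit 20, nat_lit 34, nat_lit 16, nat_lit 18, nat_lit 27, nat_lit 14, nat_lit 24, nat_lit 32, nat_lit 0, nat_lit 15, nat_lit 2]
noncomputable def w298 : Word := [nat_lit 34, nat_lit 26, nat_lit 30, nat_lit 24, nat_lit 33, nat_lit 14, nat_lit 20, nat_lit 34, nat_lit 8, nat_lit 27, nat_lit 8, nat_lit 4, nat_lit 0]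
noncomputable def w299 : Word := [nat_lit 18, nat_lit 30, nat_lit 32, nat_lit 24, nat_lit 16, nat_lit 18, nat_lit 24, nat_lit 15, nat_lit 15, nat_lit 33]
noncomputable def w300 : Word := [nat_lit 33, nat_lit 29, nat_lit 21, nat_lit 19, nat_lit 5, nat_lit 2, nat_lit 4]
noncomputable def w301 : Word := [nat_lit 29, nat_lit 21, nat_lit 16, nat_lit 19, nat_lit 21, nat_lit 14, nat_lit 20, nat_lit 14, nat_lit 34, nat_lit 26]
noncomputable def w302 : Word := [nat_lit 34, nat_lit 30, nat_lit 24, nat_lit 20, nat_lit 29, nat_lit 32]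
noncomputable def w303 : Word := [nat_lit 32, nat_lit 32, nat_lit 16, nat_lit 18, nat_lit 14, nat_lit 20, nat_lit 30, nat_lit 1, nat_lit 25, nat_lit 5, nat_lit 22, nat_lit 20]
noncomputable def w304 : Word := [nat_lit 4, nat_lit 27, nat_lit 28, nat_lit 16, nat_lit 24, nat_lit 26, nat_lit 14, nat_lit 18, nat_lit 32, nat_lit 0, nat_lit 22, nat_lit 34]
noncomputable def w305 : Word := [nat_lit 0, nat_lit 33, nat_lit 30, nat_lit 32, nat_lit 20, nat_lit 28, nat_lit 19, nat_lit 15, nat_lit 15, nat_lit 26, nat_lit 13, nat_lit 32, nat_lit 20]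
noncomputable def w306 : Word := [nat_lit 32, nat_lit 30, nat_lit 26, nat_lit 25, nat_lit 16, nat_lit 19, nat_lit 8, nat_lit 21, nat_lit 12, nat_lit 26, nat_lit 4]
noncomputable def w307 : Word := [nat_lit 32, nat_lit 28, nat_lit 21, nat_lit 18, nat_lit 30, nat_lit 14, nat_lit 22, nat_lit 26, nat_lit 13, nat_lit 24, nat_lit 1]
noncomputable def w308 : Word := [nat_lit 34, nat_lit 33, nat_lit 34, nat_lit 30, nat_lit 22, nat_lit 19, nat_lit 25, nat_lit 1, nat_lit 13, nat_lit 26, nat_lit 32, nat_lit 26]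
noncomputable def w309 : Word := [nat_lit 32, nat_lit 20, nat_lit 32, nat_lit 16, nat_lit 14, nat_lit 27, nat_lit 30, nat_lit 0, nat_lit 13, nat_lit 29]
noncomputable def w310 : Word := [nat_lit 22, nat_lit 32, nat_lit 25, nat_lit 16, nat_lit 28, nat_lit 27]
noncomputable def w311 : Word := [nat_lit 33, nat_lit 30, nat_lit 32, nat_lit 24, nat_lit 20, nat_lit 18, nat_lit 22, nat_lit 5, nat_lit 22, nat_lit 4, nat_lit 21, nat_lit 24]
noncomputable def w312 : Word := [nat_lit 28, nat_lit 20, nat_lit 20, nat_lit 29, nat_lit 19, nat_lit 15, nat_lit 25, nat_lit 16, nat_lit 28]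
noncomputable def w313 : Word := [nat_lit 1, nat_lit 32, nat_lit 26, nat_lit 20, nat_lit 14, nat_lit 25, nat_lit 34, nat_lit 5, nat_lit 20, nat_lit 19, nat_lit 6]
noncomputable def y314 : List Word := [w297, w298, w299, w300, w301, w302, w303, w304, w305, w306, w307, w308, w309, w310, w311, w312, w313]
theorem k315 : relK F bs0 (commR (snds p295) y314) = true := by decide +kernel
theorem x316 (M : PM G Ω 1080 H15.StdO8p3.nets) (hN : Nat.card G = 4952179814400) : Cx M (fun g => Pr M g p295) b296 [] p295 y314 :=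
  cx_conj (fun _ _ => fa_nil) (rels_base (base0 M hN) k315)
noncomputable def t317 : KT := KT.alt [] (KT.stp (nat_lit 0) [nat_lit 1] (dw (nat_lit 0x1323)) (KT.br (nat_lit 299) (KT.alt (dw (nat_lit 0x1323)) (KT.stp (nat_lit 299) [nat_lit 0] (dw (nat_lit 0x13231d1d)) (KT.br (nat_lit 993) (KT.alt (dw (nat_lit 0x141b10231711231f11)) (KT.br (nat_lit 799) (KT.alt (dw (nat_lit 0x141b10231711231f11)) (KT.mem (nat_lit 799) [nat_lit 0] (SE.lev (nat_lit 6)))
 (KT.nil (SE.lev (nat_lit 5)) [nat_lit 2, nat_lit 4] [] (dn (nat_lit 20) (nat_lit 0x0bec2095420a682003c2094820948108f8208f81)))))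
 (KT.alt (dw (nat_lit 0x13231d1d)) (KT.br (nat_lit 799) (KT.alt (dw (nat_lit 0x13231d1d)) (KT.mem (nat_lit 799) [nat_lit 0] (SE.lev (nat_lit 6)))
 (KT.nil (SE.lev (nat_lit 5)) [nat_lit 2, nat_lit 5] [] (dn (nat_lit 20) (nat_lit 0x0c7810ff0103c810c6810e5810e5820c9410c942)))))
 (KT.nil (SE.lev (nat_lit 4)) [] [] [])))))
 (KT.nil (SE.lev (nat_lit 2)) [nat_lit 2, nat_lit 3] [dw (nat_lit 0x03)] (dn (nat_lit 20) (nat_lit 0x09b020e84208c41058c20510101ac204c410124208bc2078010b2810b282073c2102020c3c208f820ef0106fc20d8410d84207d42045010ec8200f420c482094410c6810c682037010290102902098010948108c0108c020f1810f18201b82000c1000c2045c20c74100e820a201088810f68203ac20c44109041090420c9410c9420b382007020ee020340103402026010b2010794106d0106d0210101101020f20103c820cac10cac20550105502020010200206ec106ec20c2810c282003c20478100f8100f820d0810cdc10cdc20c0410c0420ef410ef42040c2060410bec10bec203a4103a42024420c7810c78209cc109cc2095410954208fc108fc20bd810bd8202f4102f42))))))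
 (KT.nil (SE.lev (nat_lit 0)) [nat_lit 0, nat_lit 1] [dw (nat_lit 0x01), dw (nat_lit 0x03), dw (nat_lit 0x01), dw (nat_lit 0x03), dw (nat_lit 0x01), dw (nat_lit 0x03), dw (nat_lit 0x01), dw (nat_lit 0x03)
, dw (nat_lit 0x01), dw (nat_lit 0x03), dw (nat_lit 0x01), dw (nat_lit 0x03), dw (nat_lit 0x01), dw (nat_lit 0x03), dw (nat_lit 0x01)] (dn (nat_lit 20) (nat_lit 0x0dd020d6c108b4209e820ec81021c10f2820454204c4203b81045c2032820918205f820e8020d8420d8410cbc110b8209f010f7820e9810fec10c9810d242109c10ad41017c20a7c10bfc209282014c105c810084107e820f8c202bc2100421004100502005010ca420260100c810698206981052c10e04207302027820f60204d0109c0200902080c102d820f0420b20203102069020be820b28208782003020e902086c208c420ee4203c0203f420de820ed8205bc2024c2050c20cf02002820c8820900200882044820e2c208fc209b820378205702068020478207dc20cec21068203dc20ca02064c207fc204b020c6420be02074c2011420bd02)))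
theorem k318 : ktChk (nat_lit 1080) H15.StdO8p3.nets F c290 b296 [] p295 y314 [] [] (nat_lit 0) (nat_lit 0) 0 0 t317 = true := by decide +kernel
theorem l319 (M : PM G Ω 1080 H15.StdO8p3.nets) (hN : Nat.card G = 4952179814400) : Cl M (fun g => Pr M g p295) [] [] (nat_lit 0) 0 :=
  cl_tree (e292 M hN) (x316 M hN) (dd0 _ _ _ _) k318
noncomputable def w320 : Word := [nat_lit 13, nat_lit 3, nat_lit 20, nat_lit 19, nat_lit 19]
theorem k321 : relK F bs0 [(List.append VO8p3x3.rf w320, List.append w320 w293)] = true := by decide +kernel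
theorem k322 : relK F bs0 [(List.append VO8p3x3.rh w320, List.append w320 w294)] = true := by decide +kernel
theorem q323 (M : PM G Ω 1080 H15.StdO8p3.nets) (hN : Nat.card G = 4952179814400) : ¬ IsConj (ev M.gen VO8p3x3.rh) (ev M.gen VO8p3x3.rf) :=
  fun h => nconj_of (l319 M hN) (((conj_of_rel' (rels_base (base0 M hN) k322)).symm.trans h).trans (conj_of_rel' (rels_base (base0 M hN) k321)))
noncomputable def w324 : Word := [nat_lit 16, nat_lit 33, nat_lit 18, nat_lit 14, nat_lit 19, nat_lit 33, nat_lit 1, nat_lit 21, nat_lit 21, nat_lit 27, nat_lit 25]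
theorem k325 : relK F bs0 [(List.append (invW VO8p3x3.rf) w324, List.append w324 VO8p3x3.rf)] = true := by decide +kernel
theorem nc7 (M : PM G Ω 1080 H15.StdO8p3.nets) (hN : Nat.card G = 4952179814400) : ∀ j < 7, ¬ CjS (sub M.gen [VO8p3x3.rh]) (sub M.gen [getL [] xs j]) :=
  fun j hj => by interval_cases j; exacts [(fc7 M hN).nc (fc0 M hN) (by decide), (fc7 M hN).nc (fc1 M hN) (by decide), (fc7 M hN).nc (fc2 M hN) (by decide), (fc7 M hN).nc (fc3 M hN) (by decide), nc3r (ord7 M hN) (ord4 M hN) (q258 M hN) (conj_of_rel' (rels_base (base0 M hN) k260)), nc3r (ord7 M hN) (ord5 M hN) (q323 M hN) (conj_of_rel' (rels_base (base0 M hN) k325)), (fc7 M hN).nc (fc6 M hN) (by decide)]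
theorem k326 : band (Nat.ble (nat_lit 1080) (Nat.pow 2 (nat_lit 11))) (fsChk (nat_lit 1080) (nat_lit 11) H15.StdO8p3.nets VO8p3x3.ri (nat_lit 0) (full (nat_lit 1080)) 0 0 (nat_lit 11)) = true := by decide +kernel
theorem f327 (M : PM G Ω 1080 H15.StdO8p3.nets) (hN : Nat.card G = 4952179814400) : IsFix M VO8p3x3.ri (nat_lit 0) :=
  fix_one k326
theorem k328 : relK F bs0 [(powW VO8p3x3.ri 3, [])] = true := by decide +kernel
theorem r329 (M : PM G Ω 1080 H15.StdO8p3.nets) (hN : Nat.card G = 4952179814400) : orderOf (ev M.gen VO8p3x3.ri) = 3 :=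
  order_of_rel (F := F) (b := 0) (by norm_num) (rels_base (base0 M hN) k328) (by decide +kernel)
theorem ord8 (M : PM G Ω 1080 H15.StdO8p3.nets) (hN : Nat.card G = 4952179814400) : orderOf (ev M.gen VO8p3x3.ri) = 3 :=
  (r329 M hN)
noncomputable def B8 : Nat := (nat_lit 0)
theorem fix8 (M : PM G Ω 1080 H15.StdO8p3.nets) (hN : Nat.card G = 4952179814400) : IsFixL M [VO8p3x3.ri] B8 :=
  IsFix.fixL (f327 M hN)
theorem k330 : Nat.beq (pop (nat_lit 1080) B8) 0 = true := by decide +kernel
theorem fc8 (M : PM G Ω 1080 H15.StdO8p3.nets) (hN : Nat.card G = 4952179814400) : FixC M [VO8p3x3.ri] 0 :=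
  ⟨_, fix8 M hN, Nat.eq_of_beq_eq_true k330⟩
theorem k331 : orbChk (nat_lit 1080) H15.StdO8p3.nets F [nat_lit 1, nat_lit 0] (sel [w19, w20, w21] [nat_lit 0, nat_lit 1, nat_lit 2]) [dw (nat_lit 0x01), dw (nat_lit 0x01), dw (nat_lit 0x03), dw (nat_lit 0x01), dw (nat_lit 0x05), dw (nat_lit 0x01), dw (nat_lit 0x03)] (dn (nat_lit 20) (nat_lit 0x0034110d8106c82065430f5420f5410f84108c420ec8205fc205fc10b0010f4c20d94110b8210c03093410a2020a20109c810c7c206e810d8430d84209b4209b410cac208bc308bc20d80104c4304742047410aa830aa8200802008010eb830eb820eb8109c0109b02003c30cf430cf410988102503025020d3420d341027030710307102090c107d4305ec3104410bfc30bfc104ac304ac11010310a0310a01004c3004c107903079010140100443046c3046c1)) (bit (nat_lit 58)) s94 = true := by decide +kernel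
theorem o332 (M : PM G Ω 1080 H15.StdO8p3.nets) (hN : Nat.card G = 4952179814400) : Orb M ⊤ [nat_lit 1, nat_lit 0] (nat_lit 58) s94 :=
  (Orb.ext le_top (orb_bit ⊤ [nat_lit 1, nat_lit 0] (b := (nat_lit 58)) rfl) k331)
noncomputable def s333 : Nat := (nat_lit 0x10120000200004000000a0029000000004000000000000020008a0002000008000000040000029001000000000020000004002001000100053004400020080000000200000000000000400002000100440000002010008010002000000000000000006800000000000800000000008000000050100000000000000001000000000000400e2000)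
noncomputable def w334 : Word := [nat_lit 16, nat_lit 14, nat_lit 18, nat_lit 14]
noncomputable def w335 : Word := [nat_lit 27, nat_lit 33, nat_lit 33, nat_lit 26]
theorem k336 : orbChk (nat_lit 1080) H15.StdO8p3.nets F [nat_lit 58, nat_lit 1, nat_lit 0] (sel [w21, w334, w335] [nat_lit 0, nat_lit 1, nat_lit 2]) [dw (nat_lit 0x01)] (dn (nat_lit 20) (nat_lit 0x09c020a4030a40205942014030270205fc305fc20654203ac3046c3046c20cec2063010988309882090c30f8430f8420f8410d8430c0410bf030bf02047810b143007820078106d830aa830aa820744307442074410dd420dd410f8c30f8c20f8c10d9c30eb830eb820eb8110c030ff8110a0310a0207983079820798102fc302fc10c6830c6810f5430f5420278302782)) (bit (nat_lit 158)) s333 = true := by decide +kernel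
theorem o337 (M : PM G Ω 1080 H15.StdO8p3.nets) (hN : Nat.card G = 4952179814400) : Orb M ⊤ [nat_lit 58, nat_lit 1, nat_lit 0] (nat_lit 158) s333 :=
  (Orb.ext le_top (orb_bit ⊤ [nat_lit 58, nat_lit 1, nat_lit 0] (b := (nat_lit 158)) rfl) k336)
noncomputable def s338 : Nat := (nat_lit 0x100000000000000000000000000000000001000000000000000000000000000000000000000000000000000000000000000000000000000000000000000000000000000000000000000000000000000000000000000000000000000000000000)
noncomputable def w339 : Word := [nat_lit 15, nat_lit 16, nat_lit 30, nat_lit 16, nat_lit 14]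
theorem k340 : orbChk (nat_lit 1080) H15.StdO8p3.nets F [nat_lit 158, nat_lit 58, nat_lit 1, nat_lit 0] (sel [w339] [nat_lit 0]) [] (dn (nat_lit 20) (nat_lit 0x0bf01)) (bit (nat_lit 764)) s338 = true := by decide +kernel
theorem o341 (M : PM G Ω 1080 H15.StdO8p3.nets) (hN : Nat.card G = 4952179814400) : Orb M ⊤ [nat_lit 158, nat_lit 58, nat_lit 1, nat_lit 0] (nat_lit 764) s338 :=
  (Orb.ext le_top (orb_bit ⊤ [nat_lit 158, nat_lit 58, nat_lit 1, nat_lit 0] (b := (nat_lit 764)) rfl) k340)
noncomputable def s342 : Nat := (nat_lit 0x100000000000000000000000000000000000800000240000002000000000000000000000000000000000000000000000000000000000000000000000000000000000000000000000008000000000000000080000000000000000000800000000000000000000000000000080000000000000000000000000000000000000000000)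
noncomputable def w343 : Word := [nat_lit 18, nat_lit 34, nat_lit 24, nat_lit 19, nat_lit 22]
noncomputable def w344 : Word := [nat_lit 19, nat_lit 28, nat_lit 34, nat_lit 22, nat_lit 27, nat_lit 18]
noncomputable def w345 : Word := [nat_lit 14, nat_lit 20, nat_lit 26, nat_lit 33, nat_lit 34, nat_lit 24, nat_lit 21, nat_lit 15]
theorem k346 : orbChk (nat_lit 1080) H15.StdO8p3.nets F [nat_lit 764, nat_lit 158, nat_lit 58, nat_lit 1, nat_lit 0] (sel [w343, w344, w345] [nat_lit 0, nat_lit 1, nat_lit 2]) [] (dn (nat_lit 20) (nat_lit 0x02bc20d7420d7410ddc305ec30d6830d6820d681)) (bit (nat_lit 858)) s342 = true := by decide +kernel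
theorem o347 (M : PM G Ω 1080 H15.StdO8p3.nets) (hN : Nat.card G = 4952179814400) : Orb M ⊤ [nat_lit 764, nat_lit 158, nat_lit 58, nat_lit 1, nat_lit 0] (nat_lit 858) s342 :=
  (Orb.ext le_top (orb_bit ⊤ [nat_lit 764, nat_lit 158, nat_lit 58, nat_lit 1, nat_lit 0] (b := (nat_lit 858)) rfl) k346)
noncomputable def s348 : Nat := (nat_lit 0x800000000000000000000000000000000000000000000000000000000000000000000000000000000000000000000000000000000000000000000000000000080000000000000000000000000000000000000000000000000000000000000000000000000000000000000000000000)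
noncomputable def w349 : Word := [nat_lit 20, nat_lit 34, nat_lit 29, nat_lit 16, nat_lit 27, nat_lit 21]
theorem k350 : orbChk (nat_lit 1080) H15.StdO8p3.nets F [nat_lit 858, nat_lit 764, nat_lit 158, nat_lit 58, nat_lit 1, nat_lit 0] (sel [w349] [nat_lit 0]) [] (dn (nat_lit 20) (nat_lit 0x05ec1)) (bit (nat_lit 379)) s348 = true := by decide +kernel
theorem o351 (M : PM G Ω 1080 H15.StdO8p3.nets) (hN : Nat.card G = 4952179814400) : Orb M ⊤ [nat_lit 858, nat_lit 764, nat_lit 158, nat_lit 58, nat_lit 1, nat_lit 0] (nat_lit 379) s348 :=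
  (Orb.ext le_top (orb_bit ⊤ [nat_lit 858, nat_lit 764, nat_lit 158, nat_lit 58, nat_lit 1, nat_lit 0] (b := (nat_lit 379)) rfl) k350)
noncomputable def s352 : Nat := (nat_lit 0x840000000000000000000000000000000000000000000000000000001000000001000008000000000000000000000000400000000000000000400000000000000000000000000000000000000000040000000000000000000001000000000000000000000000000000000000000000000000000000000000000000)
noncomputable def w353 : Word := [nat_lit 25, nat_lit 16, nat_lit 24, nat_lit 26, nat_lit 16, nat_lit 22]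
noncomputable def w354 : Word := [nat_lit 20, nat_lit 22, nat_lit 19, nat_lit 28, nat_lit 14, nat_lit 22, nat_lit 20]
theorem k355 : orbChk (nat_lit 1080) H15.StdO8p3.nets F [nat_lit 379, nat_lit 858, nat_lit 764, nat_lit 158, nat_lit 58, nat_lit 1, nat_lit 0] (sel [w353, w354] [nat_lit 0, nat_lit 1]) [] (dn (nat_lit 20) (nat_lit 0x0b4010f5c10bd020bd0109582095810420204201)) (bit (nat_lit 264)) s352 = true := by decide +kernel
theorem o356 (M : PM G Ω 1080 H15.StdO8p3.nets) (hN : Nat.card G = 4952179814400) : Orb M ⊤ [nat_lit 379, nat_lit 858, nat_lit 764, nat_lit 158, nat_lit 58, nat_lit 1, nat_lit 0] (nat_lit 264) s352 :=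
  (Orb.ext le_top (orb_bit ⊤ [nat_lit 379, nat_lit 858, nat_lit 764, nat_lit 158, nat_lit 58, nat_lit 1, nat_lit 0] (b := (nat_lit 264)) rfl) k355)
noncomputable def s357 : Nat := (nat_lit 0x8000000100000000000000000000000000000000000000000000000000000000000000040000000000000000000000000000000000000000000000000000000000000000000000000000000000000000000000000000000000000000000000000000000000000000000000000000000000000000000000000000000000)
noncomputable def w358 : Word := [nat_lit 14, nat_lit 16, nat_lit 29, nat_lit 33, nat_lit 29, nat_lit 20, nat_lit 16, nat_lit 15]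
theorem k359 : orbChk (nat_lit 1080) H15.StdO8p3.nets F [nat_lit 264, nat_lit 379, nat_lit 858, nat_lit 764, nat_lit 158, nat_lit 58, nat_lit 1, nat_lit 0] (sel [w358] [nat_lit 0]) [] (dn (nat_lit 20) (nat_lit 0x0b2810f201)) (bit (nat_lit 968)) s357 = true := by decide +kernel
theorem o360 (M : PM G Ω 1080 H15.StdO8p3.nets) (hN : Nat.card G = 4952179814400) : Orb M ⊤ [nat_lit 264, nat_lit 379, nat_lit 858, nat_lit 764, nat_lit 158, nat_lit 58, nat_lit 1, nat_lit 0] (nat_lit 968) s357 :=
  (Orb.ext le_top (orb_bit ⊤ [nat_lit 264, nat_lit 379, nat_lit 858, nat_lit 764, nat_lit 158, nat_lit 58, nat_lit 1, nat_lit 0] (b := (nat_lit 968)) rfl) k359)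
noncomputable def c361 : Chn := [((nat_lit 0), (full (nat_lit 1080))), ((nat_lit 1), L.KO8p3.s32), ((nat_lit 58), s94), ((nat_lit 158), s333), ((nat_lit 764), s338), ((nat_lit 858), s342), ((nat_lit 379), s348), ((nat_lit 264), s352), ((nat_lit 968), s357)]
theorem k362 : Nat.ble 4952179814400 (cval (nat_lit 1080) c361) = true := by decide +kernel
theorem e363 (M : PM G Ω 1080 H15.StdO8p3.nets) (hN : Nat.card G = 4952179814400) : EC M ⊤ [] c361 :=
  ec_top (c := c361) ⟨(L.KO8p3.o4 M hN), ⟨(L.KO8p3.o34 M hN), ⟨(o332 M hN), ⟨(o337 M hN), ⟨(o341 M hN), ⟨(o347 M hN), ⟨(o351 M hN), ⟨(o356 M hN), ⟨(o360 M hN), trivial⟩⟩⟩⟩⟩⟩⟩⟩⟩ hN k362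
noncomputable def w364 : Word := [nat_lit 26, nat_lit 22, nat_lit 18, nat_lit 22, nat_lit 14, nat_lit 28, nat_lit 1, nat_lit 30, nat_lit 15, nat_lit 26, nat_lit 18]
noncomputable def w365 : Word := [nat_lit 32, nat_lit 28, nat_lit 20, nat_lit 14, nat_lit 19, nat_lit 16, nat_lit 0, nat_lit 28, nat_lit 12, nat_lit 27]
noncomputable def p366 : Prs := [(w365, w364)]
noncomputable def b367 : List (Nat × Nat) := []
noncomputable def w368 : Word := [nat_lit 29, nat_lit 30, nat_lit 28, nat_lit 20, nat_lit 34, nat_lit 19, nat_lit 16, nat_lit 21, nat_lit 14, nat_lit 19, nat_lit 1, nat_lit 14]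
noncomputable def w369 : Word := [nat_lit 34, nat_lit 26, nat_lit 26, nat_lit 34, nat_lit 24, nat_lit 16, nat_lit 26, nat_lit 14, nat_lit 22, nat_lit 20, nat_lit 13, nat_lit 25, nat_lit 4]
noncomputable def w370 : Word := [nat_lit 20, nat_lit 16, nat_lit 24, nat_lit 32, nat_lit 14, nat_lit 16, nat_lit 26, nat_lit 32, nat_lit 19, nat_lit 26]
noncomputable def w371 : Word := [nat_lit 30, nat_lit 27, nat_lit 25, nat_lit 27, nat_lit 19, nat_lit 15, nat_lit 15, nat_lit 26, nat_lit 20, nat_lit 33]
noncomputable def w372 : Word := [nat_lit 33, nat_lit 25, nat_lit 19, nat_lit 20, nat_lit 18, nat_lit 14, nat_lit 14, nat_lit 18, nat_lit 26, nat_lit 6, nat_lit 14, nat_lit 21, nat_lit 0]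
noncomputable def w373 : Word := [nat_lit 27, nat_lit 33, nat_lit 33, nat_lit 21, nat_lit 16, nat_lit 14, nat_lit 14, nat_lit 18, nat_lit 18, nat_lit 24]
noncomputable def w374 : Word := [nat_lit 26, nat_lit 28, nat_lit 22, nat_lit 28, nat_lit 15, nat_lit 18, nat_lit 0, nat_lit 8, nat_lit 21, nat_lit 13, nat_lit 19]
noncomputable def w375 : Word := [nat_lit 19, nat_lit 29, nat_lit 16, nat_lit 22, nat_lit 14, nat_lit 19, nat_lit 29, nat_lit 0, nat_lit 15, nat_lit 24, nat_lit 4, nat_lit 25]
noncomputable def w376 : Word := [nat_lit 32, nat_lit 29, nat_lit 20, nat_lit 30, nat_lit 14, nat_lit 21, nat_lit 14, nat_lit 13, nat_lit 18, nat_lit 15, nat_lit 19, nat_lit 6]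
noncomputable def w377 : Word := [nat_lit 0, nat_lit 34, nat_lit 29, nat_lit 26, nat_lit 21, nat_lit 26, nat_lit 18, nat_lit 14, nat_lit 25, nat_lit 13, nat_lit 15, nat_lit 16]
noncomputable def w378 : Word := [nat_lit 30, nat_lit 27, nat_lit 21, nat_lit 21, nat_lit 16, nat_lit 19, nat_lit 29, nat_lit 15, nat_lit 18, nat_lit 6, nat_lit 14, nat_lit 20, nat_lit 8]
noncomputable def w379 : Word := [nat_lit 28, nat_lit 16, nat_lit 28, nat_lit 15, nat_lit 16, nat_lit 1, nat_lit 5, nat_lit 19, nat_lit 15, nat_lit 24]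
noncomputable def w380 : Word := [nat_lit 32, nat_lit 34, nat_lit 32, nat_lit 30, nat_lit 27, nat_lit 20, nat_lit 16, nat_lit 22, nat_lit 8, nat_lit 14, nat_lit 8, nat_lit 28, nat_lit 5]
noncomputable def w381 : Word := [nat_lit 30, nat_lit 27, nat_lit 24, nat_lit 19, nat_lit 21, nat_lit 14, nat_lit 27, nat_lit 5, nat_lit 14, nat_lit 21, nat_lit 12, nat_lit 15]
noncomputable def w382 : Word := [nat_lit 30, nat_lit 20, nat_lit 30, nat_lit 19, nat_lit 28, nat_lit 14, nat_lit 32, nat_lit 0, nat_lit 20, nat_lit 14, nat_lit 34, nat_lit 28]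
noncomputable def w383 : Word := [nat_lit 32, nat_lit 26, nat_lit 16, nat_lit 21, nat_lit 30, nat_lit 14, nat_lit 33, nat_lit 14, nat_lit 5, nat_lit 33, nat_lit 22, nat_lit 10, nat_lit 18]
noncomputable def w384 : Word := [nat_lit 33, nat_lit 34, nat_lit 33, nat_lit 26, nat_lit 26, nat_lit 30, nat_lit 25, nat_lit 6, nat_lit 22, nat_lit 6]
noncomputable def w385 : Word := [nat_lit 20, nat_lit 26, nat_lit 29, nat_lit 24, nat_lit 16, nat_lit 18, nat_lit 14, nat_lit 14, nat_lit 8, nat_lit 27, nat_lit 32]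
noncomputable def w386 : Word := [nat_lit 32, nat_lit 30, nat_lit 26, nat_lit 19, nat_lit 28, nat_lit 14, nat_lit 20, nat_lit 29, nat_lit 20]
noncomputable def w387 : Word := [nat_lit 33, nat_lit 20, nat_lit 20, nat_lit 28, nat_lit 19, nat_lit 14, nat_lit 22, nat_lit 16, nat_lit 8, nat_lit 27, nat_lit 8, nat_lit 26, nat_lit 8]
noncomputable def w388 : Word := [nat_lit 33, nat_lit 26, nat_lit 32, nat_lit 25, nat_lit 21, nat_lit 14, nat_lit 16, nat_lit 26, nat_lit 13, nat_lit 30, nat_lit 1]
noncomputable def w389 : Word := [nat_lit 34, nat_lit 33, nat_lit 22, nat_lit 28, nat_lit 16, nat_lit 20, nat_lit 27, nat_lit 14, nat_lit 16, nat_lit 28, nat_lit 14, nat_lit 2]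
noncomputable def w390 : Word := [nat_lit 34, nat_lit 27, nat_lit 20, nat_lit 18, nat_lit 18, nat_lit 15, nat_lit 15, nat_lit 24, nat_lit 8, nat_lit 22, nat_lit 27, nat_lit 24, nat_lit 1]
noncomputable def w391 : Word := [nat_lit 30, nat_lit 34, nat_lit 22, nat_lit 20, nat_lit 18, nat_lit 29, nat_lit 14, nat_lit 25, nat_lit 0, nat_lit 13, nat_lit 14]
noncomputable def w392 : Word := [nat_lit 10, nat_lit 33, nat_lit 33, nat_lit 34, nat_lit 29, nat_lit 24, nat_lit 16, nat_lit 24, nat_lit 1, nat_lit 21, nat_lit 32]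
noncomputable def w393 : Word := [nat_lit 30, nat_lit 21, nat_lit 24, nat_lit 16, nat_lit 20, nat_lit 33, nat_lit 14, nat_lit 26, nat_lit 13, nat_lit 25, nat_lit 22, nat_lit 21, nat_lit 13]
noncomputable def w394 : Word := [nat_lit 34, nat_lit 30, nat_lit 20, nat_lit 29, nat_lit 29, nat_lit 18, nat_lit 1, nat_lit 21, nat_lit 4, nat_lit 29, nat_lit 16]
noncomputable def w395 : Word := [nat_lit 19, nat_lit 34, nat_lit 30, nat_lit 32, nat_lit 15, nat_lit 18, nat_lit 32, nat_lit 5, nat_lit 28, nat_lit 21]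
noncomputable def w396 : Word := [nat_lit 27, nat_lit 29, nat_lit 26, nat_lit 21, nat_lit 16, nat_lit 32, nat_lit 14, nat_lit 16, nat_lit 24, nat_lit 34]
noncomputable def w397 : Word := [nat_lit 20, nat_lit 27, nat_lit 16, nat_lit 21, nat_lit 25, nat_lit 14, nat_lit 21, nat_lit 33, nat_lit 8, nat_lit 12, nat_lit 19, nat_lit 27]
noncomputable def w398 : Word := [nat_lit 26, nat_lit 30, nat_lit 29, nat_lit 14, nat_lit 14, nat_lit 19, nat_lit 20, nat_lit 6, nat_lit 18, nat_lit 2, nat_lit 25]
noncomputable def y399 : List Word := [w368, w369, w370, w371, w372, w373, w374, w375, w376, w377, w378, w379, w380, w381, w382, w383, w384, w385, w386, w387, w388, w389, w390, w391, w392, w393, w394, w395, w396, w397, w398]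
theorem k400 : relK F bs0 (commR (snds p366) y399) = true := by decide +kernel
theorem x401 (M : PM G Ω 1080 H15.StdO8p3.nets) (hN : Nat.card G = 4952179814400) : Cx M (fun g => Pr M g p366) b367 [] p366 y399 :=
  cx_conj (fun _ _ => fa_nil) (rels_base (base0 M hN) k400)
noncomputable def t402 : KT := KT.alt (dw (nat_lit 0x2206)) (KT.stp (nat_lit 0) [nat_lit 1] (dw (nat_lit 0x2206191511)) (KT.br (nat_lit 58) (KT.alt (dw (nat_lit 0x2206191511)) (KT.stp (nat_lit 58) [nat_lit 0] (dw (nat_lit 0x220619151014222210)) (KT.br (nat_lit 764) (KT.alt (dw (nat_lit 0x2206191510142222111f1110)) (KT.br (nat_lit 858) (KT.alt (dw (nat_lit 0x2206191510142222111f1110)) (KT.mem (nat_lit 858) [nat_lit 0] (SE.lev (nat_lit 6)))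
 (KT.nil (SE.lev (nat_lit 5)) [nat_lit 2, nat_lit 7] [] (dn (nat_lit 20) (nat_lit 0x0a08208c82001020c84202b8202b811014210141)))))
 (KT.alt (dw (nat_lit 0x220619151014222210)) (KT.br (nat_lit 858) (KT.alt (dw (nat_lit 0x220619151014222210)) (KT.mem (nat_lit 858) [nat_lit 0] (SE.lev (nat_lit 6)))
 (KT.nil (SE.lev (nat_lit 5)) [nat_lit 3, nat_lit 7] [] (dn (nat_lit 20) (nat_lit 0x040020c4c209c82025c20fb020fb010f8420f841)))))
 (KT.nil (SE.lev (nat_lit 4)) [] [] [])))))
 (KT.nil (SE.lev (nat_lit 2)) [nat_lit 2, nat_lit 3, nat_lit 4] [] (dn (nat_lit 20) (nat_lit 0x0c6c1076c20a8410d3c3090420aac1071010cc420cc410770110b0310b0105d41061c30a0030a0020a0010ce030ce010e9030b4430b4420a083082430de431080309c820c843040030400210041071830718102fc304603046020460106dc30be830be820be8100c83035830358102401043010ef030f5420f54105bc305bc1102420c9830c98210143059030674308f0307d8307d8106d4306d420dd43028420748307481108831088210881040c1006830c6430c64201d0301d01016c302b8302b8202b8100ec300ec20b0030b0020a2430a2420a2410c3430c34104a8304f8304f8204f810e0030e0020f6030f602073420734108943089420930309302093010dac30dac20dac10b603))))))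
 (KT.alt (dw (nat_lit 0x0301)) (KT.stp (nat_lit 0) [nat_lit 1] (dw (nat_lit 0x03011d)) (KT.br (nat_lit 58) (KT.alt (dw (nat_lit 0x03011d)) (KT.stp (nat_lit 58) [nat_lit 0] (dw (nat_lit 0x03011d10170f1b1b211b)) (KT.br (nat_lit 764) (KT.alt (dw (nat_lit 0x03011d10170f1b1b211b)) (KT.cnt (SE.and (SE.lev (nat_lit 5)) (SE.img [nat_lit 0] (SE.lev (nat_lit 5)))))
 (KT.alt (dw (nat_lit 0x1b012110101f151419221f1b23)) (KT.cnt (SE.and (SE.lev (nat_lit 5)) (SE.img [nat_lit 0] (SE.lev (nat_lit 5)))))
 (KT.nil (SE.lev (nat_lit 4)) [] [] [])))))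
 (KT.alt (dw (nat_lit 0x03011d1b1b)) (KT.mem (nat_lit 58) [nat_lit 0] (SE.lev (nat_lit 3)))
 (KT.alt (dw (nat_lit 0x03011d1b1b1b1b)) (KT.stp (nat_lit 58) [nat_lit 0] (dw (nat_lit 0x030117140f0f111315231f13)) (KT.br (nat_lit 764) (KT.alt (dw (nat_lit 0x0103111610131113161a1c1d23)) (KT.br (nat_lit 858) (KT.alt (dw (nat_lit 0x0103111610131113161a1c1d23)) (KT.mem (nat_lit 858) [nat_lit 0] (SE.lev (nat_lit 6)))
 (KT.nil (SE.lev (nat_lit 5)) [nat_lit 28, nat_lit 29] [] (dn (nat_lit 20) (nat_lit 0x10b820c4420144200bc201c0201c010fd420fd41)))))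
 (KT.alt (dw (nat_lit 0x030117140f0f111315231f13)) (KT.br (nat_lit 858) (KT.alt (dw (nat_lit 0x030117140f0f111315231f13)) (KT.mem (nat_lit 858) [nat_lit 0] (SE.lev (nat_lit 6)))
 (KT.nil (SE.lev (nat_lit 5)) [nat_lit 28, nat_lit 30] [] (dn (nat_lit 20) (nat_lit 0x02d4205342032c20da8209e8209e811060210601)))))
 (KT.nil (SE.lev (nat_lit 4)) [] [] [])))))
 (KT.nil (SE.lev (nat_lit 2)) [nat_lit 26, nat_lit 27] [dw (nat_lit 0x03)] (dn (nat_lit 20) (nat_lit 0x013810da020e5c103481071c1007810940101a4101a42048c11030202ac1100010af410b0810b0820cac20e6c20d7c106501065020d6010bfc20a581095c210c010fa010fa0200b420e0c20ac8106a4106a420fb410fb420dd0110d8110d820b8c10b8c20ef810ef8203942008810f7410f7420d5010d5021028210341098010fc42029c1047c1053420178101401014020d401094c11048110482052420998109982089c202d4102d420144204fc108702002420d0410b8810cd010cd02032c20da810da820e54204e02085410e74107f4107f4208a0108a021060110602053c206ec106ec209081090820b9420c7410c74209e8109e820d20210441030c1))))))))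
 (KT.alt [] (KT.stp (nat_lit 0) [nat_lit 1] (dw (nat_lit 0x161711)) (KT.cnt (SE.and (SE.lev (nat_lit 2)) (SE.img [nat_lit 0] (SE.lev (nat_lit 2))))))
 (KT.nil (SE.lev (nat_lit 0)) [nat_lit 0, nat_lit 1] [dw (nat_lit 0x01), dw (nat_lit 0x03), dw (nat_lit 0x01), dw (nat_lit 0x03), dw (nat_lit 0x01), dw (nat_lit 0x03), dw (nat_lit 0x01), dw (nat_lit 0x03)
, dw (nat_lit 0x01), dw (nat_lit 0x03), dw (nat_lit 0x01), dw (nat_lit 0x03), dw (nat_lit 0x01), dw (nat_lit 0x03)] (dn (nat_lit 20) (nat_lit 0x062c105981026c1019810f20201802058c20f8c10be01083420834107b010f7820a2c20a2c1036820fc410308108042049820498104501018410c0c1091c20a5810d8410a6420de0105fc20de820e5c1027010b5810d5020268102ac10db01058420524204a4207282072810a3010c80101f4104e4209882003c2003810bb420414107a0207a01010410058206e010fa820fa810b0c20ff8102341022c10194100e011010103d81082010b08100b410044105f4101ec105481055c1095810dcc104b0105401109c1052810a3810dec10afc10004106d810d5c1070c110741107010e8c10b8010a1c105f81011010704110d41017c1006410f70106d0104ec110981)))))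
theorem k403 : ktChk (nat_lit 1080) H15.StdO8p3.nets F c361 b367 [] p366 y399 [] [] (nat_lit 0) (nat_lit 0) 0 0 t402 = true := by decide +kernel
theorem l404 (M : PM G Ω 1080 H15.StdO8p3.nets) (hN : Nat.card G = 4952179814400) : Cl M (fun g => Pr M g p366) [] [] (nat_lit 0) 0 :=
  cl_tree (e363 M hN) (x401 M hN) (dd0 _ _ _ _) k403
noncomputable def w405 : Word := [nat_lit 9, nat_lit 4, nat_lit 17, nat_lit 27]
theorem k406 : relK F bs0 [(List.append VO8p3x3.re w405, List.append w405 w364)] = true := by decide +kernel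
theorem k407 : relK F bs0 [(List.append VO8p3x3.ri w405, List.append w405 w365)] = true := by decide +kernel
theorem q408 (M : PM G Ω 1080 H15.StdO8p3.nets) (hN : Nat.card G = 4952179814400) : ¬ IsConj (ev M.gen VO8p3x3.ri) (ev M.gen VO8p3x3.re) :=
  fun h => nconj_of (l404 M hN) (((conj_of_rel' (rels_base (base0 M hN) k407)).symm.trans h).trans (conj_of_rel' (rels_base (base0 M hN) k406)))
noncomputable def w409 : Word := [nat_lit 20, nat_lit 22, nat_lit 16, nat_lit 30, nat_lit 32, nat_lit 14, nat_lit 30, nat_lit 16, nat_lit 1, nat_lit 6, nat_lit 30, nat_lit 27]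
theorem k410 : relK F bs0 [(List.append (invW VO8p3x3.re) w409, List.append w409 VO8p3x3.re)] = true := by decide +kernel
theorem k411 : orbChk (nat_lit 1080) H15.StdO8p3.nets F [nat_lit 1, nat_lit 0] (sel [w19, w20, w21] [nat_lit 0, nat_lit 1, nat_lit 2]) [dw (nat_lit 0x01), dw (nat_lit 0x03), dw (nat_lit 0x01), dw (nat_lit 0x05), dw (nat_lit 0x01), dw (nat_lit 0x03)] (dn (nat_lit 20) (nat_lit 0x08c410d9c206c8206c810a2c20744208f830a9820a9810f4c30d94105fc205fc107a010bf020bf010a0010f8430f8410bfc30ddc110c030f5420f5410cec206e810080200801098810eb830eb820eb810d8430d8420d8410a2020a2010cc8109c010b2020b2010ec820ec8109b02003c3003c204742047410aa830aa8110b8210b8106543065410c4420c4410250202783027820278105ec305ec20790307902079011044107103071020270302701007830044302bc302bc1046c3046c1004c3004c10cf4309c81)) (bit (nat_lit 310)) s94 = true := by decide +kernel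
theorem o412 (M : PM G Ω 1080 H15.StdO8p3.nets) (hN : Nat.card G = 4952179814400) : Orb M ⊤ [nat_lit 1, nat_lit 0] (nat_lit 310) s94 :=
  (Orb.ext le_top (orb_bit ⊤ [nat_lit 1, nat_lit 0] (b := (nat_lit 310)) rfl) k411)
noncomputable def s413 : Nat := (nat_lit 0x4141200040000000001002002900000004000000000000002000210012000008040000800000008001000000000021000004400001090900002404400020080020800000000000002001400002001104440000002000008000000000000000000000002800000000000000000000000000000010000000000000000001000000008000c00e0000)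
noncomputable def w414 : Word := [nat_lit 14, nat_lit 14, nat_lit 32, nat_lit 18, nat_lit 22]
theorem k415 : orbChk (nat_lit 1080) H15.StdO8p3.nets F [nat_lit 310, nat_lit 1, nat_lit 0] (sel [w184, w335, w414] [nat_lit 0, nat_lit 1, nat_lit 2]) [dw (nat_lit 0x01), dw (nat_lit 0x01)] (dn (nat_lit 20) (nat_lit 0x105830d44307a01047430a9830a9811094306e81004430ec8308d41098830798106c8306c8206c8107443074410a2c300bc300bc10bfc10aa830fb030fb02004c30f4c309b4306d8306d810d503070030700110b8310a0310a0210a01097820978105fc30d94307d4307d410048310d8310d810cc830cc810a0030a0010f8430f8420f841027030270209a8306543)) (bit (nat_lit 405)) s413 = true := by decide +kernel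
theorem o416 (M : PM G Ω 1080 H15.StdO8p3.nets) (hN : Nat.card G = 4952179814400) : Orb M ⊤ [nat_lit 310, nat_lit 1, nat_lit 0] (nat_lit 405) s413 :=
  (Orb.ext le_top (orb_bit ⊤ [nat_lit 310, nat_lit 1, nat_lit 0] (b := (nat_lit 405)) rfl) k415)
noncomputable def s417 : Nat := (nat_lit 0x4000000000000000000000000000000000000000000000000000000000000000000000000000000000000000100000000000000000000)
noncomputable def w418 : Word := [nat_lit 15, nat_lit 28, nat_lit 25, nat_lit 30, nat_lit 22, nat_lit 14]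
theorem k419 : orbChk (nat_lit 1080) H15.StdO8p3.nets F [nat_lit 405, nat_lit 310, nat_lit 1, nat_lit 0] (sel [w418] [nat_lit 0]) [] (dn (nat_lit 20) (nat_lit 0x01401)) (bit (nat_lit 80)) s417 = true := by decide +kernel
theorem o420 (M : PM G Ω 1080 H15.StdO8p3.nets) (hN : Nat.card G = 4952179814400) : Orb M ⊤ [nat_lit 405, nat_lit 310, nat_lit 1, nat_lit 0] (nat_lit 80) s417 :=
  (Orb.ext le_top (orb_bit ⊤ [nat_lit 405, nat_lit 310, nat_lit 1, nat_lit 0] (b := (nat_lit 80)) rfl) k419)
noncomputable def s421 : Nat := (nat_lit 0x104000000000000000000000000000000000800080000000000000000000000000000000000000000000000000000000000004000000000000000000020000000000000000000000008000000000000000000000000000000000000000000000000000000000000000000000000010000000000000000000000000000000002000)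
noncomputable def w422 : Word := [nat_lit 15, nat_lit 20, nat_lit 19, nat_lit 29, nat_lit 14]
noncomputable def w423 : Word := [nat_lit 14, nat_lit 29, nat_lit 24, nat_lit 33, nat_lit 22, nat_lit 15]
theorem k424 : orbChk (nat_lit 1080) H15.StdO8p3.nets F [nat_lit 80, nat_lit 405, nat_lit 310, nat_lit 1, nat_lit 0] (sel [w422, w423] [nat_lit 0, nat_lit 1]) [] (dn (nat_lit 20) (nat_lit 0x09c820034206fc2088420ddc20ddc11010210101)) (bit (nat_lit 1028)) s421 = true := by decide +kernel
theorem o425 (M : PM G Ω 1080 H15.StdO8p3.nets) (hN : Nat.card G = 4952179814400) : Orb M ⊤ [nat_lit 80, nat_lit 405, nat_lit 310, nat_lit 1, nat_lit 0] (nat_lit 1028) s421 :=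
  (Orb.ext le_top (orb_bit ⊤ [nat_lit 80, nat_lit 405, nat_lit 310, nat_lit 1, nat_lit 0] (b := (nat_lit 1028)) rfl) k424)
noncomputable def s426 : Nat := (nat_lit 0x80000000000000000000000000000000000000000000000000000000000000000000000000000000020000000000000000000000000000000000000000000000000000000000000000000000000000000000000000000000000000000000000000000000000000000000000000)
noncomputable def w427 : Word := [nat_lit 15, nat_lit 25, nat_lit 26, nat_lit 18, nat_lit 18, nat_lit 18, nat_lit 16, nat_lit 14]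
theorem k428 : orbChk (nat_lit 1080) H15.StdO8p3.nets F [nat_lit 1028, nat_lit 80, nat_lit 405, nat_lit 310, nat_lit 1, nat_lit 0] (sel [w427] [nat_lit 0]) [] (dn (nat_lit 20) (nat_lit 0x08841)) (bit (nat_lit 545)) s426 = true := by decide +kernel
theorem o429 (M : PM G Ω 1080 H15.StdO8p3.nets) (hN : Nat.card G = 4952179814400) : Orb M ⊤ [nat_lit 1028, nat_lit 80, nat_lit 405, nat_lit 310, nat_lit 1, nat_lit 0] (nat_lit 545) s426 :=
  (Orb.ext le_top (orb_bit ⊤ [nat_lit 1028, nat_lit 80, nat_lit 405, nat_lit 310, nat_lit 1, nat_lit 0] (b := (nat_lit 545)) rfl) k428)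
noncomputable def s430 : Nat := (nat_lit 0x202000000000000020000000000000000000000000000000000000000000000000000000000000000000000000000000000000000000000000000000000000008000000000200000800000000000000000000002000000000000000000000000000000000001000000000000008000000000000000000000000000000000)
noncomputable def w431 : Word := [nat_lit 28, nat_lit 25, nat_lit 32, nat_lit 22]
noncomputable def w432 : Word := [nat_lit 14, nat_lit 21, nat_lit 25, nat_lit 22, nat_lit 21, nat_lit 30, nat_lit 21, nat_lit 15]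
theorem k433 : orbChk (nat_lit 1080) H15.StdO8p3.nets F [nat_lit 545, nat_lit 1028, nat_lit 80, nat_lit 405, nat_lit 310, nat_lit 1, nat_lit 0] (sel [w431, w432] [nat_lit 0, nat_lit 1]) [] (dn (nat_lit 20) (nat_lit 0x0eb410fb4107bc207142071410f9410544205441)) (bit (nat_lit 337)) s430 = true := by decide +kernel
theorem o434 (M : PM G Ω 1080 H15.StdO8p3.nets) (hN : Nat.card G = 4952179814400) : Orb M ⊤ [nat_lit 545, nat_lit 1028, nat_lit 80, nat_lit 405, nat_lit 310, nat_lit 1, nat_lit 0] (nat_lit 337) s430 :=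
  (Orb.ext le_top (orb_bit ⊤ [nat_lit 545, nat_lit 1028, nat_lit 80, nat_lit 405, nat_lit 310, nat_lit 1, nat_lit 0] (b := (nat_lit 337)) rfl) k433)
noncomputable def s435 : Nat := (nat_lit 0x400000000000000000000000001000000000000000000000000000000000000000000000000000000000000000000000000000000000200000000000000000000000000000000000000)
noncomputable def w436 : Word := [nat_lit 15, nat_lit 24, nat_lit 16, nat_lit 33, nat_lit 33, nat_lit 25, nat_lit 14]
theorem k437 : orbChk (nat_lit 1080) H15.StdO8p3.nets F [nat_lit 337, nat_lit 545, nat_lit 1028, nat_lit 80, nat_lit 405, nat_lit 310, nat_lit 1, nat_lit 0] (sel [w436] [nat_lit 0]) [] (dn (nat_lit 20) (nat_lit 0x0928102641)) (bit (nat_lit 153)) s435 = true := by decide +kernel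
theorem o438 (M : PM G Ω 1080 H15.StdO8p3.nets) (hN : Nat.card G = 4952179814400) : Orb M ⊤ [nat_lit 337, nat_lit 545, nat_lit 1028, nat_lit 80, nat_lit 405, nat_lit 310, nat_lit 1, nat_lit 0] (nat_lit 153) s435 :=
  (Orb.ext le_top (orb_bit ⊤ [nat_lit 337, nat_lit 545, nat_lit 1028, nat_lit 80, nat_lit 405, nat_lit 310, nat_lit 1, nat_lit 0] (b := (nat_lit 153)) rfl) k437)
noncomputable def c439 : Chn := [((nat_lit 0), (full (nat_lit 1080))), ((nat_lit 1), L.KO8p3.s32), ((nat_lit 310), s94), ((nat_lit 405), s413), ((nat_lit 80), s417), ((nat_lit 1028), s421), ((nat_lit 545), s426), ((nat_lit 337), s430), ((nat_lit 153), s435)]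
theorem k440 : Nat.ble 4952179814400 (cval (nat_lit 1080) c439) = true := by decide +kernel
theorem e441 (M : PM G Ω 1080 H15.StdO8p3.nets) (hN : Nat.card G = 4952179814400) : EC M ⊤ [] c439 :=
  ec_top (c := c439) ⟨(L.KO8p3.o4 M hN), ⟨(L.KO8p3.o34 M hN), ⟨(o412 M hN), ⟨(o416 M hN), ⟨(o420 M hN), ⟨(o425 M hN), ⟨(o429 M hN), ⟨(o434 M hN), ⟨(o438 M hN), trivial⟩⟩⟩⟩⟩⟩⟩⟩⟩ hN k440
noncomputable def w442 : Word := [nat_lit 0, nat_lit 32, nat_lit 27, nat_lit 25, nat_lit 16, nat_lit 28, nat_lit 14, nat_lit 0, nat_lit 15, nat_lit 32, nat_lit 2, nat_lit 18]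
noncomputable def w443 : Word := [nat_lit 14, nat_lit 33, nat_lit 26, nat_lit 29, nat_lit 20, nat_lit 29, nat_lit 14, nat_lit 21, nat_lit 18, nat_lit 30, nat_lit 0]
noncomputable def p444 : Prs := [(w443, w442)]
noncomputable def b445 : List (Nat × Nat) := []
noncomputable def w446 : Word := [nat_lit 32, nat_lit 32, nat_lit 26, nat_lit 22, nat_lit 14, nat_lit 26, nat_lit 29, nat_lit 1, nat_lit 16, nat_lit 12, nat_lit 33, nat_lit 14]
noncomputable def w447 : Word := [nat_lit 4, nat_lit 22, nat_lit 28, nat_lit 15, nat_lit 16, nat_lit 26, nat_lit 2, nat_lit 6, nat_lit 20, nat_lit 2]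
noncomputable def w448 : Word := [nat_lit 32, nat_lit 34, nat_lit 20, nat_lit 22, nat_lit 27, nat_lit 14, nat_lit 26, nat_lit 29, nat_lit 14, nat_lit 26, nat_lit 19]
noncomputable def w449 : Word := [nat_lit 32, nat_lit 22, nat_lit 20, nat_lit 16, nat_lit 18, nat_lit 27, nat_lit 18]
noncomputable def w450 : Word := [nat_lit 32, nat_lit 30, nat_lit 22, nat_lit 16, nat_lit 28, nat_lit 14, nat_lit 14, nat_lit 18, nat_lit 18, nat_lit 14]
noncomputable def w451 : Word := [nat_lit 14, nat_lit 34, nat_lit 28, nat_lit 22, nat_lit 28, nat_lit 16, nat_lit 24, nat_lit 26, nat_lit 15]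
noncomputable def w452 : Word := [nat_lit 20, nat_lit 24, nat_lit 16, nat_lit 18, nat_lit 21, nat_lit 14, nat_lit 16, nat_lit 32, nat_lit 19, nat_lit 24]
noncomputable def w453 : Word := [nat_lit 18, nat_lit 33, nat_lit 34, nat_lit 24, nat_lit 16, nat_lit 14, nat_lit 27, nat_lit 15, nat_lit 34]
noncomputable def w454 : Word := [nat_lit 30, nat_lit 16, nat_lit 18, nat_lit 29, nat_lit 14, nat_lit 19, nat_lit 30, nat_lit 14, nat_lit 28]
noncomputable def w455 : Word := [nat_lit 32, nat_lit 20, nat_lit 33, nat_lit 18, nat_lit 15, nat_lit 25, nat_lit 19, nat_lit 33, nat_lit 29]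
noncomputable def w456 : Word := [nat_lit 15, nat_lit 32, nat_lit 34, nat_lit 33, nat_lit 26, nat_lit 24, nat_lit 21, nat_lit 14]
noncomputable def w457 : Word := [nat_lit 14, nat_lit 33, nat_lit 26, nat_lit 26, nat_lit 29, nat_lit 20, nat_lit 28, nat_lit 15]
noncomputable def w458 : Word := [nat_lit 14, nat_lit 29, nat_lit 30, nat_lit 33, nat_lit 24, nat_lit 20, nat_lit 15, nat_lit 13, nat_lit 34]
noncomputable def w459 : Word := [nat_lit 26, nat_lit 24, nat_lit 18, nat_lit 15, nat_lit 26, nat_lit 15, nat_lit 13, nat_lit 25, nat_lit 28, nat_lit 19, nat_lit 29]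
noncomputable def w460 : Word := [nat_lit 19, nat_lit 34, nat_lit 33, nat_lit 34, nat_lit 30, nat_lit 27, nat_lit 20]
noncomputable def w461 : Word := [nat_lit 25, nat_lit 27, nat_lit 16, nat_lit 32, nat_lit 15, nat_lit 16, nat_lit 28, nat_lit 1, nat_lit 29, nat_lit 5, nat_lit 14, nat_lit 25]
noncomputable def w462 : Word := [nat_lit 2, nat_lit 26, nat_lit 28, nat_lit 30, nat_lit 21, nat_lit 18, nat_lit 16, nat_lit 22, nat_lit 15, nat_lit 32, nat_lit 14, nat_lit 2]
noncomputable def w463 : Word := [nat_lit 26, nat_lit 30, nat_lit 29, nat_lit 22, nat_lit 16, nat_lit 19, nat_lit 32, nat_lit 0, nat_lit 14, nat_lit 8, nat_lit 5, nat_lit 19]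
noncomputable def w464 : Word := [nat_lit 8, nat_lit 33, nat_lit 33, nat_lit 27, nat_lit 20, nat_lit 29, nat_lit 16, nat_lit 18, nat_lit 20, nat_lit 6, nat_lit 27]
noncomputable def w465 : Word := [nat_lit 29, nat_lit 21, nat_lit 28, nat_lit 19, nat_lit 14, nat_lit 29, nat_lit 34, nat_lit 6, nat_lit 16, nat_lit 13, nat_lit 16]
noncomputable def w466 : Word := [nat_lit 34, nat_lit 30, nat_lit 21, nat_lit 28, nat_lit 19, nat_lit 16, nat_lit 18, nat_lit 24]
noncomputable def w467 : Word := [nat_lit 34, nat_lit 32, nat_lit 34, nat_lit 20, nat_lit 18, nat_lit 20, nat_lit 18, nat_lit 13, nat_lit 28, nat_lit 33, nat_lit 34, nat_lit 1]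
noncomputable def w468 : Word := [nat_lit 30, nat_lit 34, nat_lit 24, nat_lit 18, nat_lit 15, nat_lit 26, nat_lit 15, nat_lit 13, nat_lit 18, nat_lit 21, nat_lit 22, nat_lit 19]
noncomputable def w469 : Word := [nat_lit 20, nat_lit 33, nat_lit 33, nat_lit 27, nat_lit 30, nat_lit 22, nat_lit 14, nat_lit 26, nat_lit 5, nat_lit 24, nat_lit 30, nat_lit 22]
noncomputable def w470 : Word := [nat_lit 21, nat_lit 29, nat_lit 16, nat_lit 20, nat_lit 24, nat_lit 14, nat_lit 21, nat_lit 21, nat_lit 0, nat_lit 15, nat_lit 19, nat_lit 5, nat_lit 0]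
noncomputable def w471 : Word := [nat_lit 4, nat_lit 32, nat_lit 26, nat_lit 30, nat_lit 24, nat_lit 15, nat_lit 32, nat_lit 5, nat_lit 8, nat_lit 29, nat_lit 25]
noncomputable def w472 : Word := [nat_lit 33, nat_lit 34, nat_lit 21, nat_lit 24, nat_lit 14, nat_lit 29, nat_lit 34, nat_lit 8, nat_lit 26, nat_lit 14, nat_lit 24, nat_lit 20]
noncomputable def w473 : Word := [nat_lit 32, nat_lit 16, nat_lit 14, nat_lit 27, nat_lit 30, nat_lit 5, nat_lit 24, nat_lit 24, nat_lit 24, nat_lit 10]
noncomputable def w474 : Word := [nat_lit 30, nat_lit 27, nat_lit 20, nat_lit 32, nat_lit 16, nat_lit 32, nat_lit 1, nat_lit 28, nat_lit 15, nat_lit 33, nat_lit 22]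
noncomputable def w475 : Word := [nat_lit 18, nat_lit 18, nat_lit 16, nat_lit 14, nat_lit 28, nat_lit 14, nat_lit 0, nat_lit 18, nat_lit 25, nat_lit 21, nat_lit 26]
noncomputable def w476 : Word := [nat_lit 29, nat_lit 22, nat_lit 21, nat_lit 16, nat_lit 28, nat_lit 20, nat_lit 15, nat_lit 15, nat_lit 26, nat_lit 5, nat_lit 21, nat_lit 15, nat_lit 8]
noncomputable def w477 : Word := [nat_lit 33, nat_lit 34, nat_lit 27, nat_lit 30, nat_lit 18, nat_lit 14, nat_lit 20, nat_lit 5, nat_lit 18, nat_lit 8, nat_lit 32]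
noncomputable def w478 : Word := [nat_lit 22, nat_lit 27, nat_lit 15, nat_lit 0, nat_lit 14, nat_lit 26, nat_lit 22]
noncomputable def y479 : List Word := [w446, w447, w448, w449, w450, w451, w452, w453, w454, w455, w456, w457, w458, w459, w460, w461, w462, w463, w464, w465, w466, w467, w468, w469, w470, w471, w472, w473, w474, w475, w476, w477, w478]
theorem k480 : relK F bs0 (commR (snds p444) y479) = true := by decide +kernel
theorem x481 (M : PM G Ω 1080 H15.StdO8p3.nets) (hN : Nat.card G = 4952179814400) : Cx M (fun g => Pr M g p444) b445 [] p444 y479 :=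
  cx_conj (fun _ _ => fa_nil) (rels_base (base0 M hN) k480)
noncomputable def t482 : KT := KT.alt [] (KT.stp (nat_lit 0) [nat_lit 0] (dw (nat_lit 0x1911)) (KT.br (nat_lit 310) (KT.alt (dw (nat_lit 0x1911)) (KT.stp (nat_lit 310) [nat_lit 1] (dw (nat_lit 0x191110102214171b21211c)) (KT.br (nat_lit 80) (KT.alt (dw (nat_lit 0x191110102214171b21211c)) (KT.br (nat_lit 1028) (KT.alt (dw (nat_lit 0x191110102214171b21211c)) (KT.stp (nat_lit 1028) [nat_lit 0] (dw (nat_lit 0x191110102214171b21211c)) (KT.br (nat_lit 337) (KT.alt (dw (nat_lit 0x191110102214171b21211c)) (KT.mem (nat_lit 337) [nat_lit 0] (SE.lev (nat_lit 8)))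
 (KT.nil (SE.lev (nat_lit 7)) [nat_lit 6, nat_lit 7] [] (dn (nat_lit 20) (nat_lit 0x0c18102dc1054c107c01099c1099c20548105482))))))
 (KT.nil (SE.lev (nat_lit 5)) [nat_lit 4, nat_lit 5] [] (dn (nat_lit 20) (nat_lit 0x0d341036c10f8c1091c106c4106c420208102082)))))
 (KT.alt (dw (nat_lit 0x1011171119151d212310)) (KT.br (nat_lit 1028) (KT.alt (dw (nat_lit 0x1011171119151d212310)) (KT.stp (nat_lit 1028) [nat_lit 0] (dw (nat_lit 0x1011171119151d212310)) (KT.br (nat_lit 337) (KT.alt (dw (nat_lit 0x1011171119151d212310)) (KT.mem (nat_lit 337) [nat_lit 0] (SE.lev (nat_lit 8)))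
 (KT.nil (SE.lev (nat_lit 7)) [nat_lit 10, nat_lit 11] [] (dn (nat_lit 20) (nat_lit 0x02d8200982109c20968208b0208b0109ac209ac1))))))
 (KT.nil (SE.lev (nat_lit 5)) [nat_lit 8, nat_lit 9] [] (dn (nat_lit 20) (nat_lit 0x09802032c2036420140200402004010570205701)))))
 (KT.nil (SE.lev (nat_lit 4)) [] [] [])))))
 (KT.nil (SE.lev (nat_lit 2)) [nat_lit 2, nat_lit 3] [dw (nat_lit 0x03)] (dn (nat_lit 20) (nat_lit 0x06ec208f8209b0208d420cec1051020d9c2102010fa810884100f821050101a0202fc208c4207b820f0c209802014020e2c10e2c206b020b141036420ba0108881088820e94203bc20370103702061c1061c203981091c104881048820a98206c41024c2105811058203f8205a41035c2062420278102782051410514202b820e5810e58200bc100bc20be810be8209cc109cc2009c1009c20614208fc1032c1032c204d420174101742058c20c8010d682045020c7810c6c10c6c20f4010f40210101101020244102442102420dc410dc420078100782072410724206542015c2098810988207fc107fc20f6810f6820cc820dd410dd420aa810aa820a5810a5820ec810ec8209e01))))))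
 (KT.nil (SE.lev (nat_lit 0)) [nat_lit 0, nat_lit 1] [dw (nat_lit 0x03), dw (nat_lit 0x01), dw (nat_lit 0x03), dw (nat_lit 0x01), dw (nat_lit 0x03), dw (nat_lit 0x01), dw (nat_lit 0x03), dw (nat_lit 0x01)
, dw (nat_lit 0x03), dw (nat_lit 0x01), dw (nat_lit 0x03), dw (nat_lit 0x01), dw (nat_lit 0x03), dw (nat_lit 0x01), dw (nat_lit 0x03)] (dn (nat_lit 20) (nat_lit 0x093c203c420c2c105e8209f4205cc20540103642078c107fc108842053c209e0209c82006810e5010d68105b41057010ba410bd420324102dc10a98207381067410c44206c4200e02082420b2820948101a4202d82034c20cec2071420b7c1045020ccc10ccc20ff410dfc10dfc210c42007010dc820e4c2086810654208202072c200f4106d4102b810b98105b811074104bc1048c10ea810cf0101f010910100a8107f8103e8107281094c10b1810698104701099010074107b8104dc100e8107e8108941105c1086c106a4108ec101c810ab01025c109dc10cdc101ac102041067c1)))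
theorem k483 : ktChk (nat_lit 1080) H15.StdO8p3.nets F c439 b445 [] p444 y479 [] [] (nat_lit 0) (nat_lit 0) 0 0 t482 = true := by decide +kernel
theorem l484 (M : PM G Ω 1080 H15.StdO8p3.nets) (hN : Nat.card G = 4952179814400) : Cl M (fun g => Pr M g p444) [] [] (nat_lit 0) 0 :=
  cl_tree (e441 M hN) (x481 M hN) (dd0 _ _ _ _) k483
noncomputable def w485 : Word := [nat_lit 9, nat_lit 1, nat_lit 31, nat_lit 25, nat_lit 21]
theorem k486 : relK F bs0 [(List.append VO8p3x3.rf w485, List.append w485 w442)] = true := by decide +kernel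
theorem k487 : relK F bs0 [(List.append VO8p3x3.ri w485, List.append w485 w443)] = true := by decide +kernel
theorem q488 (M : PM G Ω 1080 H15.StdO8p3.nets) (hN : Nat.card G = 4952179814400) : ¬ IsConj (ev M.gen VO8p3x3.ri) (ev M.gen VO8p3x3.rf) :=
  fun h => nconj_of (l484 M hN) (((conj_of_rel' (rels_base (base0 M hN) k487)).symm.trans h).trans (conj_of_rel' (rels_base (base0 M hN) k486)))
noncomputable def w489 : Word := [nat_lit 34, nat_lit 16, nat_lit 32, nat_lit 15, nat_lit 15, nat_lit 18, nat_lit 5, nat_lit 22, nat_lit 14, nat_lit 34, nat_lit 1]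
theorem k490 : relK F bs0 [(List.append (invW VO8p3x3.rf) w489, List.append w489 VO8p3x3.rf)] = true := by decide +kernel
theorem k491 : orbChk (nat_lit 1080) H15.StdO8p3.nets F [nat_lit 1, nat_lit 0] (sel [w19, w20, w21] [nat_lit 0, nat_lit 1, nat_lit 2]) [dw (nat_lit 0x01), dw (nat_lit 0x03), dw (nat_lit 0x01), dw (nat_lit 0x05), dw (nat_lit 0x01), dw (nat_lit 0x03)] (dn (nat_lit 20) (nat_lit 0x074410ec8209c8209c81004810b1420b00110d810bf03070031094310c0310c01093410594207983047410f40108d4208d410f8c20f8c106d8309b4209b410d5010cac208bc204c4304c410d801090c1008020eb830eb820eb810c7c10d941003420034106c820fb030fb010988108842088410a0c30a0c20d3420f4c30f4c20f4c10978309782097810d4430d4420bfc30bfc108c4104ac304ac10a2030a20110a0310a011010310101079030790107d4307d41003c3003c1)) (bit (nat_lit 30)) s94 = true := by decide +kernel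
theorem o492 (M : PM G Ω 1080 H15.StdO8p3.nets) (hN : Nat.card G = 4952179814400) : Orb M ⊤ [nat_lit 1, nat_lit 0] (nat_lit 30) s94 :=
  (Orb.ext le_top (orb_bit ⊤ [nat_lit 1, nat_lit 0] (b := (nat_lit 30)) rfl) k491)
noncomputable def s493 : Nat := (nat_lit 0x14100004200104000100a00080000000040000040000000a0008a201220002000081004020000800000000000012100000000200109000000140440002000402000000000000000200110000200018400000000200000080000200000000000400000280000000000000000000000000000000010000000000000000000000400000100050000)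
noncomputable def w494 : Word := [nat_lit 20, nat_lit 25, nat_lit 19, nat_lit 16]
theorem k495 : orbChk (nat_lit 1080) H15.StdO8p3.nets F [nat_lit 30, nat_lit 1, nat_lit 0] (sel [w494, w98, w27] [nat_lit 0, nat_lit 1, nat_lit 2]) [] (dn (nat_lit 20) (nat_lit 0x0a2c30f4c30eb830cac20cac10790307d420d8c307a0307a010c4430c4410934102502025010b0030c6830c6810b2020b2010bfc30bfc20bfc10d74104d8309a8309a8200402004010d4410d3430474305943059420978209781008010b14308d4208d410fb030cf430cf4109b0209b010d9c3098830988110a0310a0210a010c9030c9020c9011010107442074410654206541)) (bit (nat_lit 405)) s493 = true := by decide +kernel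
theorem o496 (M : PM G Ω 1080 H15.StdO8p3.nets) (hN : Nat.card G = 4952179814400) : Orb M ⊤ [nat_lit 30, nat_lit 1, nat_lit 0] (nat_lit 405) s493 :=
  (Orb.ext le_top (orb_bit ⊤ [nat_lit 30, nat_lit 1, nat_lit 0] (b := (nat_lit 405)) rfl) k495)
noncomputable def s497 : Nat := (nat_lit 0x200000000000000000000000000000000000000000000000000000000000000000000000010000000000000000000000000000000000000000000000000000000000000000000000000000000000000000000000000000000000000000000000000000000000000000000000000000000000000000000000000)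
noncomputable def w498 : Word := [nat_lit 15, nat_lit 16, nat_lit 26, nat_lit 25, nat_lit 16, nat_lit 14]
theorem k499 : orbChk (nat_lit 1080) H15.StdO8p3.nets F [nat_lit 405, nat_lit 30, nat_lit 1, nat_lit 0] (sel [w498] [nat_lit 0]) [] (dn (nat_lit 20) (nat_lit 0x0a901)) (bit (nat_lit 676)) s497 = true := by decide +kernel
theorem o500 (M : PM G Ω 1080 H15.StdO8p3.nets) (hN : Nat.card G = 4952179814400) : Orb M ⊤ [nat_lit 405, nat_lit 30, nat_lit 1, nat_lit 0] (nat_lit 676) s497 :=
  (Orb.ext le_top (orb_bit ⊤ [nat_lit 405, nat_lit 30, nat_lit 1, nat_lit 0] (b := (nat_lit 676)) rfl) k499)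
noncomputable def s501 : Nat := (nat_lit 0x200000000400000000000000000020000000000000000000000000000000000000000000000400000000000004000000000000000080020000000000000000000000000000000000000000000000000000000000000000000000000000000000000000000000000000000000000000000000000000000000022000)
noncomputable def w502 : Word := [nat_lit 29, nat_lit 27, nat_lit 29, nat_lit 27]
noncomputable def w503 : Word := [nat_lit 15, nat_lit 28, nat_lit 16, nat_lit 29, nat_lit 14]
theorem k504 : orbChk (nat_lit 1080) H15.StdO8p3.nets F [nat_lit 676, nat_lit 405, nat_lit 30, nat_lit 1, nat_lit 0] (sel [w502, w27, w503] [nat_lit 0, nat_lit 1, nat_lit 2]) [] (dn (nat_lit 20) (nat_lit 0x0f54200442004410d9430ec8308bc308bc208bc1)) (bit (nat_lit 559)) s501 = true := by decide +kernel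
theorem o505 (M : PM G Ω 1080 H15.StdO8p3.nets) (hN : Nat.card G = 4952179814400) : Orb M ⊤ [nat_lit 676, nat_lit 405, nat_lit 30, nat_lit 1, nat_lit 0] (nat_lit 559) s501 :=
  (Orb.ext le_top (orb_bit ⊤ [nat_lit 676, nat_lit 405, nat_lit 30, nat_lit 1, nat_lit 0] (b := (nat_lit 559)) rfl) k504)
noncomputable def s506 : Nat := (nat_lit 0x400000000000000000000000000000000000000000000000000000000000000000000000000000000000000000000000000000000000000000000000000000000000000000000000000000000000000000000002000)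
noncomputable def w507 : Word := [nat_lit 15, nat_lit 19, nat_lit 16, nat_lit 18, nat_lit 14]
theorem k508 : orbChk (nat_lit 1080) H15.StdO8p3.nets F [nat_lit 559, nat_lit 676, nat_lit 405, nat_lit 30, nat_lit 1, nat_lit 0] (sel [w507] [nat_lit 0]) [] (dn (nat_lit 20) (nat_lit 0x00341)) (bit (nat_lit 13)) s506 = true := by decide +kernel
theorem o509 (M : PM G Ω 1080 H15.StdO8p3.nets) (hN : Nat.card G = 4952179814400) : Orb M ⊤ [nat_lit 559, nat_lit 676, nat_lit 405, nat_lit 30, nat_lit 1, nat_lit 0] (nat_lit 13) s506 :=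
  (Orb.ext le_top (orb_bit ⊤ [nat_lit 559, nat_lit 676, nat_lit 405, nat_lit 30, nat_lit 1, nat_lit 0] (b := (nat_lit 13)) rfl) k508)
noncomputable def s510 : Nat := (nat_lit 0x4000000000000000000000000000000000000000000000000008004000000000000000000000008000000000020000000000000100000000000000000000000000002000000000000000000020000000000000000000000000000000000000000000000000000000000000000000000040000000000000000000000)
noncomputable def w511 : Word := [nat_lit 16, nat_lit 32, nat_lit 21, nat_lit 25, nat_lit 25, nat_lit 16]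
noncomputable def w512 : Word := [nat_lit 15, nat_lit 20, nat_lit 26, nat_lit 32, nat_lit 28, nat_lit 24, nat_lit 14]
theorem k513 : orbChk (nat_lit 1080) H15.StdO8p3.nets F [nat_lit 13, nat_lit 559, nat_lit 676, nat_lit 405, nat_lit 30, nat_lit 1, nat_lit 0] (sel [w511, w512] [nat_lit 0, nat_lit 1]) [] (dn (nat_lit 20) (nat_lit 0x0c081016810c3c105e41072420724108f0208f01)) (bit (nat_lit 572)) s510 = true := by decide +kernel
theorem o514 (M : PM G Ω 1080 H15.StdO8p3.nets) (hN : Nat.card G = 4952179814400) : Orb M ⊤ [nat_lit 13, nat_lit 559, nat_lit 676, nat_lit 405, nat_lit 30, nat_lit 1, nat_lit 0] (nat_lit 572) s510 :=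
  (Orb.ext le_top (orb_bit ⊤ [nat_lit 13, nat_lit 559, nat_lit 676, nat_lit 405, nat_lit 30, nat_lit 1, nat_lit 0] (b := (nat_lit 572)) rfl) k513)
noncomputable def s515 : Nat := (nat_lit 0x100000000000000000000004000000000000000000000000000000000000000000000000000000000000000000000000000000000000000000000000000000000000000000000000000000000000000000000000000000000000000000000000080000000000000000000000000000000000000000000000000000)
noncomputable def w516 : Word := [nat_lit 21, nat_lit 24, nat_lit 18, nat_lit 16, nat_lit 15, nat_lit 16, nat_lit 21, nat_lit 21]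
theorem k517 : orbChk (nat_lit 1080) H15.StdO8p3.nets F [nat_lit 572, nat_lit 13, nat_lit 559, nat_lit 676, nat_lit 405, nat_lit 30, nat_lit 1, nat_lit 0] (sel [w516] [nat_lit 0]) [] (dn (nat_lit 20) (nat_lit 0x0f501034c1)) (bit (nat_lit 211)) s515 = true := by decide +kernel
theorem o518 (M : PM G Ω 1080 H15.StdO8p3.nets) (hN : Nat.card G = 4952179814400) : Orb M ⊤ [nat_lit 572, nat_lit 13, nat_lit 559, nat_lit 676, nat_lit 405, nat_lit 30, nat_lit 1, nat_lit 0] (nat_lit 211) s515 :=
  (Orb.ext le_top (orb_bit ⊤ [nat_lit 572, nat_lit 13, nat_lit 559, nat_lit 676, nat_lit 405, nat_lit 30, nat_lit 1, nat_lit 0] (b := (nat_lit 211)) rfl) k517)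
noncomputable def c519 : Chn := [((nat_lit 0), (full (nat_lit 1080))), ((nat_lit 1), L.KO8p3.s32), ((nat_lit 30), s94), ((nat_lit 405), s493), ((nat_lit 676), s497), ((nat_lit 559), s501), ((nat_lit 13), s506), ((nat_lit 572), s510), ((nat_lit 211), s515)]
theorem k520 : Nat.ble 4952179814400 (cval (nat_lit 1080) c519) = true := by decide +kernel
theorem e521 (M : PM G Ω 1080 H15.StdO8p3.nets) (hN : Nat.card G = 4952179814400) : EC M ⊤ [] c519 :=
  ec_top (c := c519) ⟨(L.KO8p3.o4 M hN), ⟨(L.KO8p3.o34 M hN), ⟨(o492 M hN), ⟨(o496 M hN), ⟨(o500 M hN), ⟨(o505 M hN), ⟨(o509 M hN), ⟨(o514 M hN), ⟨(o518 M hN), trivial⟩⟩⟩⟩⟩⟩⟩⟩⟩ hN k520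
noncomputable def w522 : Word := [nat_lit 2, nat_lit 33, nat_lit 33, nat_lit 28, nat_lit 15, nat_lit 18, nat_lit 18, nat_lit 0, nat_lit 28, nat_lit 4, nat_lit 0, nat_lit 26]
noncomputable def w523 : Word := [nat_lit 10, nat_lit 30, nat_lit 24, nat_lit 33, nat_lit 14, nat_lit 14, nat_lit 22, nat_lit 33, nat_lit 18, nat_lit 22]
noncomputable def p524 : Prs := [(w523, w522)]
noncomputable def b525 : List (Nat × Nat) := []
noncomputable def w526 : Word := [nat_lit 32, nat_lit 28, nat_lit 20, nat_lit 33, nat_lit 19, nat_lit 25, nat_lit 15, nat_lit 15, nat_lit 1, nat_lit 22, nat_lit 20, nat_lit 18, nat_lit 4]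
noncomputable def w527 : Word := [nat_lit 26, nat_lit 30, nat_lit 26, nat_lit 16, nat_lit 14, nat_lit 25, nat_lit 13, nat_lit 21, nat_lit 14, nat_lit 0, nat_lit 16]
noncomputable def w528 : Word := [nat_lit 20, nat_lit 24, nat_lit 21, nat_lit 16, nat_lit 20, nat_lit 15, nat_lit 16, nat_lit 21, nat_lit 19]
noncomputable def w529 : Word := [nat_lit 27, nat_lit 24, nat_lit 20, nat_lit 16, nat_lit 26, nat_lit 26, nat_lit 22, nat_lit 28]
noncomputable def w530 : Word := [nat_lit 26, nat_lit 26, nat_lit 34, nat_lit 25, nat_lit 21, nat_lit 19, nat_lit 21, nat_lit 14, nat_lit 25, nat_lit 15]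
noncomputable def w531 : Word := [nat_lit 27, nat_lit 22, nat_lit 16, nat_lit 21, nat_lit 34, nat_lit 24, nat_lit 27]
noncomputable def w532 : Word := [nat_lit 34, nat_lit 27, nat_lit 20, nat_lit 27, nat_lit 16, nat_lit 26, nat_lit 14, nat_lit 32, nat_lit 29, nat_lit 15]
noncomputable def w533 : Word := [nat_lit 27, nat_lit 25, nat_lit 21, nat_lit 19, nat_lit 16, nat_lit 14, nat_lit 32, nat_lit 14, nat_lit 1, nat_lit 19, nat_lit 8, nat_lit 16]
noncomputable def w534 : Word := [nat_lit 32, nat_lit 26, nat_lit 32, nat_lit 22, nat_lit 16, nat_lit 19, nat_lit 34, nat_lit 14, nat_lit 6, nat_lit 15, nat_lit 16, nat_lit 28, nat_lit 16]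
noncomputable def w535 : Word := [nat_lit 34, nat_lit 24, nat_lit 24, nat_lit 16, nat_lit 33, nat_lit 14, nat_lit 6, nat_lit 15, nat_lit 22, nat_lit 20, nat_lit 26]
noncomputable def w536 : Word := [nat_lit 29, nat_lit 21, nat_lit 26, nat_lit 19, nat_lit 30, nat_lit 14, nat_lit 6, nat_lit 15, nat_lit 22, nat_lit 13, nat_lit 5]
noncomputable def w537 : Word := [nat_lit 32, nat_lit 29, nat_lit 26, nat_lit 19, nat_lit 24, nat_lit 14, nat_lit 18, nat_lit 32, nat_lit 1, nat_lit 12, nat_lit 21, nat_lit 13, nat_lit 0]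
noncomputable def w538 : Word := [nat_lit 1, nat_lit 33, nat_lit 33, nat_lit 29, nat_lit 27, nat_lit 16, nat_lit 19, nat_lit 29, nat_lit 1, nat_lit 6, nat_lit 30]
noncomputable def w539 : Word := [nat_lit 34, nat_lit 33, nat_lit 27, nat_lit 25, nat_lit 30, nat_lit 19, nat_lit 1, nat_lit 33, nat_lit 24, nat_lit 28, nat_lit 1]
noncomputable def w540 : Word := [nat_lit 8, nat_lit 34, nat_lit 30, nat_lit 18, nat_lit 18, nat_lit 16, nat_lit 14, nat_lit 18, nat_lit 33, nat_lit 8, nat_lit 33]
noncomputable def w541 : Word := [nat_lit 34, nat_lit 29, nat_lit 20, nat_lit 28, nat_lit 14, nat_lit 19, nat_lit 34, nat_lit 0, nat_lit 15, nat_lit 28, nat_lit 6, nat_lit 22]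
noncomputable def w542 : Word := [nat_lit 33, nat_lit 29, nat_lit 22, nat_lit 18, nat_lit 15, nat_lit 16, nat_lit 1, nat_lit 19, nat_lit 15, nat_lit 15]
noncomputable def w543 : Word := [nat_lit 32, nat_lit 30, nat_lit 24, nat_lit 20, nat_lit 15, nat_lit 32, nat_lit 15, nat_lit 0, nat_lit 8, nat_lit 22, nat_lit 5, nat_lit 2]
noncomputable def w544 : Word := [nat_lit 32, nat_lit 28, nat_lit 24, nat_lit 19, nat_lit 21, nat_lit 25, nat_lit 14, nat_lit 30, nat_lit 13, nat_lit 25, nat_lit 14, nat_lit 19, nat_lit 4]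
noncomputable def y545 : List Word := [w526, w527, w528, w529, w530, w531, w532, w533, w534, w535, w536, w537, w538, w539, w540, w541, w542, w543, w544]
theorem k546 : relK F bs0 (commR (snds p524) y545) = true := by decide +kernel
theorem x547 (M : PM G Ω 1080 H15.StdO8p3.nets) (hN : Nat.card G = 4952179814400) : Cx M (fun g => Pr M g p524) b525 [] p524 y545 :=
  cx_conj (fun _ _ => fa_nil) (rels_base (base0 M hN) k546)
noncomputable def t548 : KT := KT.alt [] (KT.stp (nat_lit 0) [nat_lit 1] (dw (nat_lit 0x14190f)) (KT.br (nat_lit 30) (KT.alt (dw (nat_lit 0x14190f)) (KT.stp (nat_lit 30) [nat_lit 1] (dw (nat_lit 0x14190f1a15151a)) (KT.br (nat_lit 676) (KT.alt (dw (nat_lit 0x1e130f151f11191f211a)) (KT.br (nat_lit 559) (KT.alt (dw (nat_lit 0x1e130f151f11191f211a)) (KT.mem (nat_lit 559) [nat_lit 0] (SE.lev (nat_lit 6)))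
 (KT.nil (SE.lev (nat_lit 5)) [nat_lit 4, nat_lit 5] [] (dn (nat_lit 20) (nat_lit 0x0d9c10798109a810a2c10ff810ff820cec10cec2)))))
 (KT.alt (dw (nat_lit 0x14190f1a15151a)) (KT.br (nat_lit 559) (KT.alt (dw (nat_lit 0x14190f1a15151a)) (KT.mem (nat_lit 559) [nat_lit 0] (SE.lev (nat_lit 6)))
 (KT.nil (SE.lev (nat_lit 5)) [nat_lit 5, nat_lit 6] [] (dn (nat_lit 20) (nat_lit 0x0bc02074420f8420790200802008010a0020a001)))))
 (KT.nil (SE.lev (nat_lit 4)) [] [] [])))))
 (KT.nil (SE.lev (nat_lit 2)) [nat_lit 2, nat_lit 3] [dw (nat_lit 0x03), dw (nat_lit 0x01)] (dn (nat_lit 20) (nat_lit 0x10202017410b5420f842036c20bd820ee420bc010a4020ff820030200f42025810d0810be820c082079010290106d42109410d3410d342092810a0010a0020cd0209a8202c0102c020180101802091c104bc104bc20d50108a410ba010e5420f9c209cc109cc20cec2079410794207b8107b82072810d9c20828108282061410614207681036420140103281032820c1010c10206ac1015c1015c208f0206b0106b020a74107c4107c420ee010ee0209d0109d020ca810ca8210441104420b3c10b3c202402051420e1410e1420d8c10d8c2077c1077c202d0102d0206ec106ec2022810228206c8106c820a8c21040206042090c1090c20b4c10b4c20f7410f74207a02))))))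
 (KT.nil (SE.lev (nat_lit 0)) [nat_lit 0, nat_lit 1] [dw (nat_lit 0x03), dw (nat_lit 0x01), dw (nat_lit 0x03), dw (nat_lit 0x01), dw (nat_lit 0x03), dw (nat_lit 0x01), dw (nat_lit 0x03), dw (nat_lit 0x01)
, dw (nat_lit 0x03), dw (nat_lit 0x01), dw (nat_lit 0x03), dw (nat_lit 0x01), dw (nat_lit 0x03), dw (nat_lit 0x01), dw (nat_lit 0x03)] (dn (nat_lit 20) (nat_lit 0x010820e7c20dc82038410b8410ae0203c810de4201d410e4c20b8010198103d0200d0100d020ef410a6c1017020530108c8109b01022810db41020c207901077420660105bc105bc20f402093c210202075820b1010b10203d810a08108c01027c105d820768100c010214102142084c10f0810d601011c104e8100f41019c106341038810cb410b081012c103fc1102c10b88101501017c10a701072c11054108dc1008810de010944105941076c10b4c10d1010ea810bd0104ec105dc10bc81062c10780102b0109e01044c1028c110cc10010109741)))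
theorem k549 : ktChk (nat_lit 1080) H15.StdO8p3.nets F c519 b525 [] p524 y545 [] [] (nat_lit 0) (nat_lit 0) 0 0 t548 = true := by decide +kernel
theorem l550 (M : PM G Ω 1080 H15.StdO8p3.nets) (hN : Nat.card G = 4952179814400) : Cl M (fun g => Pr M g p524) [] [] (nat_lit 0) 0 :=
  cl_tree (e521 M hN) (x547 M hN) (dd0 _ _ _ _) k549
noncomputable def w551 : Word := [nat_lit 11, nat_lit 0, nat_lit 31, nat_lit 24]
theorem k552 : relK F bs0 [(List.append VO8p3x3.rh w551, List.append w551 w522)] = true := by decide +kernel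
theorem k553 : relK F bs0 [(List.append VO8p3x3.ri w551, List.append w551 w523)] = true := by decide +kernel
theorem q554 (M : PM G Ω 1080 H15.StdO8p3.nets) (hN : Nat.card G = 4952179814400) : ¬ IsConj (ev M.gen VO8p3x3.ri) (ev M.gen VO8p3x3.rh) :=
  fun h => nconj_of (l550 M hN) (((conj_of_rel' (rels_base (base0 M hN) k553)).symm.trans h).trans (conj_of_rel' (rels_base (base0 M hN) k552)))
noncomputable def w555 : Word := [nat_lit 33, nat_lit 28, nat_lit 22, nat_lit 16, nat_lit 26, nat_lit 14, nat_lit 21, nat_lit 22, nat_lit 0, nat_lit 14, nat_lit 12, nat_lit 33]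
theorem k556 : relK F bs0 [(List.append (invW VO8p3x3.rh) w555, List.append w555 VO8p3x3.rh)] = true := by decide +kernel
theorem nc8 (M : PM G Ω 1080 H15.StdO8p3.nets) (hN : Nat.card G = 4952179814400) : ∀ j < 8, ¬ CjS (sub M.gen [VO8p3x3.ri]) (sub M.gen [getL [] xs j]) :=
  fun j hj => by interval_cases j; exacts [(fc8 M hN).nc (fc0 M hN) (by decide), (fc8 M hN).nc (fc1 M hN) (by decide), (fc8 M hN).nc (fc2 M hN) (by decide), (fc8 M hN).nc (fc3 M hN) (by decide), nc3r (ord8 M hN) (ord4 M hN) (q408 M hN) (conj_of_rel' (rels_base (base0 M hN) k410)), nc3r (ord8 M hN) (ord5 M hN) (q488 M hN) (conj_of_rel' (rels_base (base0 M hN) k490)), (fc8 M hN).nc (fc6 M hN) (by decide), nc3r (ord8 M hN) (ord7 M hN) (q554 M hN) (conj_of_rel' (rels_base (base0 M hN) k556))]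
noncomputable def s557 : Nat := (nat_lit 0x4002204000000400000000200000000000002000000000000000090000000000005042000000004000000000000010000000000000000040000000000010000000000000000800000000000008000000000000000080008000000000005000000008000000000000000000004000280000000000000000000000000000000000)
theorem k558 : band (Nat.ble (nat_lit 1080) (Nat.pow 2 (nat_lit 11))) (fsChk (nat_lit 1080) (nat_lit 11) H15.StdO8p3.nets VO8p3x3.rj s557 (full (nat_lit 1080)) 0 0 (nat_lit 11)) = true := by decide +kernel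
theorem f559 (M : PM G Ω 1080 H15.StdO8p3.nets) (hN : Nat.card G = 4952179814400) : IsFix M VO8p3x3.rj s557 :=
  fix_one k558
theorem k560 : relK F bs0 [(powW VO8p3x3.rj 3, [])] = true := by decide +kernel
theorem r561 (M : PM G Ω 1080 H15.StdO8p3.nets) (hN : Nat.card G = 4952179814400) : orderOf (ev M.gen VO8p3x3.rj) = 3 :=
  order_of_rel (F := F) (b := 0) (by norm_num) (rels_base (base0 M hN) k560) (by decide +kernel)
theorem ord9 (M : PM G Ω 1080 H15.StdO8p3.nets) (hN : Nat.card G = 4952179814400) : orderOf (ev M.gen VO8p3x3.rj) = 3 :=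
  (r561 M hN)
noncomputable def B9 : Nat := s557
theorem fix9 (M : PM G Ω 1080 H15.StdO8p3.nets) (hN : Nat.card G = 4952179814400) : IsFixL M [VO8p3x3.rj] B9 :=
  IsFix.fixL (f559 M hN)
theorem k562 : Nat.beq (pop (nat_lit 1080) B9) 27 = true := by decide +kernel
theorem fc9 (M : PM G Ω 1080 H15.StdO8p3.nets) (hN : Nat.card G = 4952179814400) : FixC M [VO8p3x3.rj] 27 :=
  ⟨_, fix9 M hN, Nat.eq_of_beq_eq_true k562⟩
theorem k563 : orbChk (nat_lit 1080) H15.StdO8p3.nets F [nat_lit 1, nat_lit 0] (sel [w19, w20, w21] [nat_lit 0, nat_lit 1, nat_lit 2]) [dw (nat_lit 0x01), dw (nat_lit 0x03), dw (nat_lit 0x01), dw (nat_lit 0x05), dw (nat_lit 0x01), dw (nat_lit 0x03)] (dn (nat_lit 20) (nat_lit 0x07d430594300e8200e810a2010ddc10a7410f40105ec105fc10d9c30d9c102fc30ec810e5820e5810d7420d74108c4208c410b201007c2007c11010210101004c30d8430d8410d80110942003c2003c106fc206fc1065420c4410f5410cec30d5020d5010478304781070010a4010d8c104c4304c4204c41007830b00308bc308bc204d8304d8204d8108d4206d8306d8209882098810d94310d8308f8305d0305d010cc830cc8102783027810bfc30bfc10eb830eb81063030cac3))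 (bit (nat_lit 32)) s94 = true := by decide +kernel
theorem o564 (M : PM G Ω 1080 H15.StdO8p3.nets) (hN : Nat.card G = 4952179814400) : Orb M ⊤ [nat_lit 1, nat_lit 0] (nat_lit 32) s94 :=
  (Orb.ext le_top (orb_bit ⊤ [nat_lit 1, nat_lit 0] (b := (nat_lit 32)) rfl) k563)
noncomputable def s565 : Nat := (nat_lit 0x4120000000000000100a002900000004400000000000002000222402000020000800840000029001000000000121000004000001010100013000400000004002800000000000002000000002001004000000000000008800002000000000000208006800000000000800000000000000800050000000000000000000000000008000400a8000)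
noncomputable def w566 : Word := [nat_lit 27, nat_lit 19, nat_lit 27, nat_lit 19]
noncomputable def w567 : Word := [nat_lit 14, nat_lit 29, nat_lit 22, nat_lit 28, nat_lit 15]
theorem k568 : orbChk (nat_lit 1080) H15.StdO8p3.nets F [nat_lit 32, nat_lit 1, nat_lit 0] (sel [w98, w566, w567] [nat_lit 0, nat_lit 1, nat_lit 2]) [] (dn (nat_lit 20) (nat_lit 0x04c4203ac203ac10f5430d8420078202bc30a201027020aa830aa820c7c2004c10b0010a4020c6810bf010bfc109c02109431094108bc20a00307d4107443074420744106e820b2030b2020b20108c420cf420f4020f40104782047810c0430c0420c0410eb830eb820eb8110a0205fc200443004420cac300bc300bc20fb020fb010f8430f8420f84110b820f8c30f8c20f8c1)) (bit (nat_lit 995)) s565 = true := by decide +kernel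
theorem o569 (M : PM G Ω 1080 H15.StdO8p3.nets) (hN : Nat.card G = 4952179814400) : Orb M ⊤ [nat_lit 32, nat_lit 1, nat_lit 0] (nat_lit 995) s565 :=
  (Orb.ext le_top (orb_bit ⊤ [nat_lit 32, nat_lit 1, nat_lit 0] (b := (nat_lit 995)) rfl) k568)
noncomputable def s570 : Nat := (nat_lit 0x8000000000000000000000000000000000000000000000000000000000000000000000000000000000000000000000000000000000000000000000000000000000000000000000000000000000000000000000000000000000000000000002000000000000000000000000000000)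
noncomputable def w571 : Word := [nat_lit 28, nat_lit 33, nat_lit 28, nat_lit 27]
theorem k572 : orbChk (nat_lit 1080) H15.StdO8p3.nets F [nat_lit 995, nat_lit 32, nat_lit 1, nat_lit 0] (sel [w571] [nat_lit 0]) [] (dn (nat_lit 20) (nat_lit 0x01e41)) (bit (nat_lit 121)) s570 = true := by decide +kernel
theorem o573 (M : PM G Ω 1080 H15.StdO8p3.nets) (hN : Nat.card G = 4952179814400) : Orb M ⊤ [nat_lit 995, nat_lit 32, nat_lit 1, nat_lit 0] (nat_lit 121) s570 :=
  (Orb.ext le_top (orb_bit ⊤ [nat_lit 995, nat_lit 32, nat_lit 1, nat_lit 0] (b := (nat_lit 121)) rfl) k572)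
noncomputable def s574 : Nat := (nat_lit 0x10000000000800000000000008000000000000000000000000000000000000000000000000000002810000000200000000800000000100000800000000001000000000000000000080000000000000000000000000000004000000000000000800000000000020020000000000000000000000000000020000020000000000)
noncomputable def w575 : Word := [nat_lit 33, nat_lit 14, nat_lit 16, nat_lit 15, nat_lit 32]
noncomputable def w576 : Word := [nat_lit 18, nat_lit 28, nat_lit 34, nat_lit 22, nat_lit 27, nat_lit 19]
noncomputable def w577 : Word := [nat_lit 14, nat_lit 19, nat_lit 15, nat_lit 22, nat_lit 14, nat_lit 18, nat_lit 15]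
theorem k578 : orbChk (nat_lit 1080) H15.StdO8p3.nets F [nat_lit 121, nat_lit 995, nat_lit 32, nat_lit 1, nat_lit 0] (sel [w575, w576, w577] [nat_lit 0, nat_lit 1, nat_lit 2]) [] (dn (nat_lit 20) (nat_lit 0x0ae42081030adc20a44306dc206dc104e8304e81031420314109bc309bc10fd030fd02010430104201041)) (bit (nat_lit 65)) s574 = true := by decide +kernel
theorem o579 (M : PM G Ω 1080 H15.StdO8p3.nets) (hN : Nat.card G = 4952179814400) : Orb M ⊤ [nat_lit 121, nat_lit 995, nat_lit 32, nat_lit 1, nat_lit 0] (nat_lit 65) s574 :=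
  (Orb.ext le_top (orb_bit ⊤ [nat_lit 121, nat_lit 995, nat_lit 32, nat_lit 1, nat_lit 0] (b := (nat_lit 65)) rfl) k578)
noncomputable def s580 : Nat := (nat_lit 0x4000000000000000000008000000000004000000000000000000000000000000080020000000000000000000000000000000000080000000000000000000000000090000000000000000000000002000000000000000000000000000000000000)
noncomputable def w581 : Word := [nat_lit 33, nat_lit 29, nat_lit 29, nat_lit 32]
noncomputable def w582 : Word := [nat_lit 15, nat_lit 26, nat_lit 30, nat_lit 18, nat_lit 30, nat_lit 18, nat_lit 27, nat_lit 14]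
theorem k583 : orbChk (nat_lit 1080) H15.StdO8p3.nets F [nat_lit 65, nat_lit 121, nat_lit 995, nat_lit 32, nat_lit 1, nat_lit 0] (sel [w581, w582] [nat_lit 0, nat_lit 1]) [] (dn (nat_lit 20) (nat_lit 0x03d02058c207c4207fc209f8209f8103dc203dc1)) (bit (nat_lit 247)) s580 = true := by decide +kernel
theorem o584 (M : PM G Ω 1080 H15.StdO8p3.nets) (hN : Nat.card G = 4952179814400) : Orb M ⊤ [nat_lit 65, nat_lit 121, nat_lit 995, nat_lit 32, nat_lit 1, nat_lit 0] (nat_lit 247) s580 :=
  (Orb.ext le_top (orb_bit ⊤ [nat_lit 65, nat_lit 121, nat_lit 995, nat_lit 32, nat_lit 1, nat_lit 0] (b := (nat_lit 247)) rfl) k583)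
noncomputable def s585 : Nat := (nat_lit 0x80000000000000000000000000000000000000000000000000000000000000000000000000000000000000400000000000000008000000000000000000000000000000000000000000000000000000000000000000000000000000000000000000000000000000000000000000000000000000000000)
noncomputable def w586 : Word := [nat_lit 14, nat_lit 32, nat_lit 24, nat_lit 21, nat_lit 25, nat_lit 19, nat_lit 14, nat_lit 24, nat_lit 14]
theorem k587 : orbChk (nat_lit 1080) H15.StdO8p3.nets F [nat_lit 247, nat_lit 65, nat_lit 121, nat_lit 995, nat_lit 32, nat_lit 1, nat_lit 0] (sel [w586] [nat_lit 0]) [] (dn (nat_lit 20) (nat_lit 0x09581084c1)) (bit (nat_lit 531)) s585 = true := by decide +kernel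
theorem o588 (M : PM G Ω 1080 H15.StdO8p3.nets) (hN : Nat.card G = 4952179814400) : Orb M ⊤ [nat_lit 247, nat_lit 65, nat_lit 121, nat_lit 995, nat_lit 32, nat_lit 1, nat_lit 0] (nat_lit 531) s585 :=
  (Orb.ext le_top (orb_bit ⊤ [nat_lit 247, nat_lit 65, nat_lit 121, nat_lit 995, nat_lit 32, nat_lit 1, nat_lit 0] (b := (nat_lit 531)) rfl) k587)
noncomputable def c589 : Chn := [((nat_lit 0), (full (nat_lit 1080))), ((nat_lit 1), L.KO8p3.s32), ((nat_lit 32), s94), ((nat_lit 995), s565), ((nat_lit 121), s570), ((nat_lit 65), s574), ((nat_lit 247), s580), ((nat_lit 531), s585)]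
theorem k590 : Nat.ble 4952179814400 (cval (nat_lit 1080) c589) = true := by decide +kernel
theorem e591 (M : PM G Ω 1080 H15.StdO8p3.nets) (hN : Nat.card G = 4952179814400) : EC M ⊤ [] c589 :=
  ec_top (c := c589) ⟨(L.KO8p3.o4 M hN), ⟨(L.KO8p3.o34 M hN), ⟨(o564 M hN), ⟨(o569 M hN), ⟨(o573 M hN), ⟨(o579 M hN), ⟨(o584 M hN), ⟨(o588 M hN), trivial⟩⟩⟩⟩⟩⟩⟩⟩ hN k590
noncomputable def w592 : Word := [nat_lit 2, nat_lit 32, nat_lit 29, nat_lit 19, nat_lit 16, nat_lit 15, nat_lit 29, nat_lit 2, nat_lit 24, nat_lit 34]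
noncomputable def w593 : Word := [nat_lit 32, nat_lit 34, nat_lit 33, nat_lit 29, nat_lit 27, nat_lit 19, nat_lit 14, nat_lit 20, nat_lit 28, nat_lit 15, nat_lit 4]
noncomputable def p594 : Prs := [(w593, w592)]
noncomputable def s595 : Nat := (nat_lit 0x10000800000000000040000008000000000000080020000000000000000002000000000000004002010000001000000000800000000000000000000000001000000010000001000000000000000000000008202000000000000001400000000800080000000020020000000000000000000010000000001000000100000000)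
theorem k596 : band (Nat.ble (nat_lit 1080) (Nat.pow 2 (nat_lit 11))) (fsChk (nat_lit 1080) (nat_lit 11) H15.StdO8p3.nets w593 s595 (full (nat_lit 1080)) 0 0 (nat_lit 11)) = true := by decide +kernel
theorem f597 (M : PM G Ω 1080 H15.StdO8p3.nets) (hN : Nat.card G = 4952179814400) : IsFix M w593 s595 :=
  fix_one k596
noncomputable def s598 : Nat := (nat_lit 0x200000200200400000000001000000000000000a000002000004000000000000000000000000400200000000000000000000000000000008000000000000000000000000040002000000000080000000000000100000002000010020000000000000000000004000000000000000400100000000200002100000000000000000004000004)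
theorem k599 : band (Nat.ble (nat_lit 1080) (Nat.pow 2 (nat_lit 11))) (fsChk (nat_lit 1080) (nat_lit 11) H15.StdO8p3.nets w592 s598 (full (nat_lit 1080)) 0 0 (nat_lit 11)) = true := by decide +kernel
theorem f600 (M : PM G Ω 1080 H15.StdO8p3.nets) (hN : Nat.card G = 4952179814400) : IsFix M w592 s598 :=
  fix_one k599
theorem k601 : relK F bs0 [(w593, flat (fsts p594) [nat_lit 0]), (w592, flat (snds p594) [nat_lit 0])] = true := by decide +kernel
noncomputable def b602 : List (Nat × Nat) := [(s595, s598)]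
noncomputable def w603 : Word := [nat_lit 10, nat_lit 27, nat_lit 16, nat_lit 21, nat_lit 29, nat_lit 14, nat_lit 21, nat_lit 13, nat_lit 25, nat_lit 14, nat_lit 14]
noncomputable def w604 : Word := [nat_lit 32, nat_lit 30, nat_lit 29, nat_lit 16, nat_lit 14, nat_lit 30, nat_lit 16, nat_lit 0, nat_lit 19, nat_lit 6, nat_lit 19, nat_lit 6]
noncomputable def w605 : Word := [nat_lit 22, nat_lit 16, nat_lit 18, nat_lit 21, nat_lit 14, nat_lit 14, nat_lit 19, nat_lit 22, nat_lit 8, nat_lit 22, nat_lit 16, nat_lit 21, nat_lit 14]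
noncomputable def w606 : Word := [nat_lit 34, nat_lit 32, nat_lit 29, nat_lit 19, nat_lit 16, nat_lit 14, nat_lit 30, nat_lit 34, nat_lit 15]
noncomputable def w607 : Word := [nat_lit 32, nat_lit 28, nat_lit 22, nat_lit 18, nat_lit 29, nat_lit 15, nat_lit 32, nat_lit 0, nat_lit 10, nat_lit 22]
noncomputable def w608 : Word := [nat_lit 18, nat_lit 26, nat_lit 26, nat_lit 18, nat_lit 18, nat_lit 30, nat_lit 14, nat_lit 16, nat_lit 22, nat_lit 15]
noncomputable def w609 : Word := [nat_lit 28, nat_lit 27, nat_lit 25, nat_lit 18, nat_lit 29, nat_lit 20, nat_lit 32]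
noncomputable def w610 : Word := [nat_lit 30, nat_lit 33, nat_lit 28, nat_lit 21]
noncomputable def w611 : Word := [nat_lit 27, nat_lit 6, nat_lit 27, nat_lit 6]
noncomputable def w612 : Word := [nat_lit 33, nat_lit 34, nat_lit 20, nat_lit 25, nat_lit 25, nat_lit 25]
noncomputable def w613 : Word := [nat_lit 33, nat_lit 20, nat_lit 16, nat_lit 21, nat_lit 16, nat_lit 32]
noncomputable def w614 : Word := [nat_lit 28, nat_lit 30, nat_lit 27, nat_lit 21]
noncomputable def w615 : Word := [nat_lit 33, nat_lit 20, nat_lit 32, nat_lit 16, nat_lit 32, nat_lit 14, nat_lit 21, nat_lit 14, nat_lit 5, nat_lit 26, nat_lit 18, nat_lit 27]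
noncomputable def w616 : Word := [nat_lit 19, nat_lit 34, nat_lit 21, nat_lit 18, nat_lit 20, nat_lit 24, nat_lit 16]
noncomputable def w617 : Word := [nat_lit 1, nat_lit 34, nat_lit 26, nat_lit 28, nat_lit 16, nat_lit 15, nat_lit 32, nat_lit 15, nat_lit 0, nat_lit 2, nat_lit 32]
noncomputable def w618 : Word := [nat_lit 22, nat_lit 26, nat_lit 29, nat_lit 14, nat_lit 18, nat_lit 34, nat_lit 0, nat_lit 2, nat_lit 18, nat_lit 30, nat_lit 0]
noncomputable def w619 : Word := [nat_lit 19, nat_lit 33, nat_lit 29, nat_lit 20, nat_lit 29, nat_lit 14, nat_lit 25, nat_lit 32, nat_lit 30]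
noncomputable def w620 : Word := [nat_lit 13, nat_lit 34, nat_lit 33, nat_lit 34, nat_lit 27, nat_lit 12]
noncomputable def w621 : Word := [nat_lit 12, nat_lit 21, nat_lit 19, nat_lit 25, nat_lit 25, nat_lit 14, nat_lit 18, nat_lit 34, nat_lit 2, nat_lit 6, nat_lit 14, nat_lit 8]
noncomputable def w622 : Word := [nat_lit 27, nat_lit 22, nat_lit 16, nat_lit 18, nat_lit 29, nat_lit 15, nat_lit 18, nat_lit 1, nat_lit 2, nat_lit 0]
noncomputable def w623 : Word := [nat_lit 32, nat_lit 29, nat_lit 27, nat_lit 16, nat_lit 33, nat_lit 21, nat_lit 14, nat_lit 14, nat_lit 25, nat_lit 1, nat_lit 29, nat_lit 10, nat_lit 18]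
noncomputable def w624 : Word := [nat_lit 32, nat_lit 32, nat_lit 30, nat_lit 32, nat_lit 22, nat_lit 21, nat_lit 6, nat_lit 0, nat_lit 10, nat_lit 33, nat_lit 6]
noncomputable def w625 : Word := [nat_lit 21, nat_lit 33, nat_lit 34, nat_lit 20, nat_lit 29]
noncomputable def w626 : Word := [nat_lit 20, nat_lit 29, nat_lit 32, nat_lit 30]
noncomputable def y627 : List Word := [w603, w604, w605, w606, w607, w608, w609, w610, w611, w612, w613, w614, w615, w616, w617, w618, w619, w620, w621, w622, w623, w624, w625, w626]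
theorem k628 : relK F bs0 (commR (snds p594) y627) = true := by decide +kernel
theorem x629 (M : PM G Ω 1080 H15.StdO8p3.nets) (hN : Nat.card G = 4952179814400) : Cx M (fun g => Pr M g p594) b602 [] p594 y627 :=
  cx_conj (tb_cons (f597 M hN) (f600 M hN) (rels_base (base0 M hN) k601) (fun _ _ => fa_nil)) (rels_base (base0 M hN) k628)
noncomputable def t630 : KT := KT.alt (dw (nat_lit 0x09)) (KT.mem (nat_lit 0) [nat_lit 0] (SE.lev (nat_lit 1)))
 (KT.alt [] (KT.stp (nat_lit 0) [nat_lit 0] (dw (nat_lit 0x0f1a220f)) (KT.br (nat_lit 32) (KT.alt (dw (nat_lit 0x150f0f111319161c2123)) (KT.br (nat_lit 995) (KT.alt (dw (nat_lit 0x1c1021101116111915221f1b)) (KT.br (nat_lit 121) (KT.alt (dw (nat_lit 0x1c1021101116111915221f1b)) (KT.br (nat_lit 65) (KT.alt (dw (nat_lit 0x150f1e0f0f1f1116191f1b2322)) (KT.br (nat_lit 247) (KT.alt (dw (nat_lit 0x150f1e0f0f1f1116191f1b2322)) (KT.mem (nat_lit 247) [nat_lit 0] (SE.lev (nat_lit 7)))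
 (KT.alt (dw (nat_lit 0x13190f0f0f1d111e1b212321)) (KT.mem (nat_lit 247) [nat_lit 0] (SE.lev (nat_lit 7)))
 (KT.alt (dw (nat_lit 0x110f0f0f1e13191c23220f)) (KT.mem (nat_lit 247) [nat_lit 0] (SE.lev (nat_lit 7)))
 (KT.nil (SE.lev (nat_lit 6)) [nat_lit 8] [] (dn (nat_lit 20) (nat_lit 0x005c1079010490106ec10478102301)))))))
 (KT.nil (SE.dif (SE.lev (nat_lit 5)) (SE.tab (nat_lit 0))) [nat_lit 6, nat_lit 7] [] (dn (nat_lit 20) (nat_lit 0x0b5c110c4101341030810dec10dec206e4106e42)))))
 (KT.alt (dw (nat_lit 0x14150f0f1414111619211b2321)) (KT.br (nat_lit 65) (KT.alt (dw (nat_lit 0x1f130f0f22111d171c1e2213)) (KT.br (nat_lit 247) (KT.alt (dw (nat_lit 0x1f130f0f22111d171c1e2213)) (KT.stp (nat_lit 247) [nat_lit 0] (dw (nat_lit 0x1c0f150f221a131d151d1d21)) (KT.neq (nat_lit 247) [nat_lit 1] (nat_lit 701) []))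
 (KT.nil (SE.lev (nat_lit 6)) [nat_lit 8, nat_lit 10] [] (dn (nat_lit 20) (nat_lit 0x0ba02026820a7420d9820a2020a20109b4209b41)))))
 (KT.nil (SE.dif (SE.lev (nat_lit 5)) (SE.tab (nat_lit 0))) [nat_lit 6, nat_lit 9] [] (dn (nat_lit 20) (nat_lit 0x0138101dc10ef810020103b0103b020440104402)))))
 (KT.nil (SE.lev (nat_lit 4)) [] [] []))))
 (KT.alt (dw (nat_lit 0x150f0f1114191d21)) (KT.br (nat_lit 121) (KT.alt (dw (nat_lit 0x150f0f1114191d21)) (KT.cnt (SE.and (SE.lev (nat_lit 5)) (SE.tab (nat_lit 0))))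
 (KT.alt (dw (nat_lit 0x150f0f1114191b1e2121)) (KT.cnt (SE.and (SE.lev (nat_lit 5)) (SE.tab (nat_lit 0))))
 (KT.nil (SE.lev (nat_lit 4)) [] [] []))))
 (KT.alt (dw (nat_lit 0x0f2119111e17151b22)) (KT.br (nat_lit 121) (KT.alt (dw (nat_lit 0x0f2119111e17151d1c23)) (KT.br (nat_lit 65) (KT.alt (dw (nat_lit 0x0f2119111e17151d1c23)) (KT.br (nat_lit 247) (KT.alt (dw (nat_lit 0x0f2119111e17151d1c23)) (KT.mem (nat_lit 247) [nat_lit 0] (SE.lev (nat_lit 7)))
 (KT.nil (SE.lev (nat_lit 6)) [nat_lit 10, nat_lit 8] [] (dn (nat_lit 20) (nat_lit 0x02b01076010e3810f0c102441024420fa010fa02)))))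
 (KT.nil (SE.dif (SE.lev (nat_lit 5)) (SE.tab (nat_lit 0))) [nat_lit 6, nat_lit 11] [] (dn (nat_lit 20) (nat_lit 0x01381002010ef8101dc1044010440203b0103b02)))))
 (KT.alt (dw (nat_lit 0x0f2119111e17151b22)) (KT.br (nat_lit 65) (KT.alt (dw (nat_lit 0x0f2119111e17151b22)) (KT.br (nat_lit 247) (KT.alt (dw (nat_lit 0x0f2119111e17151b22)) (KT.mem (nat_lit 247) [nat_lit 0] (SE.lev (nat_lit 7)))
 (KT.nil (SE.lev (nat_lit 6)) [nat_lit 10, nat_lit 8] [] (dn (nat_lit 20) (nat_lit 0x08c01015c100a010694109d0109d020c0010c002)))))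
 (KT.nil (SE.dif (SE.lev (nat_lit 5)) (SE.tab (nat_lit 0))) [nat_lit 6, nat_lit 9] [] (dn (nat_lit 20) (nat_lit 0x0134106e410a3010dec10ce010ce02056c1056c2)))))
 (KT.nil (SE.lev (nat_lit 4)) [] [] []))))
 (KT.alt (dw (nat_lit 0x0f1c131115171c221a)) (KT.br (nat_lit 121) (KT.alt (dw (nat_lit 0x0f1c131115171c221a)) (KT.cnt (SE.and (SE.lev (nat_lit 5)) (SE.tab (nat_lit 0))))
 (KT.alt (dw (nat_lit 0x0f161419191b232211)) (KT.cnt (SE.and (SE.lev (nat_lit 5)) (SE.tab (nat_lit 0))))
 (KT.nil (SE.lev (nat_lit 4)) [] [] []))))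
 (KT.nil (SE.and (SE.lev (nat_lit 3)) (SE.tab (nat_lit 0))) [nat_lit 5] [] (dn (nat_lit 20) (nat_lit 0x05a4100081))))))))
 (KT.nil (SE.and (SE.lev (nat_lit 2)) (SE.tab (nat_lit 0))) [nat_lit 3, nat_lit 4] [] (dn (nat_lit 20) (nat_lit 0x070c20290201a0205a420e1420e14103c8203c81))))))
 (KT.nil (SE.dif (SE.lev (nat_lit 0)) (SE.tab (nat_lit 0))) [nat_lit 0, nat_lit 1, nat_lit 2] [dw (nat_lit 0x01), dw (nat_lit 0x03), dw (nat_lit 0x05), dw (nat_lit 0x01), dw (nat_lit 0x03), dw (nat_lit 0x01), dw (nat_lit 0x05), dw (nat_lit 0x03)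
, dw (nat_lit 0x01), dw (nat_lit 0x05), dw (nat_lit 0x03), dw (nat_lit 0x01)] (dn (nat_lit 20) (nat_lit 0x03441058c1100820cc83050c200c8303942105c1093820528305e4306a430d803011c20f7420fc430cb830cd02058030afc2072c20818203f820ac82022820a2c303c030f88301f430e3030100303803054830094302b030c3830464308b830d20308b43012c30c543))))
theorem k631 : ktChk (nat_lit 1080) H15.StdO8p3.nets F c589 b602 [] p594 y627 [] [] (nat_lit 0) (nat_lit 0) 0 0 t630 = true := by decide +kernel
theorem l632 (M : PM G Ω 1080 H15.StdO8p3.nets) (hN : Nat.card G = 4952179814400) : Cl M (fun g => Pr M g p594) [] [] (nat_lit 0) 0 :=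
  cl_tree (e591 M hN) (x629 M hN) (dd0 _ _ _ _) k631
noncomputable def w633 : Word := [nat_lit 0, nat_lit 3, nat_lit 19, nat_lit 23]
theorem k634 : relK F bs0 [(List.append VO8p3x3.rd w633, List.append w633 w592)] = true := by decide +kernel
theorem k635 : relK F bs0 [(List.append VO8p3x3.rj w633, List.append w633 w593)] = true := by decide +kernel
theorem q636 (M : PM G Ω 1080 H15.StdO8p3.nets) (hN : Nat.card G = 4952179814400) : ¬ IsConj (ev M.gen VO8p3x3.rj) (ev M.gen VO8p3x3.rd) :=
  fun h => nconj_of (l632 M hN) (((conj_of_rel' (rels_base (base0 M hN) k635)).symm.trans h).trans (conj_of_rel' (rels_base (base0 M hN) k634)))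
noncomputable def w637 : Word := [nat_lit 32, nat_lit 27, nat_lit 16, nat_lit 18, nat_lit 14, nat_lit 16, nat_lit 30, nat_lit 1, nat_lit 19, nat_lit 26, nat_lit 32, nat_lit 8]
theorem k638 : relK F bs0 [(List.append (invW VO8p3x3.rd) w637, List.append w637 VO8p3x3.rd)] = true := by decide +kernel
theorem nc9 (M : PM G Ω 1080 H15.StdO8p3.nets) (hN : Nat.card G = 4952179814400) : ∀ j < 9, ¬ CjS (sub M.gen [VO8p3x3.rj]) (sub M.gen [getL [] xs j]) :=
  fun j hj => by interval_cases j; exacts [(fc9 M hN).nc (fc0 M hN) (by decide), (fc9 M hN).nc (fc1 M hN) (by decide), (fc9 M hN).nc (fc2 M hN) (by decide), nc3r (ord9 M hN) (ord3 M hN) (q636 M hN) (conj_of_rel' (rels_base (base0 M hN) k638)), (fc9 M hN).nc (fc4 M hN) (by decide), (fc9 M hN).nc (fc5 M hN) (by decide), (fc9 M hN).nc (fc6 M hN) (by decide), (fc9 M hN).nc (fc7 M hN) (by decide), (fc9 M hN).nc (fc8 M hN) (by decide)]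
noncomputable def s639 : Nat := (nat_lit 0x400000000000000000000000000000000020000000000000000000000000000000000000000000000000080000000000000000000000000000000010400000000000000000000000000000000000020000000000000000008000000000000000000000100000000000000000800000000)
theorem k640 : band (Nat.ble (nat_lit 1080) (Nat.pow 2 (nat_lit 11))) (fsChk (nat_lit 1080) (nat_lit 11) H15.StdO8p3.nets VO8p3x3.rk s639 (full (nat_lit 1080)) 0 0 (nat_lit 11)) = true := by decide +kernel
theorem f641 (M : PM G Ω 1080 H15.StdO8p3.nets) (hN : Nat.card G = 4952179814400) : IsFix M VO8p3x3.rk s639 :=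
  fix_one k640
theorem k642 : relK F bs0 [(powW VO8p3x3.rk 3, [])] = true := by decide +kernel
theorem r643 (M : PM G Ω 1080 H15.StdO8p3.nets) (hN : Nat.card G = 4952179814400) : orderOf (ev M.gen VO8p3x3.rk) = 3 :=
  order_of_rel (F := F) (b := 0) (by norm_num) (rels_base (base0 M hN) k642) (by decide +kernel)
theorem ord10 (M : PM G Ω 1080 H15.StdO8p3.nets) (hN : Nat.card G = 4952179814400) : orderOf (ev M.gen VO8p3x3.rk) = 3 :=
  (r643 M hN)
noncomputable def B10 : Nat := s639
theorem fix10 (M : PM G Ω 1080 H15.StdO8p3.nets) (hN : Nat.card G = 4952179814400) : IsFixL M [VO8p3x3.rk] B10 :=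
  IsFix.fixL (f641 M hN)
theorem k644 : Nat.beq (pop (nat_lit 1080) B10) 9 = true := by decide +kernel
theorem fc10 (M : PM G Ω 1080 H15.StdO8p3.nets) (hN : Nat.card G = 4952179814400) : FixC M [VO8p3x3.rk] 9 :=
  ⟨_, fix10 M hN, Nat.eq_of_beq_eq_true k644⟩
theorem nc10 (M : PM G Ω 1080 H15.StdO8p3.nets) (hN : Nat.card G = 4952179814400) : ∀ j < 10, ¬ CjS (sub M.gen [VO8p3x3.rk]) (sub M.gen [getL [] xs j]) :=
  fun j hj => by interval_cases j; exacts [(fc10 M hN).nc (fc0 M hN) (by decide), (fc10 M hN).nc (fc1 M hN) (by decide), (fc10 M hN).nc (fc2 M hN) (by decide), (fc10 M hN).nc (fc3 M hN) (by decide), (fc10 M hN).nc (fc4 M hN) (by decide), (fc10 M hN).nc (fc5 M hN) (by decide), (fc10 M hN).nc (fc6 M hN) (by decide), (fc10 M hN).nc (fc7 M hN) (by decide), (fc10 M hN).nc (fc8 M hN) (by decide), (fc10 M hN).nc (fc9 M hN) (by decide)]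
theorem k645 : band (Nat.ble (nat_lit 1080) (Nat.pow 2 (nat_lit 11))) (fsChk (nat_lit 1080) (nat_lit 11) H15.StdO8p3.nets VO8p3x3.rl (nat_lit 0) (full (nat_lit 1080)) 0 0 (nat_lit 11)) = true := by decide +kernel
theorem f646 (M : PM G Ω 1080 H15.StdO8p3.nets) (hN : Nat.card G = 4952179814400) : IsFix M VO8p3x3.rl (nat_lit 0) :=
  fix_one k645
theorem k647 : relK F bs0 [(powW VO8p3x3.rl 3, [])] = true := by decide +kernel
theorem r648 (M : PM G Ω 1080 H15.StdO8p3.nets) (hN : Nat.card G = 4952179814400) : orderOf (ev M.gen VO8p3x3.rl) = 3 :=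
  order_of_rel (F := F) (b := 0) (by norm_num) (rels_base (base0 M hN) k647) (by decide +kernel)
theorem ord11 (M : PM G Ω 1080 H15.StdO8p3.nets) (hN : Nat.card G = 4952179814400) : orderOf (ev M.gen VO8p3x3.rl) = 3 :=
  (r648 M hN)
noncomputable def B11 : Nat := (nat_lit 0)
theorem fix11 (M : PM G Ω 1080 H15.StdO8p3.nets) (hN : Nat.card G = 4952179814400) : IsFixL M [VO8p3x3.rl] B11 :=
  IsFix.fixL (f646 M hN)
theorem k649 : Nat.beq (pop (nat_lit 1080) B11) 0 = true := by decide +kernel
theorem fc11 (M : PM G Ω 1080 H15.StdO8p3.nets) (hN : Nat.card G = 4952179814400) : FixC M [VO8p3x3.rl] 0 :=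
  ⟨_, fix11 M hN, Nat.eq_of_beq_eq_true k649⟩
theorem k650 : orbChk (nat_lit 1080) H15.StdO8p3.nets F [nat_lit 1, nat_lit 0] (sel [w19, w20, w21] [nat_lit 0, nat_lit 1, nat_lit 2]) [dw (nat_lit 0x01), dw (nat_lit 0x03), dw (nat_lit 0x01), dw (nat_lit 0x05), dw (nat_lit 0x01), dw (nat_lit 0x03), dw (nat_lit 0x01)] (dn (nat_lit 20) (nat_lit 0x00801003c20a741070030d8020b143025020cac109341007c106fc30d68110b8210b810ddc10bf020bf0106d8206d810c0410f5420b2030b20209c0205943101010a0c20a0c10034100783098820cec10d7430a401004420044104ac304ac10d8c10cc830cc8109b430c7c30c7c205ec20d34204d8305fc305fc206c8200bc300bc208f830cf430cf420f4030a9830aa830ff8302703)) (bit (nat_lit 305)) s94 = true := by decide +kernel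
theorem o651 (M : PM G Ω 1080 H15.StdO8p3.nets) (hN : Nat.card G = 4952179814400) : Orb M ⊤ [nat_lit 1, nat_lit 0] (nat_lit 305) s94 :=
  (Orb.ext le_top (orb_bit ⊤ [nat_lit 1, nat_lit 0] (b := (nat_lit 305)) rfl) k650)
noncomputable def s652 : Nat := (nat_lit 0x14000004200100000000a002900000000400000000000008000082002200028040800800000001000000000000121000004002001080800052404000020084000000200000000000000500002001184440000002000000800002000000000000000000000000000000000000000000000000040000000000000000001000000008001800e2000)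
noncomputable def w653 : Word := [nat_lit 26, nat_lit 28, nat_lit 34]
noncomputable def w654 : Word := [nat_lit 14, nat_lit 21, nat_lit 28, nat_lit 25, nat_lit 21, nat_lit 15]
theorem k655 : orbChk (nat_lit 1080) H15.StdO8p3.nets F [nat_lit 305, nat_lit 1, nat_lit 0] (sel [w653, w98, w654] [nat_lit 0, nat_lit 1, nat_lit 2]) [dw (nat_lit 0x01)] (dn (nat_lit 20) (nat_lit 0x090c30bf01007c10cc8109b4209c0102783027810c7c10aa8309a8309a810ddc20ddc109343003420d74306fc200483088410f842004c20cec307103071010d8c20d8c10eb830eb81079030a2c10f4c30f8c30f8c10080300801101020988309c8209c810b20306e8206e810a7420a74110b8210b8105943059410d3430a4020a40108f830b0030b0020b0010744307442)) (bit (nat_lit 465)) s652 = true := by decide +kernel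
theorem o656 (M : PM G Ω 1080 H15.StdO8p3.nets) (hN : Nat.card G = 4952179814400) : Orb M ⊤ [nat_lit 305, nat_lit 1, nat_lit 0] (nat_lit 465) s652 :=
  (Orb.ext le_top (orb_bit ⊤ [nat_lit 305, nat_lit 1, nat_lit 0] (b := (nat_lit 465)) rfl) k655)
noncomputable def w657 : Word := [nat_lit 25, nat_lit 15, nat_lit 26, nat_lit 25, nat_lit 14, nat_lit 24]
theorem k658 : orbChk (nat_lit 1080) H15.StdO8p3.nets F [nat_lit 465, nat_lit 305, nat_lit 1, nat_lit 0] (sel [w657] [nat_lit 0]) [] (dn (nat_lit 20) (nat_lit 0x0f841)) (bit (nat_lit 993)) s269 = true := by decide +kernel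
theorem o659 (M : PM G Ω 1080 H15.StdO8p3.nets) (hN : Nat.card G = 4952179814400) : Orb M ⊤ [nat_lit 465, nat_lit 305, nat_lit 1, nat_lit 0] (nat_lit 993) s269 :=
  (Orb.ext le_top (orb_bit ⊤ [nat_lit 465, nat_lit 305, nat_lit 1, nat_lit 0] (b := (nat_lit 993)) rfl) k658)
noncomputable def s660 : Nat := (nat_lit 0x100000000000000000000000000000000000000000000200000001000000000000000000002000000000000000000000000000000000000000000000000002000000000000000000100000000000000000000000000000000000000000000000000480000000000080000000000000000000000000000000000000000000000000000000000)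
noncomputable def w661 : Word := [nat_lit 15, nat_lit 22, nat_lit 16, nat_lit 22, nat_lit 14]
noncomputable def w662 : Word := [nat_lit 15, nat_lit 27, nat_lit 34, nat_lit 18, nat_lit 21, nat_lit 14]
theorem k663 : orbChk (nat_lit 1080) H15.StdO8p3.nets F [nat_lit 993, nat_lit 465, nat_lit 305, nat_lit 1, nat_lit 0] (sel [w502, w661, w662] [nat_lit 0, nat_lit 1, nat_lit 2]) [] (dn (nat_lit 20) (nat_lit 0x0dd42046c304782047810d5030d5010c0430c042)) (bit (nat_lit 769)) s660 = true := by decide +kernel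
theorem o664 (M : PM G Ω 1080 H15.StdO8p3.nets) (hN : Nat.card G = 4952179814400) : Orb M ⊤ [nat_lit 993, nat_lit 465, nat_lit 305, nat_lit 1, nat_lit 0] (nat_lit 769) s660 :=
  (Orb.ext le_top (orb_bit ⊤ [nat_lit 993, nat_lit 465, nat_lit 305, nat_lit 1, nat_lit 0] (b := (nat_lit 769)) rfl) k663)
noncomputable def s665 : Nat := (nat_lit 0x100000000000000000000000000000000000000000000000000000000000000000000000000000000000000000000000000000000000000000000000000002000000000000000000000000000000000000000000000000000000000000000000000000000000000000000000000000000000000000000000000000000000000000000000000)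
theorem k666 : orbChk (nat_lit 1080) H15.StdO8p3.nets F [nat_lit 769, nat_lit 993, nat_lit 465, nat_lit 305, nat_lit 1, nat_lit 0] (sel [w502] [nat_lit 0]) [] (dn (nat_lit 20) (nat_lit 0x08d41)) (bit (nat_lit 565)) s665 = true := by decide +kernel
theorem o667 (M : PM G Ω 1080 H15.StdO8p3.nets) (hN : Nat.card G = 4952179814400) : Orb M ⊤ [nat_lit 769, nat_lit 993, nat_lit 465, nat_lit 305, nat_lit 1, nat_lit 0] (nat_lit 565) s665 :=
  (Orb.ext le_top (orb_bit ⊤ [nat_lit 769, nat_lit 993, nat_lit 465, nat_lit 305, nat_lit 1, nat_lit 0] (b := (nat_lit 565)) rfl) k666)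
noncomputable def s668 : Nat := (nat_lit 0x4000000000000000000000000000000000000000000000200000002800000000000000000000000000000000000000000008000000040000000000000000000000000000000040000000000040000000000000080000000000000000000000000000000000000000000000000000000000000000000000000000000000000000000000)
noncomputable def w669 : Word := [nat_lit 15, nat_lit 27, nat_lit 33, nat_lit 33, nat_lit 26, nat_lit 14]
theorem k670 : orbChk (nat_lit 1080) H15.StdO8p3.nets F [nat_lit 565, nat_lit 769, nat_lit 993, nat_lit 465, nat_lit 305, nat_lit 1, nat_lit 0] (sel [w202, w669] [nat_lit 0, nat_lit 1]) [] (dn (nat_lit 20) (nat_lit 0x0cf420d74205ec107982079810cec20cec109a82)) (bit (nat_lit 618)) s668 = true := by decide +kernel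
theorem o671 (M : PM G Ω 1080 H15.StdO8p3.nets) (hN : Nat.card G = 4952179814400) : Orb M ⊤ [nat_lit 565, nat_lit 769, nat_lit 993, nat_lit 465, nat_lit 305, nat_lit 1, nat_lit 0] (nat_lit 618) s668 :=
  (Orb.ext le_top (orb_bit ⊤ [nat_lit 565, nat_lit 769, nat_lit 993, nat_lit 465, nat_lit 305, nat_lit 1, nat_lit 0] (b := (nat_lit 618)) rfl) k670)
noncomputable def s672 : Nat := (nat_lit 0x200000000000000000000000000000000000000000000000000000000000000000000000000400000000000000000000000000000000000000000000000000000000000000000000000000000000000000000000000000000000000000000000000000000000000000000000000000000000000000000000020000)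
theorem k673 : orbChk (nat_lit 1080) H15.StdO8p3.nets F [nat_lit 618, nat_lit 565, nat_lit 769, nat_lit 993, nat_lit 465, nat_lit 305, nat_lit 1, nat_lit 0] (sel [w202] [nat_lit 0]) [] (dn (nat_lit 20) (nat_lit 0x0aa8100441)) (bit (nat_lit 17)) s672 = true := by decide +kernel
theorem o674 (M : PM G Ω 1080 H15.StdO8p3.nets) (hN : Nat.card G = 4952179814400) : Orb M ⊤ [nat_lit 618, nat_lit 565, nat_lit 769, nat_lit 993, nat_lit 465, nat_lit 305, nat_lit 1, nat_lit 0] (nat_lit 17) s672 :=
  (Orb.ext le_top (orb_bit ⊤ [nat_lit 618, nat_lit 565, nat_lit 769, nat_lit 993, nat_lit 465, nat_lit 305, nat_lit 1, nat_lit 0] (b := (nat_lit 17)) rfl) k673)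
noncomputable def c675 : Chn := [((nat_lit 0), (full (nat_lit 1080))), ((nat_lit 1), L.KO8p3.s32), ((nat_lit 305), s94), ((nat_lit 465), s652), ((nat_lit 993), s269), ((nat_lit 769), s660), ((nat_lit 565), s665), ((nat_lit 618), s668), ((nat_lit 17), s672)]
theorem k676 : Nat.ble 4952179814400 (cval (nat_lit 1080) c675) = true := by decide +kernel
theorem e677 (M : PM G Ω 1080 H15.StdO8p3.nets) (hN : Nat.card G = 4952179814400) : EC M ⊤ [] c675 :=
  ec_top (c := c675) ⟨(L.KO8p3.o4 M hN), ⟨(L.KO8p3.o34 M hN), ⟨(o651 M hN), ⟨(o656 M hN), ⟨(o659 M hN), ⟨(o664 M hN), ⟨(o667 M hN), ⟨(o671 M hN), ⟨(o674 M hN), trivial⟩⟩⟩⟩⟩⟩⟩⟩⟩ hN k676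
noncomputable def w678 : Word := [nat_lit 14, nat_lit 24, nat_lit 20, nat_lit 19, nat_lit 28, nat_lit 14, nat_lit 1, nat_lit 10, nat_lit 26, nat_lit 13]
noncomputable def w679 : Word := [nat_lit 27, nat_lit 32, nat_lit 30, nat_lit 19, nat_lit 14, nat_lit 32, nat_lit 19, nat_lit 12, nat_lit 34]
noncomputable def p680 : Prs := [(w679, w678)]
noncomputable def b681 : List (Nat × Nat) := []
noncomputable def w682 : Word := [nat_lit 28, nat_lit 26, nat_lit 20, nat_lit 22, nat_lit 16, nat_lit 19, nat_lit 15, nat_lit 1, nat_lit 12, nat_lit 25, nat_lit 29, nat_lit 0]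
noncomputable def w683 : Word := [nat_lit 33, nat_lit 29, nat_lit 30, nat_lit 20, nat_lit 24, nat_lit 18, nat_lit 14, nat_lit 14, nat_lit 14, nat_lit 1, nat_lit 16, nat_lit 25, nat_lit 15, nat_lit 5]
noncomputable def w684 : Word := [nat_lit 28, nat_lit 30, nat_lit 16, nat_lit 33, nat_lit 14, nat_lit 28, nat_lit 4, nat_lit 1]
noncomputable def w685 : Word := [nat_lit 32, nat_lit 29, nat_lit 16, nat_lit 26, nat_lit 14, nat_lit 24, nat_lit 14, nat_lit 0, nat_lit 10, nat_lit 20]
noncomputable def w686 : Word := [nat_lit 33, nat_lit 22, nat_lit 16, nat_lit 24, nat_lit 14, nat_lit 14, nat_lit 22, nat_lit 26, nat_lit 33, nat_lit 14]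
noncomputable def w687 : Word := [nat_lit 33, nat_lit 30, nat_lit 32, nat_lit 21, nat_lit 29, nat_lit 16, nat_lit 25, nat_lit 25]
noncomputable def w688 : Word := [nat_lit 32, nat_lit 30, nat_lit 25, nat_lit 21, nat_lit 19, nat_lit 25, nat_lit 15, nat_lit 15, nat_lit 34, nat_lit 28, nat_lit 25]
noncomputable def w689 : Word := [nat_lit 28, nat_lit 30, nat_lit 21, nat_lit 16, nat_lit 18, nat_lit 14, nat_lit 14, nat_lit 27, nat_lit 0, nat_lit 22, nat_lit 28, nat_lit 14]
noncomputable def w690 : Word := [nat_lit 30, nat_lit 34, nat_lit 21, nat_lit 18, nat_lit 15, nat_lit 19, nat_lit 19, nat_lit 0, nat_lit 5, nat_lit 21]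
noncomputable def w691 : Word := [nat_lit 30, nat_lit 27, nat_lit 20, nat_lit 20, nat_lit 18, nat_lit 29, nat_lit 21, nat_lit 28]
noncomputable def w692 : Word := [nat_lit 21, nat_lit 27, nat_lit 21, nat_lit 16, nat_lit 22, nat_lit 15, nat_lit 26, nat_lit 15, nat_lit 13, nat_lit 18, nat_lit 21, nat_lit 33]
noncomputable def w693 : Word := [nat_lit 16, nat_lit 30, nat_lit 24, nat_lit 8, nat_lit 34, nat_lit 8]
noncomputable def w694 : Word := [nat_lit 5, nat_lit 28, nat_lit 21, nat_lit 25, nat_lit 18, nat_lit 20, nat_lit 18, nat_lit 0, nat_lit 14, nat_lit 30, nat_lit 2, nat_lit 19]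
noncomputable def w695 : Word := [nat_lit 2, nat_lit 25, nat_lit 30, nat_lit 18, nat_lit 21, nat_lit 14, nat_lit 14, nat_lit 30, nat_lit 2, nat_lit 32]
noncomputable def w696 : Word := [nat_lit 32, nat_lit 29, nat_lit 27, nat_lit 20, nat_lit 34, nat_lit 18, nat_lit 30, nat_lit 2, nat_lit 14, nat_lit 30, nat_lit 2, nat_lit 28]
noncomputable def w697 : Word := [nat_lit 0, nat_lit 34, nat_lit 26, nat_lit 30, nat_lit 26, nat_lit 22, nat_lit 30, nat_lit 14, nat_lit 18, nat_lit 28, nat_lit 1, nat_lit 14]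
noncomputable def w698 : Word := [nat_lit 27, nat_lit 28, nat_lit 25, nat_lit 21, nat_lit 19, nat_lit 14, nat_lit 19, nat_lit 14, nat_lit 1, nat_lit 6, nat_lit 27, nat_lit 30]
noncomputable def w699 : Word := [nat_lit 10, nat_lit 34, nat_lit 28, nat_lit 26, nat_lit 20, nat_lit 29, nat_lit 19, nat_lit 16, nat_lit 15, nat_lit 18, nat_lit 2, nat_lit 15, nat_lit 33, nat_lit 27]
noncomputable def w700 : Word := [nat_lit 26, nat_lit 30, nat_lit 16, nat_lit 21, nat_lit 15, nat_lit 19, nat_lit 15, nat_lit 1, nat_lit 12, nat_lit 27, nat_lit 24, nat_lit 19]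
noncomputable def w701 : Word := [nat_lit 28, nat_lit 22, nat_lit 19, nat_lit 20, nat_lit 18, nat_lit 15, nat_lit 25, nat_lit 19, nat_lit 13, nat_lit 21, nat_lit 0, nat_lit 2]
noncomputable def w702 : Word := [nat_lit 34, nat_lit 33, nat_lit 20, nat_lit 28, nat_lit 16, nat_lit 15, nat_lit 19, nat_lit 14, nat_lit 1, nat_lit 32, nat_lit 34, nat_lit 22, nat_lit 10]
noncomputable def w703 : Word := [nat_lit 19, nat_lit 32, nat_lit 34, nat_lit 21, nat_lit 24, nat_lit 16, nat_lit 30, nat_lit 20, nat_lit 1, nat_lit 6, nat_lit 0, nat_lit 21]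
noncomputable def w704 : Word := [nat_lit 33, nat_lit 27, nat_lit 20, nat_lit 20, nat_lit 29, nat_lit 16, nat_lit 14, nat_lit 0, nat_lit 2, nat_lit 20, nat_lit 4, nat_lit 30, nat_lit 20]
noncomputable def y705 : List Word := [w682, w683, w684, w685, w686, w687, w688, w689, w690, w691, w692, w693, w694, w695, w696, w697, w698, w699, w700, w701, w702, w703, w704]
theorem k706 : relK F bs0 (commR (snds p680) y705) = true := by decide +kernel
theorem x707 (M : PM G Ω 1080 H15.StdO8p3.nets) (hN : Nat.card G = 4952179814400) : Cx M (fun g => Pr M g p680) b681 [] p680 y705 :=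
  cx_conj (fun _ _ => fa_nil) (rels_base (base0 M hN) k706)
noncomputable def t708 : KT := KT.alt [] (KT.stp (nat_lit 0) [nat_lit 1] (dw (nat_lit 0x1d1315)) (KT.br (nat_lit 305) (KT.alt (dw (nat_lit 0x1d1315)) (KT.stp (nat_lit 305) [nat_lit 0] (dw (nat_lit 0x231e0f0f1a1415171f1c21)) (KT.br (nat_lit 993) (KT.alt (dw (nat_lit 0x231e0f0f1a1415171f1c21)) (KT.cnt (SE.and (SE.lev (nat_lit 5)) (SE.img [nat_lit 0] (SE.lev (nat_lit 5)))))
 (KT.alt (dw (nat_lit 0x1b0f220f1d111b1e22)) (KT.cnt (SE.and (SE.lev (nat_lit 5)) (SE.img [nat_lit 0] (SE.lev (nat_lit 5)))))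
 (KT.nil (SE.lev (nat_lit 4)) [] [] [])))))
 (KT.alt (dw (nat_lit 0x1d13151d1d)) (KT.mem (nat_lit 305) [nat_lit 0] (SE.lev (nat_lit 3)))
 (KT.alt (dw (nat_lit 0x1d13151c1c1d1d)) (KT.stp (nat_lit 305) [nat_lit 0] (dw (nat_lit 0x160f170f1f111a151b1b22)) (KT.br (nat_lit 993) (KT.alt (dw (nat_lit 0x13131a0f1b1b111d1521232223)) (KT.br (nat_lit 769) (KT.alt (dw (nat_lit 0x13131a0f1b1b111d1521232223)) (KT.mem (nat_lit 769) [nat_lit 0] (SE.lev (nat_lit 6)))
 (KT.nil (SE.lev (nat_lit 5)) [nat_lit 4, nat_lit 5] [] (dn (nat_lit 20) (nat_lit 0x0a7410a2010f40109b41104411044207d4107d42)))))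
 (KT.alt (dw (nat_lit 0x160f170f1f111a151b1b22)) (KT.br (nat_lit 769) (KT.alt (dw (nat_lit 0x160f170f1f111a151b1b22)) (KT.mem (nat_lit 769) [nat_lit 0] (SE.lev (nat_lit 6)))
 (KT.nil (SE.lev (nat_lit 5)) [nat_lit 5, nat_lit 6] [] (dn (nat_lit 20) (nat_lit 0x0f5420a2c209a8209b020c6820c6810aa820aa81)))))
 (KT.nil (SE.lev (nat_lit 4)) [] [] [])))))
 (KT.nil (SE.lev (nat_lit 2)) [nat_lit 2, nat_lit 3] [dw (nat_lit 0x01)] (dn (nat_lit 20) (nat_lit 0x0dc0100f4108f02068010b7c10c7010500208fc10230202301073410f18210b4210b410f7420f74107801024420244102d0204902045c108402084010e3810b3820b4c10a7c20a7c10928209281023420c2820c28105f4107c4207c4109d420a742061c2061c103781024c2024c10fa020fa0109a82035c2035c10820207942079410d0820d0810b602009c2009c10a2020f4020030200301105c204882048810d8420c6820260106142061410c6c20c6c106a8206a8109b01104420f20102402024010d8c1004420bec20bec10ff020ff0109881109420aa820aa8102642026410bc020bc010fb020fb010ab020ab0108f8208f81105820be8209342004c2))))))))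
 (KT.alt (dw (nat_lit 0x09)) (KT.stp (nat_lit 0) [nat_lit 1] (dw (nat_lit 0x0915190f)) (KT.cnt (SE.and (SE.lev (nat_lit 2)) (SE.img [nat_lit 0] (SE.lev (nat_lit 2))))))
 (KT.alt (dw (nat_lit 0x0906)) (KT.stp (nat_lit 0) [nat_lit 1] (dw (nat_lit 0x090617160f)) (KT.br (nat_lit 305) (KT.alt (dw (nat_lit 0x090617160f)) (KT.stp (nat_lit 305) [nat_lit 0] (dw (nat_lit 0x090617161b111c0f1a15151a)) (KT.br (nat_lit 993) (KT.alt (dw (nat_lit 0x0709061e130f1315211b2222)) (KT.br (nat_lit 769) (KT.alt (dw (nat_lit 0x0709061e130f1315211b2222)) (KT.mem (nat_lit 769) [nat_lit 0] (SE.lev (nat_lit 6)))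
 (KT.nil (SE.lev (nat_lit 5)) [nat_lit 6, nat_lit 5] [] (dn (nat_lit 20) (nat_lit 0x0c6810aa810044109a8110581105820d8410d842)))))
 (KT.alt (dw (nat_lit 0x090617161b111c0f1a15151a)) (KT.br (nat_lit 769) (KT.alt (dw (nat_lit 0x090617161b111c0f1a15151a)) (KT.mem (nat_lit 769) [nat_lit 0] (SE.lev (nat_lit 6)))
 (KT.nil (SE.lev (nat_lit 5)) [nat_lit 4, nat_lit 5] [] (dn (nat_lit 20) (nat_lit 0x0a20109b41104410a74107d4107d420f4010f402)))))
 (KT.nil (SE.lev (nat_lit 4)) [] [] [])))))
 (KT.nil (SE.lev (nat_lit 2)) [nat_lit 4, nat_lit 6, nat_lit 15] [] (dn (nat_lit 20) (nat_lit 0x0cf810e0820620100183042020cd010020101342013410dc410c6430c6410fb01027c30178301782017810fa830fa8103b030238302382004c3071430d703079c3004421044309a8309a820f9c10abc30abc10384308b0308b0208b0109b03006830068200681104030cd430cd410f3c10cb01053c3002c2002c101b4301b41100c20e3c30e3c20d8c30d403105830d4c30d9830d981056c3056c20de430aa8209803098010a5830a5820a581000c10e70300b0300b020c9830c98100b8307d4307d4207d410bdc30bdc20f4430f44207f8307f8207f810268302681030830cc430cc420cc41066430664207043070420de020de01099c3099c200883008820088104a0304a0204a0106843))))))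
 (KT.nil (SE.lev (nat_lit 0)) [nat_lit 0, nat_lit 1] [dw (nat_lit 0x03), dw (nat_lit 0x01), dw (nat_lit 0x03), dw (nat_lit 0x01), dw (nat_lit 0x03), dw (nat_lit 0x01), dw (nat_lit 0x03), dw (nat_lit 0x01)
, dw (nat_lit 0x03), dw (nat_lit 0x01), dw (nat_lit 0x03), dw (nat_lit 0x01), dw (nat_lit 0x03), dw (nat_lit 0x01)] (dn (nat_lit 20) (nat_lit 0x03041006c210501046c10d54110601069820454203c010a14106602043021078107e810e5020a4c10a5420f802072c10de810f20205941090c102c0200e4103a020e481082c208501077010b7420b7410e7c20e7c11074100542005410f0c20a9820b0020b00104c420cbc2064420d88204c820080209e0209a420d2820e8020924209c0203e420f842030020d9c20f74200742018c20b3020e38205e0208e0206a0205f4200c8208bc2093c202d421064204ec201b820670207682056820a08206142088c20f34209c42)))))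
theorem k709 : ktChk (nat_lit 1080) H15.StdO8p3.nets F c675 b681 [] p680 y705 [] [] (nat_lit 0) (nat_lit 0) 0 0 t708 = true := by decide +kernel
theorem l710 (M : PM G Ω 1080 H15.StdO8p3.nets) (hN : Nat.card G = 4952179814400) : Cl M (fun g => Pr M g p680) [] [] (nat_lit 0) 0 :=
  cl_tree (e677 M hN) (x707 M hN) (dd0 _ _ _ _) k709
noncomputable def w711 : Word := [nat_lit 17, nat_lit 7, nat_lit 33, nat_lit 23, nat_lit 17]
theorem k712 : relK F bs0 [(List.append VO8p3x3.re w711, List.append w711 w678)] = true := by decide +kernel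
theorem k713 : relK F bs0 [(List.append VO8p3x3.rl w711, List.append w711 w679)] = true := by decide +kernel
theorem q714 (M : PM G Ω 1080 H15.StdO8p3.nets) (hN : Nat.card G = 4952179814400) : ¬ IsConj (ev M.gen VO8p3x3.rl) (ev M.gen VO8p3x3.re) :=
  fun h => nconj_of (l710 M hN) (((conj_of_rel' (rels_base (base0 M hN) k713)).symm.trans h).trans (conj_of_rel' (rels_base (base0 M hN) k712)))
noncomputable def w715 : Word := [nat_lit 6, nat_lit 32, nat_lit 15, nat_lit 18, nat_lit 20, nat_lit 5, nat_lit 13, nat_lit 1, nat_lit 34]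
theorem k716 : relK F bs0 [(List.append (invW VO8p3x3.re) w715, List.append w715 VO8p3x3.re)] = true := by decide +kernel
theorem k717 : orbChk (nat_lit 1080) H15.StdO8p3.nets F [nat_lit 1, nat_lit 0] (sel [w19, w20, w21] [nat_lit 0, nat_lit 1, nat_lit 2]) [dw (nat_lit 0x01), dw (nat_lit 0x05), dw (nat_lit 0x01), dw (nat_lit 0x03), dw (nat_lit 0x01), dw (nat_lit 0x03)] (dn (nat_lit 20) (nat_lit 0x0ec810d3420d6830b0020b0010cec20cec110b8201402027820654306e8206e81079020790102bc302bc10cac30cac20cac108c43047810a0c20bfc110d8106d830c0410cc820cc810700302fc102503025010cf4307d4209b4209b4109c8209c8100bc105942059410f4020d8020d8010d9420bf020710205fc305fc205fc1004c10d4430d4410c7c206fc309c010798302703027010034110c0310c010474108d410d8430d8410a2c1090c10fb030f4c30978310103003c3)) (bit (nat_lit 31)) s94 = true := by decide +kernel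
theorem o718 (M : PM G Ω 1080 H15.StdO8p3.nets) (hN : Nat.card G = 4952179814400) : Orb M ⊤ [nat_lit 1, nat_lit 0] (nat_lit 31) s94 :=
  (Orb.ext le_top (orb_bit ⊤ [nat_lit 1, nat_lit 0] (b := (nat_lit 31)) rfl) k717)
noncomputable def s719 : Nat := (nat_lit 0x20004000104000100a000100000000400000000000008000822010000020000000840200029001000000000000000000000001090100013404400020080022000000000000002001000002001080040000000010000810002000000000004200006000000000000800000000008000000040100000000000000001000000008000000d8000)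
noncomputable def w720 : Word := [nat_lit 15, nat_lit 33, nat_lit 33, nat_lit 14]
noncomputable def w721 : Word := [nat_lit 20, nat_lit 16, nat_lit 34, nat_lit 18]
noncomputable def w722 : Word := [nat_lit 27, nat_lit 27, nat_lit 33, nat_lit 27]
theorem k723 : orbChk (nat_lit 1080) H15.StdO8p3.nets F [nat_lit 31, nat_lit 1, nat_lit 0] (sel [w720, w721, w722] [nat_lit 0, nat_lit 1, nat_lit 2]) [] (dn (nat_lit 20) (nat_lit 0x105830c443109420f8c205ec207d42027820bfc20040209c0307a0302fc302fc202fc1093420934109a8209a810c0420d8410a0030a0021010306c8306c8206c810d9c20d9c109782097810bc01090c106fc2047820478105942059410bf0105d0108d4209b4209b410c6830c6820c6810a2c30a2c20a2c107443074420744104d8304d8208c4208c4107102071010a2020a201)) (bit (nat_lit 648)) s719 = true := by decide +kernel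
theorem o724 (M : PM G Ω 1080 H15.StdO8p3.nets) (hN : Nat.card G = 4952179814400) : Orb M ⊤ [nat_lit 31, nat_lit 1, nat_lit 0] (nat_lit 648) s719 :=
  (Orb.ext le_top (orb_bit ⊤ [nat_lit 31, nat_lit 1, nat_lit 0] (b := (nat_lit 648)) rfl) k723)
noncomputable def w725 : Word := [nat_lit 14, nat_lit 21, nat_lit 29, nat_lit 20, nat_lit 26, nat_lit 14, nat_lit 26]
theorem k726 : orbChk (nat_lit 1080) H15.StdO8p3.nets F [nat_lit 648, nat_lit 31, nat_lit 1, nat_lit 0] (sel [w725] [nat_lit 0]) [] (dn (nat_lit 20) (nat_lit 0x00e01)) (bit (nat_lit 56)) (nat_lit 0x100004000000000) = true := by decide +kernel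
theorem o727 (M : PM G Ω 1080 H15.StdO8p3.nets) (hN : Nat.card G = 4952179814400) : Orb M ⊤ [nat_lit 648, nat_lit 31, nat_lit 1, nat_lit 0] (nat_lit 56) (nat_lit 0x100004000000000) :=
  (Orb.ext le_top (orb_bit ⊤ [nat_lit 648, nat_lit 31, nat_lit 1, nat_lit 0] (b := (nat_lit 56)) rfl) k726)
noncomputable def s728 : Nat := (nat_lit 0x404000000000000000000000000000000000000000000000000001000000000000080000000000000000000000010100000040000000000000000000000000400000000000000000000000000000000400000000000000000000000000000000000000000000000000000000000000000000000000000000000000000000000000000000000000)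
noncomputable def w729 : Word := [nat_lit 34, nat_lit 15, nat_lit 24, nat_lit 34, nat_lit 25, nat_lit 14]
theorem k730 : orbChk (nat_lit 1080) H15.StdO8p3.nets F [nat_lit 56, nat_lit 648, nat_lit 31, nat_lit 1, nat_lit 0] (sel [w722, w729] [nat_lit 0, nat_lit 1]) [] (dn (nat_lit 20) (nat_lit 0x0cac210d820d80210b820b0020b0010b2020b201)) (bit (nat_lit 712)) s728 = true := by decide +kernel
theorem o731 (M : PM G Ω 1080 H15.StdO8p3.nets) (hN : Nat.card G = 4952179814400) : Orb M ⊤ [nat_lit 56, nat_lit 648, nat_lit 31, nat_lit 1, nat_lit 0] (nat_lit 712) s728 :=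
  (Orb.ext le_top (orb_bit ⊤ [nat_lit 56, nat_lit 648, nat_lit 31, nat_lit 1, nat_lit 0] (b := (nat_lit 712)) rfl) k730)
noncomputable def s732 : Nat := (nat_lit 0x4000000000000000000000000000000000000000000000000000000000000000000000000000000000000000000000000040000000000000000000000000000000000000000000000000000000000000000000000000000000000000000000000000000000000000000000000000000000000000000000000000000000000000000000000000)
noncomputable def w733 : Word := [nat_lit 14, nat_lit 30, nat_lit 19, nat_lit 28, nat_lit 16, nat_lit 33, nat_lit 29, nat_lit 15]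
theorem k734 : orbChk (nat_lit 1080) H15.StdO8p3.nets F [nat_lit 712, nat_lit 56, nat_lit 648, nat_lit 31, nat_lit 1, nat_lit 0] (sel [w733] [nat_lit 0]) [] (dn (nat_lit 20) (nat_lit 0x0a981)) (bit (nat_lit 678)) s732 = true := by decide +kernel
theorem o735 (M : PM G Ω 1080 H15.StdO8p3.nets) (hN : Nat.card G = 4952179814400) : Orb M ⊤ [nat_lit 712, nat_lit 56, nat_lit 648, nat_lit 31, nat_lit 1, nat_lit 0] (nat_lit 678) s732 :=
  (Orb.ext le_top (orb_bit ⊤ [nat_lit 712, nat_lit 56, nat_lit 648, nat_lit 31, nat_lit 1, nat_lit 0] (b := (nat_lit 678)) rfl) k734)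
noncomputable def s736 : Nat := (nat_lit 0x10000000000000000000000000000000000000000000000000000040000000800000000000000000000000000000000000000000000000000000000000000000000000000000000000040000000010040000000200000000000000000000000000800000000000000000000000000000080000000000000000000000000000000000000000000)
noncomputable def w737 : Word := [nat_lit 29, nat_lit 21, nat_lit 18, nat_lit 22, nat_lit 30, nat_lit 24]
noncomputable def w738 : Word := [nat_lit 18, nat_lit 16, nat_lit 33, nat_lit 15, nat_lit 28, nat_lit 34, nat_lit 25]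
theorem k739 : orbChk (nat_lit 1080) H15.StdO8p3.nets F [nat_lit 678, nat_lit 712, nat_lit 56, nat_lit 648, nat_lit 31, nat_lit 1, nat_lit 0] (sel [w737, w738] [nat_lit 0, nat_lit 1]) [] (dn (nat_lit 20) (nat_lit 0x0cec102bc104ac10654110c0206d8206d810d681)) (bit (nat_lit 858)) s736 = true := by decide +kernel
theorem o740 (M : PM G Ω 1080 H15.StdO8p3.nets) (hN : Nat.card G = 4952179814400) : Orb M ⊤ [nat_lit 678, nat_lit 712, nat_lit 56, nat_lit 648, nat_lit 31, nat_lit 1, nat_lit 0] (nat_lit 858) s736 :=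
  (Orb.ext le_top (orb_bit ⊤ [nat_lit 678, nat_lit 712, nat_lit 56, nat_lit 648, nat_lit 31, nat_lit 1, nat_lit 0] (b := (nat_lit 858)) rfl) k739)
noncomputable def s741 : Nat := (nat_lit 0x200000000000000000000000000000000000000000000000000000000000000000000000000000000000100000000000000000000000000000000000000000000000200000000000000000000000000000000000000000000000000000000000000000000000000000000000000000000000000000000000000000000)
noncomputable def w742 : Word := [nat_lit 21, nat_lit 14, nat_lit 27, nat_lit 32, nat_lit 25, nat_lit 25, nat_lit 15, nat_lit 20]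
theorem k743 : orbChk (nat_lit 1080) H15.StdO8p3.nets F [nat_lit 858, nat_lit 678, nat_lit 712, nat_lit 56, nat_lit 648, nat_lit 31, nat_lit 1, nat_lit 0] (sel [w742] [nat_lit 0]) [] (dn (nat_lit 20) (nat_lit 0x0f84107441)) (bit (nat_lit 465)) s741 = true := by decide +kernel
theorem o744 (M : PM G Ω 1080 H15.StdO8p3.nets) (hN : Nat.card G = 4952179814400) : Orb M ⊤ [nat_lit 858, nat_lit 678, nat_lit 712, nat_lit 56, nat_lit 648, nat_lit 31, nat_lit 1, nat_lit 0] (nat_lit 465) s741 :=
  (Orb.ext le_top (orb_bit ⊤ [nat_lit 858, nat_lit 678, nat_lit 712, nat_lit 56, nat_lit 648, nat_lit 31, nat_lit 1, nat_lit 0] (b := (nat_lit 465)) rfl) k743)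
noncomputable def c745 : Chn := [((nat_lit 0), (full (nat_lit 1080))), ((nat_lit 1), L.KO8p3.s32), ((nat_lit 31), s94), ((nat_lit 648), s719), ((nat_lit 56), (nat_lit 0x100004000000000)), ((nat_lit 712), s728), ((nat_lit 678), s732), ((nat_lit 858), s736), ((nat_lit 465), s741)]
theorem k746 : Nat.ble 4952179814400 (cval (nat_lit 1080) c745) = true := by decide +kernel
theorem e747 (M : PM G Ω 1080 H15.StdO8p3.nets) (hN : Nat.card G = 4952179814400) : EC M ⊤ [] c745 :=
  ec_top (c := c745) ⟨(L.KO8p3.o4 M hN), ⟨(L.KO8p3.o34 M hN), ⟨(o718 M hN), ⟨(o724 M hN), ⟨(o727 M hN), ⟨(o731 M hN), ⟨(o735 M hN), ⟨(o740 M hN), ⟨(o744 M hN), trivial⟩⟩⟩⟩⟩⟩⟩⟩⟩ hN k746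
noncomputable def w748 : Word := [nat_lit 6, nat_lit 34, nat_lit 26, nat_lit 18, nat_lit 1, nat_lit 14, nat_lit 13, nat_lit 0, nat_lit 2]
noncomputable def w749 : Word := [nat_lit 5, nat_lit 34, nat_lit 27, nat_lit 24, nat_lit 16, nat_lit 21, nat_lit 14, nat_lit 24, nat_lit 14, nat_lit 21, nat_lit 26]
noncomputable def p750 : Prs := [(w749, w748)]
noncomputable def b751 : List (Nat × Nat) := []
noncomputable def w752 : Word := [nat_lit 21, nat_lit 26, nat_lit 16, nat_lit 32, nat_lit 30, nat_lit 14, nat_lit 25, nat_lit 14, nat_lit 0, nat_lit 21, nat_lit 24, nat_lit 20, nat_lit 1]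
noncomputable def w753 : Word := [nat_lit 28, nat_lit 22, nat_lit 19, nat_lit 25, nat_lit 22, nat_lit 15, nat_lit 26, nat_lit 19, nat_lit 1, nat_lit 28, nat_lit 13, nat_lit 33, nat_lit 15]
noncomputable def w754 : Word := [nat_lit 32, nat_lit 29, nat_lit 16, nat_lit 30, nat_lit 21, nat_lit 14, nat_lit 21, nat_lit 10, nat_lit 5]
noncomputable def w755 : Word := [nat_lit 2, nat_lit 32, nat_lit 30, nat_lit 20, nat_lit 29, nat_lit 2]
noncomputable def w756 : Word := [nat_lit 16, nat_lit 34, nat_lit 27, nat_lit 20, nat_lit 25, nat_lit 18, nat_lit 29, nat_lit 14, nat_lit 19, nat_lit 33]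
noncomputable def w757 : Word := [nat_lit 30, nat_lit 29, nat_lit 22, nat_lit 21, nat_lit 18, nat_lit 29, nat_lit 14, nat_lit 19, nat_lit 24]
noncomputable def w758 : Word := [nat_lit 30, nat_lit 22, nat_lit 21, nat_lit 19, nat_lit 30, nat_lit 14, nat_lit 14, nat_lit 20, nat_lit 32, nat_lit 34, nat_lit 15]
noncomputable def w759 : Word := [nat_lit 22, nat_lit 30, nat_lit 19, nat_lit 21, nat_lit 14, nat_lit 14, nat_lit 24, nat_lit 20, nat_lit 24]
noncomputable def w760 : Word := [nat_lit 30, nat_lit 34, nat_lit 16, nat_lit 18, nat_lit 20, nat_lit 14, nat_lit 22, nat_lit 18, nat_lit 14, nat_lit 25]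
noncomputable def w761 : Word := [nat_lit 32, nat_lit 28, nat_lit 16, nat_lit 18, nat_lit 14, nat_lit 21, nat_lit 1, nat_lit 6, nat_lit 20, nat_lit 33, nat_lit 19]
noncomputable def w762 : Word := [nat_lit 25, nat_lit 16, nat_lit 14, nat_lit 28, nat_lit 16, nat_lit 1, nat_lit 6, nat_lit 1, nat_lit 29, nat_lit 20]
noncomputable def w763 : Word := [nat_lit 33, nat_lit 33, nat_lit 30, nat_lit 29, nat_lit 19, nat_lit 20, nat_lit 15, nat_lit 29, nat_lit 8, nat_lit 14, nat_lit 10, nat_lit 6, nat_lit 8]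
noncomputable def w764 : Word := [nat_lit 10, nat_lit 33, nat_lit 29, nat_lit 26, nat_lit 21, nat_lit 19, nat_lit 25, nat_lit 15, nat_lit 16, nat_lit 28, nat_lit 4]
noncomputable def w765 : Word := [nat_lit 32, nat_lit 32, nat_lit 30, nat_lit 20, nat_lit 27, nat_lit 16, nat_lit 19, nat_lit 14, nat_lit 19, nat_lit 14, nat_lit 22]
noncomputable def w766 : Word := [nat_lit 30, nat_lit 27, nat_lit 33, nat_lit 20, nat_lit 27, nat_lit 19, nat_lit 28, nat_lit 14, nat_lit 1, nat_lit 27, nat_lit 5, nat_lit 18]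
noncomputable def w767 : Word := [nat_lit 32, nat_lit 28, nat_lit 26, nat_lit 20, nat_lit 32, nat_lit 15, nat_lit 29, nat_lit 0, nat_lit 34, nat_lit 12, nat_lit 16, nat_lit 0]
noncomputable def w768 : Word := [nat_lit 34, nat_lit 27, nat_lit 24, nat_lit 29, nat_lit 14, nat_lit 22, nat_lit 33, nat_lit 8, nat_lit 30, nat_lit 14, nat_lit 27, nat_lit 16]
noncomputable def w769 : Word := [nat_lit 24, nat_lit 21, nat_lit 16, nat_lit 18, nat_lit 14, nat_lit 28, nat_lit 19, nat_lit 5, nat_lit 26, nat_lit 0, nat_lit 21, nat_lit 33]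
noncomputable def w770 : Word := [nat_lit 2, nat_lit 29, nat_lit 25, nat_lit 21, nat_lit 19, nat_lit 20, nat_lit 0, nat_lit 16, nat_lit 0, nat_lit 34]
noncomputable def w771 : Word := [nat_lit 33, nat_lit 18, nat_lit 20, nat_lit 14, nat_lit 16, nat_lit 19, nat_lit 16, nat_lit 13, nat_lit 34, nat_lit 1, nat_lit 27, nat_lit 14]
noncomputable def y772 : List Word := [w752, w753, w754, w755, w756, w757, w758, w759, w760, w761, w762, w763, w764, w765, w766, w767, w768, w769, w770, w771]
theorem k773 : relK F bs0 (commR (snds p750) y772) = true := by decide +kernel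
theorem x774 (M : PM G Ω 1080 H15.StdO8p3.nets) (hN : Nat.card G = 4952179814400) : Cx M (fun g => Pr M g p750) b751 [] p750 y772 :=
  cx_conj (fun _ _ => fa_nil) (rels_base (base0 M hN) k773)
noncomputable def t775 : KT := KT.alt [] (KT.stp (nat_lit 0) [nat_lit 1] (dw (nat_lit 0x111c11)) (KT.br (nat_lit 31) (KT.alt (dw (nat_lit 0x111c11)) (KT.stp (nat_lit 31) [nat_lit 0] (dw (nat_lit 0x1d10211015111f171b1d)) (KT.br (nat_lit 56) (KT.alt (dw (nat_lit 0x2121110f1f1317222321)) (KT.br (nat_lit 712) (KT.alt (dw (nat_lit 0x2121110f1f1317222321)) (KT.mem (nat_lit 712) [nat_lit 0] (SE.lev (nat_lit 6)))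
 (KT.nil (SE.lev (nat_lit 5)) [nat_lit 5, nat_lit 6] [] (dn (nat_lit 20) (nat_lit 0x0cd42088820c10210482036420364108f0208f01)))))
 (KT.alt (dw (nat_lit 0x1d10211015111f171b1d)) (KT.br (nat_lit 712) (KT.alt (dw (nat_lit 0x1d10211015111f171b1d)) (KT.mem (nat_lit 712) [nat_lit 0] (SE.lev (nat_lit 6)))
 (KT.nil (SE.lev (nat_lit 5)) [nat_lit 7, nat_lit 8] [] (dn (nat_lit 20) (nat_lit 0x012420890202082091c203782037810c9420c941)))))
 (KT.nil (SE.lev (nat_lit 4)) [] [] [])))))
 (KT.nil (SE.lev (nat_lit 2)) [nat_lit 2, nat_lit 3, nat_lit 4] [dw (nat_lit 0x03)] (dn (nat_lit 20) (nat_lit 0x08402029830298106d03032c203dc302fc301fc301fc2020030200209d42020810208206d820290310481104820828308282024c3024c209b03109420df43088810f8030f80209b410bd820c1030c68109cc3068010890204c4104c4205e4305e4105e4206b0306b0202701027020d5030d50209243092410924208f0308f0108f020e2c30e2c10e2c209e020c4830c4820d943106030c9430be8300783007810bc02024030240103783037810378202483024810364303641036420a7c30a7c207983079810798206ac3101431014208bc308bc108bc209d8309d8205d0305d0105d020180302b030ab030d8430d8411050310501105020ec830ec810ec8202383023820694306941))))))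
 (KT.nil (SE.lev (nat_lit 0)) [nat_lit 0, nat_lit 1] [dw (nat_lit 0x01), dw (nat_lit 0x03), dw (nat_lit 0x01), dw (nat_lit 0x03), dw (nat_lit 0x01), dw (nat_lit 0x03), dw (nat_lit 0x01), dw (nat_lit 0x03)
, dw (nat_lit 0x01), dw (nat_lit 0x03), dw (nat_lit 0x01), dw (nat_lit 0x03), dw (nat_lit 0x01), dw (nat_lit 0x03), dw (nat_lit 0x01), dw (nat_lit 0x03)
] (dn (nat_lit 20) (nat_lit 0x03a810a8410910109c810fa41024c1105c103f41032410cb8100f81085410aa020aa010d1c206d420b6410ffc2066810990109c020130107ac1035010984107e410184204f820dfc102a810860109f01034c20dd02002c2037c10cb41042c2042c100d4102c410c8420cd820cd810824208241003c2003c10d70108802088010508204c4108c4208c410800109442004820e10207dc20cd02108c2108c10e7420e741095810f7c205e020794207941074020ef420ef410e30108b81089020fe420d6c205ac2034820c502056c10a682101c2082011040105f4109bc10bc420ae820ba8101c820cdc10b381004c1055810c582016c2016c10354100b4207c0103b0203b01073c2038c10c1c20c1c102dc20e3c20cc020e801061c10d78108dc110cc101d410e68107e8101c4201c4104dc206bc204a810c3420300106ec1065c10fd010b00107881029410fb410c6c10cfc10afc103e010a0810f6810fc8100cc10eac1102c10b90103f81041410a481033c10a2c106481058010720104701047c10a78107ec1083810bdc1109c1029c10be410070110c0104981004410d6010c7010848102681040410310100a811004102c0105f01)))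
theorem k776 : ktChk (nat_lit 1080) H15.StdO8p3.nets F c745 b751 [] p750 y772 [] [] (nat_lit 0) (nat_lit 0) 0 0 t775 = true := by decide +kernel
theorem l777 (M : PM G Ω 1080 H15.StdO8p3.nets) (hN : Nat.card G = 4952179814400) : Cl M (fun g => Pr M g p750) [] [] (nat_lit 0) 0 :=
  cl_tree (e747 M hN) (x774 M hN) (dd0 _ _ _ _) k776
noncomputable def w778 : Word := [nat_lit 7, nat_lit 1, nat_lit 15, nat_lit 17, nat_lit 31, nat_lit 15]
theorem k779 : relK F bs0 [(List.append VO8p3x3.rf w778, List.append w778 w748)] = true := by decide +kernel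
theorem k780 : relK F bs0 [(List.append VO8p3x3.rl w778, List.append w778 w749)] = true := by decide +kernel
theorem q781 (M : PM G Ω 1080 H15.StdO8p3.nets) (hN : Nat.card G = 4952179814400) : ¬ IsConj (ev M.gen VO8p3x3.rl) (ev M.gen VO8p3x3.rf) :=
  fun h => nconj_of (l777 M hN) (((conj_of_rel' (rels_base (base0 M hN) k780)).symm.trans h).trans (conj_of_rel' (rels_base (base0 M hN) k779)))
noncomputable def w782 : Word := [nat_lit 32, nat_lit 32, nat_lit 34, nat_lit 26, nat_lit 15, nat_lit 16, nat_lit 28, nat_lit 0, nat_lit 2, nat_lit 19, nat_lit 24, nat_lit 29]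
theorem k783 : relK F bs0 [(List.append (invW VO8p3x3.rf) w782, List.append w782 VO8p3x3.rf)] = true := by decide +kernel
theorem k784 : orbChk (nat_lit 1080) H15.StdO8p3.nets F [nat_lit 1, nat_lit 0] (sel [w19, w20, w21] [nat_lit 0, nat_lit 1, nat_lit 2]) [dw (nat_lit 0x01), dw (nat_lit 0x03), dw (nat_lit 0x01), dw (nat_lit 0x03), dw (nat_lit 0x05), dw (nat_lit 0x01), dw (nat_lit 0x03)] (dn (nat_lit 20) (nat_lit 0x0a9820c4410bfc106e8303ac310c0310c02098810eb82097830cac307d4205fc309342065430f8c300e8200e81101010cc830cf420f84308f8209b4309b42059420594108842088410c681079020790104d8204743047410a0010dd430c7c30c7c1007c204c4304c420b2020b2010e5820ff830ff820080200801003c10cec30cec10d8030d80102703027010040310b8310b810d6830d6810a2c10f4c3)) (bit (nat_lit 434)) s94 = true := by decide +kernel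
theorem o785 (M : PM G Ω 1080 H15.StdO8p3.nets) (hN : Nat.card G = 4952179814400) : Orb M ⊤ [nat_lit 1, nat_lit 0] (nat_lit 434) s94 :=
  (Orb.ext le_top (orb_bit ⊤ [nat_lit 1, nat_lit 0] (b := (nat_lit 434)) rfl) k784)
noncomputable def s786 : Nat := (nat_lit 0x1410000020000000000000021000000040000004000000020002a2410000020040810040200009000000000000101000004002000000800013004400020004022800000000000000001000000000104000000002010000810000000000000004208002800000000000000000000008000800040000000000000000000000004000000800f8000)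
noncomputable def w787 : Word := [nat_lit 27, nat_lit 33, nat_lit 27, nat_lit 27]
noncomputable def w788 : Word := [nat_lit 14, nat_lit 20, nat_lit 24, nat_lit 19, nat_lit 28]
theorem k789 : orbChk (nat_lit 1080) H15.StdO8p3.nets F [nat_lit 434, nat_lit 1, nat_lit 0] (sel [w21, w787, w788] [nat_lit 0, nat_lit 1, nat_lit 2]) [dw (nat_lit 0x01)] (dn (nat_lit 20) (nat_lit 0x0e5830cf430f401004420f5420f541003c2003c104c4304c4205d03007c310a0310a010bfc30bfc2004c3004c2004c10040102fc310b8310b8109c0209c0110c0310c020ec8106e8206e8104d810630309b410aa830c903093430cac30cac200e8209883098820b20208d42070010bf020bf0104ac304ac204ac102bc302bc202bc10a7430a74208bc308bc208c4308c42)) (bit (nat_lit 561)) s786 = true := by decide +kernel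
theorem o790 (M : PM G Ω 1080 H15.StdO8p3.nets) (hN : Nat.card G = 4952179814400) : Orb M ⊤ [nat_lit 434, nat_lit 1, nat_lit 0] (nat_lit 561) s786 :=
  (Orb.ext le_top (orb_bit ⊤ [nat_lit 434, nat_lit 1, nat_lit 0] (b := (nat_lit 561)) rfl) k789)
noncomputable def s791 : Nat := (nat_lit 0x100000000000000000000000000000000000000000000000000000000000080000000000000000000000000000)
noncomputable def w792 : Word := [nat_lit 26, nat_lit 14, nat_lit 34, nat_lit 19, nat_lit 16, nat_lit 18]
theorem k793 : orbChk (nat_lit 1080) H15.StdO8p3.nets F [nat_lit 561, nat_lit 434, nat_lit 1, nat_lit 0] (sel [w792] [nat_lit 0]) [] (dn (nat_lit 20) (nat_lit 0x05901)) (bit (nat_lit 356)) s791 = true := by decide +kernel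
theorem o794 (M : PM G Ω 1080 H15.StdO8p3.nets) (hN : Nat.card G = 4952179814400) : Orb M ⊤ [nat_lit 561, nat_lit 434, nat_lit 1, nat_lit 0] (nat_lit 356) s791 :=
  (Orb.ext le_top (orb_bit ⊤ [nat_lit 561, nat_lit 434, nat_lit 1, nat_lit 0] (b := (nat_lit 356)) rfl) k793)
noncomputable def s795 : Nat := (nat_lit 0x4000100000000000000000000000000000000080000000000000000000000000000000000000000000000000000001000000000000000000000000000000000000200000000000000000000000000000800000000000000000000000000000000000000000000000000000001010000000000000000000000000000040000000)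
noncomputable def w796 : Word := [nat_lit 18, nat_lit 30, nat_lit 22, nat_lit 30, nat_lit 19]
noncomputable def w797 : Word := [nat_lit 14, nat_lit 32, nat_lit 25, nat_lit 22, nat_lit 28, nat_lit 15]
noncomputable def w798 : Word := [nat_lit 14, nat_lit 33, nat_lit 27, nat_lit 32, nat_lit 26, nat_lit 15]
theorem k799 : orbChk (nat_lit 1080) H15.StdO8p3.nets F [nat_lit 356, nat_lit 561, nat_lit 434, nat_lit 1, nat_lit 0] (sel [w796, w797, w798] [nat_lit 0, nat_lit 1, nat_lit 2]) [] (dn (nat_lit 20) (nat_lit 0x0ff8202703027020fb030fb020d9c30d9c20d9c1)) (bit (nat_lit 871)) s795 = true := by decide +kernel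
theorem o800 (M : PM G Ω 1080 H15.StdO8p3.nets) (hN : Nat.card G = 4952179814400) : Orb M ⊤ [nat_lit 356, nat_lit 561, nat_lit 434, nat_lit 1, nat_lit 0] (nat_lit 871) s795 :=
  (Orb.ext le_top (orb_bit ⊤ [nat_lit 356, nat_lit 561, nat_lit 434, nat_lit 1, nat_lit 0] (b := (nat_lit 871)) rfl) k799)
noncomputable def s801 : Nat := (nat_lit 0x100000000000000000000000000000000000000000000000000000000000000000000000000000000000000000000000000000000000000000000000000000000000000000000000000000000000000000000000000000000000000000000000000000000000000000000000000000000000000000000000000040000000)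
noncomputable def w802 : Word := [nat_lit 20, nat_lit 14, nat_lit 27, nat_lit 16, nat_lit 26, nat_lit 15, nat_lit 21]
theorem k803 : orbChk (nat_lit 1080) H15.StdO8p3.nets F [nat_lit 871, nat_lit 356, nat_lit 561, nat_lit 434, nat_lit 1, nat_lit 0] (sel [w802] [nat_lit 0]) [] (dn (nat_lit 20) (nat_lit 0x00781)) (bit (nat_lit 30)) s801 = true := by decide +kernel
theorem o804 (M : PM G Ω 1080 H15.StdO8p3.nets) (hN : Nat.card G = 4952179814400) : Orb M ⊤ [nat_lit 871, nat_lit 356, nat_lit 561, nat_lit 434, nat_lit 1, nat_lit 0] (nat_lit 30) s801 :=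
  (Orb.ext le_top (orb_bit ⊤ [nat_lit 871, nat_lit 356, nat_lit 561, nat_lit 434, nat_lit 1, nat_lit 0] (b := (nat_lit 30)) rfl) k803)
noncomputable def s805 : Nat := (nat_lit 0x80000000000000000000000000000000000000000000000000000000000000000000000000000008040000000000000000000000000000000000000000800000000000000000000000000000000000000000000000000000000000000040000000000000000440000000000000000000000000000002000000000000000000000000002000000)
noncomputable def w806 : Word := [nat_lit 28, nat_lit 33, nat_lit 33, nat_lit 29]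
noncomputable def w807 : Word := [nat_lit 34, nat_lit 14, nat_lit 25, nat_lit 34, nat_lit 24, nat_lit 15]
theorem k808 : orbChk (nat_lit 1080) H15.StdO8p3.nets F [nat_lit 30, nat_lit 871, nat_lit 356, nat_lit 561, nat_lit 434, nat_lit 1, nat_lit 0] (sel [w806, w807] [nat_lit 0, nat_lit 1]) [] (dn (nat_lit 20) (nat_lit 0x041810064210cc20bdc20bb820bb810528205281)) (bit (nat_lit 330)) s805 = true := by decide +kernel
theorem o809 (M : PM G Ω 1080 H15.StdO8p3.nets) (hN : Nat.card G = 4952179814400) : Orb M ⊤ [nat_lit 30, nat_lit 871, nat_lit 356, nat_lit 561, nat_lit 434, nat_lit 1, nat_lit 0] (nat_lit 330) s805 :=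
  (Orb.ext le_top (orb_bit ⊤ [nat_lit 30, nat_lit 871, nat_lit 356, nat_lit 561, nat_lit 434, nat_lit 1, nat_lit 0] (b := (nat_lit 330)) rfl) k808)
noncomputable def s810 : Nat := (nat_lit 0x1000000000000000000000000000000020000000000008)
noncomputable def w811 : Word := [nat_lit 26, nat_lit 25, nat_lit 34, nat_lit 15, nat_lit 29, nat_lit 33, nat_lit 33, nat_lit 16]
theorem k812 : orbChk (nat_lit 1080) H15.StdO8p3.nets F [nat_lit 330, nat_lit 30, nat_lit 871, nat_lit 356, nat_lit 561, nat_lit 434, nat_lit 1, nat_lit 0] (sel [w811] [nat_lit 0]) [] (dn (nat_lit 20) (nat_lit 0x000c100d41)) (bit (nat_lit 53)) s810 = true := by decide +kernel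
theorem o813 (M : PM G Ω 1080 H15.StdO8p3.nets) (hN : Nat.card G = 4952179814400) : Orb M ⊤ [nat_lit 330, nat_lit 30, nat_lit 871, nat_lit 356, nat_lit 561, nat_lit 434, nat_lit 1, nat_lit 0] (nat_lit 53) s810 :=
  (Orb.ext le_top (orb_bit ⊤ [nat_lit 330, nat_lit 30, nat_lit 871, nat_lit 356, nat_lit 561, nat_lit 434, nat_lit 1, nat_lit 0] (b := (nat_lit 53)) rfl) k812)
noncomputable def c814 : Chn := [((nat_lit 0), (full (nat_lit 1080))), ((nat_lit 1), L.KO8p3.s32), ((nat_lit 434), s94), ((nat_lit 561), s786), ((nat_lit 356), s791), ((nat_lit 871), s795), ((nat_lit 30), s801), ((nat_lit 330), s805), ((nat_lit 53), s810)]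
theorem k815 : Nat.ble 4952179814400 (cval (nat_lit 1080) c814) = true := by decide +kernel
theorem e816 (M : PM G Ω 1080 H15.StdO8p3.nets) (hN : Nat.card G = 4952179814400) : EC M ⊤ [] c814 :=
  ec_top (c := c814) ⟨(L.KO8p3.o4 M hN), ⟨(L.KO8p3.o34 M hN), ⟨(o785 M hN), ⟨(o790 M hN), ⟨(o794 M hN), ⟨(o800 M hN), ⟨(o804 M hN), ⟨(o809 M hN), ⟨(o813 M hN), trivial⟩⟩⟩⟩⟩⟩⟩⟩⟩ hN k815
noncomputable def w817 : Word := [nat_lit 32, nat_lit 30, nat_lit 27, nat_lit 18, nat_lit 20, nat_lit 14, nat_lit 22, nat_lit 18, nat_lit 2, nat_lit 1, nat_lit 6, nat_lit 34]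
noncomputable def w818 : Word := [nat_lit 14, nat_lit 33, nat_lit 22, nat_lit 21, nat_lit 16, nat_lit 22, nat_lit 21, nat_lit 14, nat_lit 27, nat_lit 15, nat_lit 4]
noncomputable def p819 : Prs := [(w818, w817)]
noncomputable def b820 : List (Nat × Nat) := []
noncomputable def w821 : Word := [nat_lit 26, nat_lit 28, nat_lit 21, nat_lit 25, nat_lit 19, nat_lit 15, nat_lit 21, nat_lit 0, nat_lit 34, nat_lit 14, nat_lit 27, nat_lit 22]
noncomputable def w822 : Word := [nat_lit 28, nat_lit 30, nat_lit 20, nat_lit 22, nat_lit 16, nat_lit 32, nat_lit 14, nat_lit 0, nat_lit 24, nat_lit 33, nat_lit 22, nat_lit 1]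
noncomputable def w823 : Word := [nat_lit 20, nat_lit 27, nat_lit 18, nat_lit 14, nat_lit 14, nat_lit 30, nat_lit 15, nat_lit 0, nat_lit 5, nat_lit 32]
noncomputable def w824 : Word := [nat_lit 25, nat_lit 29, nat_lit 20, nat_lit 33, nat_lit 18, nat_lit 22, nat_lit 24]
noncomputable def w825 : Word := [nat_lit 15, nat_lit 33, nat_lit 22, nat_lit 28, nat_lit 19, nat_lit 15, nat_lit 18, nat_lit 29, nat_lit 34]
noncomputable def w826 : Word := [nat_lit 33, nat_lit 27, nat_lit 30, nat_lit 20, nat_lit 30, nat_lit 16, nat_lit 24, nat_lit 20, nat_lit 14, nat_lit 22]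
noncomputable def w827 : Word := [nat_lit 21, nat_lit 32, nat_lit 29, nat_lit 27, nat_lit 24, nat_lit 16, nat_lit 24, nat_lit 14, nat_lit 28, nat_lit 33]
noncomputable def w828 : Word := [nat_lit 33, nat_lit 20, nat_lit 30, nat_lit 15, nat_lit 33, nat_lit 18, nat_lit 24]
noncomputable def w829 : Word := [nat_lit 29, nat_lit 24, nat_lit 20, nat_lit 33, nat_lit 21]
noncomputable def w830 : Word := [nat_lit 34, nat_lit 30, nat_lit 29, nat_lit 20, nat_lit 25, nat_lit 16, nat_lit 18, nat_lit 14, nat_lit 30]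
noncomputable def w831 : Word := [nat_lit 15, nat_lit 32, nat_lit 32, nat_lit 18, nat_lit 15, nat_lit 15, nat_lit 32, nat_lit 0, nat_lit 5]
noncomputable def w832 : Word := [nat_lit 34, nat_lit 29, nat_lit 26, nat_lit 24, nat_lit 19, nat_lit 30, nat_lit 15, nat_lit 5, nat_lit 12, nat_lit 24, nat_lit 34, nat_lit 26]
noncomputable def w833 : Word := [nat_lit 34, nat_lit 16, nat_lit 21, nat_lit 14, nat_lit 14, nat_lit 14, nat_lit 16, nat_lit 2, nat_lit 8, nat_lit 30, nat_lit 27, nat_lit 0]
noncomputable def w834 : Word := [nat_lit 30, nat_lit 21, nat_lit 25, nat_lit 19, nat_lit 16, nat_lit 14, nat_lit 14, nat_lit 27, nat_lit 21, nat_lit 21]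
noncomputable def w835 : Word := [nat_lit 1, nat_lit 34, nat_lit 33, nat_lit 28, nat_lit 30, nat_lit 20, nat_lit 25, nat_lit 15, nat_lit 1, nat_lit 8, nat_lit 10, nat_lit 6]
noncomputable def w836 : Word := [nat_lit 32, nat_lit 27, nat_lit 14, nat_lit 16, nat_lit 1, nat_lit 10, nat_lit 15, nat_lit 26, nat_lit 33]
noncomputable def w837 : Word := [nat_lit 33, nat_lit 30, nat_lit 22, nat_lit 20, nat_lit 15, nat_lit 15, nat_lit 0, nat_lit 24, nat_lit 30, nat_lit 22, nat_lit 12]
noncomputable def w838 : Word := [nat_lit 0, nat_lit 30, nat_lit 32, nat_lit 18, nat_lit 18, nat_lit 15, nat_lit 20, nat_lit 0, nat_lit 6, nat_lit 24, nat_lit 21]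
noncomputable def w839 : Word := [nat_lit 21, nat_lit 21, nat_lit 16, nat_lit 24, nat_lit 5, nat_lit 21, nat_lit 21, nat_lit 33, nat_lit 24]
noncomputable def w840 : Word := [nat_lit 14, nat_lit 32, nat_lit 32, nat_lit 27, nat_lit 20, nat_lit 27, nat_lit 14, nat_lit 33, nat_lit 5, nat_lit 6]
noncomputable def w841 : Word := [nat_lit 0, nat_lit 34, nat_lit 33, nat_lit 33, nat_lit 34, nat_lit 29, nat_lit 19, nat_lit 15, nat_lit 24, nat_lit 18, nat_lit 0, nat_lit 34]
noncomputable def w842 : Word := [nat_lit 13, nat_lit 26, nat_lit 30, nat_lit 29, nat_lit 25, nat_lit 19, nat_lit 20, nat_lit 14, nat_lit 1, nat_lit 29, nat_lit 2, nat_lit 32]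
noncomputable def w843 : Word := [nat_lit 21, nat_lit 34, nat_lit 33, nat_lit 25, nat_lit 16, nat_lit 15, nat_lit 33, nat_lit 16, nat_lit 8, nat_lit 25, nat_lit 0]
noncomputable def w844 : Word := [nat_lit 4, nat_lit 29, nat_lit 24, nat_lit 33, nat_lit 19, nat_lit 30, nat_lit 0, nat_lit 18, nat_lit 25, nat_lit 20]
noncomputable def w845 : Word := [nat_lit 18, nat_lit 24, nat_lit 21, nat_lit 1, nat_lit 16, nat_lit 21]
noncomputable def w846 : Word := [nat_lit 27, nat_lit 20, nat_lit 16, nat_lit 33, nat_lit 14, nat_lit 32, nat_lit 0, nat_lit 2, nat_lit 19, nat_lit 22, nat_lit 0]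
noncomputable def w847 : Word := [nat_lit 16, nat_lit 32, nat_lit 34, nat_lit 30, nat_lit 29, nat_lit 15, nat_lit 26, nat_lit 15, nat_lit 13, nat_lit 20, nat_lit 33]
noncomputable def w848 : Word := [nat_lit 34, nat_lit 33, nat_lit 27, nat_lit 16, nat_lit 21, nat_lit 19, nat_lit 14, nat_lit 29, nat_lit 14, nat_lit 14]
noncomputable def y849 : List Word := [w821, w822, w823, w824, w825, w826, w827, w828, w829, w830, w831, w832, w833, w834, w835, w836, w837, w838, w839, w840, w841, w842, w843, w844, w845, w846, w847, w848]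
theorem k850 : relK F bs0 (commR (snds p819) y849) = true := by decide +kernel
theorem x851 (M : PM G Ω 1080 H15.StdO8p3.nets) (hN : Nat.card G = 4952179814400) : Cx M (fun g => Pr M g p819) b820 [] p819 y849 :=
  cx_conj (fun _ _ => fa_nil) (rels_base (base0 M hN) k850)
noncomputable def t852 : KT := KT.alt (dw (nat_lit 0x0e)) (KT.stp (nat_lit 0) [nat_lit 0] (dw (nat_lit 0x0e101a16)) (KT.br (nat_lit 434) (KT.alt (dw (nat_lit 0x0e101a16)) (KT.stp (nat_lit 434) [nat_lit 1] (dw (nat_lit 0x0e101a16)) (KT.br (nat_lit 356) (KT.alt (dw (nat_lit 0x0e101a16131114230f1b)) (KT.br (nat_lit 871) (KT.alt (dw (nat_lit 0x0e101a16131114230f1b)) (KT.stp (nat_lit 871) [nat_lit 1] (dw (nat_lit 0x0e101a16131114230f1b)) (KT.br (nat_lit 330) (KT.alt (dw (nat_lit 0x0e101a16131114230f1b)) (KT.mem (nat_lit 330) [nat_lit 0] (SE.lev (nat_lit 8)))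
 (KT.nil (SE.lev (nat_lit 7)) [nat_lit 23, nat_lit 24] [] (dn (nat_lit 20) (nat_lit 0x013c1011c10ef0105a4103a4103a420664106642))))))
 (KT.nil (SE.lev (nat_lit 5)) [nat_lit 21, nat_lit 22] [] (dn (nat_lit 20) (nat_lit 0x0e54100d010a3810a04100c4100c4209c8109c82)))))
 (KT.alt (dw (nat_lit 0x0e101a16)) (KT.br (nat_lit 871) (KT.alt (dw (nat_lit 0x0e101a16)) (KT.stp (nat_lit 871) [nat_lit 1] (dw (nat_lit 0x0e101a16)) (KT.br (nat_lit 330) (KT.alt (dw (nat_lit 0x0e101a16)) (KT.mem (nat_lit 330) [nat_lit 0] (SE.lev (nat_lit 8)))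
 (KT.nil (SE.lev (nat_lit 7)) [nat_lit 26, nat_lit 27] [] (dn (nat_lit 20) (nat_lit 0x10481098010ebc10030107b0107b020af810af82))))))
 (KT.nil (SE.lev (nat_lit 5)) [nat_lit 22, nat_lit 25] [] (dn (nat_lit 20) (nat_lit 0x0ca02103c2032020080204b0204b010264202641)))))
 (KT.nil (SE.lev (nat_lit 4)) [] [] [])))))
 (KT.nil (SE.lev (nat_lit 2)) [nat_lit 19, nat_lit 20] [dw (nat_lit 0x01)] (dn (nat_lit 20) (nat_lit 0x0a3810b8420a3410f64209e820b802065020650108201100c20b94110b4210b411024210241039c103a0203a0105282052810bec202642047c2047c1087c11068205602105c2105c10a0420f182008020080104b0209302093010ad8205d410c48201c82068810de01091c2043820784207841063020630109c4209c4102d420da0107cc10b6c20b6c10108207a020fa820fa810bfc10024200241057020570107642000c2000c110001095c2086c2086c10e542105821058110c0210c01038020a2420a2410f4020f40108682086810670201b0201b0109882098810510207e4207e410bac20bac100d0200d010b1820b1810468204681001820018101ec20334207c4207c4104402))))))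
 (KT.nil (SE.lev (nat_lit 0)) [nat_lit 0, nat_lit 1] [dw (nat_lit 0x01), dw (nat_lit 0x03), dw (nat_lit 0x01), dw (nat_lit 0x03), dw (nat_lit 0x01), dw (nat_lit 0x03), dw (nat_lit 0x01), dw (nat_lit 0x03)
, dw (nat_lit 0x01), dw (nat_lit 0x03), dw (nat_lit 0x01), dw (nat_lit 0x03), dw (nat_lit 0x01), dw (nat_lit 0x03), dw (nat_lit 0x01)] (dn (nat_lit 20) (nat_lit 0x04d820fe420b7420fec1072010a7420970204582086c2036410bd41081810cc410e14103ac1083410f741023c10fc4106a010ed02080c10ab420374102502083010584202601049c1037820efc1043c106ec1084c20308207d0207d010cd810b7c2087820158202f4200d02032c2046c209d4209d4106a4206a410a9c203f8102142096420ec020e4c203a010ba0200f810f3c20f3c100041098c2054410f50209d81045010be820be81032420f1420f1410a10108cc2106c2106c1028c20cb020478205cc2017420c802060c20d782019820da02102c2089c20c142084420b0c204f4200b82078c206d420840210b0208f8205e020a60203b020ba420f40202742094020be4200482066820110201f4207b02077020bb02077420bd0203c020f4c2062c2078820184210182)))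
theorem k853 : ktChk (nat_lit 1080) H15.StdO8p3.nets F c814 b820 [] p819 y849 [] [] (nat_lit 0) (nat_lit 0) 0 0 t852 = true := by decide +kernel
theorem l854 (M : PM G Ω 1080 H15.StdO8p3.nets) (hN : Nat.card G = 4952179814400) : Cl M (fun g => Pr M g p819) [] [] (nat_lit 0) 0 :=
  cl_tree (e816 M hN) (x851 M hN) (dd0 _ _ _ _) k853
noncomputable def w855 : Word := [nat_lit 17, nat_lit 9, nat_lit 19, nat_lit 27, nat_lit 14]
theorem k856 : relK F bs0 [(List.append VO8p3x3.rh w855, List.append w855 w817)] = true := by decide +kernel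
theorem k857 : relK F bs0 [(List.append VO8p3x3.rl w855, List.append w855 w818)] = true := by decide +kernel
theorem q858 (M : PM G Ω 1080 H15.StdO8p3.nets) (hN : Nat.card G = 4952179814400) : ¬ IsConj (ev M.gen VO8p3x3.rl) (ev M.gen VO8p3x3.rh) :=
  fun h => nconj_of (l854 M hN) (((conj_of_rel' (rels_base (base0 M hN) k857)).symm.trans h).trans (conj_of_rel' (rels_base (base0 M hN) k856)))
noncomputable def w859 : Word := [nat_lit 27, nat_lit 16, nat_lit 26, nat_lit 14, nat_lit 14, nat_lit 18, nat_lit 27, nat_lit 1, nat_lit 29, nat_lit 30, nat_lit 6, nat_lit 20]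
theorem k860 : relK F bs0 [(List.append (invW VO8p3x3.rh) w859, List.append w859 VO8p3x3.rh)] = true := by decide +kernel
theorem k861 : orbChk (nat_lit 1080) H15.StdO8p3.nets F [nat_lit 1, nat_lit 0] (sel [w19, w20, w21] [nat_lit 0, nat_lit 1, nat_lit 2]) [dw (nat_lit 0x01), dw (nat_lit 0x01), dw (nat_lit 0x03), dw (nat_lit 0x01), dw (nat_lit 0x03), dw (nat_lit 0x05), dw (nat_lit 0x01)] (dn (nat_lit 20) (nat_lit 0x0a2011010108c420c6810c7c2105820cc820cc8106fc10d74107103027030700204d81003c106d8306d81004c2004c107a020dd43074430744108bc300802008010988209c8209c810cec30cec207d4307d410d9410c4430c4420798307982004010b0030e5820e581097830978209781014010630306301007c3007c2007c109c0309c0209c0104743047410a0c20a0c10b2030b20204ac304ac102fc308f83079030790204c420b1420ddc20f8420078205ec20f4c205fc20eb82)) (bit (nat_lit 286)) s94 = true := by decide +kernel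
theorem o862 (M : PM G Ω 1080 H15.StdO8p3.nets) (hN : Nat.card G = 4952179814400) : Orb M ⊤ [nat_lit 1, nat_lit 0] (nat_lit 286) s94 :=
  (Orb.ext le_top (orb_bit ⊤ [nat_lit 1, nat_lit 0] (b := (nat_lit 286)) rfl) k861)
noncomputable def s863 : Nat := (nat_lit 0x40412000420000000000080009000000004000004000000020000b2412200028040010840000000001000000000021000000402000080900003404000020000020000000000000000001500000001004400000000010000810002000000000000008000800000000000000000000008000800000000000000000000000000004008001800c0000)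
noncomputable def w864 : Word := [nat_lit 14, nat_lit 21, nat_lit 33, nat_lit 26, nat_lit 21, nat_lit 15]
theorem k865 : orbChk (nat_lit 1080) H15.StdO8p3.nets F [nat_lit 286, nat_lit 1, nat_lit 0] (sel [w20, w265, w864] [nat_lit 0, nat_lit 1, nat_lit 2]) [dw (nat_lit 0x01), dw (nat_lit 0x01)] (dn (nat_lit 20) (nat_lit 0x00bc10a7430d74305ec3105820d8c30a0020d50109b4309a8309a8209a810b002104430f8c30f8c20080200801098810cf43079020594305942059410f4c30c6830d3410dd430dd410eb830eb8109b03007c2007c110d8310d81004c3004c2004c11094310942109410cec20cec10bc030bc020bc010798108d4308d4208d410b1430b1410d4430d4420d84306d82)) (bit (nat_lit 438)) s863 = true := by decide +kernel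
theorem o866 (M : PM G Ω 1080 H15.StdO8p3.nets) (hN : Nat.card G = 4952179814400) : Orb M ⊤ [nat_lit 286, nat_lit 1, nat_lit 0] (nat_lit 438) s863 :=
  (Orb.ext le_top (orb_bit ⊤ [nat_lit 286, nat_lit 1, nat_lit 0] (b := (nat_lit 438)) rfl) k865)
noncomputable def s867 : Nat := (nat_lit 0x40000000000000000000000000000000000000000000000000000000000000000000000000000000000000000000000000000000000010000000000000000000000000000000000000000000000000000000000000000000000000000000000000000000000000000000000000000000)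
noncomputable def w868 : Word := [nat_lit 15, nat_lit 22, nat_lit 14, nat_lit 34, nat_lit 22, nat_lit 15]
theorem k869 : orbChk (nat_lit 1080) H15.StdO8p3.nets F [nat_lit 438, nat_lit 286, nat_lit 1, nat_lit 0] (sel [w868] [nat_lit 0]) [] (dn (nat_lit 20) (nat_lit 0x07301)) (bit (nat_lit 460)) s867 = true := by decide +kernel
theorem o870 (M : PM G Ω 1080 H15.StdO8p3.nets) (hN : Nat.card G = 4952179814400) : Orb M ⊤ [nat_lit 438, nat_lit 286, nat_lit 1, nat_lit 0] (nat_lit 460) s867 :=
  (Orb.ext le_top (orb_bit ⊤ [nat_lit 438, nat_lit 286, nat_lit 1, nat_lit 0] (b := (nat_lit 460)) rfl) k869)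
noncomputable def s871 : Nat := (nat_lit 0x400000000000000000020000000000000000000000000100000000000000000000000000000000001000000000008000080000000000000000000000000000004000000000000000000000000000000000000000000000000000000000000000000004000000000000000000100000000000000000000)
noncomputable def w872 : Word := [nat_lit 16, nat_lit 28, nat_lit 32, nat_lit 28, nat_lit 21, nat_lit 16]
noncomputable def w873 : Word := [nat_lit 22, nat_lit 14, nat_lit 25, nat_lit 16, nat_lit 24, nat_lit 15]
theorem k874 : orbChk (nat_lit 1080) H15.StdO8p3.nets F [nat_lit 460, nat_lit 438, nat_lit 286, nat_lit 1, nat_lit 0] (sel [w872, w873] [nat_lit 0, nat_lit 1]) [] (dn (nat_lit 20) (nat_lit 0x0278208bc20d94206c82014020140109c0209c01)) (bit (nat_lit 624)) s871 = true := by decide +kernel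
theorem o875 (M : PM G Ω 1080 H15.StdO8p3.nets) (hN : Nat.card G = 4952179814400) : Orb M ⊤ [nat_lit 460, nat_lit 438, nat_lit 286, nat_lit 1, nat_lit 0] (nat_lit 624) s871 :=
  (Orb.ext le_top (orb_bit ⊤ [nat_lit 460, nat_lit 438, nat_lit 286, nat_lit 1, nat_lit 0] (b := (nat_lit 624)) rfl) k874)
noncomputable def s876 : Nat := (nat_lit 0x20000000000000000000000000000000000000000000000000000000000000000000000000000000000000000000000000000000000000000000000000000000000000000000000000000000000000000000000000000000000000000000000000000100000000000000000000)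
noncomputable def w877 : Word := [nat_lit 26, nat_lit 16, nat_lit 25, nat_lit 20, nat_lit 22, nat_lit 19]
theorem k878 : orbChk (nat_lit 1080) H15.StdO8p3.nets F [nat_lit 624, nat_lit 460, nat_lit 438, nat_lit 286, nat_lit 1, nat_lit 0] (sel [w877] [nat_lit 0]) [] (dn (nat_lit 20) (nat_lit 0x01401)) (bit (nat_lit 80)) s876 = true := by decide +kernel
theorem o879 (M : PM G Ω 1080 H15.StdO8p3.nets) (hN : Nat.card G = 4952179814400) : Orb M ⊤ [nat_lit 624, nat_lit 460, nat_lit 438, nat_lit 286, nat_lit 1, nat_lit 0] (nat_lit 80) s876 :=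
  (Orb.ext le_top (orb_bit ⊤ [nat_lit 624, nat_lit 460, nat_lit 438, nat_lit 286, nat_lit 1, nat_lit 0] (b := (nat_lit 80)) rfl) k878)
noncomputable def s880 : Nat := (nat_lit 0x4000800000000000000000000000000000000000200000000200000000000000000000000000000000000000000000000010000000000000000000000000000000000000000000000000000000000010000000001000000000400000000000000000000000000000000000000000040000000000000)
noncomputable def w881 : Word := [nat_lit 15, nat_lit 18, nat_lit 29, nat_lit 24, nat_lit 26, nat_lit 18, nat_lit 16, nat_lit 14]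
theorem k882 : orbChk (nat_lit 1080) H15.StdO8p3.nets F [nat_lit 80, nat_lit 624, nat_lit 460, nat_lit 438, nat_lit 286, nat_lit 1, nat_lit 0] (sel [w864, w881] [nat_lit 0, nat_lit 1]) [] (dn (nat_lit 20) (nat_lit 0x038820c2410e6c20e6c1042020880200d8200d81)) (bit (nat_lit 54)) s880 = true := by decide +kernel
theorem o883 (M : PM G Ω 1080 H15.StdO8p3.nets) (hN : Nat.card G = 4952179814400) : Orb M ⊤ [nat_lit 80, nat_lit 624, nat_lit 460, nat_lit 438, nat_lit 286, nat_lit 1, nat_lit 0] (nat_lit 54) s880 :=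
  (Orb.ext le_top (orb_bit ⊤ [nat_lit 80, nat_lit 624, nat_lit 460, nat_lit 438, nat_lit 286, nat_lit 1, nat_lit 0] (b := (nat_lit 54)) rfl) k882)
noncomputable def s884 : Nat := (nat_lit 0x100000000000000000000000000000000000000000000000000000000000000000000000008000000000000000000000000000000000000000000000000000000000000000008000000000000000000000000000000000000000000000000000000000)
noncomputable def w885 : Word := [nat_lit 18, nat_lit 15, nat_lit 20, nat_lit 14, nat_lit 24, nat_lit 27, nat_lit 27, nat_lit 15]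
theorem k886 : orbChk (nat_lit 1080) H15.StdO8p3.nets F [nat_lit 54, nat_lit 80, nat_lit 624, nat_lit 460, nat_lit 438, nat_lit 286, nat_lit 1, nat_lit 0] (sel [w885] [nat_lit 0]) [] (dn (nat_lit 20) (nat_lit 0x07bc10c501)) (bit (nat_lit 788)) s884 = true := by decide +kernel
theorem o887 (M : PM G Ω 1080 H15.StdO8p3.nets) (hN : Nat.card G = 4952179814400) : Orb M ⊤ [nat_lit 54, nat_lit 80, nat_lit 624, nat_lit 460, nat_lit 438, nat_lit 286, nat_lit 1, nat_lit 0] (nat_lit 788) s884 :=
  (Orb.ext le_top (orb_bit ⊤ [nat_lit 54, nat_lit 80, nat_lit 624, nat_lit 460, nat_lit 438, nat_lit 286, nat_lit 1, nat_lit 0] (b := (nat_lit 788)) rfl) k886)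
noncomputable def c888 : Chn := [((nat_lit 0), (full (nat_lit 1080))), ((nat_lit 1), L.KO8p3.s32), ((nat_lit 286), s94), ((nat_lit 438), s863), ((nat_lit 460), s867), ((nat_lit 624), s871), ((nat_lit 80), s876), ((nat_lit 54), s880), ((nat_lit 788), s884)]
theorem k889 : Nat.ble 4952179814400 (cval (nat_lit 1080) c888) = true := by decide +kernel
theorem e890 (M : PM G Ω 1080 H15.StdO8p3.nets) (hN : Nat.card G = 4952179814400) : EC M ⊤ [] c888 :=
  ec_top (c := c888) ⟨(L.KO8p3.o4 M hN), ⟨(L.KO8p3.o34 M hN), ⟨(o862 M hN), ⟨(o866 M hN), ⟨(o870 M hN), ⟨(o875 M hN), ⟨(o879 M hN), ⟨(o883 M hN), ⟨(o887 M hN), trivial⟩⟩⟩⟩⟩⟩⟩⟩⟩ hN k889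
noncomputable def w891 : Word := [nat_lit 34, nat_lit 26, nat_lit 29, nat_lit 26, nat_lit 18, nat_lit 15, nat_lit 19, nat_lit 15, nat_lit 8, nat_lit 18, nat_lit 30, nat_lit 6]
noncomputable def w892 : Word := [nat_lit 13, nat_lit 34, nat_lit 21, nat_lit 18, nat_lit 16, nat_lit 14, nat_lit 29, nat_lit 26, nat_lit 22, nat_lit 32]
noncomputable def p893 : Prs := [(w892, w891)]
noncomputable def b894 : List (Nat × Nat) := []
noncomputable def w895 : Word := [nat_lit 34, nat_lit 33, nat_lit 21, nat_lit 21, nat_lit 16, nat_lit 21, nat_lit 29, nat_lit 15, nat_lit 29, nat_lit 5, nat_lit 24, nat_lit 22, nat_lit 0]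
noncomputable def w896 : Word := [nat_lit 24, nat_lit 33, nat_lit 27, nat_lit 16, nat_lit 26, nat_lit 18, nat_lit 14, nat_lit 26, nat_lit 0, nat_lit 14, nat_lit 12]
noncomputable def w897 : Word := [nat_lit 14, nat_lit 34, nat_lit 22, nat_lit 30, nat_lit 16, nat_lit 19, nat_lit 26, nat_lit 14, nat_lit 26]
noncomputable def w898 : Word := [nat_lit 26, nat_lit 34, nat_lit 33, nat_lit 29, nat_lit 16, nat_lit 21, nat_lit 19, nat_lit 14, nat_lit 22, nat_lit 14]
noncomputable def w899 : Word := [nat_lit 33, nat_lit 34, nat_lit 28, nat_lit 30, nat_lit 22, nat_lit 18, nat_lit 32, nat_lit 22]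
noncomputable def w900 : Word := [nat_lit 14, nat_lit 26, nat_lit 25, nat_lit 27, nat_lit 16, nat_lit 18, nat_lit 29, nat_lit 15, nat_lit 15, nat_lit 24]
noncomputable def w901 : Word := [nat_lit 34, nat_lit 29, nat_lit 24, nat_lit 21, nat_lit 14, nat_lit 20, nat_lit 28, nat_lit 24, nat_lit 24]
noncomputable def w902 : Word := [nat_lit 34, nat_lit 33, nat_lit 27, nat_lit 28, nat_lit 24, nat_lit 14, nat_lit 14, nat_lit 22, nat_lit 34, nat_lit 29, nat_lit 16]
noncomputable def w903 : Word := [nat_lit 30, nat_lit 34, nat_lit 22, nat_lit 30, nat_lit 21, nat_lit 29]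
noncomputable def w904 : Word := [nat_lit 34, nat_lit 32, nat_lit 28, nat_lit 26, nat_lit 21, nat_lit 16, nat_lit 19, nat_lit 34, nat_lit 1, nat_lit 28, nat_lit 13, nat_lit 33, nat_lit 14]
noncomputable def w905 : Word := [nat_lit 18, nat_lit 34, nat_lit 33, nat_lit 22, nat_lit 30, nat_lit 16, nat_lit 14, nat_lit 20, nat_lit 1, nat_lit 5, nat_lit 20, nat_lit 18]
noncomputable def w906 : Word := [nat_lit 20, nat_lit 30, nat_lit 19, nat_lit 28, nat_lit 14, nat_lit 14, nat_lit 20, nat_lit 29, nat_lit 1, nat_lit 4, nat_lit 24, nat_lit 4]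
noncomputable def w907 : Word := [nat_lit 26, nat_lit 30, nat_lit 24, nat_lit 33, nat_lit 16, nat_lit 25, nat_lit 15, nat_lit 18, nat_lit 26, nat_lit 20]
noncomputable def w908 : Word := [nat_lit 32, nat_lit 32, nat_lit 20, nat_lit 24, nat_lit 19, nat_lit 14, nat_lit 25, nat_lit 18, nat_lit 1, nat_lit 33, nat_lit 1, nat_lit 24]
noncomputable def w909 : Word := [nat_lit 30, nat_lit 33, nat_lit 26, nat_lit 19, nat_lit 16, nat_lit 15, nat_lit 16, nat_lit 24, nat_lit 13, nat_lit 21, nat_lit 19]
noncomputable def w910 : Word := [nat_lit 14, nat_lit 21, nat_lit 16, nat_lit 22, nat_lit 14, nat_lit 16, nat_lit 1, nat_lit 25, nat_lit 33, nat_lit 5]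
noncomputable def w911 : Word := [nat_lit 33, nat_lit 34, nat_lit 26, nat_lit 28, nat_lit 1, nat_lit 32, nat_lit 21, nat_lit 5, nat_lit 16]
noncomputable def w912 : Word := [nat_lit 10, nat_lit 27, nat_lit 19, nat_lit 20, nat_lit 18, nat_lit 0, nat_lit 2, nat_lit 33]
noncomputable def y913 : List Word := [w895, w896, w897, w898, w899, w900, w901, w902, w903, w904, w905, w906, w907, w908, w909, w910, w911, w912]
theorem k914 : relK F bs0 (commR (snds p893) y913) = true := by decide +kernel
theorem x915 (M : PM G Ω 1080 H15.StdO8p3.nets) (hN : Nat.card G = 4952179814400) : Cx M (fun g => Pr M g p893) b894 [] p893 y913 :=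
  cx_conj (fun _ _ => fa_nil) (rels_base (base0 M hN) k914)
noncomputable def t916 : KT := KT.alt [] (KT.stp (nat_lit 0) [nat_lit 1] (dw (nat_lit 0x2311)) (KT.br (nat_lit 286) (KT.alt (dw (nat_lit 0x2311)) (KT.stp (nat_lit 286) [nat_lit 1] (dw (nat_lit 0x2311171d1a1b1e1e)) (KT.br (nat_lit 460) (KT.alt (dw (nat_lit 0x2311171d1a1b1e1e)) (KT.br (nat_lit 624) (KT.alt (dw (nat_lit 0x2311171d1a1b1e1e)) (KT.mem (nat_lit 624) [nat_lit 0] (SE.lev (nat_lit 6)))
 (KT.nil (SE.lev (nat_lit 5)) [nat_lit 5, nat_lit 6] [] (dn (nat_lit 20) (nat_lit 0x0a5c10e501000c105fc109041090420ddc10ddc2)))))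
 (KT.alt (dw (nat_lit 0x1119160f1513161915231f22)) (KT.br (nat_lit 624) (KT.alt (dw (nat_lit 0x1119160f1513161915231f22)) (KT.mem (nat_lit 624) [nat_lit 0] (SE.lev (nat_lit 6)))
 (KT.nil (SE.lev (nat_lit 5)) [nat_lit 7, nat_lit 8] [] (dn (nat_lit 20) (nat_lit 0x024810b281044410c0410710107102079c1079c2)))))
 (KT.nil (SE.lev (nat_lit 4)) [] [] [])))))
 (KT.nil (SE.lev (nat_lit 2)) [nat_lit 2, nat_lit 3, nat_lit 4] [dw (nat_lit 0x05), dw (nat_lit 0x01)] (dn (nat_lit 20) (nat_lit 0x102410d9410a00303281003030888310d83058c107103098830ddc30980302482024830a8020a8010a803039020390310483104430c00307442074410744309f8209f810cec20cec30c9020c90110c0210c0110c03004c2004c103a430ed820ed810ed830f9820f98107242072430630206301029020290104442044410fa82090c307fc20bd820bd8101fc202d0202d0102d03030431058210583095430d342017430e5020e5010d9820d9810b2820b2810b28308c030cd420e5410e5430c04305082091c208f830c0820c0810c08301c4302782027810a5c10abc305fc205fc10f1830ff020ff0307a0207a03036c30e1420e1410a2020a2010a203029810488204883))))))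
 (KT.nil (SE.lev (nat_lit 0)) [nat_lit 0, nat_lit 1] [dw (nat_lit 0x03), dw (nat_lit 0x01), dw (nat_lit 0x03), dw (nat_lit 0x01), dw (nat_lit 0x03), dw (nat_lit 0x01), dw (nat_lit 0x03), dw (nat_lit 0x01)
, dw (nat_lit 0x03), dw (nat_lit 0x01), dw (nat_lit 0x03), dw (nat_lit 0x01), dw (nat_lit 0x03), dw (nat_lit 0x01), dw (nat_lit 0x03)] (dn (nat_lit 20) (nat_lit 0x090c10f98107f420a481080c10ac4206a820c30107c020b1420074103dc20f9c207ac2109010ca8110bc208cc104ac109b0208782041c20c54104301080010f0c1011020d90108c82042010454202ac10cc020bc420f54105f810a74203b01074c1069c10780208fc2037c1107811078202c420eec10018108a0108a020f08103bc107b010b3c107e8103c8100c41085c1022810d801053c105fc1018410858105dc1058810218107d410dec1087410cbc1031810f80107301070c104381025810758105d410c0c10e90108e0100e81)))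
theorem k917 : ktChk (nat_lit 1080) H15.StdO8p3.nets F c888 b894 [] p893 y913 [] [] (nat_lit 0) (nat_lit 0) 0 0 t916 = true := by decide +kernel
theorem l918 (M : PM G Ω 1080 H15.StdO8p3.nets) (hN : Nat.card G = 4952179814400) : Cl M (fun g => Pr M g p893) [] [] (nat_lit 0) 0 :=
  cl_tree (e890 M hN) (x915 M hN) (dd0 _ _ _ _) k917
noncomputable def w919 : Word := [nat_lit 7, nat_lit 31, nat_lit 17, nat_lit 15]
theorem k920 : relK F bs0 [(List.append VO8p3x3.ri w919, List.append w919 w891)] = true := by decide +kernel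
theorem k921 : relK F bs0 [(List.append VO8p3x3.rl w919, List.append w919 w892)] = true := by decide +kernel
theorem q922 (M : PM G Ω 1080 H15.StdO8p3.nets) (hN : Nat.card G = 4952179814400) : ¬ IsConj (ev M.gen VO8p3x3.rl) (ev M.gen VO8p3x3.ri) :=
  fun h => nconj_of (l918 M hN) (((conj_of_rel' (rels_base (base0 M hN) k921)).symm.trans h).trans (conj_of_rel' (rels_base (base0 M hN) k920)))
noncomputable def w923 : Word := [nat_lit 1, nat_lit 26, nat_lit 26, nat_lit 24, nat_lit 16, nat_lit 15, nat_lit 26, nat_lit 1, nat_lit 12, nat_lit 22, nat_lit 18, nat_lit 6]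
theorem k924 : relK F bs0 [(List.append (invW VO8p3x3.ri) w923, List.append w923 VO8p3x3.ri)] = true := by decide +kernel
theorem nc11 (M : PM G Ω 1080 H15.StdO8p3.nets) (hN : Nat.card G = 4952179814400) : ∀ j < 11, ¬ CjS (sub M.gen [VO8p3x3.rl]) (sub M.gen [getL [] xs j]) :=
  fun j hj => by interval_cases j; exacts [(fc11 M hN).nc (fc0 M hN) (by decide), (fc11 M hN).nc (fc1 M hN) (by decide), (fc11 M hN).nc (fc2 M hN) (by decide), (fc11 M hN).nc (fc3 M hN) (by decide), nc3r (ord11 M hN) (ord4 M hN) (q714 M hN) (conj_of_rel' (rels_base (base0 M hN) k716)), nc3r (ord11 M hN) (ord5 M hN) (q781 M hN) (conj_of_rel' (rels_base (base0 M hN) k783)), (fc11 M hN).nc (fc6 M hN) (by decide), nc3r (ord11 M hN) (ord7 M hN) (q858 M hN) (conj_of_rel' (rels_base (base0 M hN) k860)), nc3r (ord11 M hN) (ord8 M hN) (q922 M hN) (conj_of_rel' (rels_base (base0 M hN) k924)), (fc11 M hN).nc (fc9 M hN) (by decide), (fc11 M hN).nc (fc10 M hN) (by decide)]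
theorem k925 : band (Nat.ble (nat_lit 1080) (Nat.pow 2 (nat_lit 11))) (fsChk (nat_lit 1080) (nat_lit 11) H15.StdO8p3.nets VO8p3x3.rm (nat_lit 0) (full (nat_lit 1080)) 0 0 (nat_lit 11)) = true := by decide +kernel
theorem f926 (M : PM G Ω 1080 H15.StdO8p3.nets) (hN : Nat.card G = 4952179814400) : IsFix M VO8p3x3.rm (nat_lit 0) :=
  fix_one k925
theorem k927 : relK F bs0 [(powW VO8p3x3.rm 3, [])] = true := by decide +kernel
theorem r928 (M : PM G Ω 1080 H15.StdO8p3.nets) (hN : Nat.card G = 4952179814400) : orderOf (ev M.gen VO8p3x3.rm) = 3 :=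
  order_of_rel (F := F) (b := 0) (by norm_num) (rels_base (base0 M hN) k927) (by decide +kernel)
theorem ord12 (M : PM G Ω 1080 H15.StdO8p3.nets) (hN : Nat.card G = 4952179814400) : orderOf (ev M.gen VO8p3x3.rm) = 3 :=
  (r928 M hN)
noncomputable def B12 : Nat := (nat_lit 0)
theorem fix12 (M : PM G Ω 1080 H15.StdO8p3.nets) (hN : Nat.card G = 4952179814400) : IsFixL M [VO8p3x3.rm] B12 :=
  IsFix.fixL (f926 M hN)
theorem k929 : Nat.beq (pop (nat_lit 1080) B12) 0 = true := by decide +kernel
theorem fc12 (M : PM G Ω 1080 H15.StdO8p3.nets) (hN : Nat.card G = 4952179814400) : FixC M [VO8p3x3.rm] 0 :=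
  ⟨_, fix12 M hN, Nat.eq_of_beq_eq_true k929⟩
noncomputable def s930 : Nat := (nat_lit 0xe005f4028500fa407a020801240140090314ca38014041f1c450401c910928140400202d000a04086d08440840000a06040021020b0468000439a82119811251420080ca0b8016d109c08280000223201800482c9a118000b51c009c32c0000003560004054442140048a0018800548a20501000000a0003000000018a86008004006036004a0)
theorem k931 : orbChk (nat_lit 1080) H15.StdO8p3.nets F [nat_lit 1, nat_lit 0] (sel [w19, w20, w21] [nat_lit 0, nat_lit 1, nat_lit 2]) [dw (nat_lit 0x01), dw (nat_lit 0x05), dw (nat_lit 0x01), dw (nat_lit 0x03), dw (nat_lit 0x01), dw (nat_lit 0x03), dw (nat_lit 0x01), dw (nat_lit 0x05)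
, dw (nat_lit 0x01), dw (nat_lit 0x03)] (dn (nat_lit 20) (nat_lit 0x038c108f4107bc3039c10e9820ff420d5c208e010f5010d4c20458104b010dd020dd0109a030ed02059c205b0104281100430bdc300ec10054101341052c20eb0302d4302d4202d4102a8202a81108c2108c11084310841108021080100283002810ad410fb42012c2012c10df030df0100883088c3088c20610206101014c3063c30b5c30b4830c64101d030ab810ad830ad81086c10da830da81043010900307f8307d030540108b4106c0303003030010f441080030d6010634107f410cb810830308d0308d010e643)) (bit (nat_lit 930)) s930 = true := by decide +kernel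
theorem o932 (M : PM G Ω 1080 H15.StdO8p3.nets) (hN : Nat.card G = 4952179814400) : Orb M ⊤ [nat_lit 1, nat_lit 0] (nat_lit 930) s930 :=
  (Orb.ext le_top (orb_bit ⊤ [nat_lit 1, nat_lit 0] (b := (nat_lit 930)) rfl) k931)
noncomputable def s933 : Nat := (nat_lit 0x100000000001000001000000900000000400000400000002000a12000000000000800840000021001000000000000000000002000080000000000000020000000000200000000000001500002000004040000000000000000000000000000004200002000000000000000000000008000800000000000000000000000000000000000c0020000)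
noncomputable def w934 : Word := [nat_lit 26, nat_lit 20, nat_lit 26, nat_lit 20]
theorem k935 : orbChk (nat_lit 1080) H15.StdO8p3.nets F [nat_lit 930, nat_lit 1, nat_lit 0] (sel [w25, w934, w423] [nat_lit 0, nat_lit 1, nat_lit 2]) [] (dn (nat_lit 20) (nat_lit 0x00443079010f4c30f4c20d9c2007830f4030f4010a7410c0430d9430bc0206c8206c8107a0307a0207a010884308842088410cac30cac20cac10a2c30a2c20a2c1101030e5830c6830c6820fb030fb0204c4304c4204c41)) (bit (nat_lit 305)) s933 = true := by decide +kernel
theorem o936 (M : PM G Ω 1080 H15.StdO8p3.nets) (hN : Nat.card G = 4952179814400) : Orb M ⊤ [nat_lit 930, nat_lit 1, nat_lit 0] (nat_lit 305) s933 :=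
  (Orb.ext le_top (orb_bit ⊤ [nat_lit 930, nat_lit 1, nat_lit 0] (b := (nat_lit 305)) rfl) k935)
noncomputable def s937 : Nat := (nat_lit 0x10000000000100000000000090000000040000000000000000000200000000000080080000000100000000000000000000000200008000000000000002000000000020000000000000050000200000404000000000000000000000000000000000000000000000000000000000000000000000000000000000000000000000000000080020000)
noncomputable def w938 : Word := [nat_lit 26, nat_lit 19, nat_lit 20, nat_lit 25, nat_lit 28, nat_lit 19]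
noncomputable def w939 : Word := [nat_lit 27, nat_lit 15, nat_lit 29, nat_lit 29, nat_lit 14, nat_lit 26]
theorem k940 : orbChk (nat_lit 1080) H15.StdO8p3.nets F [nat_lit 305, nat_lit 930, nat_lit 1, nat_lit 0] (sel [w502, w938, w939] [nat_lit 0, nat_lit 1, nat_lit 2]) [] (dn (nat_lit 20) (nat_lit 0x0790207443074420934106e81007c30f4c10cac30cac20bf030bf020bf0110c0310c020884308842004430044200441)) (bit (nat_lit 17)) s937 = true := by decide +kernel
theorem o941 (M : PM G Ω 1080 H15.StdO8p3.nets) (hN : Nat.card G = 4952179814400) : Orb M ⊤ [nat_lit 305, nat_lit 930, nat_lit 1, nat_lit 0] (nat_lit 17) s937 :=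
  (Orb.ext le_top (orb_bit ⊤ [nat_lit 305, nat_lit 930, nat_lit 1, nat_lit 0] (b := (nat_lit 17)) rfl) k940)
noncomputable def s942 : Nat := (nat_lit 0x200000000000000000000000004000000000000000000000000000000000000000000000000000000000000000000000000000000000000000000000000000000000000000000000000000000000000000000000000000000000000000000000000000000000000000000000000)
noncomputable def w943 : Word := [nat_lit 24, nat_lit 20, nat_lit 26, nat_lit 34, nat_lit 32, nat_lit 14, nat_lit 14, nat_lit 22]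
theorem k944 : orbChk (nat_lit 1080) H15.StdO8p3.nets F [nat_lit 17, nat_lit 305, nat_lit 930, nat_lit 1, nat_lit 0] (sel [w943] [nat_lit 0]) [] (dn (nat_lit 20) (nat_lit 0x0c081)) (bit (nat_lit 770)) s942 = true := by decide +kernel
theorem o945 (M : PM G Ω 1080 H15.StdO8p3.nets) (hN : Nat.card G = 4952179814400) : Orb M ⊤ [nat_lit 17, nat_lit 305, nat_lit 930, nat_lit 1, nat_lit 0] (nat_lit 770) s942 :=
  (Orb.ext le_top (orb_bit ⊤ [nat_lit 17, nat_lit 305, nat_lit 930, nat_lit 1, nat_lit 0] (b := (nat_lit 770)) rfl) k944)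
noncomputable def s946 : Nat := (nat_lit 0x1000000000000000000000002000100000000000000000000000000000000000000000000000000000000000000000000000000000000000000000000000000000000000000000000000000000000000000000000000000000000000000000000000000000000000000000000)
noncomputable def w947 : Word := [nat_lit 16, nat_lit 26, nat_lit 28, nat_lit 30, nat_lit 33, nat_lit 33, nat_lit 16]
theorem k948 : orbChk (nat_lit 1080) H15.StdO8p3.nets F [nat_lit 770, nat_lit 17, nat_lit 305, nat_lit 930, nat_lit 1, nat_lit 0] (sel [w947, w802] [nat_lit 0, nat_lit 1]) [] (dn (nat_lit 20) (nat_lit 0x0d8010c042)) (bit (nat_lit 769)) s946 = true := by decide +kernel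
theorem o949 (M : PM G Ω 1080 H15.StdO8p3.nets) (hN : Nat.card G = 4952179814400) : Orb M ⊤ [nat_lit 770, nat_lit 17, nat_lit 305, nat_lit 930, nat_lit 1, nat_lit 0] (nat_lit 769) s946 :=
  (Orb.ext le_top (orb_bit ⊤ [nat_lit 770, nat_lit 17, nat_lit 305, nat_lit 930, nat_lit 1, nat_lit 0] (b := (nat_lit 769)) rfl) k948)
noncomputable def s950 : Nat := (nat_lit 0x1000000000000000000000000000100000000000000000000000000000000000000000000000000000000000000000000000000000000000000000000000000000000000000000000000000000000000000000000000000000000000000000000000000000000000000000000)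
theorem k951 : orbChk (nat_lit 1080) H15.StdO8p3.nets F [nat_lit 769, nat_lit 770, nat_lit 17, nat_lit 305, nat_lit 930, nat_lit 1, nat_lit 0] (sel [w947] [nat_lit 0]) [] (dn (nat_lit 20) (nat_lit 0x0bc01)) (bit (nat_lit 752)) s950 = true := by decide +kernel
theorem o952 (M : PM G Ω 1080 H15.StdO8p3.nets) (hN : Nat.card G = 4952179814400) : Orb M ⊤ [nat_lit 769, nat_lit 770, nat_lit 17, nat_lit 305, nat_lit 930, nat_lit 1, nat_lit 0] (nat_lit 752) s950 :=
  (Orb.ext le_top (orb_bit ⊤ [nat_lit 769, nat_lit 770, nat_lit 17, nat_lit 305, nat_lit 930, nat_lit 1, nat_lit 0] (b := (nat_lit 752)) rfl) k951)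
noncomputable def s953 : Nat := (nat_lit 0x10000000000000000000000000000000000000000000000000010000000000000000000000000000000000000000000000001000000000000000000000000000000000)
noncomputable def w954 : Word := [nat_lit 26, nat_lit 15, nat_lit 25, nat_lit 19, nat_lit 27, nat_lit 21, nat_lit 29, nat_lit 19]
theorem k955 : orbChk (nat_lit 1080) H15.StdO8p3.nets F [nat_lit 752, nat_lit 769, nat_lit 770, nat_lit 17, nat_lit 305, nat_lit 930, nat_lit 1, nat_lit 0] (sel [w954] [nat_lit 0]) [] (dn (nat_lit 20) (nat_lit 0x0210108501)) (bit (nat_lit 532)) s953 = true := by decide +kernel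
theorem o956 (M : PM G Ω 1080 H15.StdO8p3.nets) (hN : Nat.card G = 4952179814400) : Orb M ⊤ [nat_lit 752, nat_lit 769, nat_lit 770, nat_lit 17, nat_lit 305, nat_lit 930, nat_lit 1, nat_lit 0] (nat_lit 532) s953 :=
  (Orb.ext le_top (orb_bit ⊤ [nat_lit 752, nat_lit 769, nat_lit 770, nat_lit 17, nat_lit 305, nat_lit 930, nat_lit 1, nat_lit 0] (b := (nat_lit 532)) rfl) k955)
noncomputable def c957 : Chn := [((nat_lit 0), (full (nat_lit 1080))), ((nat_lit 1), L.KO8p3.s32), ((nat_lit 930), s930), ((nat_lit 305), s933), ((nat_lit 17), s937), ((nat_lit 770), s942), ((nat_lit 769), s946), ((nat_lit 752), s950), ((nat_lit 532), s953)]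
theorem k958 : Nat.ble 4952179814400 (cval (nat_lit 1080) c957) = true := by decide +kernel
theorem e959 (M : PM G Ω 1080 H15.StdO8p3.nets) (hN : Nat.card G = 4952179814400) : EC M ⊤ [] c957 :=
  ec_top (c := c957) ⟨(L.KO8p3.o4 M hN), ⟨(L.KO8p3.o34 M hN), ⟨(o932 M hN), ⟨(o936 M hN), ⟨(o941 M hN), ⟨(o945 M hN), ⟨(o949 M hN), ⟨(o952 M hN), ⟨(o956 M hN), trivial⟩⟩⟩⟩⟩⟩⟩⟩⟩ hN k958
noncomputable def w960 : Word := [nat_lit 5, nat_lit 28, nat_lit 24, nat_lit 19, nat_lit 14, nat_lit 21, nat_lit 22, nat_lit 1, nat_lit 27, nat_lit 29, nat_lit 14]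
noncomputable def w961 : Word := [nat_lit 15, nat_lit 32, nat_lit 19, nat_lit 24, nat_lit 15, nat_lit 16, nat_lit 24, nat_lit 24, nat_lit 10]
noncomputable def p962 : Prs := [(w961, w960)]
noncomputable def b963 : List (Nat × Nat) := []
noncomputable def w964 : Word := [nat_lit 12, nat_lit 32, nat_lit 34, nat_lit 26, nat_lit 20, nat_lit 28, nat_lit 15, nat_lit 29, nat_lit 0, nat_lit 16, nat_lit 15, nat_lit 26]
noncomputable def w965 : Word := [nat_lit 33, nat_lit 26, nat_lit 22, nat_lit 14, nat_lit 16, nat_lit 21, nat_lit 29, nat_lit 0, nat_lit 21, nat_lit 29, nat_lit 5, nat_lit 0]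
noncomputable def w966 : Word := [nat_lit 29, nat_lit 22, nat_lit 19, nat_lit 28, nat_lit 14, nat_lit 22, nat_lit 27, nat_lit 16]
noncomputable def w967 : Word := [nat_lit 2, nat_lit 33, nat_lit 34, nat_lit 20, nat_lit 27, nat_lit 19, nat_lit 2, nat_lit 28]
noncomputable def w968 : Word := [nat_lit 25, nat_lit 34, nat_lit 30, nat_lit 34, nat_lit 16, nat_lit 32, nat_lit 15, nat_lit 16, nat_lit 20, nat_lit 1, nat_lit 19, nat_lit 33]
noncomputable def w969 : Word := [nat_lit 14, nat_lit 33, nat_lit 33, nat_lit 30, nat_lit 33, nat_lit 25, nat_lit 18, nat_lit 20, nat_lit 15, nat_lit 34]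
noncomputable def w970 : Word := [nat_lit 26, nat_lit 32, nat_lit 20, nat_lit 33, nat_lit 16, nat_lit 14, nat_lit 25, nat_lit 18, nat_lit 14, nat_lit 19]
noncomputable def w971 : Word := [nat_lit 6, nat_lit 32, nat_lit 27, nat_lit 19, nat_lit 16, nat_lit 20, nat_lit 14, nat_lit 16, nat_lit 32, nat_lit 5, nat_lit 29, nat_lit 33]
noncomputable def w972 : Word := [nat_lit 25, nat_lit 34, nat_lit 16, nat_lit 22, nat_lit 25, nat_lit 15, nat_lit 32, nat_lit 16, nat_lit 21]
noncomputable def y973 : List Word := [w964, w965, w966, w967, w968, w969, w970, w971, w972]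
theorem k974 : relK F bs0 (commR (snds p962) y973) = true := by decide +kernel
theorem x975 (M : PM G Ω 1080 H15.StdO8p3.nets) (hN : Nat.card G = 4952179814400) : Cx M (fun g => Pr M g p962) b963 [] p962 y973 :=
  cx_conj (fun _ _ => fa_nil) (rels_base (base0 M hN) k974)
noncomputable def t976 : KT := KT.alt (dw (nat_lit 0x07)) (KT.stp (nat_lit 0) [nat_lit 0] (dw (nat_lit 0x071423)) (KT.mem (nat_lit 0) [nat_lit 1] (SE.lev (nat_lit 2))))
 (KT.alt [] (KT.stp (nat_lit 0) [nat_lit 0] (dw (nat_lit 0x1d10)) (KT.stp (nat_lit 0) [nat_lit 1] (dw (nat_lit 0x1d101e1e1b1b10170f)) (KT.br (nat_lit 305) (KT.alt (dw (nat_lit 0x1d101e1e1b1b10170f)) (KT.stp (nat_lit 305) [nat_lit 1] (dw (nat_lit 0x0f141b101416111617)) (KT.br (nat_lit 770) (KT.alt (dw (nat_lit 0x0f141b101416111617)) (KT.br (nat_lit 769) (KT.alt (dw (nat_lit 0x1e140f0f1914161a221f1b2123)) (KT.stp (nat_lit 769) [nat_lit 1] (dw (nat_lit 0x130f190f191513221921)) (KT.br (nat_lit 532) (KT.alt (dw (nat_lit 0x23110f0f0f1a131f152222)) (KT.neq (nat_lit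 532) [nat_lit 0] (nat_lit 822) [])
 (KT.alt (dw (nat_lit 0x130f190f191513221921)) (KT.neq (nat_lit 532) [nat_lit 0] (nat_lit 822) [])
 (KT.alt (dw (nat_lit 0x191c1f0f0f14151c1f)) (KT.neq (nat_lit 532) [nat_lit 0] (nat_lit 822) [])
 (KT.nil (SE.lev (nat_lit 8)) [] [] []))))))
 (KT.alt (dw (nat_lit 0x141b10101d111c1f15211b2223)) (KT.stp (nat_lit 769) [nat_lit 1] (dw (nat_lit 0x141b10101d111c1f15211b2223)) (KT.br (nat_lit 532) (KT.alt (dw (nat_lit 0x0e01111a0f16141123152322)) (KT.neq (nat_lit 532) [nat_lit 0] (nat_lit 822) [])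
 (KT.alt (dw (nat_lit 0x141b10101d111c1f15211b2223)) (KT.neq (nat_lit 532) [nat_lit 0] (nat_lit 822) [])
 (KT.alt (dw (nat_lit 0x1521110f1313161a1e230f)) (KT.neq (nat_lit 532) [nat_lit 0] (nat_lit 822) [])
 (KT.nil (SE.lev (nat_lit 8)) [] [] []))))))
 (KT.alt (dw (nat_lit 0x0f141b101416111617)) (KT.stp (nat_lit 769) [nat_lit 1] (dw (nat_lit 0x1523140f0f1116111c15151d)) (KT.br (nat_lit 532) (KT.alt (dw (nat_lit 0x150f11140f1a1116171d1b)) (KT.neq (nat_lit 532) [nat_lit 0] (nat_lit 822) [])
 (KT.alt (dw (nat_lit 0x1014230f1315151e1b1d)) (KT.neq (nat_lit 532) [nat_lit 0] (nat_lit 822) [])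
 (KT.alt (dw (nat_lit 0x1523140f0f1116111c15151d)) (KT.neq (nat_lit 532) [nat_lit 0] (nat_lit 822) [])
 (KT.nil (SE.lev (nat_lit 8)) [] [] []))))))
 (KT.nil (SE.lev (nat_lit 6)) [] [] [])))))
 (KT.alt (dw (nat_lit 0x1f0f0f111c17151f1b1b22)) (KT.br (nat_lit 769) (KT.alt (dw (nat_lit 0x0f1d0f171a141d161f231f)) (KT.stp (nat_lit 769) [nat_lit 1] (dw (nat_lit 0x0f1d0f171a141d161f231f)) (KT.br (nat_lit 532) (KT.alt (dw (nat_lit 0x0f1d0f171a141d161f231f)) (KT.neq (nat_lit 532) [nat_lit 0] (nat_lit 822) [])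
 (KT.alt (dw (nat_lit 0x110f23140f1b161b1b2121)) (KT.neq (nat_lit 532) [nat_lit 0] (nat_lit 822) [])
 (KT.alt (dw (nat_lit 0x1c0f14101b1b111f151c1e)) (KT.neq (nat_lit 532) [nat_lit 0] (nat_lit 822) [])
 (KT.nil (SE.lev (nat_lit 8)) [] [] []))))))
 (KT.alt (dw (nat_lit 0x1f0f0f111c17151f1b1b22)) (KT.stp (nat_lit 769) [nat_lit 1] (dw (nat_lit 0x1f0f0f111c17151f1b1b22)) (KT.br (nat_lit 532) (KT.alt (dw (nat_lit 0x1719190f0f1c1f23222322)) (KT.neq (nat_lit 532) [nat_lit 0] (nat_lit 822) [])
 (KT.alt (dw (nat_lit 0x1d1b0f210f211f1117151b1f)) (KT.neq (nat_lit 532) [nat_lit 0] (nat_lit 822) [])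
 (KT.alt (dw (nat_lit 0x1f0f0f111c17151f1b1b22)) (KT.neq (nat_lit 532) [nat_lit 0] (nat_lit 822) [])
 (KT.nil (SE.lev (nat_lit 8)) [] [] []))))))
 (KT.alt (dw (nat_lit 0x1b23101019151f2123)) (KT.stp (nat_lit 769) [nat_lit 1] (dw (nat_lit 0x1e10101411221c1f222223)) (KT.br (nat_lit 532) (KT.alt (dw (nat_lit 0x19101a1015111d15151e2123)) (KT.neq (nat_lit 532) [nat_lit 0] (nat_lit 822) [])
 (KT.alt (dw (nat_lit 0x1e10101411221c1f222223)) (KT.neq (nat_lit 532) [nat_lit 0] (nat_lit 822) [])
 (KT.alt (dw (nat_lit 0x1f11150f0f11131b16231f2322)) (KT.neq (nat_lit 532) [nat_lit 0] (nat_lit 822) [])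
 (KT.nil (SE.lev (nat_lit 8)) [] [] []))))))
 (KT.nil (SE.lev (nat_lit 6)) [] [] [])))))
 (KT.nil (SE.lev (nat_lit 5)) [] [] [])))))
 (KT.nil (SE.lev (nat_lit 3)) [nat_lit 2, nat_lit 3] [] (dn (nat_lit 20) (nat_lit 0x0c8010fb020fb010d801049010ee0200782007810d0810bc020bc010c6c20d9820b442000c2000c10450104c4204c41070c2070c10d9c20d9c100442004410f6820f6810c3c20c3c101fc201fc106c8210502105010bb41)))))))
 (KT.alt (dw (nat_lit 0x0f02)) (KT.stp (nat_lit 0) [nat_lit 0] (dw (nat_lit 0x0f021e1010)) (KT.mem (nat_lit 0) [nat_lit 1] (SE.lev (nat_lit 2))))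
 (KT.nil (SE.lev (nat_lit 0)) [nat_lit 0, nat_lit 1] [dw (nat_lit 0x01), dw (nat_lit 0x03), dw (nat_lit 0x01), dw (nat_lit 0x03), dw (nat_lit 0x01), dw (nat_lit 0x03), dw (nat_lit 0x01), dw (nat_lit 0x03)
, dw (nat_lit 0x01), dw (nat_lit 0x03), dw (nat_lit 0x01), dw (nat_lit 0x03), dw (nat_lit 0x01), dw (nat_lit 0x03), dw (nat_lit 0x01)] (dn (nat_lit 20) (nat_lit 0x1058101d420ea0209302004810f9820b28107d4210d810b6c205342009c20a9010bfc20bfc10e1c10aa0203682039810b5c2085820284109c010e30105b420b301084020f70109f410f18201342013410fd410f7820b881026c10fc8208cc200601051010228100381042020c7820c7810c282031820f54104fc108d810170103a4205ac1020420830101381036c209a4102dc202d8201f0201f010708110b02035c2035c10e9010360208ec20e042103020c54204bc208c82027820ee8104b820864206f420150203ec205a0208502024420804207242109c2044420c10200e4209042046c203dc20504200b020b3420f44208b420f3c20438206e42082020f1c20b20205882082420cc0207e420f0c20308203c020ad420de820f28207ac20aac201ec20d3420888209dc2)))))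
theorem k977 : ktChk (nat_lit 1080) H15.StdO8p3.nets F c957 b963 [] p962 y973 [] [] (nat_lit 0) (nat_lit 0) 0 0 t976 = true := by decide +kernel
theorem l978 (M : PM G Ω 1080 H15.StdO8p3.nets) (hN : Nat.card G = 4952179814400) : Cl M (fun g => Pr M g p962) [] [] (nat_lit 0) 0 :=
  cl_tree (e959 M hN) (x975 M hN) (dd0 _ _ _ _) k977
noncomputable def w979 : Word := [nat_lit 9, nat_lit 32, nat_lit 21, nat_lit 15]
theorem k980 : relK F bs0 [(List.append VO8p3x3.re w979, List.append w979 w960)] = true := by decide +kernel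
theorem k981 : relK F bs0 [(List.append VO8p3x3.rm w979, List.append w979 w961)] = true := by decide +kernel
theorem q982 (M : PM G Ω 1080 H15.StdO8p3.nets) (hN : Nat.card G = 4952179814400) : ¬ IsConj (ev M.gen VO8p3x3.rm) (ev M.gen VO8p3x3.re) :=
  fun h => nconj_of (l978 M hN) (((conj_of_rel' (rels_base (base0 M hN) k981)).symm.trans h).trans (conj_of_rel' (rels_base (base0 M hN) k980)))
noncomputable def w983 : Word := [nat_lit 21, nat_lit 26, nat_lit 24, nat_lit 24, nat_lit 16, nat_lit 20, nat_lit 24, nat_lit 0, nat_lit 22, nat_lit 6, nat_lit 1]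
theorem k984 : relK F bs0 [(List.append (invW VO8p3x3.re) w983, List.append w983 VO8p3x3.re)] = true := by decide +kernel
theorem k985 : orbChk (nat_lit 1080) H15.StdO8p3.nets F [nat_lit 1, nat_lit 0] (sel [w19, w20, w21] [nat_lit 0, nat_lit 1, nat_lit 2]) [dw (nat_lit 0x01), dw (nat_lit 0x03), dw (nat_lit 0x01), dw (nat_lit 0x03), dw (nat_lit 0x05), dw (nat_lit 0x01), dw (nat_lit 0x03), dw (nat_lit 0x01)
, dw (nat_lit 0x03)] (dn (nat_lit 20) (nat_lit 0x00ec102a81108430ad81086c107f8202d41052c10da0101341012c108b41030030c641038c10d601098c3100c2043021090302a010e6010e30307a8209b81043820c58108c820ea02060c207bc30d4c310c820a8420d40103f41039c30a7030a7020408204a0204a0100582005810afc20afc10b9c10e0820e0810e28210001045820458105a010fc4204b010de83088c30bc830f5020f50107742059820598108f4208f4107e81055c3055c1078c30428110303083430af41095030db830b7810014100543005410930305c030cfc302f830830308301015030150105cc30e983108010de430de4106e430ed010d3010f0830bb030ad430ad410028110043011830d8831008306f43092c30ff430eb030658307b030bb830f7c30df0302143061030dcc30ce0309843059c3105430cb8306c0302c430a303))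 (bit (nat_lit 974)) s930 = true := by decide +kernel
theorem o986 (M : PM G Ω 1080 H15.StdO8p3.nets) (hN : Nat.card G = 4952179814400) : Orb M ⊤ [nat_lit 1, nat_lit 0] (nat_lit 974) s930 :=
  (Orb.ext le_top (orb_bit ⊤ [nat_lit 1, nat_lit 0] (b := (nat_lit 974)) rfl) k985)
noncomputable def s987 : Nat := (nat_lit 0x10020000000104000100200010000000000000000000000200001040200002004000084020000100000000000010100000000200008000004000000000000002080000000000000000010000000000040000000000000000000200000000000000000600000000000000000000000800000001000000000000000000100000400000000068000)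
noncomputable def w988 : Word := [nat_lit 22, nat_lit 25, nat_lit 28, nat_lit 20]
noncomputable def w989 : Word := [nat_lit 15, nat_lit 27, nat_lit 16, nat_lit 26, nat_lit 14]
theorem k990 : orbChk (nat_lit 1080) H15.StdO8p3.nets F [nat_lit 974, nat_lit 1, nat_lit 0] (sel [w988, w274, w989] [nat_lit 0, nat_lit 1, nat_lit 2]) [] (dn (nat_lit 20) (nat_lit 0x004810a7430a2c108d430fb030d802059430594205941047410bf010cf4210103101021010107902079010c7c1003c3003c20c681014030ff820ff810f4030f40200e8300e8206d8306d820044300442004410d4420d441)) (bit (nat_lit 849)) s987 = true := by decide +kernel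
theorem o991 (M : PM G Ω 1080 H15.StdO8p3.nets) (hN : Nat.card G = 4952179814400) : Orb M ⊤ [nat_lit 974, nat_lit 1, nat_lit 0] (nat_lit 849) s987 :=
  (Orb.ext le_top (orb_bit ⊤ [nat_lit 974, nat_lit 1, nat_lit 0] (b := (nat_lit 849)) rfl) k990)
noncomputable def s992 : Nat := (nat_lit 0x10020000000104000000000010000000000000000000000000000040000000000000080020000100000000000000000000000200008000000000000000000002080000000000000000010000000000000000000000000000000000000000000000000400000000000000000000000000000001000000000000000000000000400000000068000)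
noncomputable def w993 : Word := [nat_lit 18, nat_lit 33, nat_lit 22, nat_lit 32, nat_lit 19]
noncomputable def w994 : Word := [nat_lit 19, nat_lit 24, nat_lit 29, nat_lit 21, nat_lit 22, nat_lit 18]
theorem k995 : orbChk (nat_lit 1080) H15.StdO8p3.nets F [nat_lit 849, nat_lit 974, nat_lit 1, nat_lit 0] (sel [w989, w993, w994] [nat_lit 0, nat_lit 1, nat_lit 2]) [] (dn (nat_lit 20) (nat_lit 0x0790110943004820ff830ff81101031010208d4308d410c4410c7c30c7c20bf030bf0200e8200e81003c10d6830d682)) (bit (nat_lit 858)) s992 = true := by decide +kernel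
theorem o996 (M : PM G Ω 1080 H15.StdO8p3.nets) (hN : Nat.card G = 4952179814400) : Orb M ⊤ [nat_lit 849, nat_lit 974, nat_lit 1, nat_lit 0] (nat_lit 858) s992 :=
  (Orb.ext le_top (orb_bit ⊤ [nat_lit 849, nat_lit 974, nat_lit 1, nat_lit 0] (b := (nat_lit 858)) rfl) k995)
noncomputable def s997 : Nat := (nat_lit 0x4000000000000000000000000000004000000000000000000000000000000000000000000000000000000000000000000000000000000000000000000000000000000000000000000000000000000000000000000000000000000000000000)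
noncomputable def w998 : Word := [nat_lit 16, nat_lit 25, nat_lit 20, nat_lit 27, nat_lit 25, nat_lit 16, nat_lit 33]
theorem k999 : orbChk (nat_lit 1080) H15.StdO8p3.nets F [nat_lit 858, nat_lit 849, nat_lit 974, nat_lit 1, nat_lit 0] (sel [w998] [nat_lit 0]) [] (dn (nat_lit 20) (nat_lit 0x0bd81)) (bit (nat_lit 758)) s997 = true := by decide +kernel
theorem o1000 (M : PM G Ω 1080 H15.StdO8p3.nets) (hN : Nat.card G = 4952179814400) : Orb M ⊤ [nat_lit 858, nat_lit 849, nat_lit 974, nat_lit 1, nat_lit 0] (nat_lit 758) s997 :=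
  (Orb.ext le_top (orb_bit ⊤ [nat_lit 858, nat_lit 849, nat_lit 974, nat_lit 1, nat_lit 0] (b := (nat_lit 758)) rfl) k999)
noncomputable def s1001 : Nat := (nat_lit 0x4000000000000000000000000000000000000000000000000000000000000000000000000000000000000000000000000000000000000000000200000000000000000200000000000000000000000000000000000000000000000000000000000000000000000)
noncomputable def w1002 : Word := [nat_lit 28, nat_lit 33, nat_lit 19, nat_lit 29, nat_lit 32, nat_lit 18]
theorem k1003 : orbChk (nat_lit 1080) H15.StdO8p3.nets F [nat_lit 758, nat_lit 858, nat_lit 849, nat_lit 974, nat_lit 1, nat_lit 0] (sel [w1002] [nat_lit 0]) [] (dn (nat_lit 20) (nat_lit 0x059410cc81)) (bit (nat_lit 818)) s1001 = true := by decide +kernel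
theorem o1004 (M : PM G Ω 1080 H15.StdO8p3.nets) (hN : Nat.card G = 4952179814400) : Orb M ⊤ [nat_lit 758, nat_lit 858, nat_lit 849, nat_lit 974, nat_lit 1, nat_lit 0] (nat_lit 818) s1001 :=
  (Orb.ext le_top (orb_bit ⊤ [nat_lit 758, nat_lit 858, nat_lit 849, nat_lit 974, nat_lit 1, nat_lit 0] (b := (nat_lit 818)) rfl) k1003)
noncomputable def s1005 : Nat := (nat_lit 0x200000000000000000200000000000000000000000000000000000000000000000000000000000000000000000)
noncomputable def w1006 : Word := [nat_lit 15, nat_lit 21, nat_lit 29, nat_lit 16, nat_lit 28, nat_lit 20, nat_lit 14]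
theorem k1007 : orbChk (nat_lit 1080) H15.StdO8p3.nets F [nat_lit 818, nat_lit 758, nat_lit 858, nat_lit 849, nat_lit 974, nat_lit 1, nat_lit 0] (sel [w1006] [nat_lit 0]) [] (dn (nat_lit 20) (nat_lit 0x04741)) (bit (nat_lit 285)) s1005 = true := by decide +kernel
theorem o1008 (M : PM G Ω 1080 H15.StdO8p3.nets) (hN : Nat.card G = 4952179814400) : Orb M ⊤ [nat_lit 818, nat_lit 758, nat_lit 858, nat_lit 849, nat_lit 974, nat_lit 1, nat_lit 0] (nat_lit 285) s1005 :=
  (Orb.ext le_top (orb_bit ⊤ [nat_lit 818, nat_lit 758, nat_lit 858, nat_lit 849, nat_lit 974, nat_lit 1, nat_lit 0] (b := (nat_lit 285)) rfl) k1007)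
noncomputable def s1009 : Nat := (nat_lit 0x4000000000000000000000000000000000000000000000000000000000000000000000004000000000000000000000000000000000000000000000000000000000800000000000000000000000000000000000000000000000000000000000000000000000000000000000000000000000000000000)
noncomputable def w1010 : Word := [nat_lit 15, nat_lit 34, nat_lit 19, nat_lit 25, nat_lit 27, nat_lit 21, nat_lit 24, nat_lit 14]
theorem k1011 : orbChk (nat_lit 1080) H15.StdO8p3.nets F [nat_lit 285, nat_lit 818, nat_lit 758, nat_lit 858, nat_lit 849, nat_lit 974, nat_lit 1, nat_lit 0] (sel [w1010] [nat_lit 0]) [] (dn (nat_lit 20) (nat_lit 0x0ea81068c1)) (bit (nat_lit 419)) s1009 = true := by decide +kernel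
theorem o1012 (M : PM G Ω 1080 H15.StdO8p3.nets) (hN : Nat.card G = 4952179814400) : Orb M ⊤ [nat_lit 285, nat_lit 818, nat_lit 758, nat_lit 858, nat_lit 849, nat_lit 974, nat_lit 1, nat_lit 0] (nat_lit 419) s1009 :=
  (Orb.ext le_top (orb_bit ⊤ [nat_lit 285, nat_lit 818, nat_lit 758, nat_lit 858, nat_lit 849, nat_lit 974, nat_lit 1, nat_lit 0] (b := (nat_lit 419)) rfl) k1011)
noncomputable def c1013 : Chn := [((nat_lit 0), (full (nat_lit 1080))), ((nat_lit 1), L.KO8p3.s32), ((nat_lit 974), s930), ((nat_lit 849), s987), ((nat_lit 858), s992), ((nat_lit 758), s997), ((nat_lit 818), s1001), ((nat_lit 285), s1005), ((nat_lit 419), s1009)]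
theorem k1014 : Nat.ble 4952179814400 (cval (nat_lit 1080) c1013) = true := by decide +kernel
theorem e1015 (M : PM G Ω 1080 H15.StdO8p3.nets) (hN : Nat.card G = 4952179814400) : EC M ⊤ [] c1013 :=
  ec_top (c := c1013) ⟨(L.KO8p3.o4 M hN), ⟨(L.KO8p3.o34 M hN), ⟨(o986 M hN), ⟨(o991 M hN), ⟨(o996 M hN), ⟨(o1000 M hN), ⟨(o1004 M hN), ⟨(o1008 M hN), ⟨(o1012 M hN), trivial⟩⟩⟩⟩⟩⟩⟩⟩⟩ hN k1014
noncomputable def w1016 : Word := [nat_lit 0, nat_lit 29, nat_lit 21, nat_lit 21, nat_lit 18, nat_lit 16, nat_lit 22, nat_lit 15, nat_lit 18, nat_lit 20, nat_lit 6]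
noncomputable def w1017 : Word := [nat_lit 14, nat_lit 26, nat_lit 26, nat_lit 34, nat_lit 24, nat_lit 18, nat_lit 14, nat_lit 21, nat_lit 15, nat_lit 33, nat_lit 4]
noncomputable def p1018 : Prs := [(w1017, w1016)]
noncomputable def b1019 : List (Nat × Nat) := []
noncomputable def w1020 : Word := [nat_lit 32, nat_lit 29, nat_lit 21, nat_lit 24, nat_lit 16, nat_lit 25, nat_lit 30, nat_lit 14, nat_lit 22, nat_lit 26, nat_lit 13, nat_lit 25]
noncomputable def w1021 : Word := [nat_lit 2, nat_lit 34, nat_lit 32, nat_lit 26, nat_lit 24, nat_lit 21, nat_lit 13, nat_lit 19, nat_lit 5, nat_lit 18]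
noncomputable def y1022 : List Word := [w1020, w1021]
theorem k1023 : relK F bs0 (commR (snds p1018) y1022) = true := by decide +kernel
theorem x1024 (M : PM G Ω 1080 H15.StdO8p3.nets) (hN : Nat.card G = 4952179814400) : Cx M (fun g => Pr M g p1018) b1019 [] p1018 y1022 :=
  cx_conj (fun _ _ => fa_nil) (rels_base (base0 M hN) k1023)
noncomputable def t1025 : KT := KT.alt (dw (nat_lit 0x09)) (KT.stp (nat_lit 0) [nat_lit 0] (dw (nat_lit 0x09110f)) (KT.mem (nat_lit 0) [nat_lit 1] (SE.lev (nat_lit 2))))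
 (KT.nil (SE.lev (nat_lit 0)) [nat_lit 0, nat_lit 1] [dw (nat_lit 0x03), dw (nat_lit 0x01), dw (nat_lit 0x03), dw (nat_lit 0x01), dw (nat_lit 0x03), dw (nat_lit 0x01), dw (nat_lit 0x03), dw (nat_lit 0x01)
, dw (nat_lit 0x03), dw (nat_lit 0x01), dw (nat_lit 0x03), dw (nat_lit 0x01), dw (nat_lit 0x03), dw (nat_lit 0x01), dw (nat_lit 0x03)] (dn (nat_lit 20) (nat_lit 0x0e9820aac10f98103e010b8c10d2820664104241038c107b4109b810938210a010ec4106fc2035010bf01077c10ff410ff420cc810cc82106c1097420f4020fb810fb820be4107381016c10ca8203c4102c0102c02031410ff8206b02077010770210d8101ec10dcc10e90106f410b4020594106582057410e7820f3c10f3c20ac01051c1086820f9010cb810d7020bcc20bb410bb4200b0204d02099420a30203181018010ca410c5c10f181035c10fd810d0810c34107e0105ac10ea81066810aa4106481030010f8010ad810d7c1098c10fac10a8c10a3c10c7410e141102810a2c10dc410bbc10244104501088c10a7010e04110481084c1091810038102d810e6810908104fc1067810f34101381064c100a0101b41107810d6410dc010ce01)))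
theorem k1026 : ktChk (nat_lit 1080) H15.StdO8p3.nets F c1013 b1019 [] p1018 y1022 [] [] (nat_lit 0) (nat_lit 0) 0 0 t1025 = true := by decide +kernel
theorem l1027 (M : PM G Ω 1080 H15.StdO8p3.nets) (hN : Nat.card G = 4952179814400) : Cl M (fun g => Pr M g p1018) [] [] (nat_lit 0) 0 :=
  cl_tree (e1015 M hN) (x1024 M hN) (dd0 _ _ _ _) k1026
noncomputable def w1028 : Word := [nat_lit 0, nat_lit 7, nat_lit 0, nat_lit 27, nat_lit 14, nat_lit 14]
theorem k1029 : relK F bs0 [(List.append VO8p3x3.rf w1028, List.append w1028 w1016)] = true := by decide +kernel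
theorem k1030 : relK F bs0 [(List.append VO8p3x3.rm w1028, List.append w1028 w1017)] = true := by decide +kernel
theorem q1031 (M : PM G Ω 1080 H15.StdO8p3.nets) (hN : Nat.card G = 4952179814400) : ¬ IsConj (ev M.gen VO8p3x3.rm) (ev M.gen VO8p3x3.rf) :=
  fun h => nconj_of (l1027 M hN) (((conj_of_rel' (rels_base (base0 M hN) k1030)).symm.trans h).trans (conj_of_rel' (rels_base (base0 M hN) k1029)))
noncomputable def w1032 : Word := [nat_lit 5, nat_lit 22, nat_lit 19, nat_lit 14, nat_lit 25, nat_lit 34, nat_lit 5, nat_lit 18, nat_lit 27, nat_lit 2, nat_lit 25]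
theorem k1033 : relK F bs0 [(List.append (invW VO8p3x3.rf) w1032, List.append w1032 VO8p3x3.rf)] = true := by decide +kernel
theorem k1034 : orbChk (nat_lit 1080) H15.StdO8p3.nets F [nat_lit 1, nat_lit 0] (sel [w19, w20, w21] [nat_lit 0, nat_lit 1, nat_lit 2]) [dw (nat_lit 0x01), dw (nat_lit 0x03), dw (nat_lit 0x01), dw (nat_lit 0x03), dw (nat_lit 0x05), dw (nat_lit 0x01), dw (nat_lit 0x03), dw (nat_lit 0x01)
, dw (nat_lit 0x05), dw (nat_lit 0x03)] (dn (nat_lit 20) (nat_lit 0x00ec1086c102a81100c2013410b9c10ad830ad8107f8307f8208b41038c1039c3098c307bc3055c30e303011830fb420c6410a702060c3060c2060c10d6030d6010dcc1088c301d4301d4104302054020e2820df030df010fc830c5c308f4208f410cb830cb810b483078c30834308341103030db8310081108430f5010c5810fc010620103f410bc81059810a84104a0102d4109b810a081005811000100881045810afc10ed010ad4107ec104b01108010f081)) (bit (nat_lit 24)) s930 = true := by decide +kernel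
theorem o1035 (M : PM G Ω 1080 H15.StdO8p3.nets) (hN : Nat.card G = 4952179814400) : Orb M ⊤ [nat_lit 1, nat_lit 0] (nat_lit 24) s930 :=
  (Orb.ext le_top (orb_bit ⊤ [nat_lit 1, nat_lit 0] (b := (nat_lit 24)) rfl) k1034)
noncomputable def s1036 : Nat := (nat_lit 0x414100000200104000000000280000000400000000000000000002201000000800081000020000800100000000000000000000000001080004040000002000000000000000000000000010000200000000000000000000001000200000000000020000400000000000000000000000000080004000000000000000000100000000800040080000)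
noncomputable def w1037 : Word := [nat_lit 14, nat_lit 21, nat_lit 29, nat_lit 29, nat_lit 21, nat_lit 15]
theorem k1038 : orbChk (nat_lit 1080) H15.StdO8p3.nets F [nat_lit 24, nat_lit 1, nat_lit 0] (sel [w988, w722, w1037] [nat_lit 0, nat_lit 1, nat_lit 2]) [] (dn (nat_lit 20) (nat_lit 0x0d741079010a0c10c90305d02047810bfc20bfc104c430d8430d8410ec820ec8100bc300bc200bc10f4c1101020d5010bc020bc010cec30ff830ff8209a820cac30cac20cac109c8309c82027820278110a0310a0210a01)) (bit (nat_lit 1064)) s1036 = true := by decide +kernel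
theorem o1039 (M : PM G Ω 1080 H15.StdO8p3.nets) (hN : Nat.card G = 4952179814400) : Orb M ⊤ [nat_lit 24, nat_lit 1, nat_lit 0] (nat_lit 1064) s1036 :=
  (Orb.ext le_top (orb_bit ⊤ [nat_lit 24, nat_lit 1, nat_lit 0] (b := (nat_lit 1064)) rfl) k1038)
noncomputable def s1040 : Nat := (nat_lit 0x4000000000100000000000200000000000000000000000000000201000000800081000020000000100000000000000000000000001000004040000000000000000000000000000000010000000000000000000000000001000000000000000000000400000000000000000000000000000004000000000000000000100000000000040080000)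
noncomputable def w1041 : Word := [nat_lit 25, nat_lit 20, nat_lit 26, nat_lit 28, nat_lit 15, nat_lit 24]
noncomputable def w1042 : Word := [nat_lit 29, nat_lit 21, nat_lit 30, nat_lit 28, nat_lit 18, nat_lit 22]
noncomputable def w1043 : Word := [nat_lit 34, nat_lit 15, nat_lit 30, nat_lit 34, nat_lit 30, nat_lit 14]
theorem k1044 : orbChk (nat_lit 1080) H15.StdO8p3.nets F [nat_lit 1064, nat_lit 24, nat_lit 1, nat_lit 0] (sel [w1041, w1042, w1043] [nat_lit 0, nat_lit 1, nat_lit 2]) [] (dn (nat_lit 20) (nat_lit 0x04783047821010109c8105d020cec30cec210b810c903007810cac20cac10a2030a2020d5030d502004c3004c2004c1)) (bit (nat_lit 19)) s1040 = true := by decide +kernel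
theorem o1045 (M : PM G Ω 1080 H15.StdO8p3.nets) (hN : Nat.card G = 4952179814400) : Orb M ⊤ [nat_lit 1064, nat_lit 24, nat_lit 1, nat_lit 0] (nat_lit 19) s1040 :=
  (Orb.ext le_top (orb_bit ⊤ [nat_lit 1064, nat_lit 24, nat_lit 1, nat_lit 0] (b := (nat_lit 19)) rfl) k1044)
noncomputable def s1046 : Nat := (nat_lit 0x10000000000000000000000000000000000000000000000000000000000000000000000000000000000000000000000000000000000000000000000000000000000000000000000000000000000000000000000000000000000020000000000000)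
noncomputable def w1047 : Word := [nat_lit 20, nat_lit 27, nat_lit 15, nat_lit 16, nat_lit 28, nat_lit 27, nat_lit 15, nat_lit 16]
theorem k1048 : orbChk (nat_lit 1080) H15.StdO8p3.nets F [nat_lit 19, nat_lit 1064, nat_lit 24, nat_lit 1, nat_lit 0] (sel [w1047] [nat_lit 0]) [] (dn (nat_lit 20) (nat_lit 0x0c101)) (bit (nat_lit 772)) s1046 = true := by decide +kernel
theorem o1049 (M : PM G Ω 1080 H15.StdO8p3.nets) (hN : Nat.card G = 4952179814400) : Orb M ⊤ [nat_lit 19, nat_lit 1064, nat_lit 24, nat_lit 1, nat_lit 0] (nat_lit 772) s1046 :=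
  (Orb.ext le_top (orb_bit ⊤ [nat_lit 19, nat_lit 1064, nat_lit 24, nat_lit 1, nat_lit 0] (b := (nat_lit 772)) rfl) k1048)
noncomputable def s1050 : Nat := (nat_lit 0x10000000000000000000000000000000000000000000000000002000000000000000000000000000000000000000000000000000000000000000000000000000000000000000000000000000000000000000000000000000000000000000000000000000000000000000000000000000000000000000000000000000000000000800000000000)
noncomputable def w1051 : Word := [nat_lit 15, nat_lit 21, nat_lit 15, nat_lit 29, nat_lit 29, nat_lit 14, nat_lit 20, nat_lit 14]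
theorem k1052 : orbChk (nat_lit 1080) H15.StdO8p3.nets F [nat_lit 772, nat_lit 19, nat_lit 1064, nat_lit 24, nat_lit 1, nat_lit 0] (sel [w1051] [nat_lit 0]) [] (dn (nat_lit 20) (nat_lit 0x00bc10d841)) (bit (nat_lit 865)) s1050 = true := by decide +kernel
theorem o1053 (M : PM G Ω 1080 H15.StdO8p3.nets) (hN : Nat.card G = 4952179814400) : Orb M ⊤ [nat_lit 772, nat_lit 19, nat_lit 1064, nat_lit 24, nat_lit 1, nat_lit 0] (nat_lit 865) s1050 :=
  (Orb.ext le_top (orb_bit ⊤ [nat_lit 772, nat_lit 19, nat_lit 1064, nat_lit 24, nat_lit 1, nat_lit 0] (b := (nat_lit 865)) rfl) k1052)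
noncomputable def s1054 : Nat := (nat_lit 0x10000000000000000000000000000000000000000000000000000000000000000000000000000000000000000000000000000000000000000000000000000000000000000000000000000000000000000000000000000000000000000000000000000000000000000000000000000000000000000000000000000000000000000800000000000)
noncomputable def w1055 : Word := [nat_lit 21, nat_lit 14, nat_lit 29, nat_lit 33, nat_lit 30, nat_lit 27, nat_lit 15, nat_lit 20]
theorem k1056 : orbChk (nat_lit 1080) H15.StdO8p3.nets F [nat_lit 865, nat_lit 772, nat_lit 19, nat_lit 1064, nat_lit 24, nat_lit 1, nat_lit 0] (sel [w1055] [nat_lit 0]) [] (dn (nat_lit 20) (nat_lit 0x00bc1)) (bit (nat_lit 47)) s1054 = true := by decide +kernel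
theorem o1057 (M : PM G Ω 1080 H15.StdO8p3.nets) (hN : Nat.card G = 4952179814400) : Orb M ⊤ [nat_lit 865, nat_lit 772, nat_lit 19, nat_lit 1064, nat_lit 24, nat_lit 1, nat_lit 0] (nat_lit 47) s1054 :=
  (Orb.ext le_top (orb_bit ⊤ [nat_lit 865, nat_lit 772, nat_lit 19, nat_lit 1064, nat_lit 24, nat_lit 1, nat_lit 0] (b := (nat_lit 47)) rfl) k1056)
noncomputable def s1058 : Nat := (nat_lit 0x1000000000000000000000800000000000000000000000000000000000000000000000000000000000000000000000000000000000000000200000000000000000000000000000000000000000000000000000000000000000000000000000000000000000000000000000000000000000000000000000000)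
noncomputable def w1059 : Word := [nat_lit 15, nat_lit 18, nat_lit 33, nat_lit 26, nat_lit 24, nat_lit 24, nat_lit 19, nat_lit 14]
theorem k1060 : orbChk (nat_lit 1080) H15.StdO8p3.nets F [nat_lit 47, nat_lit 865, nat_lit 772, nat_lit 19, nat_lit 1064, nat_lit 24, nat_lit 1, nat_lit 0] (sel [w1059] [nat_lit 0]) [] (dn (nat_lit 20) (nat_lit 0x0f0010dac1)) (bit (nat_lit 875)) s1058 = true := by decide +kernel
theorem o1061 (M : PM G Ω 1080 H15.StdO8p3.nets) (hN : Nat.card G = 4952179814400) : Orb M ⊤ [nat_lit 47, nat_lit 865, nat_lit 772, nat_lit 19, nat_lit 1064, nat_lit 24, nat_lit 1, nat_lit 0] (nat_lit 875) s1058 :=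
  (Orb.ext le_top (orb_bit ⊤ [nat_lit 47, nat_lit 865, nat_lit 772, nat_lit 19, nat_lit 1064, nat_lit 24, nat_lit 1, nat_lit 0] (b := (nat_lit 875)) rfl) k1060)
noncomputable def c1062 : Chn := [((nat_lit 0), (full (nat_lit 1080))), ((nat_lit 1), L.KO8p3.s32), ((nat_lit 24), s930), ((nat_lit 1064), s1036), ((nat_lit 19), s1040), ((nat_lit 772), s1046), ((nat_lit 865), s1050), ((nat_lit 47), s1054), ((nat_lit 875), s1058)]
theorem k1063 : Nat.ble 4952179814400 (cval (nat_lit 1080) c1062) = true := by decide +kernel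
theorem e1064 (M : PM G Ω 1080 H15.StdO8p3.nets) (hN : Nat.card G = 4952179814400) : EC M ⊤ [] c1062 :=
  ec_top (c := c1062) ⟨(L.KO8p3.o4 M hN), ⟨(L.KO8p3.o34 M hN), ⟨(o1035 M hN), ⟨(o1039 M hN), ⟨(o1045 M hN), ⟨(o1049 M hN), ⟨(o1053 M hN), ⟨(o1057 M hN), ⟨(o1061 M hN), trivial⟩⟩⟩⟩⟩⟩⟩⟩⟩ hN k1063
noncomputable def w1065 : Word := [nat_lit 22, nat_lit 25, nat_lit 18, nat_lit 14, nat_lit 19, nat_lit 21, nat_lit 1, nat_lit 5, nat_lit 29, nat_lit 13]
noncomputable def w1066 : Word := [nat_lit 5, nat_lit 27, nat_lit 28, nat_lit 22, nat_lit 18, nat_lit 15, nat_lit 16, nat_lit 22, nat_lit 34, nat_lit 15]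
noncomputable def p1067 : Prs := [(w1066, w1065)]
noncomputable def b1068 : List (Nat × Nat) := []
noncomputable def w1069 : Word := [nat_lit 1, nat_lit 32, nat_lit 30, nat_lit 24, nat_lit 16, nat_lit 24, nat_lit 14, nat_lit 30, nat_lit 32, nat_lit 13, nat_lit 27, nat_lit 10]
noncomputable def w1070 : Word := [nat_lit 30, nat_lit 29, nat_lit 20, nat_lit 28, nat_lit 18, nat_lit 21, nat_lit 14, nat_lit 27, nat_lit 8, nat_lit 26, nat_lit 5, nat_lit 22, nat_lit 27]
noncomputable def y1071 : List Word := [w1069, w1070]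
theorem k1072 : relK F bs0 (commR (snds p1067) y1071) = true := by decide +kernel
theorem x1073 (M : PM G Ω 1080 H15.StdO8p3.nets) (hN : Nat.card G = 4952179814400) : Cx M (fun g => Pr M g p1067) b1068 [] p1067 y1071 :=
  cx_conj (fun _ _ => fa_nil) (rels_base (base0 M hN) k1072)
noncomputable def t1074 : KT := KT.alt [] (KT.stp (nat_lit 0) [nat_lit 1] (dw (nat_lit 0x171d17)) (KT.mem (nat_lit 0) [nat_lit 0] (SE.lev (nat_lit 2))))
 (KT.nil (SE.lev (nat_lit 0)) [nat_lit 0, nat_lit 1] [dw (nat_lit 0x01), dw (nat_lit 0x03), dw (nat_lit 0x01), dw (nat_lit 0x03), dw (nat_lit 0x01), dw (nat_lit 0x03), dw (nat_lit 0x01), dw (nat_lit 0x03)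
, dw (nat_lit 0x01), dw (nat_lit 0x03), dw (nat_lit 0x01), dw (nat_lit 0x03), dw (nat_lit 0x01), dw (nat_lit 0x03), dw (nat_lit 0x01)] (dn (nat_lit 20) (nat_lit 0x0d8020cc41007020e54108c420f34201382099410484100281034820774107e0204b82039c108701090c2090c10f601052810b9410fd410dc8106dc1073810f6810ff820ff810ff4207cc209d82069c1083c1018410fe0205dc10c6010e8020ef0101a420f2420ba42036c2051c2085c2085c10c1020c1010bb420b40202082039810d2c20b5020f801032c200982009810b48205682040810810208101075020b901016420ae8106fc20da8103881071c2071c104e8204e81024c109682096810bfc105f0110342101c20f4c210b820a202034c20c18205a020acc20248208bc20ed82013c208c8201d42008c2053020dd4204dc2042820f282109020be820dac20a742105c209f420dbc2016c2088820fb020b7c2054c20c68204302056020494201802002020e3020954206b8206ac201bc203ac20c2c20a5820a28206f820d48205a8204c420974207d020ea02)))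
theorem k1075 : ktChk (nat_lit 1080) H15.StdO8p3.nets F c1062 b1068 [] p1067 y1071 [] [] (nat_lit 0) (nat_lit 0) 0 0 t1074 = true := by decide +kernel
theorem l1076 (M : PM G Ω 1080 H15.StdO8p3.nets) (hN : Nat.card G = 4952179814400) : Cl M (fun g => Pr M g p1067) [] [] (nat_lit 0) 0 :=
  cl_tree (e1064 M hN) (x1073 M hN) (dd0 _ _ _ _) k1075
noncomputable def w1077 : Word := [nat_lit 5, nat_lit 0, nat_lit 35, nat_lit 24, nat_lit 15]
theorem k1078 : relK F bs0 [(List.append VO8p3x3.rh w1077, List.append w1077 w1065)] = true := by decide +kernel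
theorem k1079 : relK F bs0 [(List.append VO8p3x3.rm w1077, List.append w1077 w1066)] = true := by decide +kernel
theorem q1080 (M : PM G Ω 1080 H15.StdO8p3.nets) (hN : Nat.card G = 4952179814400) : ¬ IsConj (ev M.gen VO8p3x3.rm) (ev M.gen VO8p3x3.rh) :=
  fun h => nconj_of (l1076 M hN) (((conj_of_rel' (rels_base (base0 M hN) k1079)).symm.trans h).trans (conj_of_rel' (rels_base (base0 M hN) k1078)))
noncomputable def w1081 : Word := [nat_lit 29, nat_lit 20, nat_lit 20, nat_lit 27, nat_lit 14, nat_lit 18, nat_lit 28, nat_lit 22, nat_lit 29]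
theorem k1082 : relK F bs0 [(List.append (invW VO8p3x3.rh) w1081, List.append w1081 VO8p3x3.rh)] = true := by decide +kernel
theorem k1083 : orbChk (nat_lit 1080) H15.StdO8p3.nets F [nat_lit 1, nat_lit 0] (sel [w19, w20, w21] [nat_lit 0, nat_lit 1, nat_lit 2]) [dw (nat_lit 0x01), dw (nat_lit 0x03), dw (nat_lit 0x01), dw (nat_lit 0x05), dw (nat_lit 0x03), dw (nat_lit 0x01), dw (nat_lit 0x03), dw (nat_lit 0x01)
, dw (nat_lit 0x05), dw (nat_lit 0x01)] (dn (nat_lit 20) (nat_lit 0x011410fc82108c1107820b8820d5820d5810f0810edc20edc10a842078c30c1c10408307f410494100581076c1014c302c430bc82012c1056c2043820438106883077430774202dc30e5c3001c2001c1052c3052c2052c110382086c1097c3097c10d5c207e020ad42100420bb820610206f420bc4202a820de82013420cb820e7c20f38207f820b482100c2008820c5c20990209fc2)) (bit (nat_lit 801)) s930 = true := by decide +kernel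
theorem o1084 (M : PM G Ω 1080 H15.StdO8p3.nets) (hN : Nat.card G = 4952179814400) : Orb M ⊤ [nat_lit 1, nat_lit 0] (nat_lit 801) s930 :=
  (Orb.ext le_top (orb_bit ⊤ [nat_lit 1, nat_lit 0] (b := (nat_lit 801)) rfl) k1083)
noncomputable def s1085 : Nat := (nat_lit 0x100200000000000000000040000000a000a9000020002004000004000002000100000000012100000400000000000005040400000000000200000000000000000100000000010040000000000000000000200000000000400000200000000000000000000000800080000000000000000000000100000000800040080000)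
noncomputable def w1086 : Word := [nat_lit 27, nat_lit 28, nat_lit 34]
noncomputable def w1087 : Word := [nat_lit 26, nat_lit 25, nat_lit 28, nat_lit 22]
theorem k1088 : orbChk (nat_lit 1080) H15.StdO8p3.nets F [nat_lit 801, nat_lit 1, nat_lit 0] (sel [w1086, w1087, w265] [nat_lit 0, nat_lit 1, nat_lit 2]) [] (dn (nat_lit 20) (nat_lit 0x047420ddc3059410c041070020b1430d80300783007820078109c830bc030bc0104d810d9410aa830aa810988200bc1004c2004c10b0020c6810fb030fb020d3420d34109a8309a810cc830cc820cc810cf430cf420cf41)) (bit (nat_lit 829)) s1085 = true := by decide +kernel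
theorem o1089 (M : PM G Ω 1080 H15.StdO8p3.nets) (hN : Nat.card G = 4952179814400) : Orb M ⊤ [nat_lit 801, nat_lit 1, nat_lit 0] (nat_lit 829) s1085 :=
  (Orb.ext le_top (orb_bit ⊤ [nat_lit 801, nat_lit 1, nat_lit 0] (b := (nat_lit 829)) rfl) k1088)
noncomputable def s1090 : Nat := (nat_lit 0x100000000000000000000000000000a00028000020000004000004000002000100000000000000000000000000000004040400000000000200000000000000000000000000010040000000000000000000000000000000000000200000000000000000000000000080000000000000000000000100000000000040000000)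
noncomputable def w1091 : Word := [nat_lit 15, nat_lit 29, nat_lit 16, nat_lit 28, nat_lit 14]
noncomputable def w1092 : Word := [nat_lit 25, nat_lit 15, nat_lit 19, nat_lit 24, nat_lit 18, nat_lit 14]
theorem k1093 : orbChk (nat_lit 1080) H15.StdO8p3.nets F [nat_lit 829, nat_lit 801, nat_lit 1, nat_lit 0] (sel [w1091, w1092] [nat_lit 0, nat_lit 1]) [] (dn (nat_lit 20) (nat_lit 0x0dd420dd410d342070020d8c20d8c104742047410140208c4208c4109c820fb020fb0109882098810ddc20c0420c041)) (bit (nat_lit 769)) s1090 = true := by decide +kernel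
theorem o1094 (M : PM G Ω 1080 H15.StdO8p3.nets) (hN : Nat.card G = 4952179814400) : Orb M ⊤ [nat_lit 829, nat_lit 801, nat_lit 1, nat_lit 0] (nat_lit 769) s1090 :=
  (Orb.ext le_top (orb_bit ⊤ [nat_lit 829, nat_lit 801, nat_lit 1, nat_lit 0] (b := (nat_lit 769)) rfl) k1093)
noncomputable def s1095 : Nat := (nat_lit 0x40000000000000000000000000000000000000000000000000000000000000000000000000000000000000000000000000000000000000000000000000000000000000000000000000010000000000000000000000000000000000000000)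
noncomputable def w1096 : Word := [nat_lit 14, nat_lit 18, nat_lit 15, nat_lit 19, nat_lit 26, nat_lit 28, nat_lit 25]
theorem k1097 : orbChk (nat_lit 1080) H15.StdO8p3.nets F [nat_lit 769, nat_lit 829, nat_lit 801, nat_lit 1, nat_lit 0] (sel [w1096] [nat_lit 0]) [] (dn (nat_lit 20) (nat_lit 0x02801)) (bit (nat_lit 160)) s1095 = true := by decide +kernel
theorem o1098 (M : PM G Ω 1080 H15.StdO8p3.nets) (hN : Nat.card G = 4952179814400) : Orb M ⊤ [nat_lit 769, nat_lit 829, nat_lit 801, nat_lit 1, nat_lit 0] (nat_lit 160) s1095 :=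
  (Orb.ext le_top (orb_bit ⊤ [nat_lit 769, nat_lit 829, nat_lit 801, nat_lit 1, nat_lit 0] (b := (nat_lit 160)) rfl) k1097)
noncomputable def s1099 : Nat := (nat_lit 0x80000000000000000000000000000000000000010000000000000000000001000000000000000000000000000000000000000000000000000000000000000000000000000000000000000000000000000000000000000000000000000000000000000000000000000000000000)
noncomputable def w1100 : Word := [nat_lit 20, nat_lit 15, nat_lit 21, nat_lit 33, nat_lit 15, nat_lit 32, nat_lit 16, nat_lit 14]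
theorem k1101 : orbChk (nat_lit 1080) H15.StdO8p3.nets F [nat_lit 160, nat_lit 769, nat_lit 829, nat_lit 801, nat_lit 1, nat_lit 0] (sel [w1100] [nat_lit 0]) [] (dn (nat_lit 20) (nat_lit 0x0d9c10b201)) (bit (nat_lit 712)) s1099 = true := by decide +kernel
theorem o1102 (M : PM G Ω 1080 H15.StdO8p3.nets) (hN : Nat.card G = 4952179814400) : Orb M ⊤ [nat_lit 160, nat_lit 769, nat_lit 829, nat_lit 801, nat_lit 1, nat_lit 0] (nat_lit 712) s1099 :=
  (Orb.ext le_top (orb_bit ⊤ [nat_lit 160, nat_lit 769, nat_lit 829, nat_lit 801, nat_lit 1, nat_lit 0] (b := (nat_lit 712)) rfl) k1101)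
noncomputable def s1103 : Nat := (nat_lit 0x80000000000000000000000000000000000000000000000000000000000001000000000000000000000000000000000000000000000000000000000000000000000000000000000000000000000000000000000000000000000000000000000000000000000000000000000000)
noncomputable def w1104 : Word := [nat_lit 27, nat_lit 22, nat_lit 26, nat_lit 22, nat_lit 18, nat_lit 14, nat_lit 32, nat_lit 18]
theorem k1105 : orbChk (nat_lit 1080) H15.StdO8p3.nets F [nat_lit 712, nat_lit 160, nat_lit 769, nat_lit 829, nat_lit 801, nat_lit 1, nat_lit 0] (sel [w1104] [nat_lit 0]) [] (dn (nat_lit 20) (nat_lit 0x09c01)) (bit (nat_lit 624)) s1103 = true := by decide +kernel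
theorem o1106 (M : PM G Ω 1080 H15.StdO8p3.nets) (hN : Nat.card G = 4952179814400) : Orb M ⊤ [nat_lit 712, nat_lit 160, nat_lit 769, nat_lit 829, nat_lit 801, nat_lit 1, nat_lit 0] (nat_lit 624) s1103 :=
  (Orb.ext le_top (orb_bit ⊤ [nat_lit 712, nat_lit 160, nat_lit 769, nat_lit 829, nat_lit 801, nat_lit 1, nat_lit 0] (b := (nat_lit 624)) rfl) k1105)
noncomputable def s1107 : Nat := (nat_lit 0x80000000000000000000000000000000000000000000000000000000000000000010000000001000000000000000000000000000000000000000000000000000000000000000000000000)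
noncomputable def w1108 : Word := [nat_lit 26, nat_lit 34, nat_lit 14, nat_lit 26, nat_lit 34, nat_lit 27, nat_lit 15, nat_lit 27]
theorem k1109 : orbChk (nat_lit 1080) H15.StdO8p3.nets F [nat_lit 624, nat_lit 712, nat_lit 160, nat_lit 769, nat_lit 829, nat_lit 801, nat_lit 1, nat_lit 0] (sel [w1108] [nat_lit 0]) [] (dn (nat_lit 20) (nat_lit 0x0520104801)) (bit (nat_lit 288)) s1107 = true := by decide +kernel
theorem o1110 (M : PM G Ω 1080 H15.StdO8p3.nets) (hN : Nat.card G = 4952179814400) : Orb M ⊤ [nat_lit 624, nat_lit 712, nat_lit 160, nat_lit 769, nat_lit 829, nat_lit 801, nat_lit 1, nat_lit 0] (nat_lit 288) s1107 :=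
  (Orb.ext le_top (orb_bit ⊤ [nat_lit 624, nat_lit 712, nat_lit 160, nat_lit 769, nat_lit 829, nat_lit 801, nat_lit 1, nat_lit 0] (b := (nat_lit 288)) rfl) k1109)
noncomputable def c1111 : Chn := [((nat_lit 0), (full (nat_lit 1080))), ((nat_lit 1), L.KO8p3.s32), ((nat_lit 801), s930), ((nat_lit 829), s1085), ((nat_lit 769), s1090), ((nat_lit 160), s1095), ((nat_lit 712), s1099), ((nat_lit 624), s1103), ((nat_lit 288), s1107)]
theorem k1112 : Nat.ble 4952179814400 (cval (nat_lit 1080) c1111) = true := by decide +kernel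
theorem e1113 (M : PM G Ω 1080 H15.StdO8p3.nets) (hN : Nat.card G = 4952179814400) : EC M ⊤ [] c1111 :=
  ec_top (c := c1111) ⟨(L.KO8p3.o4 M hN), ⟨(L.KO8p3.o34 M hN), ⟨(o1084 M hN), ⟨(o1089 M hN), ⟨(o1094 M hN), ⟨(o1098 M hN), ⟨(o1102 M hN), ⟨(o1106 M hN), ⟨(o1110 M hN), trivial⟩⟩⟩⟩⟩⟩⟩⟩⟩ hN k1112
noncomputable def w1114 : Word := [nat_lit 18, nat_lit 20, nat_lit 29, nat_lit 29, nat_lit 16, nat_lit 1, nat_lit 28, nat_lit 13, nat_lit 6, nat_lit 4]
noncomputable def w1115 : Word := [nat_lit 19, nat_lit 28, nat_lit 22, nat_lit 19, nat_lit 20, nat_lit 18, nat_lit 15, nat_lit 29, nat_lit 24, nat_lit 10]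
noncomputable def p1116 : Prs := [(w1115, w1114)]
noncomputable def b1117 : List (Nat × Nat) := []
noncomputable def w1118 : Word := [nat_lit 33, nat_lit 29, nat_lit 21, nat_lit 21, nat_lit 14, nat_lit 30, nat_lit 24, nat_lit 8, nat_lit 22, nat_lit 10, nat_lit 22, nat_lit 26]
noncomputable def w1119 : Word := [nat_lit 28, nat_lit 26, nat_lit 16, nat_lit 33, nat_lit 21, nat_lit 14, nat_lit 1, nat_lit 28, nat_lit 30, nat_lit 10, nat_lit 27]
noncomputable def y1120 : List Word := [w1118, w1119]
theorem k1121 : relK F bs0 (commR (snds p1116) y1120) = true := by decide +kernel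
theorem x1122 (M : PM G Ω 1080 H15.StdO8p3.nets) (hN : Nat.card G = 4952179814400) : Cx M (fun g => Pr M g p1116) b1117 [] p1116 y1120 :=
  cx_conj (fun _ _ => fa_nil) (rels_base (base0 M hN) k1121)
noncomputable def t1123 : KT := KT.alt [] (KT.stp (nat_lit 0) [nat_lit 0] (dw (nat_lit 0x1715)) (KT.mem (nat_lit 0) [nat_lit 1] (SE.lev (nat_lit 2))))
 (KT.nil (SE.lev (nat_lit 0)) [nat_lit 0, nat_lit 1] [dw (nat_lit 0x03), dw (nat_lit 0x01), dw (nat_lit 0x03), dw (nat_lit 0x01), dw (nat_lit 0x03), dw (nat_lit 0x01), dw (nat_lit 0x03), dw (nat_lit 0x01)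
, dw (nat_lit 0x03), dw (nat_lit 0x01), dw (nat_lit 0x03), dw (nat_lit 0x01), dw (nat_lit 0x03), dw (nat_lit 0x01), dw (nat_lit 0x03)] (dn (nat_lit 20) (nat_lit 0x0a88201ac207c810d3810d7c10d7c206601016810ac410ac4205a410f581085c108bc210501031820e88100dc2087820a0410a04204d4106e020314200a0103c820dec10ad0202fc10be820184208e42042c10fc820db4207ac103941098010988210a820be0202841088c105802080410a5810a582107810a2810218106cc20c8c20f801054c11070106e410dfc103a410024105a8104141065c10cdc107ec1098410e4410b2010da41076c107e810e60101381035410594109f01102c107f810018106fc104dc10fa010dbc10f14104a010530105fc108441042010974105e0104301070410c9c1109c104a810134106d81066c1037410ca4102ec10a6411090100ec1094c1)))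
theorem k1124 : ktChk (nat_lit 1080) H15.StdO8p3.nets F c1111 b1117 [] p1116 y1120 [] [] (nat_lit 0) (nat_lit 0) 0 0 t1123 = true := by decide +kernel
theorem l1125 (M : PM G Ω 1080 H15.StdO8p3.nets) (hN : Nat.card G = 4952179814400) : Cl M (fun g => Pr M g p1116) [] [] (nat_lit 0) 0 :=
  cl_tree (e1113 M hN) (x1122 M hN) (dd0 _ _ _ _) k1124
noncomputable def w1126 : Word := [nat_lit 12, nat_lit 26, nat_lit 26, nat_lit 14, nat_lit 14]
theorem k1127 : relK F bs0 [(List.append VO8p3x3.ri w1126, List.append w1126 w1114)] = true := by decide +kernel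
theorem k1128 : relK F bs0 [(List.append VO8p3x3.rm w1126, List.append w1126 w1115)] = true := by decide +kernel
theorem q1129 (M : PM G Ω 1080 H15.StdO8p3.nets) (hN : Nat.card G = 4952179814400) : ¬ IsConj (ev M.gen VO8p3x3.rm) (ev M.gen VO8p3x3.ri) :=
  fun h => nconj_of (l1125 M hN) (((conj_of_rel' (rels_base (base0 M hN) k1128)).symm.trans h).trans (conj_of_rel' (rels_base (base0 M hN) k1127)))
noncomputable def w1130 : Word := [nat_lit 15, nat_lit 32, nat_lit 30, nat_lit 34, nat_lit 16, nat_lit 28, nat_lit 14, nat_lit 33, nat_lit 21, nat_lit 27]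
theorem k1131 : relK F bs0 [(List.append (invW VO8p3x3.ri) w1130, List.append w1130 VO8p3x3.ri)] = true := by decide +kernel
theorem k1132 : orbChk (nat_lit 1080) H15.StdO8p3.nets F [nat_lit 1, nat_lit 0] (sel [w19, w20, w21] [nat_lit 0, nat_lit 1, nat_lit 2]) [dw (nat_lit 0x01), dw (nat_lit 0x03), dw (nat_lit 0x01), dw (nat_lit 0x03), dw (nat_lit 0x05), dw (nat_lit 0x01), dw (nat_lit 0x03), dw (nat_lit 0x01)
, dw (nat_lit 0x05), dw (nat_lit 0x03)] (dn (nat_lit 20) (nat_lit 0x0134100ec10114201141091010ad83055810bdc2068830f08108e0308e010a70307f82080020fc42059c3098c3071410dc8304083039c307bc306f4306f4206f41005830058200581052c3052c10c5810dcc307e03012c2085420d4c10834306102088c30fc830e3030cb8110cc202d4108f4208f410b482078c304281086c1108430db83108810f5010028106201013c104a01053410b9c10598107f4104b010ff4100881067c1076c10afc105b010bb810ffc1015010ad411080107ec103d81)) (bit (nat_lit 921)) s930 = true := by decide +kernel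
theorem o1133 (M : PM G Ω 1080 H15.StdO8p3.nets) (hN : Nat.card G = 4952179814400) : Orb M ⊤ [nat_lit 1, nat_lit 0] (nat_lit 921) s930 :=
  (Orb.ext le_top (orb_bit ⊤ [nat_lit 1, nat_lit 0] (b := (nat_lit 921)) rfl) k1132)
noncomputable def s1134 : Nat := (nat_lit 0x12000020000400010080008000000040000004000000080000120102000080008000000000080000000000000000000000000010000000034040000000000000000000000000000000000000000040000000020100000000000000000000000080040000000000000000000000000000000500000000000000000010000000080008003a000)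
noncomputable def w1135 : Word := [nat_lit 30, nat_lit 26, nat_lit 30, nat_lit 26]
noncomputable def w1136 : Word := [nat_lit 14, nat_lit 16, nat_lit 24, nat_lit 18, nat_lit 15]
theorem k1137 : orbChk (nat_lit 1080) H15.StdO8p3.nets F [nat_lit 921, nat_lit 1, nat_lit 0] (sel [w184, w1135, w1136] [nat_lit 0, nat_lit 1, nat_lit 2]) [dw (nat_lit 0x01)] (dn (nat_lit 20) (nat_lit 0x004020044300441007c204ac11044206e820f8c3014020a403109420cac30cac100343003420bfc20ec82065430988309882098810d7430d742027030e5830e5820cec30ff830ff820ff81027820fb0110a0310a02)) (bit (nat_lit 1064)) s1134 = true := by decide +kernel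
theorem o1138 (M : PM G Ω 1080 H15.StdO8p3.nets) (hN : Nat.card G = 4952179814400) : Orb M ⊤ [nat_lit 921, nat_lit 1, nat_lit 0] (nat_lit 1064) s1134 :=
  (Orb.ext le_top (orb_bit ⊤ [nat_lit 921, nat_lit 1, nat_lit 0] (b := (nat_lit 1064)) rfl) k1137)
noncomputable def s1139 : Nat := (nat_lit 0x20000000000000100000000000000000000040000000800000201020000800080000000000000000000000000000000000000000000000240000000000000000000000000000000000000000000400000000001000000000000000000000000000400000000000000000000000000000005000000000000000000100000000000000032000)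
noncomputable def w1140 : Word := [nat_lit 14, nat_lit 29, nat_lit 32, nat_lit 29, nat_lit 20, nat_lit 15]
noncomputable def w1141 : Word := [nat_lit 14, nat_lit 16, nat_lit 18, nat_lit 15, nat_lit 29, nat_lit 15, nat_lit 30]
theorem k1142 : orbChk (nat_lit 1080) H15.StdO8p3.nets F [nat_lit 1064, nat_lit 921, nat_lit 1, nat_lit 0] (sel [w1140, w1141] [nat_lit 0, nat_lit 1]) [] (dn (nat_lit 20) (nat_lit 0x0cac20e58106e820478204781004020630206301027020ddc20d34209a8209a810cec20cec10d742109420034200341)) (bit (nat_lit 13)) s1139 = true := by decide +kernel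
theorem o1143 (M : PM G Ω 1080 H15.StdO8p3.nets) (hN : Nat.card G = 4952179814400) : Orb M ⊤ [nat_lit 1064, nat_lit 921, nat_lit 1, nat_lit 0] (nat_lit 13) s1139 :=
  (Orb.ext le_top (orb_bit ⊤ [nat_lit 1064, nat_lit 921, nat_lit 1, nat_lit 0] (b := (nat_lit 13)) rfl) k1142)
noncomputable def s1144 : Nat := (nat_lit 0x4000000000000000000020000000000000000000000000000000000000000000000000000000000000000000000000000000000000000000000000000000000000000000000000000000000000000)
noncomputable def w1145 : Word := [nat_lit 25, nat_lit 26, nat_lit 22, nat_lit 16, nat_lit 19, nat_lit 22, nat_lit 15, nat_lit 18]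
theorem k1146 : orbChk (nat_lit 1080) H15.StdO8p3.nets F [nat_lit 13, nat_lit 1064, nat_lit 921, nat_lit 1, nat_lit 0] (sel [w1145] [nat_lit 0]) [] (dn (nat_lit 20) (nat_lit 0x09c81)) (bit (nat_lit 626)) s1144 = true := by decide +kernel
theorem o1147 (M : PM G Ω 1080 H15.StdO8p3.nets) (hN : Nat.card G = 4952179814400) : Orb M ⊤ [nat_lit 13, nat_lit 1064, nat_lit 921, nat_lit 1, nat_lit 0] (nat_lit 626) s1144 :=
  (Orb.ext le_top (orb_bit ⊤ [nat_lit 13, nat_lit 1064, nat_lit 921, nat_lit 1, nat_lit 0] (b := (nat_lit 626)) rfl) k1146)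
noncomputable def s1148 : Nat := (nat_lit 0x80000000000000000000000000000000000000000000000000000000000000000000000000000000000000000000000000000000000000000000000000000000000000000000000200000000000000000000000000800000000000000000000000000000000000000000000000000000000000000000000000000)
noncomputable def w1149 : Word := [nat_lit 15, nat_lit 33, nat_lit 14, nat_lit 34, nat_lit 15, nat_lit 33, nat_lit 33, nat_lit 14]
theorem k1150 : orbChk (nat_lit 1080) H15.StdO8p3.nets F [nat_lit 626, nat_lit 13, nat_lit 1064, nat_lit 921, nat_lit 1, nat_lit 0] (sel [w1149] [nat_lit 0]) [] (dn (nat_lit 20) (nat_lit 0x0654104ac1)) (bit (nat_lit 299)) s1148 = true := by decide +kernel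
theorem o1151 (M : PM G Ω 1080 H15.StdO8p3.nets) (hN : Nat.card G = 4952179814400) : Orb M ⊤ [nat_lit 626, nat_lit 13, nat_lit 1064, nat_lit 921, nat_lit 1, nat_lit 0] (nat_lit 299) s1148 :=
  (Orb.ext le_top (orb_bit ⊤ [nat_lit 626, nat_lit 13, nat_lit 1064, nat_lit 921, nat_lit 1, nat_lit 0] (b := (nat_lit 299)) rfl) k1150)
noncomputable def s1152 : Nat := (nat_lit 0x80000000000000000000000000000000000000000000000000000000000000000000000000000000000000000000000000000000000000000000000000000000000000000000000200000000000000000000000000000000000000000000000000000000000000000000000000000000000000000000000000000)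
noncomputable def w1153 : Word := [nat_lit 34, nat_lit 15, nat_lit 19, nat_lit 16, nat_lit 18, nat_lit 14, nat_lit 34]
theorem k1154 : orbChk (nat_lit 1080) H15.StdO8p3.nets F [nat_lit 299, nat_lit 626, nat_lit 13, nat_lit 1064, nat_lit 921, nat_lit 1, nat_lit 0] (sel [w1153] [nat_lit 0]) [] (dn (nat_lit 20) (nat_lit 0x06541)) (bit (nat_lit 405)) s1152 = true := by decide +kernel
theorem o1155 (M : PM G Ω 1080 H15.StdO8p3.nets) (hN : Nat.card G = 4952179814400) : Orb M ⊤ [nat_lit 299, nat_lit 626, nat_lit 13, nat_lit 1064, nat_lit 921, nat_lit 1, nat_lit 0] (nat_lit 405) s1152 :=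
  (Orb.ext le_top (orb_bit ⊤ [nat_lit 299, nat_lit 626, nat_lit 13, nat_lit 1064, nat_lit 921, nat_lit 1, nat_lit 0] (b := (nat_lit 405)) rfl) k1154)
noncomputable def s1156 : Nat := (nat_lit 0x4000000000000000000000000000000000000000200000000000000000000000000000000000000000000000000000000000000000000000000000000000000000000000000000000000100000000000000000000000000000000000000000)
noncomputable def w1157 : Word := [nat_lit 16, nat_lit 25, nat_lit 25, nat_lit 27, nat_lit 16, nat_lit 28, nat_lit 25, nat_lit 16]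
theorem k1158 : orbChk (nat_lit 1080) H15.StdO8p3.nets F [nat_lit 405, nat_lit 299, nat_lit 626, nat_lit 13, nat_lit 1064, nat_lit 921, nat_lit 1, nat_lit 0] (sel [w1157] [nat_lit 0]) [] (dn (nat_lit 20) (nat_lit 0x0bd8109541)) (bit (nat_lit 597)) s1156 = true := by decide +kernel
theorem o1159 (M : PM G Ω 1080 H15.StdO8p3.nets) (hN : Nat.card G = 4952179814400) : Orb M ⊤ [nat_lit 405, nat_lit 299, nat_lit 626, nat_lit 13, nat_lit 1064, nat_lit 921, nat_lit 1, nat_lit 0] (nat_lit 597) s1156 :=
  (Orb.ext le_top (orb_bit ⊤ [nat_lit 405, nat_lit 299, nat_lit 626, nat_lit 13, nat_lit 1064, nat_lit 921, nat_lit 1, nat_lit 0] (b := (nat_lit 597)) rfl) k1158)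
noncomputable def c1160 : Chn := [((nat_lit 0), (full (nat_lit 1080))), ((nat_lit 1), L.KO8p3.s32), ((nat_lit 921), s930), ((nat_lit 1064), s1134), ((nat_lit 13), s1139), ((nat_lit 626), s1144), ((nat_lit 299), s1148), ((nat_lit 405), s1152), ((nat_lit 597), s1156)]
theorem k1161 : Nat.ble 4952179814400 (cval (nat_lit 1080) c1160) = true := by decide +kernel
theorem e1162 (M : PM G Ω 1080 H15.StdO8p3.nets) (hN : Nat.card G = 4952179814400) : EC M ⊤ [] c1160 :=
  ec_top (c := c1160) ⟨(L.KO8p3.o4 M hN), ⟨(L.KO8p3.o34 M hN), ⟨(o1133 M hN), ⟨(o1138 M hN), ⟨(o1143 M hN), ⟨(o1147 M hN), ⟨(o1151 M hN), ⟨(o1155 M hN), ⟨(o1159 M hN), trivial⟩⟩⟩⟩⟩⟩⟩⟩⟩ hN k1161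
noncomputable def w1163 : Word := [nat_lit 32, nat_lit 22, nat_lit 20, nat_lit 19, nat_lit 24, nat_lit 19, nat_lit 2, nat_lit 14, nat_lit 21, nat_lit 14, nat_lit 10]
noncomputable def w1164 : Word := [nat_lit 1, nat_lit 20, nat_lit 30, nat_lit 27, nat_lit 18, nat_lit 18, nat_lit 33, nat_lit 19]
noncomputable def p1165 : Prs := [(w1164, w1163)]
noncomputable def b1166 : List (Nat × Nat) := []
noncomputable def w1167 : Word := [nat_lit 34, nat_lit 30, nat_lit 26, nat_lit 16, nat_lit 20, nat_lit 15, nat_lit 33, nat_lit 16, nat_lit 13, nat_lit 21, nat_lit 16, nat_lit 20, nat_lit 8]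
noncomputable def w1168 : Word := [nat_lit 6, nat_lit 32, nat_lit 32, nat_lit 29, nat_lit 21, nat_lit 21, nat_lit 16, nat_lit 19, nat_lit 30, nat_lit 14, nat_lit 21, nat_lit 2, nat_lit 1]
noncomputable def y1169 : List Word := [w1167, w1168]
theorem k1170 : relK F bs0 (commR (snds p1165) y1169) = true := by decide +kernel
theorem x1171 (M : PM G Ω 1080 H15.StdO8p3.nets) (hN : Nat.card G = 4952179814400) : Cx M (fun g => Pr M g p1165) b1166 [] p1165 y1169 :=
  cx_conj (fun _ _ => fa_nil) (rels_base (base0 M hN) k1170)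
noncomputable def t1172 : KT := KT.alt [] (KT.stp (nat_lit 0) [nat_lit 1] (dw (nat_lit 0x1117)) (KT.mem (nat_lit 0) [nat_lit 0] (SE.lev (nat_lit 2))))
 (KT.nil (SE.lev (nat_lit 0)) [nat_lit 0, nat_lit 1] [dw (nat_lit 0x01), dw (nat_lit 0x03), dw (nat_lit 0x01), dw (nat_lit 0x03), dw (nat_lit 0x01), dw (nat_lit 0x03), dw (nat_lit 0x01), dw (nat_lit 0x03)
, dw (nat_lit 0x01), dw (nat_lit 0x03), dw (nat_lit 0x01), dw (nat_lit 0x03), dw (nat_lit 0x01), dw (nat_lit 0x03), dw (nat_lit 0x01)] (dn (nat_lit 20) (nat_lit 0x0c5420ba8106c4106642091c2091c10144203601049020c3c2009c1068420684106e4204c4204c41088010b5c20ad4107b4207b410bb420398203981077c100d810cd810784202301067820a2420a901087810f74200f82096c20f34205c42064420e04206042033020974205a020ce8208a8205a820e9020344208e020618208b020bb8204e4202c8206b820354204e020138206d42045420df020a4c2011c20ec0209ec2)))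
theorem k1173 : ktChk (nat_lit 1080) H15.StdO8p3.nets F c1160 b1166 [] p1165 y1169 [] [] (nat_lit 0) (nat_lit 0) 0 0 t1172 = true := by decide +kernel
theorem l1174 (M : PM G Ω 1080 H15.StdO8p3.nets) (hN : Nat.card G = 4952179814400) : Cl M (fun g => Pr M g p1165) [] [] (nat_lit 0) 0 :=
  cl_tree (e1162 M hN) (x1171 M hN) (dd0 _ _ _ _) k1173
noncomputable def w1175 : Word := [nat_lit 1, nat_lit 7, nat_lit 18, nat_lit 32, nat_lit 15]
theorem k1176 : relK F bs0 [(List.append VO8p3x3.rl w1175, List.append w1175 w1163)] = true := by decide +kernel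
theorem k1177 : relK F bs0 [(List.append VO8p3x3.rm w1175, List.append w1175 w1164)] = true := by decide +kernel
theorem q1178 (M : PM G Ω 1080 H15.StdO8p3.nets) (hN : Nat.card G = 4952179814400) : ¬ IsConj (ev M.gen VO8p3x3.rm) (ev M.gen VO8p3x3.rl) :=
  fun h => nconj_of (l1174 M hN) (((conj_of_rel' (rels_base (base0 M hN) k1177)).symm.trans h).trans (conj_of_rel' (rels_base (base0 M hN) k1176)))
noncomputable def w1179 : Word := [nat_lit 12, nat_lit 20, nat_lit 25, nat_lit 14, nat_lit 29, nat_lit 1, nat_lit 8, nat_lit 14, nat_lit 14, nat_lit 13]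
theorem k1180 : relK F bs0 [(List.append (invW VO8p3x3.rl) w1179, List.append w1179 VO8p3x3.rl)] = true := by decide +kernel
theorem nc12 (M : PM G Ω 1080 H15.StdO8p3.nets) (hN : Nat.card G = 4952179814400) : ∀ j < 12, ¬ CjS (sub M.gen [VO8p3x3.rm]) (sub M.gen [getL [] xs j]) :=
  fun j hj => by interval_cases j; exacts [(fc12 M hN).nc (fc0 M hN) (by decide), (fc12 M hN).nc (fc1 M hN) (by decide), (fc12 M hN).nc (fc2 M hN) (by decide), (fc12 M hN).nc (fc3 M hN) (by decide), nc3r (ord12 M hN) (ord4 M hN) (q982 M hN) (conj_of_rel' (rels_base (base0 M hN) k984)), nc3r (ord12 M hN) (ord5 M hN) (q1031 M hN) (conj_of_rel' (rels_base (base0 M hN) k1033)), (fc12 M hN).nc (fc6 M hN) (by decide), nc3r (ord12 M hN) (ord7 M hN) (q1080 M hN) (conj_of_rel' (rels_base (base0 M hN) k1082)), nc3r (ord12 M hN) (ord8 M hN) (q1129 M hN) (conj_of_rel' (rels_base (base0 M hN) k1131)), (fc12 M hN).nc (fc9 M hN) (by decide), (fc12 M hN).nc (fc10 M hN) (by decide), nc3r (ord12 M hN) (ord11 M hN) (q1178 M hN) (conj_of_rel'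 (rels_base (base0 M hN) k1180))]
theorem kl (M : PM G Ω 1080 H15.StdO8p3.nets) (hN : Nat.card G = 4952179814400) : Kl M.gen 3 13 xs :=
  kl_of (by norm_num) (fun i hi => by interval_cases i; exacts [ord0 M hN, ord1 M hN, ord2 M hN, ord3 M hN, ord4 M hN, ord5 M hN, ord6 M hN, ord7 M hN, ord8 M hN, ord9 M hN, ord10 M hN, ord11 M hN, ord12 M hN]) (VO8p3x3.cover M hN)
    (fa_cons (hr_self (xs := xs) (i := 0) (by decide)) (fa_cons (hr_self (xs := xs) (i := 1) (by decide)) (fa_cons (hr_self (xs := xs) (i := 2) (by decide)) (fa_cons (hr_self (xs := xs) (i := 3) (by decide)) (fa_cons (hr_self (xs := xs) (i := 4) (by decide)) (fa_cons (hr_self (xs := xs) (i := 5) (by decide)) (fa_cons (hr_self (xs := xs) (i := 6) (by decide)) (fa_cons (hr_self (xs := xs) (i := 7) (by decide)) (fa_cons (hr_self (xs := xs) (i := 8) (by decide)) (fa_cons (hr_self (xs := xs) (i := 9) (by decide)) (fa_cons (hr_self (xs := xs) (i := 10) (by decide)) (fa_cons (hr_self (xs := xs) (i := 11) (by decide)) (fa_cons (hr_self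 (xs := xs) (i := 12) (by decide)) (fa_nil))))))))))))))
    (fun i hi => by interval_cases i; exacts [fun _ h => absurd h (Nat.not_lt_zero _), nc1 M hN, nc2 M hN, nc3 M hN, nc4 M hN, nc5 M hN, nc6 M hN, nc7 M hN, nc8 M hN, nc9 M hN, nc10 M hN, nc11 M hN, nc12 M hN])

end L.CO8p3x3
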