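import Cfsg.Agent.L.KV
import Cfsg.Agent.H15.StdO73
import Cfsg.Agent.L.K22

/-! Generated certificate (toolsL/cg.hpp). -/
set_option autoImplicit false
set_option maxRecDepth 200000
set_option Elab.async false
set_option linter.unusedVariables false
set_option linter.unusedSectionVars false

namespace L.D22
open H14 L.K22T L.K22
variable {G Ω : Type*} [Group G] [Finite G] [MulAction G Ω]

noncomputable def w0 : Word := [nat_lit 18, nat_lit 40]
noncomputable def w1 : Word := [nat_lit 19, nat_lit 36]
noncomputable def w2 : Word := [nat_lit 19, nat_lit 19]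
noncomputable def w3 : Word := [nat_lit 19, nat_lit 42]
noncomputable def w4 : Word := [nat_lit 18, nat_lit 36]
noncomputable def w5 : Word := [nat_lit 18, nat_lit 30]
noncomputable def w6 : Word := [nat_lit 19, nat_lit 45, nat_lit 34]
noncomputable def w7 : Word := [nat_lit 2, nat_lit 19, nat_lit 6]
noncomputable def y8 : List Word := [[], w0, w1, w2, w3, w4, w5, w6, w7]
noncomputable def ts : List Word := y8
noncomputable def w9 : Word := [nat_lit 39, nat_lit 2, nat_lit 30, nat_lit 16, nat_lit 31, nat_lit 38, nat_lit 2]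
noncomputable def w10 : Word := [nat_lit 49, nat_lit 0, nat_lit 31, nat_lit 2, nat_lit 30, nat_lit 48, nat_lit 0]
noncomputable def w11 : Word := [nat_lit 49, nat_lit 34, nat_lit 4, nat_lit 35, nat_lit 48]
noncomputable def w12 : Word := [nat_lit 19, nat_lit 39, nat_lit 8, nat_lit 38, nat_lit 18]
noncomputable def w13 : Word := [nat_lit 32, nat_lit 8, nat_lit 32]
noncomputable def w14 : Word := [nat_lit 48, nat_lit 34, nat_lit 4, nat_lit 2, nat_lit 4, nat_lit 35, nat_lit 49]
noncomputable def w15 : Word := [nat_lit 32, nat_lit 30, nat_lit 10, nat_lit 31, nat_lit 32]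
noncomputable def w16 : Word := [nat_lit 43, nat_lit 16, nat_lit 38, nat_lit 24, nat_lit 12, nat_lit 43, nat_lit 29, nat_lit 27]
noncomputable def w17 : Word := [nat_lit 36, nat_lit 44, nat_lit 6, nat_lit 45, nat_lit 4, nat_lit 29, nat_lit 37]
noncomputable def w18 : Word := [nat_lit 14, nat_lit 38, nat_lit 35, nat_lit 4, nat_lit 40, nat_lit 30, nat_lit 45, nat_lit 34]
noncomputable def w19 : Word := [nat_lit 0, nat_lit 43, nat_lit 14, nat_lit 10, nat_lit 30, nat_lit 12, nat_lit 36, nat_lit 27, nat_lit 46]
noncomputable def w20 : Word := [nat_lit 28, nat_lit 40, nat_lit 46, nat_lit 27, nat_lit 34, nat_lit 32, nat_lit 48, nat_lit 6]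
noncomputable def w21 : Word := [nat_lit 49, nat_lit 4, nat_lit 6, nat_lit 29, nat_lit 48, nat_lit 0]
noncomputable def w22 : Word := [nat_lit 48, nat_lit 34, nat_lit 8, nat_lit 14, nat_lit 30, nat_lit 22, nat_lit 6, nat_lit 34]
noncomputable def w23 : Word := [nat_lit 29, nat_lit 10, nat_lit 37, nat_lit 29, nat_lit 46, nat_lit 39, nat_lit 8, nat_lit 32]
noncomputable def w24 : Word := [nat_lit 16, nat_lit 31, nat_lit 8, nat_lit 30, nat_lit 16]
noncomputable def ys : List Word := [w9, w10, w11, w12, w13, w14, w15, w16, w17, w18, w19, w20, w21, w22, w23, w24]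
noncomputable def v25 : List Word := [dw (nat_lit 0x010f0d090b010d0b010d0b090d0311090d030f0105030f01050f0b0709070f0b030d010b0103050d05010b0d010b050d), dw (nat_lit 0x050d0b0d05), dw (nat_lit 0x0f0109010f), dw (nat_lit 0x110b11), dw (nat_lit 0x0b0f010b0f), dw (nat_lit 0x010b030b01090b03010b090103), dw (nat_lit 0x01030f030b1109110b0d0f010f030d0911050f03050901110f090f0b090b01090b0f0911030d010b0103050d05010b0d010b050d), dw (nat_lit 0x0703050f030d01090f010d030d030705090b01110b110d03010709110f0b090b01090b0f0911070d09110d0907)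
, dw (nat_lit 0x0911051109070301090b010d030705090b01110b110d0301070907110503051107), dw (nat_lit 0x070d0905070d091101110b051101050b0711090701110b09070f11010305110d0f0b0709070f03010b0d03050d050b010d0b01050d), dw (nat_lit 0x070d050d1103010b010d03070d0109010d0f01091109010f030d010b0103050d05010b0d010b050d), dw (nat_lit 0x0307090b090703070d09110d09030b01030b030f0105030f01050d0109010d), dw (nat_lit 0x090d01050b090d0b0d0309110d0f070b110f010b01110f0d0109010d110f0b090b01090b0f0911030d0307110f010b01110f07030d03), dw (nat_lit 0x030d0b010b0f0d010b09010307030f0301050903110509050f010f05110f0b090b01090b0f09110b09010b090709110b110907090b01090b), dw (nat_lit 0x090703010709070109010f0105030f0105070d09110d0907), dw (nat_lit 0x030d0b010b0f010b010d03)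
]
theorem k26 : relK F bs0 (memRels (tws a0 ts) ys v25) = true := by decide +kernel
theorem hy (M : PM G Ω 3510 H15.Fi22P.nets) (hN : Nat.card G = 64561751654400) : sub M.gen ys ≤ (sub M.gen (tws a0 ts)) :=
  (sub_le_of_memRels (rels_base (base0 M hN) k26))
noncomputable def v27 : List Word := [[], [], [], [], [], [], [], []
, [], [], [], [], [], [], [], []
, [], [], [], [], [], [], [], []
, [], [], [], [], [], [], [], []
, [], [], [], [], [], [], [], []
, [], [], [], [], [], [], [], []
, [], [], [], [], [], [], [], []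
, [], [], [], [], [], [], [], []
, [], [], [], [], [], [], [], []
, [], [], [], [], [], [], [], []
, [], [], [], [], [], [], [], []
, [], [], [], [], [], [], [], []
, [], [], [], [], [], [], [], []
, [], [], [], [], [], [], [], []
, [], [], [], [], [], [], [], []
, [], [], [], [], [], [], [], []
, [], [], [], [], [], [], [], []
, [], [], [], [], [], [], [], []
, [], [], [], [], [], [], [], []
, [], [], [], []]
theorem k28 : relK F bs0 (qR ys [] H15.StdO73.rels v27) = true := by decide +kernel
noncomputable def v29 : Prs := [(dw (nat_lit 0x191b19191f1e), []),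
 (dw (nat_lit 0x0e1c011b0d), []),
 (dw (nat_lit 0x1d011e), []),
 (dw (nat_lit 0x171b091c17), []),
 (dw (nat_lit 0x1b0b010c1c), []),
 (dw (nat_lit 0x141b011c13), []),
 (dw (nat_lit 0x170117), []),
 (dw (nat_lit 0x1a14011319), []),
 (dw (nat_lit 0x110b0f0c12), [])]
theorem k30 : relK F bs0 (sR ys [] H15.StdO73.ws0 (tws a0 ts) v29) = true := by decide +kernel
theorem qs (M : PM G Ω 3510 H15.Fi22P.nets) (hN : Nat.card G = 64561751654400) : ∀ {X : Type*} [Group X], PresF G X H15.StdO73.rels H15.StdO73.ws0 → QS X (sub M.gen (tws a0 ts)) (sub M.gen []) :=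
  fun hP _ => quot_surj hP ((sub_le _).2 fa_nil) (hy M hN) le_rfl le_rfl (rels_base (base0 M hN) k28) (rels_base (base0 M hN) k30) (by decide +kernel)

end L.D22
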