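import Cfsg.Agent.L.CL
import Cfsg.Agent.L.D23
import Cfsg.Agent.L.CO8p3x3
import Cfsg.Agent.L.K23

/-! Generated certificate (toolsL/cg.hpp). -/
set_option autoImplicit false
set_option maxRecDepth 200000
set_option Elab.async false
set_option linter.unusedVariables false
set_option linter.unusedSectionVars false

namespace L.F23
open H14 L.K23T L.K23
variable {G Ω : Type*} [Group G] [Finite G] [MulAction G Ω]

theorem k0 : relK F bs0 (flatR D23.ys H15.StdO8p3.rels) = true := by decide +kernel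
theorem rel (M : PM G Ω 31671 H15.Fi23P.nets) (hN : Nat.card G = 4089470473293004800) : Rels (loc M.gen D23.ys) H15.StdO8p3.rels :=
  rels_loc (rels_base (base0 M hN) k0)
noncomputable def c0s : List (Nat × Word × Word) := [(0, [nat_lit 8, nat_lit 30, nat_lit 34, nat_lit 20, nat_lit 22, nat_lit 0, nat_lit 18, nat_lit 18, nat_lit 10, nat_lit 4], [0]),
 (8, [nat_lit 18, nat_lit 26, nat_lit 21, nat_lit 26, nat_lit 16, nat_lit 22, nat_lit 14, nat_lit 1, nat_lit 19, nat_lit 13, nat_lit 5, nat_lit 32], [0]),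
 (7, [nat_lit 8, nat_lit 26, nat_lit 29, nat_lit 22, nat_lit 28, nat_lit 15, nat_lit 5, nat_lit 27, nat_lit 12, nat_lit 27, nat_lit 29], [0]),
 (3, [nat_lit 28, nat_lit 28, nat_lit 18, nat_lit 14, nat_lit 29, nat_lit 34, nat_lit 6, nat_lit 14, nat_lit 5, nat_lit 15, nat_lit 26], [0]),
 (4, [nat_lit 10, nat_lit 24, nat_lit 29, nat_lit 19, nat_lit 14, nat_lit 16, nat_lit 32, nat_lit 18, nat_lit 6, nat_lit 0, nat_lit 19, nat_lit 14], [0]),
 (5, [nat_lit 6, nat_lit 20, nat_lit 32, nat_lit 16, nat_lit 20, nat_lit 14, nat_lit 21, nat_lit 8, nat_lit 19, nat_lit 12, nat_lit 34], [0]),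
 (6, [nat_lit 33, nat_lit 26, nat_lit 29, nat_lit 33, nat_lit 25, nat_lit 18, nat_lit 14, nat_lit 33, nat_lit 5, nat_lit 19, nat_lit 30, nat_lit 2], [0]),
 (2, [nat_lit 8, nat_lit 26, nat_lit 26, nat_lit 21, nat_lit 21, nat_lit 16, nat_lit 26, nat_lit 26, nat_lit 14, nat_lit 27, nat_lit 6, nat_lit 28], [0]),
 (1, [nat_lit 26, nat_lit 25, nat_lit 27, nat_lit 19, nat_lit 25, nat_lit 14, nat_lit 18, nat_lit 14, nat_lit 1, nat_lit 25, nat_lit 16, nat_lit 14, nat_lit 21], [0]),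
 (12, [nat_lit 8, nat_lit 22, nat_lit 18, nat_lit 20, nat_lit 14, nat_lit 19, nat_lit 14, nat_lit 8, nat_lit 27, nat_lit 8, nat_lit 32], [0]),
 (10, [nat_lit 29, nat_lit 27, nat_lit 18, nat_lit 21, nat_lit 14, nat_lit 28, nat_lit 14, nat_lit 5, nat_lit 20, nat_lit 33, nat_lit 8, nat_lit 33], [0]),
 (11, [nat_lit 27, nat_lit 21, nat_lit 18, nat_lit 14, nat_lit 16, nat_lit 28, nat_lit 0, nat_lit 20, nat_lit 24, nat_lit 21, nat_lit 1], [0]),
 (9, [nat_lit 12, nat_lit 27, nat_lit 14, nat_lit 14, nat_lit 19, nat_lit 20, nat_lit 1, nat_lit 13, nat_lit 28, nat_lit 27, nat_lit 0], [0])]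
def sg0 : Fin 13 → Fin 13 := ![0, 8, 7, 3, 4, 5, 6, 2, 1, 12, 10, 11, 9]
theorem k1 : relK F bs0 (cjR D23.ys CO8p3x3.xs (getL [] D23.ss 0) c0s 13) = true := by decide +kernel
theorem cj0 (M : PM G Ω 31671 H15.Fi23P.nets) (hN : Nat.card G = 4089470473293004800) : Rels M.gen (cjR D23.ys CO8p3x3.xs (getL [] D23.ss 0) c0s 13) :=
  (rels_base (base0 M hN) k1)
noncomputable def c1s : List (Nat × Word × Word) := [(0, [nat_lit 8, nat_lit 32, nat_lit 34, nat_lit 26, nat_lit 21, nat_lit 28, nat_lit 14, nat_lit 5, nat_lit 27, nat_lit 12, nat_lit 25], [0]),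
 (5, [nat_lit 10, nat_lit 34, nat_lit 29, nat_lit 30, nat_lit 25, nat_lit 19, nat_lit 0, nat_lit 21, nat_lit 13, nat_lit 16], [0]),
 (11, [nat_lit 33, nat_lit 28, nat_lit 27, nat_lit 16, nat_lit 20, nat_lit 20, nat_lit 13, nat_lit 19, nat_lit 22, nat_lit 18, nat_lit 1], [0]),
 (3, [nat_lit 5, nat_lit 32, nat_lit 26, nat_lit 26, nat_lit 21, nat_lit 28, nat_lit 15, nat_lit 2, nat_lit 14, nat_lit 22, nat_lit 12, nat_lit 27], [0]),
 (9, [nat_lit 8, nat_lit 32, nat_lit 20, nat_lit 19, nat_lit 0, nat_lit 15, nat_lit 15, nat_lit 33, nat_lit 2, nat_lit 18], [0]),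
 (1, [nat_lit 6, nat_lit 26, nat_lit 20, nat_lit 29, nat_lit 19, nat_lit 25, nat_lit 14, nat_lit 16, nat_lit 32, nat_lit 20, nat_lit 25, nat_lit 0], [0]),
 (6, [nat_lit 4, nat_lit 34, nat_lit 27, nat_lit 28, nat_lit 30, nat_lit 24, nat_lit 33, nat_lit 13, nat_lit 21, nat_lit 14, nat_lit 25, nat_lit 18], [0]),
 (7, [nat_lit 21, nat_lit 33, nat_lit 30, nat_lit 26, nat_lit 14, nat_lit 28, nat_lit 13, nat_lit 29, nat_lit 14, nat_lit 33], [0]),
 (8, [nat_lit 19, nat_lit 21, nat_lit 14, nat_lit 22, nat_lit 26, nat_lit 1, nat_lit 20, nat_lit 18, nat_lit 33, nat_lit 34], [0]),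
 (4, [nat_lit 2, nat_lit 32, nat_lit 14, nat_lit 18, nat_lit 34, nat_lit 25, nat_lit 6, nat_lit 14, nat_lit 13, nat_lit 24, nat_lit 15], [0]),
 (10, [nat_lit 32, nat_lit 24, nat_lit 20, nat_lit 19, nat_lit 27, nat_lit 15, nat_lit 21, nat_lit 16, nat_lit 1, nat_lit 10, nat_lit 33, nat_lit 8], [0]),
 (2, [nat_lit 21, nat_lit 32, nat_lit 26, nat_lit 24, nat_lit 15, nat_lit 33, nat_lit 14, nat_lit 5, nat_lit 24, nat_lit 18, nat_lit 29], [0]),
 (12, [nat_lit 1, nat_lit 34, nat_lit 26, nat_lit 30, nat_lit 16, nat_lit 14, nat_lit 20, nat_lit 8, nat_lit 16, nat_lit 15, nat_lit 25, nat_lit 13], [0])]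
def sg1 : Fin 13 → Fin 13 := ![0, 5, 11, 3, 9, 1, 6, 7, 8, 4, 10, 2, 12]
theorem k2 : relK F bs0 (cjR D23.ys CO8p3x3.xs (getL [] D23.ss 1) c1s 13) = true := by decide +kernel
theorem cj1 (M : PM G Ω 31671 H15.Fi23P.nets) (hN : Nat.card G = 4089470473293004800) : Rels M.gen (cjR D23.ys CO8p3x3.xs (getL [] D23.ss 1) c1s 13) :=
  (rels_base (base0 M hN) k2)
noncomputable def v3 : List Word := [dw (nat_lit 0x252725051b0d02171021111f172123), dw (nat_lit 0x271310151d021b1016131705), dw (nat_lit 0x27070b1d1a0217101014211f), dw (nat_lit 0x270e1302110f110f15171c03), dw (nat_lit 0x252725021f1d0f031319111e1f230d), dw (nat_lit 0x2715151e02170f0f131f1523), dw (nat_lit 0x2527251d010f11091710161f111909)]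
theorem k4 : relK F bs0 (memRels (List.append D23.ys D23.ss) (tws a0 D23.ts) v3) = true := by decide +kernel
theorem hle (M : PM G Ω 31671 H15.Fi23P.nets) (hN : Nat.card G = 4089470473293004800) : (sub M.gen (tws a0 D23.ts)) ≤ (sub M.gen (List.append D23.ys D23.ss)) :=
  (sub_le_of_memRels (rels_base (base0 M hN) k4))

end L.F23
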