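import Cfsg.Agent.L.Gas2

/-! `SecTop.killE`: a commutator symbol conjugate to one of the listed symbols. -/

set_option autoImplicit false

namespace L
open H14 Cfsg

universe u

theorem SecTop.killE {G : Type u} [Group G] {gen : ℕ → G} {m : ℕ} {l : List (Word × Word)}
    {a b a' b' g : Word} (h : SecTop gen m ((a', b') :: l)) (hm : List.elem (a, b) l = true)
    (hR : Rels gen [(List.append a g, List.append g a'), (List.append b g, List.append g b')]) :
    SecTop gen m l := fun Γ _ _ σ h1 h2 => h Γ σ h1 (fa_cons (fun x y hx hy => by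
  obtain ⟨t, ht⟩ := h1.surj (ev gen g)
  have r1 : ev gen (a ++ g) = ev gen (g ++ a') := hR _ List.mem_cons_self
  have r2 : ev gen (b ++ g) = ev gen (g ++ b') := hR _ (List.mem_cons_of_mem _ List.mem_cons_self)
  rw [ev_append, ev_append, ← ht] at r1 r2
  have := h2 _ (List.mem_of_elem_eq_true hm) (t⁻¹ * x * t) (t⁻¹ * y * t)
    (by rw [map_mul, map_mul, hx, map_inv, mul_assoc, ← r1, inv_mul_cancel_left])
    (by rw [map_mul, map_mul, hy, map_inv, mul_assoc, ← r2, inv_mul_cancel_left])
  simpa [← mul_assoc] using congrArg (fun z => t * z * t⁻¹) this) h2)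

end L
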