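import Cfsg.Agent.H2.Gd0

/-! Solvable groups with four character degrees: the pieces `PV`, `PN`, `Ext`. -/

set_option autoImplicit false

namespace L.Gd
open Subgroup Cfsg H18 H5 H6 H8 H2.Gd
open scoped commutatorElement
universe u

theorem pV : PV.{u} := by
  intro G _ _ T A R _ _ χ RA nA TA hχ hR hT hd
  classical
  haveI := Fintype.ofFinite G
  obtain ⟨θ, hθ, hne⟩ := (hχ.isCharacter.restrict T).exists_irr_constituent fun h =>
    hχ.apply_one_ne_zero (congrFun h 1)
  have h1 : charDegree θ = 1 := not_not.1 (mt (not_le_ker_iff hθ).2 (not_not.2 (le_trans (by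
    rw [Subgroup.subgroupOf, ← Subgroup.map_le_iff_le_comap, Subgroup.map_subtype_commutator]
    exact hT) (ker_le_of_constituent hχ.isCharacter hθ hne))))
  have e : indFun T θ = χ := eq_of_constituent_of_apply_one (isCharacter_ind T hθ.isCharacter) hχ
    (by rwa [inner_ind_left _ _ hχ.isClassFunction, Ne, classInner_eq_zero_comm])
    (by rw [ind_one, ← hθ.coe_charDegree, ← hχ.coe_charDegree, h1, hd]; simp)
  have z : ∀ a ∈ A, a ∉ R → χ a = 0 := fun a ha hr => by
    rw [← e]
    refine ind_eq_zero_of_not_conj T θ fun x hx => hr ?_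
    have := (inferInstance : R.Normal).conj_mem _ (TA ⟨hx, (inferInstance : A.Normal).conj_mem a ha x⟩) x⁻¹
    simpa [mul_assoc] using this
  have k : A ≤ charKer χ := le_ker_of_constituent (S := A) le_rfl hχ isCharacter_one (by
    unfold classInner
    refine mul_ne_zero (inv_ne_zero (Nat.cast_ne_zero.2 Nat.card_pos.ne')) ?_
    rw [Finset.sum_congr rfl (g := fun a : A => if (a : G) ∈ R then χ 1 else 0) fun a _ => by
      split_ifs with h
      · simp [apply_eq_of_mem_charKer (hR h)]
      · simp [z a a.2 h], ← Finset.sum_filter, Finset.sum_const, nsmul_eq_mul]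
    exact mul_ne_zero (Nat.cast_ne_zero.2 (Finset.card_ne_zero.2 ⟨1, by simp [R.one_mem]⟩)) hχ.apply_one_ne_zero)
    fun x _ => isCharacter_one.mem_charKer.2 rfl
  obtain ⟨a, ha, hr⟩ := SetLike.not_le_iff_exists.1 nA
  exact hχ.apply_one_ne_zero ((apply_eq_of_mem_charKer (k ha)).symm.trans (z a ha hr))

theorem pN0 {G : Type u} [Group G] [Finite G] {Q : Subgroup G} [Q.Normal] {q n y : ℕ} [hq : Fact q.Prime]
    (hQ : IsPGroup q Q) (h : Rel2 Q n y) (hv : n.factorization q ≤ y.factorization q) :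
    ⁅⁅Q, Q⁆, ⁅Q, Q⁆⁆ = ⊥ := by
  classical
  haveI := Fintype.ofFinite G
  obtain ⟨S⟩ : Nonempty (Sylow q G) := inferInstance
  have hQS : Q ≤ S := (H1.le_pCore hQ).trans (H1.pCore_le_sylow S)
  haveI := S.isPGroup'.isNilpotent
  have h1 : ∀ η : ↥(S : Subgroup G) → ℂ, IsIrrCharacter _ η → ¬ Q.subgroupOf S ≤ charKer η →
      q ^ n.factorization q ∣ charDegree η := fun η hη hk => by
    obtain ⟨m, hm, e⟩ := deg_eq_sum (isCharacter_ind _ hη.isCharacter)
    have h2 : q ^ n.factorization q ∣ (S : Subgroup G).index * charDegree η := by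
      rw [← deg_ind hη.isCharacter, e]
      refine Finset.dvd_sum fun ξ _ => ?_
      by_cases h0 : m ξ = 0
      · simp [h0]
      have := h _ ξ.2 fun h3 => hk (le_trans (Subgroup.subgroupOf_mono _ h3)
        (ker_le_of_constituent ξ.2.isCharacter hη (by
          rw [Ne, classInner_eq_zero_comm, ← inner_ind_left _ _ ξ.2.isClassFunction, hm]
          exact_mod_cast h0)))
      refine Dvd.dvd.mul_left ?_ _
      rcases this with e | e <;> rw [e]
      · exact Nat.ordProj_dvd n q
      · exact (pow_dvd_pow q hv).trans (Nat.ordProj_dvd y q)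
    exact Nat.Coprime.dvd_of_dvd_mul_left (((Nat.Prime.coprime_iff_not_dvd hq.out).2
      S.not_dvd_index).pow_left _) h2
  have lQ : ⁅Q, Q⁆ ≤ Q := Subgroup.commutator_le_left _ _
  haveI := (hQ.to_le lQ).isNilpotent
  refine comm_of_rel G ⁅Q, Q⁆ y inferInstance fun χ hχ nk => ?_
  refine (h χ hχ fun hk => nk (lQ.trans hk)).resolve_left fun hn => nk ?_
  obtain ⟨η, h2, h3⟩ := exists_constituent_not_dvd (hχ.isCharacter.restrict S)
    (n := q ^ (n.factorization q + 1)) (by
      rw [charDegree_congr (χ := fun x : ↥(S : Subgroup G) => χ x) (ψ := χ) rfl, hn]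
      exact Nat.pow_succ_factorization_not_dvd (hn ▸ hχ.charDegree_pos.ne') hq.out)
  refine le_ker_of_constituent (lQ.trans hQS) hχ η.2.isCharacter h2
    (le_trans ?_ (taketa_step (M := Q.subgroupOf S) (monomial_of_nilpotent η.2) fun ξ hξ hl => ?_))
  · intro x hx
    have := Subgroup.map_commutator (Q.subgroupOf S) (Q.subgroupOf S) (S : Subgroup G).subtype
    rw [Subgroup.map_subgroupOf_eq_of_le hQS] at this
    obtain ⟨y, hy, e⟩ := this.ge hx
    exact (Subtype.ext e : y = x) ▸ hy
  · by_contra h4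
    obtain ⟨k, hk⟩ := deg_eq_pow S.isPGroup' η.2
    rw [hk, Nat.pow_dvd_pow_iff_le_right hq.out.one_lt] at h3
    have := Nat.le_of_dvd hξ.charDegree_pos (h1 ξ hξ h4)
    rw [hk] at hl
    have := (Nat.pow_lt_pow_iff_right hq.out.one_lt).1 (this.trans_lt hl)
    omega

theorem pN : PN.{u} := fun G _ _ M _ r x y hr hM h => by
  haveI := Fact.mk hr
  rcases le_total (x.factorization r) (y.factorization r) with l | l
  · exact pN0 hM.isPGroup h l
  · exact pN0 hM.isPGroup (fun χ a b => (h χ a b).symm) l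

theorem pE : Ext.{u} := by
  intro G _ _ N hN _ lam n hc hn
  classical
  haveI := Fintype.ofFinite G
  have hθ := isIrrCharacter_hom lam
  have hNT := le_inertia hθ.isClassFunction
  obtain ⟨μ, h1, -⟩ := exists_ext_of_coprime (N.subgroupOf (inertia fun y => (lam y : ℂ))) (lam.comp (sOfHom N _))
    (fun g m => Units.ext (mem_inertia'.1 g.2 (sOfHom N _ m))) (k := n) (fun m => hn _)
    (hc.symm.coprime_dvd_left (Subgroup.relIndex_dvd_index_of_le hNT))
  have h2 : classInner (fun m : N => (μ ⟨m, hNT m.2⟩ : ℂ)) (fun y => (lam y : ℂ)) ≠ 0 := by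
    rw [show (fun m : N => (μ ⟨m, hNT m.2⟩ : ℂ)) = fun y => (lam y : ℂ) from funext fun m =>
      congrArg Units.val (h1 ⟨⟨m, hNT m.2⟩, m.2⟩), hθ.classInner_self]
    exact one_ne_zero
  obtain ⟨h3, h4⟩ := corr_irr hθ le_rfl hNT (isIrrCharacter_hom μ) h2
  exact ⟨_, h3, h4 ▸ h2, by rw [deg_ind (isCharacter_hom μ), charDegree_of_eq (n := 1) (by simp), mul_one]⟩

end L.Gd
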