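import Cfsg.Agent.L.KC
import Cfsg.Agent.L.K22

/-! Generated certificate (toolsL/cg.hpp). -/
set_option autoImplicit false
set_option maxRecDepth 200000
set_option Elab.async false
set_option linter.unusedVariables false
set_option linter.unusedSectionVars false

namespace L.V22x2
open H14 L.K22T L.K22
variable {G Ω : Type*} [Group G] [Finite G] [MulAction G Ω]

noncomputable def w0 : Word := [nat_lit 10, nat_lit 16, nat_lit 24, nat_lit 10, nat_lit 16, nat_lit 26]
noncomputable def w1 : Word := [nat_lit 36, nat_lit 36, nat_lit 35, nat_lit 4, nat_lit 45, nat_lit 6, nat_lit 2, nat_lit 27, nat_lit 35, nat_lit 37]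
noncomputable def w2 : Word := [nat_lit 43, nat_lit 36, nat_lit 6, nat_lit 44, nat_lit 8, nat_lit 30, nat_lit 38, nat_lit 20, nat_lit 18, nat_lit 45, nat_lit 27, nat_lit 24]
noncomputable def w3 : Word := [nat_lit 36, nat_lit 42, nat_lit 32, nat_lit 24, nat_lit 38, nat_lit 27, nat_lit 2, nat_lit 31, nat_lit 42, nat_lit 19, nat_lit 30]
noncomputable def w4 : Word := [nat_lit 27, nat_lit 49, nat_lit 16, nat_lit 29, nat_lit 18, nat_lit 38, nat_lit 38, nat_lit 21, nat_lit 2]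
noncomputable def w5 : Word := [nat_lit 35, nat_lit 14, nat_lit 38, nat_lit 4, nat_lit 39, nat_lit 34]
noncomputable def w6 : Word := [nat_lit 39, nat_lit 35, nat_lit 16, nat_lit 29, nat_lit 16, nat_lit 29, nat_lit 34, nat_lit 38]
noncomputable def w7 : Word := [nat_lit 45, nat_lit 4, nat_lit 18, nat_lit 29, nat_lit 21, nat_lit 44]
noncomputable def w8 : Word := [nat_lit 20, nat_lit 45, nat_lit 37, nat_lit 8, nat_lit 12, nat_lit 43, nat_lit 31, nat_lit 8, nat_lit 21, nat_lit 2]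
noncomputable def w9 : Word := [nat_lit 10, nat_lit 34, nat_lit 44, nat_lit 28, nat_lit 16, nat_lit 39, nat_lit 18, nat_lit 24, nat_lit 14, nat_lit 44]
noncomputable def w10 : Word := [nat_lit 49, nat_lit 12, nat_lit 42, nat_lit 31, nat_lit 45, nat_lit 27, nat_lit 19, nat_lit 22, nat_lit 34, nat_lit 6, nat_lit 4]
noncomputable def w11 : Word := [nat_lit 40, nat_lit 8, nat_lit 42, nat_lit 4, nat_lit 35, nat_lit 6, nat_lit 19, nat_lit 34, nat_lit 43, nat_lit 8, nat_lit 19]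
noncomputable def w12 : Word := [nat_lit 6, nat_lit 43, nat_lit 4, nat_lit 18, nat_lit 21, nat_lit 42, nat_lit 6]
noncomputable def w13 : Word := [nat_lit 40, nat_lit 38, nat_lit 14, nat_lit 10, nat_lit 34, nat_lit 14, nat_lit 19, nat_lit 39, nat_lit 10, nat_lit 30, nat_lit 48]
noncomputable def w14 : Word := [nat_lit 37, nat_lit 34, nat_lit 40, nat_lit 48, nat_lit 0, nat_lit 31, nat_lit 48, nat_lit 18, nat_lit 39, nat_lit 20, nat_lit 36]
noncomputable def w15 : Word := [nat_lit 40, nat_lit 39, nat_lit 29, nat_lit 2, nat_lit 28, nat_lit 38, nat_lit 40]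
noncomputable def w16 : Word := [nat_lit 14, nat_lit 8, nat_lit 35, nat_lit 35, nat_lit 29, nat_lit 39, nat_lit 19, nat_lit 38, nat_lit 6, nat_lit 21, nat_lit 42]
noncomputable def zs : List Word := [w0, w1, w2, w3, w4, w5, w6, w7, w8, w9, w10, w11, w12, w13, w14, w15, w16]
noncomputable def w17 : Word := [nat_lit 37, nat_lit 46, nat_lit 35, nat_lit 40, nat_lit 46, nat_lit 0, nat_lit 24, nat_lit 19, nat_lit 37, nat_lit 22, nat_lit 16]
noncomputable def w18 : Word := [nat_lit 42, nat_lit 32, nat_lit 36, nat_lit 24, nat_lit 39, nat_lit 42, nat_lit 19, nat_lit 30, nat_lit 40, nat_lit 31]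
noncomputable def w19 : Word := [nat_lit 29, nat_lit 34, nat_lit 31, nat_lit 49, nat_lit 35, nat_lit 4]
noncomputable def w20 : Word := [nat_lit 28, nat_lit 42, nat_lit 0, nat_lit 31, nat_lit 34, nat_lit 18, nat_lit 39, nat_lit 19, nat_lit 4, nat_lit 32]
noncomputable def hs : List Word := [w17, w18, w19, w20]
noncomputable def ws : List Word := List.append zs hs
theorem k21 : nrmRow F bs0 ws (nat_lit 17) (nat_lit 0) (nat_lit 1) [[nat_lit 28, nat_lit 22, nat_lit 12, nat_lit 4, nat_lit 2],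
 [nat_lit 4],
 [nat_lit 32, nat_lit 24, nat_lit 18, nat_lit 8, nat_lit 6],
 [nat_lit 8],
 [nat_lit 12, nat_lit 10],
 [nat_lit 12],
 [nat_lit 14],
 [nat_lit 32, nat_lit 18, nat_lit 16],
 [nat_lit 18],
 [nat_lit 28, nat_lit 22, nat_lit 20],
 [nat_lit 22],
 [nat_lit 24],
 [nat_lit 28, nat_lit 26],
 [nat_lit 28],
 [nat_lit 32, nat_lit 30],
 [nat_lit 32]] (nat_lit 262143) = true := by decide +kernel
theorem k22 : nrmRow F bs0 ws (nat_lit 17) (nat_lit 1) (nat_lit 2) [[nat_lit 32, nat_lit 4],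
 [nat_lit 32, nat_lit 30, nat_lit 28, nat_lit 22, nat_lit 12, nat_lit 10, nat_lit 6],
 [nat_lit 26, nat_lit 10, nat_lit 8],
 [nat_lit 10],
 [nat_lit 32, nat_lit 12],
 [nat_lit 30, nat_lit 26, nat_lit 20, nat_lit 14],
 [nat_lit 32, nat_lit 28, nat_lit 26, nat_lit 22, nat_lit 16],
 [nat_lit 20, nat_lit 18],
 [nat_lit 20],
 [nat_lit 32, nat_lit 22],
 [nat_lit 30, nat_lit 26, nat_lit 24],
 [nat_lit 26],
 [nat_lit 32, nat_lit 28],
 [nat_lit 30],
 [nat_lit 32]] (nat_lit 262143) = true := by decide +kernel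
theorem k23 : nrmRow F bs0 ws (nat_lit 17) (nat_lit 2) (nat_lit 3) [[nat_lit 30, nat_lit 26, nat_lit 20, nat_lit 10, nat_lit 6],
 [nat_lit 12, nat_lit 8],
 [nat_lit 10],
 [nat_lit 12],
 [nat_lit 14],
 [nat_lit 32, nat_lit 26, nat_lit 22, nat_lit 20, nat_lit 16],
 [nat_lit 22, nat_lit 18],
 [nat_lit 32, nat_lit 20],
 [nat_lit 22],
 [nat_lit 28, nat_lit 24],
 [nat_lit 32, nat_lit 26],
 [nat_lit 28],
 [nat_lit 30],
 [nat_lit 32]] (nat_lit 262143) = true := by decide +kernel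
theorem k24 : nrmRow F bs0 ws (nat_lit 17) (nat_lit 3) (nat_lit 4) [[nat_lit 32, nat_lit 28, nat_lit 18, nat_lit 8],
 [nat_lit 28, nat_lit 26, nat_lit 20, nat_lit 10],
 [nat_lit 32, nat_lit 28, nat_lit 26, nat_lit 22, nat_lit 12],
 [nat_lit 24, nat_lit 18, nat_lit 16, nat_lit 14],
 [nat_lit 32, nat_lit 24, nat_lit 16],
 [nat_lit 32, nat_lit 24, nat_lit 18],
 [nat_lit 32, nat_lit 30, nat_lit 28, nat_lit 20],
 [nat_lit 32, nat_lit 28, nat_lit 26, nat_lit 22],
 [nat_lit 24],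
 [nat_lit 26],
 [nat_lit 28],
 [nat_lit 30],
 [nat_lit 32]] (nat_lit 262143) = true := by decide +kernel
theorem k25 : nrmRow F bs0 ws (nat_lit 17) (nat_lit 4) (nat_lit 5) [[nat_lit 10],
 [nat_lit 12],
 [nat_lit 24, nat_lit 18, nat_lit 14],
 [nat_lit 32, nat_lit 24, nat_lit 16],
 [nat_lit 18],
 [nat_lit 26, nat_lit 20],
 [nat_lit 28, nat_lit 22],
 [nat_lit 24],
 [nat_lit 26],
 [nat_lit 28],
 [nat_lit 30],
 [nat_lit 32]] (nat_lit 262143) = true := by decide +kernel
theorem k26 : nrmRow F bs0 ws (nat_lit 17) (nat_lit 5) (nat_lit 6) [[nat_lit 12],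
 [nat_lit 30, nat_lit 26, nat_lit 20, nat_lit 14],
 [nat_lit 32, nat_lit 30, nat_lit 28, nat_lit 26, nat_lit 16],
 [nat_lit 26, nat_lit 18],
 [nat_lit 20],
 [nat_lit 32, nat_lit 22],
 [nat_lit 24],
 [nat_lit 26],
 [nat_lit 28],
 [nat_lit 30],
 [nat_lit 32]] (nat_lit 262143) = true := by decide +kernel
theorem k27 : nrmRow F bs0 ws (nat_lit 17) (nat_lit 6) (nat_lit 7) [[nat_lit 22, nat_lit 14],
 [nat_lit 32, nat_lit 26, nat_lit 16],
 [nat_lit 28, nat_lit 18],
 [nat_lit 32, nat_lit 20],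
 [nat_lit 22],
 [nat_lit 24],
 [nat_lit 26],
 [nat_lit 28],
 [nat_lit 30],
 [nat_lit 32]] (nat_lit 262143) = true := by decide +kernel
theorem k28 : nrmRow F bs0 ws (nat_lit 17) (nat_lit 7) (nat_lit 8) [[nat_lit 16],
 [nat_lit 18],
 [nat_lit 20],
 [nat_lit 22],
 [nat_lit 24],
 [nat_lit 26],
 [nat_lit 28],
 [nat_lit 30],
 [nat_lit 32]] (nat_lit 262143) = true := by decide +kernel
theorem k29 : nrmRow F bs0 ws (nat_lit 17) (nat_lit 8) (nat_lit 9) [[nat_lit 18],
 [nat_lit 20],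
 [nat_lit 22],
 [nat_lit 24],
 [nat_lit 26],
 [nat_lit 28],
 [nat_lit 30],
 [nat_lit 32]] (nat_lit 262143) = true := by decide +kernel
theorem k30 : nrmRow F bs0 ws (nat_lit 17) (nat_lit 9) (nat_lit 10) [[nat_lit 20],
 [nat_lit 22],
 [nat_lit 24],
 [nat_lit 26],
 [nat_lit 28],
 [nat_lit 30],
 [nat_lit 32]] (nat_lit 262143) = true := by decide +kernel
theorem k31 : nrmRow F bs0 ws (nat_lit 17) (nat_lit 10) (nat_lit 11) [[nat_lit 22],
 [nat_lit 24],
 [nat_lit 26],
 [nat_lit 28],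
 [nat_lit 30],
 [nat_lit 32]] (nat_lit 262143) = true := by decide +kernel
theorem k32 : nrmRow F bs0 ws (nat_lit 17) (nat_lit 11) (nat_lit 12) [[nat_lit 24],
 [nat_lit 26],
 [nat_lit 28],
 [nat_lit 30],
 [nat_lit 32]] (nat_lit 262143) = true := by decide +kernel
theorem k33 : nrmRow F bs0 ws (nat_lit 17) (nat_lit 12) (nat_lit 13) [[nat_lit 26],
 [nat_lit 28],
 [nat_lit 30],
 [nat_lit 32]] (nat_lit 262143) = true := by decide +kernel
theorem k34 : nrmRow F bs0 ws (nat_lit 17) (nat_lit 13) (nat_lit 14) [[nat_lit 28],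
 [nat_lit 30],
 [nat_lit 32]] (nat_lit 262143) = true := by decide +kernel
theorem k35 : nrmRow F bs0 ws (nat_lit 17) (nat_lit 14) (nat_lit 15) [[nat_lit 30],
 [nat_lit 32]] (nat_lit 262143) = true := by decide +kernel
theorem k36 : nrmRow F bs0 ws (nat_lit 17) (nat_lit 15) (nat_lit 16) [[nat_lit 32]] (nat_lit 262143) = true := by decide +kernel
theorem k37 : nrmRow F bs0 ws (nat_lit 17) (nat_lit 16) (nat_lit 17) [] (nat_lit 262143) = true := by decide +kernel
theorem k38 : nrmRow F bs0 ws (nat_lit 17) (nat_lit 17) (nat_lit 12) [[nat_lit 28, nat_lit 24],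
 [nat_lit 32, nat_lit 26],
 [nat_lit 28],
 [nat_lit 30],
 [nat_lit 32]] (nat_lit 258048) = true := by decide +kernel
theorem k39 : nrmRow F bs0 ws (nat_lit 17) (nat_lit 18) (nat_lit 3) [[nat_lit 32, nat_lit 20, nat_lit 18, nat_lit 12, nat_lit 10, nat_lit 8, nat_lit 6],
 [nat_lit 28, nat_lit 26, nat_lit 22, nat_lit 20, nat_lit 18, nat_lit 12, nat_lit 10, nat_lit 8],
 [nat_lit 32, nat_lit 28, nat_lit 26, nat_lit 22, nat_lit 18, nat_lit 12, nat_lit 8],
 [nat_lit 32, nat_lit 28, nat_lit 26, nat_lit 22, nat_lit 12],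
 [nat_lit 28, nat_lit 24, nat_lit 20, nat_lit 16, nat_lit 14],
 [nat_lit 32, nat_lit 28, nat_lit 26, nat_lit 24, nat_lit 18, nat_lit 16],
 [nat_lit 30, nat_lit 28, nat_lit 24, nat_lit 22, nat_lit 20, nat_lit 18],
 [nat_lit 26, nat_lit 24, nat_lit 22, nat_lit 18],
 [nat_lit 26, nat_lit 22],
 [nat_lit 32, nat_lit 30, nat_lit 28, nat_lit 26, nat_lit 24],
 [nat_lit 32, nat_lit 26],
 [nat_lit 32, nat_lit 28],
 [nat_lit 28, nat_lit 24],
 [nat_lit 28]] (nat_lit 138200) = true := by decide +kernel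
theorem k40 : nrmRow F bs0 ws (nat_lit 17) (nat_lit 19) (nat_lit 3) [[nat_lit 30, nat_lit 28, nat_lit 24, nat_lit 18, nat_lit 16, nat_lit 14, nat_lit 12, nat_lit 10, nat_lit 8],
 [nat_lit 32, nat_lit 30, nat_lit 28, nat_lit 26, nat_lit 24, nat_lit 22, nat_lit 20, nat_lit 18, nat_lit 14, nat_lit 10, nat_lit 8, nat_lit 6],
 [nat_lit 12, nat_lit 10],
 [nat_lit 10],
 [nat_lit 32, nat_lit 28, nat_lit 26, nat_lit 24, nat_lit 20, nat_lit 18, nat_lit 16, nat_lit 14],
 [nat_lit 26, nat_lit 22, nat_lit 18, nat_lit 16],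
 [nat_lit 30, nat_lit 24, nat_lit 20, nat_lit 16],
 [nat_lit 32, nat_lit 28, nat_lit 22, nat_lit 20],
 [nat_lit 32, nat_lit 28, nat_lit 26, nat_lit 20],
 [nat_lit 32, nat_lit 30, nat_lit 28, nat_lit 26, nat_lit 24],
 [nat_lit 32, nat_lit 30, nat_lit 28],
 [nat_lit 32, nat_lit 30, nat_lit 28, nat_lit 26],
 [nat_lit 30],
 [nat_lit 32]] (nat_lit 243112) = true := by decide +kernel
theorem k41 : nrmRow F bs0 ws (nat_lit 17) (nat_lit 20) (nat_lit 7) [[nat_lit 24, nat_lit 18, nat_lit 16, nat_lit 14],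
 [nat_lit 32, nat_lit 28, nat_lit 26, nat_lit 20, nat_lit 18, nat_lit 14],
 [nat_lit 32, nat_lit 30, nat_lit 24, nat_lit 22, nat_lit 20, nat_lit 18],
 [nat_lit 32, nat_lit 26],
 [nat_lit 32, nat_lit 28, nat_lit 26, nat_lit 22],
 [nat_lit 28, nat_lit 26, nat_lit 24, nat_lit 22, nat_lit 20, nat_lit 16, nat_lit 14],
 [nat_lit 30, nat_lit 28, nat_lit 20],
 [nat_lit 26, nat_lit 22],
 [nat_lit 30],
 [nat_lit 32]] (nat_lit 229504) = true := by decide +kernel
noncomputable def nm : List Nat := [nat_lit 262143, nat_lit 262143, nat_lit 262143, nat_lit 262143, nat_lit 262143, nat_lit 262143, nat_lit 262143, nat_lit 262143, nat_lit 262143, nat_lit 262143, nat_lit 262143, nat_lit 262143, nat_lit 262143, nat_lit 262143, nat_lit 262143, nat_lit 262143, nat_lit 262143, nat_lit 258048, nat_lit 138200, nat_lit 243112, nat_lit 229504]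
theorem hn (M : PM G Ω 3510 H15.Fi22P.nets) (hN : Nat.card G = 64561751654400) : NrmL (loc M.gen ws) 17 0 nm :=
  (nrm_cons (base0 M hN) k21 (nrm_cons (base0 M hN) k22 (nrm_cons (base0 M hN) k23 (nrm_cons (base0 M hN) k24 (nrm_cons (base0 M hN) k25 (nrm_cons (base0 M hN) k26 (nrm_cons (base0 M hN) k27 (nrm_cons (base0 M hN) k28 (nrm_cons (base0 M hN) k29 (nrm_cons (base0 M hN) k30 (nrm_cons (base0 M hN) k31 (nrm_cons (base0 M hN) k32 (nrm_cons (base0 M hN) k33 (nrm_cons (base0 M hN) k34 (nrm_cons (base0 M hN) k35 (nrm_cons (base0 M hN) k36 (nrm_cons (base0 M hN) k37 (nrm_cons (base0 M hN) k38 (nrm_cons (base0 M hN) k39 (nrm_cons (base0 M hN) k40 (nrm_cons (base0 M hN) k41 trivial)))))))))))))))))))))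
noncomputable def s42 : Nat := (nat_lit 0x200022000080000c0000840000004000000000080000040400000000041000000000880104000800040000200080001000004000001000102000000042020c080681062008004000004024010080800200002000002000000000000000202000400002200080100020200080000000000000088100048000021400000800002004100002000002000008188400020000000021a00000000028000000000000004000004000414010400002000008101000000110000408400000420000000100001c0000000000a80108000000000000068101200000004004400040004900924080004000000000000002100001006c0020000200008090400040000000020800404020100802030002102a00000200000011802000005802860c00080000000000000000000102000a800000010000122000000400000000004002000001000040000030020000428000001000000010000000000840000400204040000002000840000100100804480011010000000030000002401003020020000000000400004000000480000000080804400001008040082000000008008008404201000402000200000000208000000000000000408000200840)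
noncomputable def s43 : Nat := (nat_lit 0x800020000000000000000000000000000000000000000000000000000000000000000000000000000000000000000000000000000000000000000000000000000000000000000000000000000000000000000000000000080010000020000000000000000000000000000000000010000000000000000000000000000100000000000000000000000000000000000000000000000000000000000000000000000000000000000000000000000000000000000000000000100000000000000000000000000000000000000000000000000000000000000000000000000000000000000000000000000000000000000000000000000000000000000000000000000000000000000000000000000000000000000000000000000000000000000000000000000000000000000000000000000000000000000008000000000000000000000000040000080000000000000000000000000000020100000000000000000000010000000000000000000000000000000000000000000000000000000000000000000000000000000000000000000000000000000000000000000000000010000000000000000000000000000080000000000)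
noncomputable def s44 : Nat := (nat_lit 0x100000000000000000000000000000000000000000000000000000000000000000000000000000000000000000000000000000000000000000000000000000000000000000000000000000000000000000000000000000000000000000000000000000000000000000000000000000000000000000000000000000000000000000000000000000000000000000000000000000000000000000000000000000000000000000000000000000000000000000000000000000000000000000000000000000000000000000000000000000000000000000000000000000000000000000000000000000000000000000000000000000000000000000000000000000000000000000000000000000000000000000000000000000000000000000000000000000000000000000000000000080000000000000000000000000000008000000000800000000000)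
noncomputable def s45 : Nat := (nat_lit 0x10240000000000000000000000000000000000000004000000000000000000000000000000000000000000800000000000000000000000000000000000000000000000000000000000000000000000000000040000000000000000000000000000010000000000000000000000000000000000000000000000000000000000000000000000000000000000000000000000000000000000000000000000000000000000000000000000000000000000000000000000000000000000000000000000000000000000000000000000000000000000000000000000000000000000000000000000000000000000000000000000000000000000000000000000000000000000000000000000000000000000000000000000000000000000000000000000000000000000000000000000000000040000000000000000000000000000000000000000000000000000000000000000000000000000000000000000000000000000000000000000000000000000000000)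
noncomputable def c46 : Chn := [((nat_lit 6), s42), ((nat_lit 43), s43), ((nat_lit 47), s44), ((nat_lit 522), s45)]
noncomputable def d47 : List OD := [⟨[nat_lit 0, nat_lit 1, nat_lit 3], [dw (nat_lit 0x03), dw (nat_lit 0x05), dw (nat_lit 0x01), dw (nat_lit 0x03), dw (nat_lit 0x01), dw (nat_lit 0x05), dw (nat_lit 0x03)], (dn (nat_lit 20) (nat_lit 0x19201340830e243046c30a102274c235e83287c3266430f6421674321f020698306e8324943061c3334832eec32e4c31cc432ff010324326c832e74313a8100543156431970326b0208383138832d60215901281c31b203009c30c1831afc319843368432ec830dbc320f03119c3119c2326032a3c32a103062830844315043181c32e843363c3363c135883358821b2c31b2c203cc31604316042145432f5812e8830a4030c2c3035832c34311e432d1c117d832f243212c329d432524325241134c3297c31cbc33694336942186431864218f431f8431200209b8309b820cd030cd01256820f9822b34217fc3359c3359c21dac21dac1149032c9413098317f030b94322d82054811f9822fd432fd421dec209ac318f83138c315a4315a4104e0304e0226f432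6f4113f831abc31ae4315e4315e422d88318b4311ac311ac225ac313f0313f0233e832220307e4308b431cc831cc811ad831ad821ad8110d0310d011b7831b7811c8031c8021c8012b1432b1422b141328c3328c22ec431ca0318e8327b0327b0227b011c7431c7422d94327c4227a8327a8227a8120803208022238322182033830338113a4313a4230f0230f011bf8308b031dc031dc0114803258c3258c11eac31eac11bc831bc8104bc304bc1162c3162c1313c3313c110c4313ec3081031704332483039c3329c3329c1036c31eb032f4432f44124803248010a9831ea830bc830bc81303031a783179832ebc3))⟩,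
 ⟨[nat_lit 7, nat_lit 12, nat_lit 6, nat_lit 4], [], (dn (nat_lit 20) (nat_lit 0x028042b0440d9c40d9c11fa041fa0128c0428c032b9c42b9c30f9c1364410bb4400ac400ac2))⟩,
 ⟨[nat_lit 7, nat_lit 6], [], (dn (nat_lit 20) (nat_lit 0x29001034c200bc1))⟩,
 ⟨[nat_lit 0, nat_lit 6, nat_lit 2], [], (dn (nat_lit 20) (nat_lit 0x2b88323e832e1432e142082830828208281))⟩]
theorem k48 : ocChk (nat_lit 3510) H15.Fi22P.nets F zs c46 d47 [] = true := by decide +kernel
theorem o49 (M : PM G Ω 3510 H15.Fi22P.nets) (hN : Nat.card G = 64561751654400) : OC M (Nn (loc M.gen ws) 17 0) [] c46 :=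
  oc_of (sub_le_Nn M.gen zs hs (m := 17) rfl) k48
theorem k50 : powChk F bs0 ws (nat_lit 2) (nat_lit 17) nm [[],
 [],
 [],
 [nat_lit 32, nat_lit 28, nat_lit 26, nat_lit 24, nat_lit 18, nat_lit 16],
 [],
 [],
 [],
 [],
 [],
 [],
 [],
 [],
 [],
 [],
 [],
 [],
 []] = true := by decide +kernel
theorem pc (M : PM G Ω 3510 H15.Fi22P.nets) (hN : Nat.card G = 64561751654400) : Pc (loc M.gen ws) 2 17 ∧ ∀ i ≤ 17, Nat.card (Nn (loc M.gen ws) 17 i) = 2 ^ (17 - i) :=
  pc_of (base0 M hN) (by norm_num) (hn M hN) k50 (OC.le_card' (o49 M hN) (by decide +kernel))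
noncomputable def ra : Word := tw a0 [nat_lit 18, nat_lit 24, nat_lit 42] -- fix 694
noncomputable def rb : Word := List.append (tw a0 [nat_lit 2, nat_lit 21, nat_lit 27]) ra -- fix 182
noncomputable def rc : Word := List.append (tw a0 [nat_lit 2, nat_lit 31, nat_lit 36]) rb -- fix 54
noncomputable def reps : List Word := [ra, rb, rc]
noncomputable def cl : List (Word × Nat) := [([], (nat_lit 16)),
 ([nat_lit 30], (nat_lit 16)),
 ([nat_lit 28], (nat_lit 16)),
 ([nat_lit 24], (nat_lit 16)),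
 ([nat_lit 30, nat_lit 28], (nat_lit 16)),
 ([nat_lit 30, nat_lit 24], (nat_lit 16)),
 ([nat_lit 28, nat_lit 14], (nat_lit 16)),
 ([nat_lit 24, nat_lit 14], (nat_lit 16)),
 ([nat_lit 20, nat_lit 12], (nat_lit 16)),
 ([nat_lit 30, nat_lit 24, nat_lit 14], (nat_lit 16)),
 ([nat_lit 24, nat_lit 20, nat_lit 12], (nat_lit 16)),
 ([], (nat_lit 15)),
 ([nat_lit 28], (nat_lit 15)),
 ([nat_lit 24], (nat_lit 15)),
 ([nat_lit 28, nat_lit 14], (nat_lit 15)),
 ([nat_lit 24, nat_lit 14], (nat_lit 15)),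
 ([nat_lit 20, nat_lit 12], (nat_lit 15)),
 ([nat_lit 24, nat_lit 20, nat_lit 12], (nat_lit 15)),
 ([], (nat_lit 14)),
 ([nat_lit 26], (nat_lit 14)),
 ([nat_lit 24], (nat_lit 14)),
 ([nat_lit 22], (nat_lit 14)),
 ([nat_lit 14], (nat_lit 14)),
 ([nat_lit 26, nat_lit 14], (nat_lit 14)),
 ([nat_lit 24, nat_lit 22], (nat_lit 14)),
 ([nat_lit 24, nat_lit 14], (nat_lit 14)),
 ([nat_lit 20, nat_lit 12], (nat_lit 14)),
 ([nat_lit 24, nat_lit 20, nat_lit 12], (nat_lit 14)),
 ([], (nat_lit 13)),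
 ([nat_lit 24], (nat_lit 13)),
 ([nat_lit 22], (nat_lit 13)),
 ([nat_lit 14], (nat_lit 13)),
 ([nat_lit 24, nat_lit 22], (nat_lit 13)),
 ([nat_lit 24, nat_lit 14], (nat_lit 13)),
 ([nat_lit 20, nat_lit 12], (nat_lit 13)),
 ([nat_lit 16, nat_lit 12], (nat_lit 13)),
 ([nat_lit 24, nat_lit 20, nat_lit 12], (nat_lit 13)),
 ([], (nat_lit 12)),
 ([nat_lit 22], (nat_lit 12)),
 ([nat_lit 14], (nat_lit 12)),
 ([nat_lit 20, nat_lit 12], (nat_lit 12)),
 ([nat_lit 16, nat_lit 12], (nat_lit 12)),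
 ([], (nat_lit 11)),
 ([nat_lit 20], (nat_lit 11)),
 ([nat_lit 14], (nat_lit 11)),
 ([nat_lit 12], (nat_lit 11)),
 ([nat_lit 20, nat_lit 12], (nat_lit 11)),
 ([nat_lit 16, nat_lit 12], (nat_lit 11)),
 ([nat_lit 14, nat_lit 12], (nat_lit 11)),
 ([], (nat_lit 10)),
 ([nat_lit 18], (nat_lit 10)),
 ([nat_lit 14], (nat_lit 10)),
 ([nat_lit 12], (nat_lit 10)),
 ([nat_lit 18, nat_lit 12], (nat_lit 10)),
 ([nat_lit 16, nat_lit 12], (nat_lit 10)),
 ([nat_lit 14, nat_lit 12], (nat_lit 10)),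
 ([], (nat_lit 9)),
 ([nat_lit 16], (nat_lit 9)),
 ([nat_lit 14], (nat_lit 9)),
 ([nat_lit 12], (nat_lit 9)),
 ([nat_lit 16, nat_lit 12], (nat_lit 9)),
 ([nat_lit 14, nat_lit 12], (nat_lit 9)),
 ([], (nat_lit 8)),
 ([nat_lit 14], (nat_lit 8)),
 ([nat_lit 12], (nat_lit 8)),
 ([nat_lit 14, nat_lit 12], (nat_lit 8)),
 ([], (nat_lit 7)),
 ([nat_lit 12], (nat_lit 7)),
 ([], (nat_lit 6)),
 ([nat_lit 10], (nat_lit 6)),
 ([nat_lit 4], (nat_lit 6)),
 ([nat_lit 8, nat_lit 4], (nat_lit 6)),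
 ([], (nat_lit 5)),
 ([nat_lit 8], (nat_lit 5)),
 ([nat_lit 4], (nat_lit 5)),
 ([nat_lit 8, nat_lit 4], (nat_lit 5)),
 ([nat_lit 6, nat_lit 4], (nat_lit 5)),
 ([], (nat_lit 4)),
 ([nat_lit 6], (nat_lit 4)),
 ([nat_lit 4], (nat_lit 4)),
 ([nat_lit 6, nat_lit 4], (nat_lit 4)),
 ([], (nat_lit 3)),
 ([nat_lit 4], (nat_lit 3)),
 ([], (nat_lit 2)),
 ([nat_lit 2], (nat_lit 2)),
 ([nat_lit 0], (nat_lit 2)),
 ([nat_lit 2, nat_lit 0], (nat_lit 2)),
 ([], (nat_lit 1)),
 ([nat_lit 0], (nat_lit 1)),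
 ([], (nat_lit 0))]
noncomputable def i51 : List (List Ins) := [[Ins.leaf (nat_lit 1000) [], Ins.leaf (nat_lit 1) [nat_lit 38, nat_lit 34, nat_lit 39, nat_lit 0, nat_lit 24, nat_lit 29, nat_lit 35, nat_lit 18, nat_lit 29, nat_lit 49, nat_lit 36, nat_lit 19]],
 [Ins.leaf (nat_lit 0) [nat_lit 34, nat_lit 37, nat_lit 10, nat_lit 28, nat_lit 2, nat_lit 20, nat_lit 28, nat_lit 21, nat_lit 39, nat_lit 36], Ins.leaf (nat_lit 0) [nat_lit 36, nat_lit 12, nat_lit 49, nat_lit 16, nat_lit 31, nat_lit 39, nat_lit 18, nat_lit 35, nat_lit 21, nat_lit 19, nat_lit 14]],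
 [Ins.leaf (nat_lit 1) [nat_lit 10, nat_lit 40, nat_lit 38, nat_lit 32, nat_lit 43, nat_lit 24, nat_lit 19, nat_lit 40, nat_lit 43, nat_lit 35, nat_lit 32], Ins.leaf (nat_lit 1) [nat_lit 39, nat_lit 10, nat_lit 31, nat_lit 34, nat_lit 44, nat_lit 18, nat_lit 12, nat_lit 35]],
 [Ins.leaf (nat_lit 0) [nat_lit 46, nat_lit 34, nat_lit 8, nat_lit 29, nat_lit 16, nat_lit 26, nat_lit 18, nat_lit 36, nat_lit 26, nat_lit 29], Ins.leaf (nat_lit 2) [nat_lit 12, nat_lit 40, nat_lit 6, nat_lit 29, nat_lit 37, nat_lit 16, nat_lit 19, nat_lit 37, nat_lit 30, nat_lit 43, nat_lit 28]],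
 [Ins.leaf (nat_lit 2) [nat_lit 36, nat_lit 40, nat_lit 16, nat_lit 44, nat_lit 28, nat_lit 42, nat_lit 32, nat_lit 18, nat_lit 30, nat_lit 42, nat_lit 34], Ins.leaf (nat_lit 2) [nat_lit 48, nat_lit 42, nat_lit 46, nat_lit 8, nat_lit 29, nat_lit 40, nat_lit 24, nat_lit 2, nat_lit 21, nat_lit 44, nat_lit 20, nat_lit 8]],
 [Ins.leaf (nat_lit 1) [nat_lit 0, nat_lit 38, nat_lit 38, nat_lit 27, nat_lit 14, nat_lit 28, nat_lit 19, nat_lit 27, nat_lit 42, nat_lit 38, nat_lit 27], Ins.leaf (nat_lit 1) [nat_lit 16, nat_lit 32, nat_lit 44, nat_lit 4, nat_lit 37, nat_lit 19, nat_lit 35, nat_lit 40, nat_lit 24, nat_lit 45]],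
 [Ins.leaf (nat_lit 2) [nat_lit 19, nat_lit 45, nat_lit 42, nat_lit 38, nat_lit 31, nat_lit 28, nat_lit 20, nat_lit 28, nat_lit 49, nat_lit 2, nat_lit 29], Ins.leaf (nat_lit 2) [nat_lit 29, nat_lit 44, nat_lit 44, nat_lit 46, nat_lit 32, nat_lit 43, nat_lit 0, nat_lit 19, nat_lit 28, nat_lit 32, nat_lit 36]],
 [Ins.leaf (nat_lit 1) [nat_lit 44, nat_lit 48, nat_lit 39, nat_lit 12, nat_lit 16, nat_lit 28, nat_lit 46, nat_lit 18, nat_lit 34, nat_lit 34, nat_lit 43], Ins.leaf (nat_lit 2) [nat_lit 44, nat_lit 49, nat_lit 32, nat_lit 46, nat_lit 29, nat_lit 43, nat_lit 12, nat_lit 18, nat_lit 49, nat_lit 21, nat_lit 26, nat_lit 30]],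
 [Ins.ord (nat_lit 16) (nat_lit 1) [], Ins.ord (nat_lit 16) (nat_lit 1) []],
 [Ins.leaf (nat_lit 2) [nat_lit 45, nat_lit 12, nat_lit 10, nat_lit 24, nat_lit 39, nat_lit 28, nat_lit 19, nat_lit 39, nat_lit 27, nat_lit 38, nat_lit 20], Ins.leaf (nat_lit 2) [nat_lit 35, nat_lit 14, nat_lit 16, nat_lit 24, nat_lit 12, nat_lit 31, nat_lit 19, nat_lit 28, nat_lit 49, nat_lit 2, nat_lit 26]],
 [Ins.ord (nat_lit 16) (nat_lit 1) [], Ins.ord (nat_lit 16) (nat_lit 1) []],
 [Ins.ref (nat_lit 0), Ins.ref (nat_lit 1)],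
 [Ins.ref (nat_lit 2), Ins.ref (nat_lit 4)],
 [Ins.ref (nat_lit 3), Ins.ref (nat_lit 5)],
 [Ins.ref (nat_lit 6), Ins.jmp (nat_lit 6) [nat_lit 39, nat_lit 24, nat_lit 18, nat_lit 8, nat_lit 0, nat_lit 40] []],
 [Ins.ref (nat_lit 7), Ins.ref (nat_lit 9)],
 [Ins.ref (nat_lit 8), Ins.jmp (nat_lit 8) [nat_lit 0, nat_lit 6] []],
 [Ins.ref (nat_lit 10), Ins.jmp (nat_lit 10) [nat_lit 16, nat_lit 2] []],
 [Ins.ref (nat_lit 11), Ins.ref (nat_lit 12)],
 [Ins.jmp (nat_lit 12) [nat_lit 38] [nat_lit 32, nat_lit 30], Ins.jmp (nat_lit 12) [nat_lit 0, nat_lit 38] [nat_lit 32, nat_lit 30]],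
 [Ins.ref (nat_lit 13), Ins.jmp (nat_lit 13) [nat_lit 4] []],
 [Ins.jmp (nat_lit 12) [nat_lit 9, nat_lit 40] [nat_lit 32], Ins.jmp (nat_lit 12) [nat_lit 40] [nat_lit 32]],
 [Ins.jmp (nat_lit 13) [nat_lit 9, nat_lit 11, nat_lit 13, nat_lit 40] [], Ins.ref (nat_lit 14)],
 [Ins.jmp (nat_lit 14) [nat_lit 9, nat_lit 38, nat_lit 9] [nat_lit 32, nat_lit 30], Ins.jmp (nat_lit 14) [nat_lit 0, nat_lit 9, nat_lit 38, nat_lit 9] [nat_lit 32, nat_lit 30]],
 [Ins.jmp (nat_lit 14) [nat_lit 9, nat_lit 41, nat_lit 9] [nat_lit 32, nat_lit 30], Ins.jmp (nat_lit 14) [nat_lit 41, nat_lit 9] [nat_lit 32, nat_lit 30]],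
 [Ins.ref (nat_lit 15), Ins.jmp (nat_lit 15) [nat_lit 4] []],
 [Ins.ref (nat_lit 16), Ins.jmp (nat_lit 16) [nat_lit 18] []],
 [Ins.ref (nat_lit 17), Ins.jmp (nat_lit 17) [nat_lit 18] []],
 [Ins.ref (nat_lit 18), Ins.ref (nat_lit 19)],
 [Ins.ref (nat_lit 20), Ins.jmp (nat_lit 20) [nat_lit 2] [nat_lit 30]],
 [Ins.ref (nat_lit 21), Ins.jmp (nat_lit 21) [nat_lit 6] [nat_lit 32, nat_lit 28]],
 [Ins.ref (nat_lit 22), Ins.ref (nat_lit 23)],
 [Ins.ref (nat_lit 24), Ins.jmp (nat_lit 24) [nat_lit 6] [nat_lit 32, nat_lit 28]],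
 [Ins.ref (nat_lit 25), Ins.jmp (nat_lit 25) [nat_lit 10, nat_lit 2] [nat_lit 30]],
 [Ins.ref (nat_lit 26), Ins.jmp (nat_lit 26) [nat_lit 16] [nat_lit 32]],
 [Ins.ord (nat_lit 13) (nat_lit 1) [nat_lit 32], Ins.ord (nat_lit 13) (nat_lit 1) [nat_lit 32]],
 [Ins.ref (nat_lit 27), Ins.jmp (nat_lit 27) [nat_lit 16] [nat_lit 32]],
 [Ins.ref (nat_lit 28), Ins.ref (nat_lit 29)],
 [Ins.ref (nat_lit 30), Ins.ref (nat_lit 32)],
 [Ins.ref (nat_lit 31), Ins.ref (nat_lit 33)],
 [Ins.ref (nat_lit 34), Ins.ref (nat_lit 36)],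
 [Ins.ref (nat_lit 35), Ins.jmp (nat_lit 35) [nat_lit 8] [nat_lit 32]],
 [Ins.ref (nat_lit 37), Ins.ref (nat_lit 38)],
 [Ins.jmp (nat_lit 38) [nat_lit 39] [nat_lit 30, nat_lit 28], Ins.jmp (nat_lit 38) [nat_lit 0, nat_lit 39] [nat_lit 32, nat_lit 28, nat_lit 26]],
 [Ins.ref (nat_lit 39), Ins.jmp (nat_lit 39) [nat_lit 12] []],
 [Ins.jmp (nat_lit 38) [nat_lit 15, nat_lit 35] [nat_lit 26], Ins.jmp (nat_lit 38) [nat_lit 35] [nat_lit 26]],
 [Ins.ref (nat_lit 40), Ins.jmp (nat_lit 40) [nat_lit 14] []],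
 [Ins.ref (nat_lit 41), Ins.jmp (nat_lit 41) [nat_lit 14] []],
 [Ins.ord (nat_lit 11) (nat_lit 1) [], Ins.ord (nat_lit 11) (nat_lit 1) []],
 [Ins.ref (nat_lit 42), Ins.ref (nat_lit 43)],
 [Ins.jmp (nat_lit 43) [nat_lit 37] [nat_lit 32, nat_lit 30, nat_lit 22], Ins.jmp (nat_lit 43) [nat_lit 2, nat_lit 37] [nat_lit 32, nat_lit 30, nat_lit 22]],
 [Ins.ref (nat_lit 44), Ins.jmp (nat_lit 44) [nat_lit 10] [nat_lit 30, nat_lit 26]],
 [Ins.ref (nat_lit 45), Ins.ref (nat_lit 46)],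
 [Ins.jmp (nat_lit 46) [nat_lit 37] [nat_lit 32, nat_lit 30, nat_lit 28], Ins.jmp (nat_lit 46) [nat_lit 2, nat_lit 37] [nat_lit 30]],
 [Ins.ref (nat_lit 47), Ins.jmp (nat_lit 47) [nat_lit 4] [nat_lit 26, nat_lit 22]],
 [Ins.ref (nat_lit 48), Ins.jmp (nat_lit 48) [nat_lit 10] [nat_lit 30, nat_lit 26]],
 [Ins.ref (nat_lit 49), Ins.ref (nat_lit 50)],
 [Ins.jmp (nat_lit 50) [nat_lit 39] [nat_lit 24, nat_lit 22], Ins.jmp (nat_lit 50) [nat_lit 0, nat_lit 39] [nat_lit 32, nat_lit 24, nat_lit 22]],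
 [Ins.ref (nat_lit 51), Ins.jmp (nat_lit 51) [nat_lit 8] [nat_lit 24]],
 [Ins.ref (nat_lit 52), Ins.ref (nat_lit 53)],
 [Ins.ref (nat_lit 54), Ins.jmp (nat_lit 54) [nat_lit 0] [nat_lit 32]],
 [Ins.ref (nat_lit 55), Ins.jmp (nat_lit 55) [nat_lit 8] [nat_lit 24]],
 [Ins.ref (nat_lit 56), Ins.ref (nat_lit 57)],
 [Ins.ref (nat_lit 58), Ins.jmp (nat_lit 58) [nat_lit 6] [nat_lit 32, nat_lit 18]],
 [Ins.ref (nat_lit 59), Ins.ref (nat_lit 60)],
 [Ins.ref (nat_lit 61), Ins.jmp (nat_lit 61) [nat_lit 6] [nat_lit 28, nat_lit 26, nat_lit 22, nat_lit 18]],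
 [Ins.ref (nat_lit 62), Ins.ref (nat_lit 63)],
 [Ins.ref (nat_lit 64), Ins.ref (nat_lit 65)],
 [Ins.ref (nat_lit 66), Ins.ref (nat_lit 67)],
 [Ins.jmp (nat_lit 67) [nat_lit 39] [], Ins.jmp (nat_lit 67) [nat_lit 0, nat_lit 39] []],
 [Ins.jmp (nat_lit 67) [nat_lit 9, nat_lit 40] [nat_lit 32, nat_lit 22], Ins.jmp (nat_lit 67) [nat_lit 40] [nat_lit 32, nat_lit 22]],
 [Ins.ord (nat_lit 6) (nat_lit 1) [], Ins.ord (nat_lit 6) (nat_lit 1) []],
 [Ins.ref (nat_lit 68), Ins.ref (nat_lit 69)],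
 [Ins.jmp (nat_lit 69) [nat_lit 37] [nat_lit 30, nat_lit 22, nat_lit 20, nat_lit 12], Ins.jmp (nat_lit 69) [nat_lit 2, nat_lit 37] [nat_lit 32, nat_lit 30, nat_lit 28, nat_lit 26, nat_lit 22, nat_lit 20, nat_lit 12]],
 [Ins.ref (nat_lit 70), Ins.jmp (nat_lit 70) [nat_lit 6] [nat_lit 32, nat_lit 28, nat_lit 26, nat_lit 20]],
 [Ins.ref (nat_lit 71), Ins.jmp (nat_lit 71) [nat_lit 6] [nat_lit 20, nat_lit 18]],
 [Ins.ord (nat_lit 5) (nat_lit 1) [nat_lit 28, nat_lit 26, nat_lit 24, nat_lit 18, nat_lit 16], Ins.ord (nat_lit 5) (nat_lit 1) [nat_lit 32, nat_lit 30, nat_lit 28, nat_lit 24, nat_lit 20, nat_lit 18, nat_lit 16]],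
 [Ins.ref (nat_lit 72), Ins.ref (nat_lit 73)],
 [Ins.jmp (nat_lit 73) [nat_lit 38] [nat_lit 30, nat_lit 28, nat_lit 24, nat_lit 18, nat_lit 16, nat_lit 14, nat_lit 12, nat_lit 10], Ins.jmp (nat_lit 73) [nat_lit 0, nat_lit 38] [nat_lit 30, nat_lit 26, nat_lit 24, nat_lit 20, nat_lit 18, nat_lit 14, nat_lit 12, nat_lit 10]],
 [Ins.ref (nat_lit 74), Ins.ref (nat_lit 75)],
 [Ins.ref (nat_lit 76), Ins.jmp (nat_lit 76) [nat_lit 0] [nat_lit 32, nat_lit 24, nat_lit 18]],
 [Ins.ref (nat_lit 77), Ins.ref (nat_lit 78)],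
 [Ins.ref (nat_lit 79), Ins.ref (nat_lit 80)],
 [Ins.ref (nat_lit 81), Ins.ref (nat_lit 82)],
 [Ins.jmp (nat_lit 82) [nat_lit 38] [nat_lit 32, nat_lit 30, nat_lit 28, nat_lit 22, nat_lit 20, nat_lit 12], Ins.jmp (nat_lit 82) [nat_lit 0, nat_lit 38] [nat_lit 28, nat_lit 22, nat_lit 12, nat_lit 10]],
 [Ins.jmp (nat_lit 82) [nat_lit 37] [nat_lit 32, nat_lit 30, nat_lit 28, nat_lit 22, nat_lit 20, nat_lit 10], Ins.jmp (nat_lit 82) [nat_lit 2, nat_lit 37] [nat_lit 32, nat_lit 30, nat_lit 26, nat_lit 22, nat_lit 20, nat_lit 12, nat_lit 10]],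
 [Ins.ord (nat_lit 2) (nat_lit 1) [nat_lit 28, nat_lit 22, nat_lit 12], Ins.ord (nat_lit 2) (nat_lit 1) [nat_lit 32, nat_lit 28, nat_lit 22, nat_lit 12]],
 [Ins.ref (nat_lit 83), Ins.ref (nat_lit 84)],
 [Ins.ref (nat_lit 85), Ins.ref (nat_lit 86)],
 [Ins.ref (nat_lit 87), Ins.ref (nat_lit 88)]]
theorem k52 : cvChk F bs0 ws (nat_lit 2) (nat_lit 17) nm reps cl i51 (nat_lit 0) (nat_lit 90) = true := by decide +kernel
theorem v53 (M : PM G Ω 3510 H15.Fi22P.nets) (hN : Nat.card G = 64561751654400) : CvA (loc M.gen ws) (Rp M.gen reps) 2 17 cl 90 :=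
  cv_step (base0 M hN) (by norm_num) (hn M hN) (pc M hN).1 (cv_zero _ _ _ _ _) k52
theorem cover (M : PM G Ω 3510 H15.Fi22P.nets) (hN : Nat.card G = 64561751654400) : ∀ g : G, g ^ 2 = 1 → g = 1 ∨ ∃ w ∈ reps, IsConj (ev M.gen w) g :=
  cv_end (k := 89) (by norm_num) (pc M hN).2 hN (v53 M hN) (by decide +kernel)

end L.V22x2
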