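import Cfsg.Agent.L.KR
import Cfsg.Agent.L.V22x2
import Cfsg.Agent.L.K22

/-! Generated certificate (toolsL/cg.hpp). -/
set_option autoImplicit false
set_option maxRecDepth 200000
set_option Elab.async false
set_option linter.unusedVariables false
set_option linter.unusedSectionVars false

namespace L.I22
open H14 L.K22T L.K22
variable {G Ω : Type*} [Group G] [Finite G] [MulAction G Ω]

noncomputable def t0 : Word := []
noncomputable def ts1 : List Word := t0 :: []
noncomputable def t1 : Word := [nat_lit 18, nat_lit 20, nat_lit 16]
noncomputable def ts2 : List Word := t1 :: ts1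
noncomputable def t2 : Word := [nat_lit 20, nat_lit 18]
noncomputable def ts3 : List Word := t2 :: ts2
noncomputable def t3 : Word := [nat_lit 19, nat_lit 21]
noncomputable def ts4 : List Word := t3 :: ts3
noncomputable def w0 : Word := [nat_lit 10, nat_lit 40, nat_lit 6, nat_lit 36, nat_lit 28, nat_lit 37, nat_lit 18, nat_lit 36, nat_lit 14, nat_lit 2]
theorem k1 : relK F bs0 [(List.append (prW a0 ts3) w0, List.append w0 (prW a0 ts4))] = true := by decide +kernel
theorem cj4 (M : PM G Ω 3510 H15.Fi22P.nets) (hN : Nat.card G = 64561751654400) : IsConj (ev M.gen (prW a0 ts3)) (ev M.gen (prW a0 ts4)) :=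
  (conj_of_rel' (rels_base (base0 M hN) k1))
theorem k2 : trChk (nat_lit 3510) H15.Fi22P.nets F A0 [] t0 [] (nat_lit 0) (full (nat_lit 3510)) 0 = true := by decide +kernel
theorem tr1 (M : PM G Ω 3510 H15.Fi22P.nets) (hN : Nat.card G = 64561751654400) : Tr M a0 ts1 :=
  Tr.cons (fi M hN) tr_nil (L.K22.o9 M hN) k2
theorem k3 : trChk (nat_lit 3510) H15.Fi22P.nets F A0 ts1 t1 [nat_lit 0] (nat_lit 7) L.K22.s32 0 = true := by decide +kernel
theorem tr2 (M : PM G Ω 3510 H15.Fi22P.nets) (hN : Nat.card G = 64561751654400) : Tr M a0 ts2 :=
  Tr.cons (fi M hN) (tr1 M hN) (L.K22.o42 M hN) k3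
noncomputable def s4 : Nat := (nat_lit 0x2400000000000000000000000000000000000000000000000020000000000000000000000000000000000000000000000000000000000000c2001001000040000142000000000000000000000000000000000000000000000000000000000000000000000020000140000000000000000000000000000000000000000000000000800000002000000400100800500000400080000000000000000000080000000000000000000000000000000000000001000000001500880464200000000800000000000000000000000000000000000000800000000000a08010000080c000201208c28400000000000000000000000000000000000000000400000004510060000060000080821000000000000000000000002000000200000000110402011000004228d44400080000000000000000000000000008804154000000a000000210800dc0000000000000000000000000300005c00500028004000004138c000022603002900000000000000000080000010000301800080006437080040008e8100008b48082000000000000100000040a0400004054a000c0012000004800a00)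
noncomputable def w5 : Word := [nat_lit 12]
noncomputable def w6 : Word := [nat_lit 22, nat_lit 4]
noncomputable def w7 : Word := [nat_lit 26, nat_lit 4]
noncomputable def w8 : Word := [nat_lit 29, nat_lit 4]
noncomputable def w9 : Word := [nat_lit 45, nat_lit 45]
theorem k10 : orbChk (nat_lit 3510) H15.Fi22P.nets F [nat_lit 7, nat_lit 0] (sel [w5, w6, w7, w8, w9] [nat_lit 0, nat_lit 1, nat_lit 2, nat_lit 3, nat_lit 4]) [dw (nat_lit 0x03), dw (nat_lit 0x05), dw (nat_lit 0x09), dw (nat_lit 0x07), dw (nat_lit 0x01), dw (nat_lit 0x09), dw (nat_lit 0x01), dw (nat_lit 0x05)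
] (dn (nat_lit 20) (nat_lit 0x136c32bf4519ec309705182431320522802058031030317f4513c830c8c422bc504285014c414f8414f8314f8110a0322e051d803087040d0031e10304244092c4240c50d4c5146031078408983089820d1050d1030f58408745087440f8c50f8c310203192431924217c8509343010850ba8401684085c427283190c4190c3190c20f6840f68304d450bbc40bbc307f4307f412c0852c08300d0200d01231842318323182133450a0431d702065c2065c1086c5086c3086c20fc820fc810f8030f8010bec50bec307c030d0851ce431d3c51d3c2041c3041c20fa43036c52d2850160501d8501d8411a4517cc5078050780402185053c5053c4134c5035440068503a45209c5209c20c845228820d5c50d5c20fb441134511344057c509ac509b0509b040f8850f8841d1850c0040f9c405a440f7840bb820794234242)) (bit (nat_lit 98)) s4 = true := by decide +kernel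
theorem o11 (M : PM G Ω 3510 H15.Fi22P.nets) (hN : Nat.card G = 64561751654400) : Orb M ⊤ [nat_lit 7, nat_lit 0] (nat_lit 98) s4 :=
  (Orb.ext le_top (orb_bit ⊤ [nat_lit 7, nat_lit 0] (b := (nat_lit 98)) rfl) k10)
theorem k12 : trChk (nat_lit 3510) H15.Fi22P.nets F A0 ts2 t2 [nat_lit 7, nat_lit 0] (nat_lit 98) s4 0 = true := by decide +kernel
theorem tr3 (M : PM G Ω 3510 H15.Fi22P.nets) (hN : Nat.card G = 64561751654400) : Tr M a0 ts3 :=
  Tr.cons (fi M hN) (tr2 M hN) (o11 M hN) k12
noncomputable def s13 : Nat := (nat_lit 0x20000000000000000000000000000000000000000000000000000000000000c2000000000000000042000000000000000000000000000000000000000000000000000000000000000000000020000040000000000000000000000000000000000000000000000000000000000000000000000800100000400000000000000000000000000000000000000000000000000000000000000000000000000000000400000000000000000000000000000000000000000000000000000000000000000000000000000000100802000000000000000000000000000000000000000000000000000450000000002000000082000000000000000000000000200000000000000000000001100000000044000000000000000000000000000000000800014400000020000000000000000000000000000000000000000000000004000200040000001200000000000000000000000000000000000000000000000800080000000000000008c0100000000000000000000000000000000a0400000000000040000000000800200)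
noncomputable def w14 : Word := [nat_lit 46]
noncomputable def w15 : Word := [nat_lit 6, nat_lit 14, nat_lit 6]
noncomputable def w16 : Word := [nat_lit 8, nat_lit 28, nat_lit 8, nat_lit 4]
noncomputable def w17 : Word := [nat_lit 14, nat_lit 24, nat_lit 14, nat_lit 4]
theorem k18 : orbChk (nat_lit 3510) H15.Fi22P.nets F [nat_lit 98, nat_lit 7, nat_lit 0] (sel [w5, w14, w8, w15, w16, w17] [nat_lit 0, nat_lit 1, nat_lit 2, nat_lit 3, nat_lit 4, nat_lit 5]) [dw (nat_lit 0x01), dw (nat_lit 0x03)] (dn (nat_lit 20) (nat_lit 0x272852c08501d8504286042822bf452bf44053c527845278441478613c461d1851460622bc622bc20d1060d10222286222852228201f4501f4401f4301f4117dc617dc20c8460c8450c842133461334513344133420880517b4517b4400246042c5042c4042c301086010850108401083)) (bit (nat_lit 66)) s13 = true := by decide +kernel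
theorem o19 (M : PM G Ω 3510 H15.Fi22P.nets) (hN : Nat.card G = 64561751654400) : Orb M ⊤ [nat_lit 98, nat_lit 7, nat_lit 0] (nat_lit 66) s13 :=
  (Orb.ext le_top (orb_bit ⊤ [nat_lit 98, nat_lit 7, nat_lit 0] (b := (nat_lit 66)) rfl) k18)
noncomputable def us : List Word := [dw (nat_lit 0x1f111403), dw (nat_lit 0x11241403), dw (nat_lit 0x07271414)]
theorem k20 : relK F bs0 (commR (tws a0 us) (tws a0 us)) = true := by decide +kernel
theorem tupU (M : PM G Ω 3510 H15.Fi22P.nets) (hN : Nat.card G = 64561751654400) : Tup (Cls M a0) 3 (std M a0 us) :=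
  (fi M hN).tup (F := F) (rels_base (base0 M hN) k20) (by decide +kernel)
theorem prU (M : PM G Ω 3510 H15.Fi22P.nets) (hN : Nat.card G = 64561751654400) : ev M.gen (prW a0 us) = ev M.gen (prW a0 ts3) :=
  rel_base1 (F := F) (base0 M hN) (by decide +kernel)
theorem neU (M : PM G Ω 3510 H15.Fi22P.nets) (hN : Nat.card G = 64561751654400) : ∀ p ∈ List.map (fun t => (t, tw a0 t0)) (tws a0 us), ev M.gen p.1 ≠ ev M.gen p.2 :=
  ne_base (F := F) (base0 M hN) (by decide +kernel)
theorem k21 : trChk (nat_lit 3510) H15.Fi22P.nets F A0 ts3 t3 [nat_lit 98, nat_lit 7, nat_lit 0] (nat_lit 66) s13 (imgK F 0 us) = true := by decide +kernel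
theorem ex4 (M : PM G Ω 3510 H15.Fi22P.nets) (hN : Nat.card G = 64561751654400) : ∀ x ∈ Cls M a0, x ∉ std M a0 ts3 → (∀ y ∈ std M a0 ts3, Commute x y) →
    x ∈ std M a0 us ∨ IsConj (ev M.gen (prW a0 ts3)) (x * (std M a0 ts3).prod) :=
  fun x hx h1 h2 =>
  ((Fi.ext (fi M hN) (o19 M hN) k21).2 x hx h1 h2).imp (fi M hN).mem_std fun ⟨g, e⟩ =>
    (cj4 M hN).trans (isConj_iff.2 ⟨g, by rw [← prod_std, ← prod_cjL]; exact (congrArg List.prod e).symm⟩)
noncomputable def u1 : Word := [nat_lit 0]
theorem e1 (M : PM G Ω 3510 H15.Fi22P.nets) (hN : Nat.card G = 64561751654400) : ev M.gen a0 = ev M.gen (prW a0 ts1) :=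
  rel_base1 (F := F) (base0 M hN) (by decide +kernel)
theorem k22 : Nat.beq (pop (nat_lit 3510) A0) 694 = true := by decide +kernel
theorem fx1 (M : PM G Ω 3510 H15.Fi22P.nets) (hN : Nat.card G = 64561751654400) : IsFix M (prW a0 ts1) A0 :=
  IsFix.of_rel (fi M hN).fx (e1 M hN)
noncomputable def w23 : Word := [nat_lit 14, nat_lit 45, nat_lit 39, nat_lit 14, nat_lit 24, nat_lit 29, nat_lit 6, nat_lit 18, nat_lit 24, nat_lit 38, nat_lit 44]
theorem k24 : relK F bs0 [(List.append (prW a0 ts1) w23, List.append w23 V22x2.ra)] = true := by decide +kernel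
noncomputable def u2 : Word := [nat_lit 0, nat_lit 19, nat_lit 16, nat_lit 18]
noncomputable def s25 : Nat := (nat_lit 0x2400000000000000000000000000000000000000000000000020000000000000000000000000000000000000000000000000000000000000c2001001000040000142000000000000000000000000000000000000000000000000000000000000000000000020000140000000000000000000000000000000000000000000000000800000002000000400100800500000400080000000000000000000080000000000000000000000000000000000000001000000001500880464200000000800000000000000000000000000000000000000800000000000a08010000080c000201208c28400000000000000000000000000000000000000000400000004510060000060000080821000000000000000000000002000000200000000110402011000004228d44400080000000000000000000000000008804154000000a000000210800dc0000000000000000000000000300005c00500028004000004138c000022603002900000000000000000080000010000301800080006437080040008e8100008b48082000000000000100000040a0400004054a000c0012000004800a81)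
theorem k26 : band (Nat.ble (nat_lit 3510) (Nat.pow 2 (nat_lit 12))) (fsChk (nat_lit 3510) (nat_lit 12) H15.Fi22P.nets u2 s25 (full (nat_lit 3510)) 0 0 (nat_lit 12)) = true := by decide +kernel
theorem f27 (M : PM G Ω 3510 H15.Fi22P.nets) (hN : Nat.card G = 64561751654400) : IsFix M u2 s25 :=
  fix_one k26
theorem e2 (M : PM G Ω 3510 H15.Fi22P.nets) (hN : Nat.card G = 64561751654400) : ev M.gen u2 = ev M.gen (prW a0 ts2) :=
  rel_base1 (F := F) (base0 M hN) (by decide +kernel)
theorem k28 : Nat.beq (pop (nat_lit 3510) s25) 182 = true := by decide +kernel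
theorem fx2 (M : PM G Ω 3510 H15.Fi22P.nets) (hN : Nat.card G = 64561751654400) : IsFix M (prW a0 ts2) s25 :=
  IsFix.of_rel (f27 M hN) (e2 M hN)
noncomputable def w29 : Word := [nat_lit 37, nat_lit 37, nat_lit 43, nat_lit 10, nat_lit 34, nat_lit 48, nat_lit 18, nat_lit 43, nat_lit 8, nat_lit 37, nat_lit 14]
theorem k30 : relK F bs0 [(List.append (prW a0 ts2) w29, List.append w29 V22x2.rb)] = true := by decide +kernel
theorem six2 (M : PM G Ω 3510 H15.Fi22P.nets) (hN : Nat.card G = 64561751654400) : ∃ g : G, (ev M.gen (prW a0 ts2) * (g * ev M.gen (prW a0 ts2) * g⁻¹)) ^ 6 ≠ 1 :=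
  six_of (g := [nat_lit 44, nat_lit 20, nat_lit 16]) (e2 M hN) (ne_base1 (F := F) (base0 M hN) (by decide +kernel))
noncomputable def u3 : Word := [nat_lit 19, nat_lit 16, nat_lit 2, nat_lit 18, nat_lit 0]
noncomputable def s31 : Nat := (nat_lit 0x20000000000000000000000000000000000000000000000000000000000000c2000000000000000042000000000000000000000000000000000000000000000000000000000000000000000020000040000000000000000000000000000000000000000000000000000000000000000000000800100000400000000000000000000000000000000000000000000000000000000000000000000000000000000400000000000000000000000000000000000000000000000000000000000000000000000080000000100802000000000000000000000000000000000000000000000000000450000000002000000082000000000000000000000000200000000000000000000001100000000044000000000000000000000000000000000800014400000020000000000000000000000000000000000000000000000005000200040000001200000000000000000000000000000000000000000000001800080000000000000008c0100000000000000000000000000000000a0400004000000040000000000800281)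
theorem k32 : band (Nat.ble (nat_lit 3510) (Nat.pow 2 (nat_lit 12))) (fsChk (nat_lit 3510) (nat_lit 12) H15.Fi22P.nets u3 s31 (full (nat_lit 3510)) 0 0 (nat_lit 12)) = true := by decide +kernel
theorem f33 (M : PM G Ω 3510 H15.Fi22P.nets) (hN : Nat.card G = 64561751654400) : IsFix M u3 s31 :=
  fix_one k32
theorem e3 (M : PM G Ω 3510 H15.Fi22P.nets) (hN : Nat.card G = 64561751654400) : ev M.gen u3 = ev M.gen (prW a0 ts3) :=
  rel_base1 (F := F) (base0 M hN) (by decide +kernel)
theorem k34 : Nat.beq (pop (nat_lit 3510) s31) 54 = true := by decide +kernel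
theorem fx3 (M : PM G Ω 3510 H15.Fi22P.nets) (hN : Nat.card G = 64561751654400) : IsFix M (prW a0 ts3) s31 :=
  IsFix.of_rel (f33 M hN) (e3 M hN)
noncomputable def w35 : Word := [nat_lit 45, nat_lit 42, nat_lit 35, nat_lit 44, nat_lit 28, nat_lit 37, nat_lit 6, nat_lit 19, nat_lit 27, nat_lit 38, nat_lit 30]
theorem k36 : relK F bs0 [(List.append (prW a0 ts3) w35, List.append w35 V22x2.rc)] = true := by decide +kernel
theorem six3 (M : PM G Ω 3510 H15.Fi22P.nets) (hN : Nat.card G = 64561751654400) : ∃ g : G, (ev M.gen (prW a0 ts3) * (g * ev M.gen (prW a0 ts3) * g⁻¹)) ^ 6 ≠ 1 :=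
  six_of (g := [nat_lit 46, nat_lit 2, nat_lit 34]) (e3 M hN) (ne_base1 (F := F) (base0 M hN) (by decide +kernel))
noncomputable def T (m : Nat) : List Word := List.getD [[], ts1, ts2, ts3] m []
noncomputable def R (M : PM G Ω 3510 H15.Fi22P.nets) (m : Nat) : G := ev M.gen (prW a0 (T m))
theorem inv (M : PM G Ω 3510 H15.Fi22P.nets) (hN : Nat.card G = 64561751654400) : Inv2 (Cls M a0) 3 (R M) :=
  inv2_of (c := fun m => List.getD [3510, 694, 182, 54] m 0) rfl
    (fun m hm => by interval_cases m; exacts [⟨tr_nil, rfl⟩, ⟨tr1 M hN, rfl⟩, ⟨tr2 M hN, rfl⟩, ⟨tr3 M hN, rfl⟩])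
    (fun m hm => by interval_cases m; exacts [⟨_, fix_nil, by decide +kernel⟩, ⟨_, fx1 M hN, Nat.eq_of_beq_eq_true k22⟩, ⟨_, fx2 M hN, Nat.eq_of_beq_eq_true k28⟩, ⟨_, fx3 M hN, Nat.eq_of_beq_eq_true k34⟩])
    (by decide) (V22x2.cover M hN)
    (fa_cons ⟨1, by omega, (conj_of_rel' (rels_base (base0 M hN) k24))⟩ (fa_cons ⟨2, by omega, (conj_of_rel' (rels_base (base0 M hN) k30))⟩ (fa_cons ⟨3, by omega, (conj_of_rel' (rels_base (base0 M hN) k36))⟩ (fa_nil))))
theorem six (M : PM G Ω 3510 H15.Fi22P.nets) (hN : Nat.card G = 64561751654400) : ∀ m, 2 ≤ m → m ≤ 3 → ∃ g, (R M m * (g * R M m * g⁻¹)) ^ 6 ≠ 1 :=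
  fun m h1 h2 => by interval_cases m; exacts [six2 M hN, six3 M hN]

end L.I22
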