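import Cfsg.Agent.L.KZ
import Cfsg.Agent.L.K22

/-! Generated certificate (toolsL/cg.hpp). -/
set_option autoImplicit false
set_option maxRecDepth 200000
set_option Elab.async false
set_option linter.unusedVariables false
set_option linter.unusedSectionVars false

namespace L.J22
open H14 L.K22T L.K22
variable {G Ω : Type*} [Group G] [Finite G] [MulAction G Ω]

noncomputable def w0 : Word := [nat_lit 48, nat_lit 14, nat_lit 40, nat_lit 35, nat_lit 39, nat_lit 16]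
noncomputable def w1 : Word := [nat_lit 48, nat_lit 42, nat_lit 39, nat_lit 6, nat_lit 35, nat_lit 31, nat_lit 49, nat_lit 2, nat_lit 27, nat_lit 16, nat_lit 21, nat_lit 30]
noncomputable def w2 : Word := [nat_lit 42, nat_lit 12, nat_lit 24, nat_lit 44, nat_lit 4, nat_lit 18, nat_lit 2, nat_lit 30, nat_lit 35, nat_lit 38, nat_lit 24]
noncomputable def w3 : Word := [nat_lit 44, nat_lit 43, nat_lit 37, nat_lit 32, nat_lit 14, nat_lit 30, nat_lit 29, nat_lit 22, nat_lit 0]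
noncomputable def w4 : Word := [nat_lit 22, nat_lit 4, nat_lit 30, nat_lit 29, nat_lit 4, nat_lit 31]
noncomputable def w5 : Word := [nat_lit 45, nat_lit 38, nat_lit 32, nat_lit 31, nat_lit 14, nat_lit 37, nat_lit 4, nat_lit 39]
noncomputable def w6 : Word := [nat_lit 8, nat_lit 39, nat_lit 12, nat_lit 4, nat_lit 29, nat_lit 38, nat_lit 8]
noncomputable def w7 : Word := [nat_lit 4]
noncomputable def w8 : Word := [nat_lit 46, nat_lit 14, nat_lit 8, nat_lit 12, nat_lit 46]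
noncomputable def w9 : Word := [nat_lit 46, nat_lit 39, nat_lit 32, nat_lit 43, nat_lit 24, nat_lit 35, nat_lit 39, nat_lit 8, nat_lit 6]
noncomputable def w10 : Word := [nat_lit 44, nat_lit 49, nat_lit 42, nat_lit 14]
noncomputable def w11 : Word := [nat_lit 45, nat_lit 32, nat_lit 8, nat_lit 24, nat_lit 8, nat_lit 27, nat_lit 44]
noncomputable def w12 : Word := [nat_lit 10]
noncomputable def w13 : Word := [nat_lit 26, nat_lit 39, nat_lit 36, nat_lit 32, nat_lit 37, nat_lit 38, nat_lit 27]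
noncomputable def w14 : Word := [nat_lit 42, nat_lit 8, nat_lit 34, nat_lit 4, nat_lit 38, nat_lit 42, nat_lit 38, nat_lit 22]
noncomputable def w15 : Word := [nat_lit 26, nat_lit 44, nat_lit 49, nat_lit 14, nat_lit 42, nat_lit 14, nat_lit 27]
noncomputable def w16 : Word := [nat_lit 10, nat_lit 0]
noncomputable def zs : List Word := [w0, w1, w2, w3, w4, w5, w6, w7, w8, w9, w10, w11, w12, w13, w14, w15, w16]
noncomputable def qs : List Word := List.drop 7 zs
noncomputable def ws : List Word := List.append zs []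
theorem k17 : nrmRow F bs0 ws (nat_lit 17) (nat_lit 0) (nat_lit 1) [[nat_lit 32, nat_lit 30, nat_lit 28, nat_lit 12, nat_lit 10, nat_lit 6, nat_lit 2],
 [nat_lit 32, nat_lit 30, nat_lit 28, nat_lit 22, nat_lit 20, nat_lit 18, nat_lit 16, nat_lit 10, nat_lit 6, nat_lit 4],
 [nat_lit 32, nat_lit 18, nat_lit 6],
 [nat_lit 30, nat_lit 28, nat_lit 26, nat_lit 20, nat_lit 10, nat_lit 8],
 [nat_lit 24, nat_lit 22, nat_lit 10],
 [nat_lit 32, nat_lit 30, nat_lit 26, nat_lit 12],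
 [nat_lit 32, nat_lit 30, nat_lit 16, nat_lit 14],
 [nat_lit 16],
 [nat_lit 32, nat_lit 30, nat_lit 20, nat_lit 18],
 [nat_lit 20],
 [nat_lit 32, nat_lit 30, nat_lit 24, nat_lit 22],
 [nat_lit 24],
 [nat_lit 28, nat_lit 26],
 [nat_lit 28],
 [nat_lit 30],
 [nat_lit 32]] (nat_lit 262143) = true := by decide +kernel
theorem k18 : nrmRow F bs0 ws (nat_lit 17) (nat_lit 1) (nat_lit 2) [[nat_lit 32, nat_lit 28, nat_lit 26, nat_lit 20, nat_lit 18, nat_lit 10, nat_lit 8, nat_lit 4],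
 [nat_lit 12, nat_lit 6],
 [nat_lit 12, nat_lit 8],
 [nat_lit 32, nat_lit 28, nat_lit 26, nat_lit 12, nat_lit 10],
 [nat_lit 12],
 [nat_lit 30, nat_lit 26, nat_lit 18, nat_lit 14],
 [nat_lit 30, nat_lit 28, nat_lit 26, nat_lit 24, nat_lit 22, nat_lit 18, nat_lit 16],
 [nat_lit 26, nat_lit 18],
 [nat_lit 30, nat_lit 20],
 [nat_lit 28, nat_lit 26, nat_lit 22],
 [nat_lit 32, nat_lit 24],
 [nat_lit 30, nat_lit 26],
 [nat_lit 32, nat_lit 30, nat_lit 28],
 [nat_lit 30],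
 [nat_lit 32]] (nat_lit 262143) = true := by decide +kernel
theorem k19 : nrmRow F bs0 ws (nat_lit 17) (nat_lit 2) (nat_lit 3) [[nat_lit 26, nat_lit 24, nat_lit 20, nat_lit 18, nat_lit 10, nat_lit 6],
 [nat_lit 30, nat_lit 26, nat_lit 12, nat_lit 8],
 [nat_lit 32, nat_lit 28, nat_lit 24, nat_lit 22, nat_lit 12, nat_lit 10],
 [nat_lit 32, nat_lit 30, nat_lit 26, nat_lit 12],
 [nat_lit 32, nat_lit 30, nat_lit 26, nat_lit 22, nat_lit 18, nat_lit 14],
 [nat_lit 30, nat_lit 28, nat_lit 26, nat_lit 24, nat_lit 18, nat_lit 16],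
 [nat_lit 30, nat_lit 22, nat_lit 18],
 [nat_lit 30, nat_lit 28, nat_lit 24, nat_lit 20],
 [nat_lit 32, nat_lit 28, nat_lit 26, nat_lit 22],
 [nat_lit 32, nat_lit 24],
 [nat_lit 30, nat_lit 26],
 [nat_lit 30, nat_lit 28],
 [nat_lit 32, nat_lit 30],
 [nat_lit 32]] (nat_lit 262143) = true := by decide +kernel
theorem k20 : nrmRow F bs0 ws (nat_lit 17) (nat_lit 3) (nat_lit 4) [[nat_lit 30, nat_lit 12, nat_lit 8],
 [nat_lit 28, nat_lit 10],
 [nat_lit 12],
 [nat_lit 30, nat_lit 18, nat_lit 14],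
 [nat_lit 32, nat_lit 30, nat_lit 20, nat_lit 16],
 [nat_lit 18],
 [nat_lit 20],
 [nat_lit 32, nat_lit 30, nat_lit 28, nat_lit 22],
 [nat_lit 24],
 [nat_lit 30, nat_lit 26],
 [nat_lit 28],
 [nat_lit 30],
 [nat_lit 32]] (nat_lit 262143) = true := by decide +kernel
theorem k21 : nrmRow F bs0 ws (nat_lit 17) (nat_lit 4) (nat_lit 5) [[nat_lit 32, nat_lit 30, nat_lit 10],
 [nat_lit 12],
 [nat_lit 14],
 [nat_lit 28, nat_lit 24, nat_lit 22, nat_lit 16],
 [nat_lit 26, nat_lit 18],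
 [nat_lit 30, nat_lit 20],
 [nat_lit 32, nat_lit 22],
 [nat_lit 24],
 [nat_lit 26],
 [nat_lit 32, nat_lit 28],
 [nat_lit 30],
 [nat_lit 32]] (nat_lit 262143) = true := by decide +kernel
theorem k22 : nrmRow F bs0 ws (nat_lit 17) (nat_lit 5) (nat_lit 6) [[nat_lit 32, nat_lit 12],
 [nat_lit 32, nat_lit 30, nat_lit 28, nat_lit 22, nat_lit 14],
 [nat_lit 32, nat_lit 30, nat_lit 24, nat_lit 16],
 [nat_lit 32, nat_lit 30, nat_lit 28, nat_lit 18],
 [nat_lit 20],
 [nat_lit 22],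
 [nat_lit 24],
 [nat_lit 32, nat_lit 26],
 [nat_lit 28],
 [nat_lit 30],
 [nat_lit 32]] (nat_lit 262143) = true := by decide +kernel
theorem k23 : nrmRow F bs0 ws (nat_lit 17) (nat_lit 6) (nat_lit 7) [[nat_lit 30, nat_lit 26, nat_lit 14],
 [nat_lit 28, nat_lit 16],
 [nat_lit 30, nat_lit 18],
 [nat_lit 20],
 [nat_lit 32, nat_lit 22],
 [nat_lit 24],
 [nat_lit 26],
 [nat_lit 28],
 [nat_lit 30],
 [nat_lit 32]] (nat_lit 262143) = true := by decide +kernel
theorem k24 : nrmRow F bs0 ws (nat_lit 17) (nat_lit 7) (nat_lit 8) [[nat_lit 16],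
 [nat_lit 18],
 [nat_lit 20],
 [nat_lit 22],
 [nat_lit 24],
 [nat_lit 26],
 [nat_lit 28],
 [nat_lit 30],
 [nat_lit 32]] (nat_lit 262143) = true := by decide +kernel
theorem k25 : nrmRow F bs0 ws (nat_lit 17) (nat_lit 8) (nat_lit 9) [[nat_lit 18],
 [nat_lit 20],
 [nat_lit 22],
 [nat_lit 24],
 [nat_lit 26],
 [nat_lit 28],
 [nat_lit 30],
 [nat_lit 32]] (nat_lit 262143) = true := by decide +kernel
theorem k26 : nrmRow F bs0 ws (nat_lit 17) (nat_lit 9) (nat_lit 10) [[nat_lit 20],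
 [nat_lit 22],
 [nat_lit 24],
 [nat_lit 26],
 [nat_lit 28],
 [nat_lit 30],
 [nat_lit 32]] (nat_lit 262143) = true := by decide +kernel
theorem k27 : nrmRow F bs0 ws (nat_lit 17) (nat_lit 10) (nat_lit 11) [[nat_lit 22],
 [nat_lit 24],
 [nat_lit 26],
 [nat_lit 28],
 [nat_lit 30],
 [nat_lit 32]] (nat_lit 262143) = true := by decide +kernel
theorem k28 : nrmRow F bs0 ws (nat_lit 17) (nat_lit 11) (nat_lit 12) [[nat_lit 24],
 [nat_lit 26],
 [nat_lit 28],
 [nat_lit 30],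
 [nat_lit 32]] (nat_lit 262143) = true := by decide +kernel
theorem k29 : nrmRow F bs0 ws (nat_lit 17) (nat_lit 12) (nat_lit 13) [[nat_lit 26],
 [nat_lit 28],
 [nat_lit 30],
 [nat_lit 32]] (nat_lit 262143) = true := by decide +kernel
theorem k30 : nrmRow F bs0 ws (nat_lit 17) (nat_lit 13) (nat_lit 14) [[nat_lit 28],
 [nat_lit 30],
 [nat_lit 32]] (nat_lit 262143) = true := by decide +kernel
theorem k31 : nrmRow F bs0 ws (nat_lit 17) (nat_lit 14) (nat_lit 15) [[nat_lit 30],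
 [nat_lit 32]] (nat_lit 262143) = true := by decide +kernel
theorem k32 : nrmRow F bs0 ws (nat_lit 17) (nat_lit 15) (nat_lit 16) [[nat_lit 32]] (nat_lit 262143) = true := by decide +kernel
theorem k33 : nrmRow F bs0 ws (nat_lit 17) (nat_lit 16) (nat_lit 17) [] (nat_lit 262143) = true := by decide +kernel
noncomputable def nm : List Nat := [nat_lit 262143, nat_lit 262143, nat_lit 262143, nat_lit 262143, nat_lit 262143, nat_lit 262143, nat_lit 262143, nat_lit 262143, nat_lit 262143, nat_lit 262143, nat_lit 262143, nat_lit 262143, nat_lit 262143, nat_lit 262143, nat_lit 262143, nat_lit 262143, nat_lit 262143]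
theorem hn (M : PM G Ω 3510 H15.Fi22P.nets) (hN : Nat.card G = 64561751654400) : NrmL (loc M.gen ws) 17 0 nm :=
  (nrm_cons (base0 M hN) k17 (nrm_cons (base0 M hN) k18 (nrm_cons (base0 M hN) k19 (nrm_cons (base0 M hN) k20 (nrm_cons (base0 M hN) k21 (nrm_cons (base0 M hN) k22 (nrm_cons (base0 M hN) k23 (nrm_cons (base0 M hN) k24 (nrm_cons (base0 M hN) k25 (nrm_cons (base0 M hN) k26 (nrm_cons (base0 M hN) k27 (nrm_cons (base0 M hN) k28 (nrm_cons (base0 M hN) k29 (nrm_cons (base0 M hN) k30 (nrm_cons (base0 M hN) k31 (nrm_cons (base0 M hN) k32 (nrm_cons (base0 M hN) k33 trivial)))))))))))))))))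
noncomputable def s34 : Nat := (nat_lit 0x400000000000000008000000100002800300000000000000000000000b0002000009000000000068000004000000000041400000000000040a0011900000800010084400041008000002000021000000000000004005894450010000001102311001100001000008401028208128a1000000000024800000000030000804a0102808402000068e800280080200020000244a00240140000000000004010000000000802080200850400008c08001840020000000800001020000200c000000000000000000000000000054002000028008c9001004818006c00020000000010000000001000000340008000000000000000000014400000000201000c68001006301c0000000000000000000400000000000000000000020000000081000d2c001a1000000020200002000000000000000000000000000001000005a00080002010091000100000000000000000000000000080100000000100510240a802002048000000000000000000000000000000000000c010002000001512244a0400400d0000000000000000000000000000000000000020000c00300202151040000000000000000000000009060000000)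
noncomputable def s35 : Nat := (nat_lit 0x210020000000000000000000000000000000000000000000000000000000000000000040800140000000000000000000000000000000000000000000000000000000000000000000000000104000a00000004000000000000000000000000000000000000000000000000000000000000800000000800001000040000000000000000000000000000000000000000000000000000000000002000a0000000000020000000000040000000000000000000000000000000000000000000000000000000000800010800000000000000000040000000000000000000000000000000000000000080000000000023000000000000000000000000000000000000000000510200000000001000800040000000000000000000000000000000000800040000008000000000000000000000000000000000000000000000000000000000000000f01000000000000000000000000000000000000000000200008000000010080800008900000000000000000000000000000000000000001000e600200000000006000e00)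
noncomputable def s36 : Nat := (nat_lit 0x10000000000000000000000000000000000000000000000000000000000000000000000000000000000000000000000000000000000000000000000000000000000000000000000000000000000000000000000000000000000000000000000000000000000000000000000000000000000000000000000000000000000000000000000000000000000000000000000000000000000000000000000000000000000000000000000000000000000000000000000000000000000000000000000000000000000000000000000000000000000000000000000000000000000000000000000000000000000000000000000000000000000000000000000000000000000000000000000000000000000000000000000000000000000000000000000000000000000000000000000000000000000000000000000000000000000000000000000000000000000000000000000000000000000000100000000000000000000000000000000000000000000000000000000000000000000000000000000000000000000000000000000000000000000000010000000000000000001000)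
noncomputable def s37 : Nat := (nat_lit 0x800000000000000000000000000000000000000000000000000000000000000000000000000000000000000000000000000000000000000000000000000000000000000000000000000000000000000000000000000000000000000000000000000000000000000000000000000000000000000000000000000000000000000000000000000000000000000000000000000000000000000000000000000000000000000000000000000000000000000000000000000000000000000000000000000000000000000000000000000000000000000000000000000000000000000000000000000000000000000000000000000000000000000000000000000000000000000000000000000000000000000000100000000000000000000000000000000000000000000000000000000000000000000000000)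
noncomputable def c38 : Chn := [((nat_lit 29), s34), ((nat_lit 9), s35), ((nat_lit 12), s36), ((nat_lit 296), s37)]
noncomputable def d39 : List OD := [⟨[nat_lit 12, nat_lit 0, nat_lit 2], [dw (nat_lit 0x01), dw (nat_lit 0x03), dw (nat_lit 0x03), dw (nat_lit 0x05), dw (nat_lit 0x01), dw (nat_lit 0x03)], (dn (nat_lit 20) (nat_lit 0x1bcc317583248c3025031fd43026032d8820d4032d0c20e6c30ad030e70325082076c305e83202020aa83061832894210b4311fc3281c211f830e643110420d802112422748305b820740211a02324430e2c22e803200832b2821a9432aa0209c820b6021598334cc311b43324c324fc3261c2201c32b58233fc335d83242432424229d031c04321343213422dd03176032b2031a0021204325f03160020e78330f431690333c43126c3262822528318f4320f822a3031c903261431f00220d82163c320f031b4821b3c212103063c3063c220783207821ee431ee420a4c30a4c21b1c31b1c2237432374216b4212f42285c2196032d3021ba031ad8302c0315c0302f831bfc21748223a4323a421e6c3282c3282c2215c3159c30090311bc3009c32c40225043250422a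d0229f0329f02219c205bc305bc21c54209bc309bc202c4302c42252432524202fc302fc22a2032a2022754229e0329e0225ac22ec432ec421e68202283022821bac205b0305b0206a0306a022a0432a04207043070422ee832ee8223ac323ac223ac128343283422834131ac331ac234043340422b0c32b0c225d4325d421f5c31f5c21b7031b7023450334502320433204228d8328d82264c3264c223c8323c82210c3210c21bbc31bbc2165c3165c218e8318e821c9831c9821bb831bb8216583165821648316482121c3121c2145831458218f0318f0216443164421218312182068030a9031e943234030aa030b8c3269032b1c3217432694306903076832338328003))⟩,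
 ⟨[nat_lit 7, nat_lit 10, nat_lit 4, nat_lit 3], [dw (nat_lit 0x01)], (dn (nat_lit 20) (nat_lit 0x0064326a84048c4042c130e4404d0401443002c4272c421a8110b0404ac12768416d8416d82136441d9441d942014830148130a43137442c2810d2c421f0427244272421c1841c18205a4405a430f9c11cd4313604085040fd012c884224c4224c2043c4043c3055c3055c122dc410844108430c7c11d9c4019040190301901015c4015c30ce840ce830ce81015840158301144011420024400242))⟩,
 ⟨[nat_lit 1], [], (dn (nat_lit 20) (nat_lit 0x33d010160100301))⟩,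
 ⟨[nat_lit 4], [], (dn (nat_lit 20) (nat_lit 0x04a01))⟩]
theorem k40 : ocChk (nat_lit 3510) H15.Fi22P.nets F zs c38 d39 [] = true := by decide +kernel
theorem o41 (M : PM G Ω 3510 H15.Fi22P.nets) (hN : Nat.card G = 64561751654400) : OC M (Nn (loc M.gen ws) 17 0) [] c38 :=
  oc_of (sub_le_Nn M.gen zs [] (m := 17) rfl) k40
theorem k42 : powChk F bs0 ws (nat_lit 2) (nat_lit 17) nm [[nat_lit 24, nat_lit 16],
 [nat_lit 12],
 [nat_lit 30, nat_lit 20, nat_lit 18, nat_lit 12, nat_lit 10, nat_lit 8],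
 [nat_lit 30],
 [],
 [nat_lit 32],
 [],
 [],
 [],
 [],
 [],
 [],
 [],
 [],
 [],
 [],
 []] = true := by decide +kernel
theorem pc (M : PM G Ω 3510 H15.Fi22P.nets) (hN : Nat.card G = 64561751654400) : Pc (loc M.gen ws) 2 17 ∧ ∀ i ≤ 17, Nat.card (Nn (loc M.gen ws) 17 i) = 2 ^ (17 - i) :=
  pc_of (base0 M hN) (by norm_num) (hn M hN) k42 (OC.le_card' (o41 M hN) (by decide +kernel))
theorem zc (M : PM G Ω 3510 H15.Fi22P.nets) (hN : Nat.card G = 64561751654400) : Nat.card (sub M.gen zs) = 2 ^ 17 :=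
  Nn_eq_sub M.gen zs [] (m := 17) rfl 0 ▸ (pc M hN).2 0 (by decide)
theorem qc (M : PM G Ω 3510 H15.Fi22P.nets) (hN : Nat.card G = 64561751654400) : Nat.card (sub M.gen qs) = 2 ^ 10 :=
  Nn_eq_sub M.gen zs [] (m := 17) rfl 7 ▸ (pc M hN).2 7 (by decide)
noncomputable def v43 : List (List Word) := [[dw (nat_lit 0x01031113), dw (nat_lit 0x03), dw (nat_lit 0x05071113), dw (nat_lit 0x07), dw (nat_lit 0x090b1113), dw (nat_lit 0x0b), dw (nat_lit 0x0d0f), dw (nat_lit 0x0f)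
, dw (nat_lit 0x11), dw (nat_lit 0x13)],
 [dw (nat_lit 0x01050d11), dw (nat_lit 0x0305090b0d0f11), dw (nat_lit 0x050d), dw (nat_lit 0x0711), dw (nat_lit 0x090d0f), dw (nat_lit 0x0b13), dw (nat_lit 0x0d11), dw (nat_lit 0x0f1113)
, dw (nat_lit 0x11), dw (nat_lit 0x13)],
 [dw (nat_lit 0x0105090d1113), dw (nat_lit 0x03050b0d0f11), dw (nat_lit 0x050911), dw (nat_lit 0x070b0f11), dw (nat_lit 0x090d0f13), dw (nat_lit 0x0b13), dw (nat_lit 0x0d11), dw (nat_lit 0x0f11)
, dw (nat_lit 0x1113), dw (nat_lit 0x13)],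
 [dw (nat_lit 0x010511), dw (nat_lit 0x03071113), dw (nat_lit 0x05), dw (nat_lit 0x07), dw (nat_lit 0x090f1113), dw (nat_lit 0x0b), dw (nat_lit 0x0d11), dw (nat_lit 0x0f)
, dw (nat_lit 0x11), dw (nat_lit 0x13)],
 [dw (nat_lit 0x01), dw (nat_lit 0x03090b0f), dw (nat_lit 0x050d), dw (nat_lit 0x0711), dw (nat_lit 0x0913), dw (nat_lit 0x0b), dw (nat_lit 0x0d), dw (nat_lit 0x0f13)
, dw (nat_lit 0x11), dw (nat_lit 0x13)],
 [dw (nat_lit 0x01090f1113), dw (nat_lit 0x030b1113), dw (nat_lit 0x050f1113), dw (nat_lit 0x07), dw (nat_lit 0x09), dw (nat_lit 0x0b), dw (nat_lit 0x0d13), dw (nat_lit 0x0f)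
, dw (nat_lit 0x11), dw (nat_lit 0x13)],
 [dw (nat_lit 0x010d11), dw (nat_lit 0x030f), dw (nat_lit 0x0511), dw (nat_lit 0x07), dw (nat_lit 0x0913), dw (nat_lit 0x0b), dw (nat_lit 0x0d), dw (nat_lit 0x0f)
, dw (nat_lit 0x11), dw (nat_lit 0x13)],
 [dw (nat_lit 0x01), dw (nat_lit 0x03), dw (nat_lit 0x05), dw (nat_lit 0x07), dw (nat_lit 0x09), dw (nat_lit 0x0b), dw (nat_lit 0x0d), dw (nat_lit 0x0f)
, dw (nat_lit 0x11), dw (nat_lit 0x13)],
 [dw (nat_lit 0x01), dw (nat_lit 0x03), dw (nat_lit 0x05), dw (nat_lit 0x07), dw (nat_lit 0x09), dw (nat_lit 0x0b), dw (nat_lit 0x0d), dw (nat_lit 0x0f)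
, dw (nat_lit 0x11), dw (nat_lit 0x13)],
 [dw (nat_lit 0x01), dw (nat_lit 0x03), dw (nat_lit 0x05), dw (nat_lit 0x07), dw (nat_lit 0x09), dw (nat_lit 0x0b), dw (nat_lit 0x0d), dw (nat_lit 0x0f)
, dw (nat_lit 0x11), dw (nat_lit 0x13)],
 [dw (nat_lit 0x01), dw (nat_lit 0x03), dw (nat_lit 0x05), dw (nat_lit 0x07), dw (nat_lit 0x09), dw (nat_lit 0x0b), dw (nat_lit 0x0d), dw (nat_lit 0x0f)
, dw (nat_lit 0x11), dw (nat_lit 0x13)],
 [dw (nat_lit 0x01), dw (nat_lit 0x03), dw (nat_lit 0x05), dw (nat_lit 0x07), dw (nat_lit 0x09), dw (nat_lit 0x0b), dw (nat_lit 0x0d), dw (nat_lit 0x0f)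
, dw (nat_lit 0x11), dw (nat_lit 0x13)],
 [dw (nat_lit 0x01), dw (nat_lit 0x03), dw (nat_lit 0x05), dw (nat_lit 0x07), dw (nat_lit 0x09), dw (nat_lit 0x0b), dw (nat_lit 0x0d), dw (nat_lit 0x0f)
, dw (nat_lit 0x11), dw (nat_lit 0x13)],
 [dw (nat_lit 0x01), dw (nat_lit 0x03), dw (nat_lit 0x05), dw (nat_lit 0x07), dw (nat_lit 0x09), dw (nat_lit 0x0b), dw (nat_lit 0x0d), dw (nat_lit 0x0f)
, dw (nat_lit 0x11), dw (nat_lit 0x13)],
 [dw (nat_lit 0x01), dw (nat_lit 0x03), dw (nat_lit 0x05), dw (nat_lit 0x07), dw (nat_lit 0x09), dw (nat_lit 0x0b), dw (nat_lit 0x0d), dw (nat_lit 0x0f)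
, dw (nat_lit 0x11), dw (nat_lit 0x13)],
 [dw (nat_lit 0x01), dw (nat_lit 0x03), dw (nat_lit 0x05), dw (nat_lit 0x07), dw (nat_lit 0x09), dw (nat_lit 0x0b), dw (nat_lit 0x0d), dw (nat_lit 0x0f)
, dw (nat_lit 0x11), dw (nat_lit 0x13)],
 [dw (nat_lit 0x01), dw (nat_lit 0x03), dw (nat_lit 0x05), dw (nat_lit 0x07), dw (nat_lit 0x09), dw (nat_lit 0x0b), dw (nat_lit 0x0d), dw (nat_lit 0x0f)
, dw (nat_lit 0x11), dw (nat_lit 0x13)]]
theorem k44 : relK F bs0 (nrR qs qs zs v43) = true := by decide +kernel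
theorem nq (M : PM G Ω 3510 H15.Fi22P.nets) (hN : Nat.card G = 64561751654400) : sub M.gen zs ≤ (Subgroup.normalizer (sub M.gen qs : Set G)) :=
  (le_normalizer_of le_rfl (rels_base (base0 M hN) k44) (by decide +kernel))
theorem k45 : relK F bs0 (List.map (fun a => (powW a 2, [])) qs) = true := by decide +kernel
theorem k46 : relK F bs0 (commR qs qs) = true := by decide +kernel
theorem el (M : PM G Ω 3510 H15.Fi22P.nets) (hN : Nat.card G = 64561751654400) : Cfsg.IsElementaryAbelian 2 (sub M.gen qs) :=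
  (elem_of (rels_base (base0 M hN) k46) (rels_base (base0 M hN) k45))
noncomputable def j47 : List (Nat × Nat × List (Nat × Nat) × List Word) := [(0, 0, [], []),
 (0, 1, [(0, 0), (0, 0), (7, 1), (7, 1), (8, 1), (8, 1), (7, 1), (7, 1), (7, 1), (7, 1), (7, 1), (7, 1), (7, 1), (7, 1), (7, 1), (7, 1), (7, 1), (7, 1), (7, 1), (7, 1), (7, 1), (7, 1), (7, 1), (7, 1), (8, 1), (8, 1), (7, 1), (7, 1), (8, 1), (8, 1), (7, 1), (7, 1), (7, 1), (7, 1), (7, 1), (7, 1), (7, 1), (7, 1), (7, 1), (7, 1), (8, 1), (8, 1), (7, 1), (7, 1), (8, 1), (8, 1), (7, 1), (7, 1), (7, 1), (7, 1), (8, 1), (8, 1), (7, 1), (7, 1), (9, 1), (9, 1), (7, 1), (7, 1), (7, 1), (7, 1), (7, 1), (7, 1), (7, 1), (7, 1), (7, 1), (7, 1), (7, 1), (7, 1), (7, 1), (7, 1), (7, 1), (7, 1), (7, 1), (7, 1), (7, 1), (7, 1), (7, 1), (7, 1), (7, 1), (7, 1), (7, 1), (7, 1), (7, 1), (7, 1), (7, 1), (7, 1), (7, 1), (7, 1), (7, 1), (7, 1), (7, 1), (7, 1), (7, 1), (7, 1), (7, 1),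 (7, 1), (7, 1), (7, 1), (7, 1), (7, 1), (7, 1), (7, 1), (7, 1), (7, 1), (7, 1), (7, 1), (7, 1), (7, 1), (7, 1), (7, 1), (7, 1), (7, 1), (7, 1), (7, 1), (7, 1), (7, 1), (7, 1), (7, 1), (7, 1), (7, 1), (7, 1), (7, 1), (7, 1), (7, 1), (7, 1), (7, 1), (7, 1), (7, 1)], [[],
 [nat_lit 14],
 [nat_lit 16]]),
 (0, 1, [(0, 0), (7, 1), (0, 0), (7, 1), (9, 1), (7, 1), (9, 1), (7, 1), (7, 1), (7, 1), (7, 1), (7, 1), (7, 1), (7, 1), (7, 1), (7, 1), (7, 1), (7, 1), (7, 1), (7, 1), (7, 1), (7, 1), (7, 1), (7, 1), (7, 1), (7, 1), (7, 1), (7, 1), (7, 1), (7, 1), (7, 1), (7, 1), (7, 1), (7, 1), (7, 1), (7, 1), (7, 1), (7, 1), (7, 1), (7, 1), (7, 1), (7, 1), (7, 1), (7, 1), (7, 1), (7, 1), (7, 1), (7, 1), (8, 1), (7, 1), (8, 1), (7, 1), (8, 1), (7, 1), (8, 1), (7, 1), (7, 1), (7, 1), (7, 1), (7, 1), (7, 1), (7, 1), (7, 1), (7, 1), (7, 1), (7, 1), (7, 1), (7, 1), (7, 1), (7, 1), (7, 1), (7, 1), (7, 1), (7, 1), (7, 1), (7, 1), (7, 1), (7,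 1), (7, 1), (7, 1), (7, 1), (7, 1), (7, 1), (7, 1), (7, 1), (7, 1), (7, 1), (7, 1), (7, 1), (7, 1), (7, 1), (7, 1), (7, 1), (7, 1), (7, 1), (7, 1), (7, 1), (7, 1), (7, 1), (7, 1), (7, 1), (7, 1), (7, 1), (7, 1), (7, 1), (7, 1), (7, 1), (7, 1), (7, 1), (7, 1), (7, 1), (7, 1), (7, 1), (7, 1), (7, 1), (7, 1), (7, 1), (7, 1), (7, 1), (7, 1), (7, 1), (7, 1), (7, 1), (7, 1), (7, 1), (7, 1), (7, 1), (7, 1)], [[],
 [nat_lit 14],
 [nat_lit 16]]),
 (0, 1, [(0, 0), (7, 1), (7, 1), (0, 0), (8, 1), (7, 1), (7, 1), (8, 1), (7, 1), (7, 1), (7, 1), (7, 1), (7, 1), (7, 1), (7, 1), (7, 1), (7, 1), (7, 1), (7, 1), (7, 1), (7, 1), (7, 1), (7, 1), (7, 1), (7, 1), (7, 1), (7, 1), (7, 1), (7, 1), (7, 1), (7, 1), (7, 1), (7, 1), (7, 1), (7, 1), (7, 1), (7, 1), (7, 1), (7, 1), (7, 1), (7, 1), (7, 1), (7, 1), (7, 1), (7, 1), (7, 1), (7, 1), (7, 1), (7, 1), (9, 1), (9, 1), (7, 1), (7, 1), (8, 1), (8, 1), (7, 1), (7, 1), (7, 1), (7, 1), (7, 1),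 (7, 1), (7, 1), (7, 1), (7, 1), (7, 1), (7, 1), (7, 1), (7, 1), (7, 1), (7, 1), (7, 1), (7, 1), (7, 1), (7, 1), (7, 1), (7, 1), (7, 1), (7, 1), (7, 1), (7, 1), (7, 1), (7, 1), (7, 1), (7, 1), (7, 1), (7, 1), (7, 1), (7, 1), (7, 1), (7, 1), (7, 1), (7, 1), (7, 1), (7, 1), (7, 1), (7, 1), (7, 1), (7, 1), (7, 1), (7, 1), (7, 1), (7, 1), (7, 1), (7, 1), (7, 1), (7, 1), (7, 1), (7, 1), (7, 1), (7, 1), (7, 1), (7, 1), (7, 1), (7, 1), (7, 1), (7, 1), (7, 1), (7, 1), (7, 1), (7, 1), (7, 1), (7, 1), (7, 1), (7, 1), (7, 1), (7, 1), (7, 1), (7, 1)], [[],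
 [nat_lit 14],
 [nat_lit 16]]),
 (0, 1, [(0, 0), (8, 1), (9, 1), (8, 1), (0, 0), (8, 1), (9, 1), (8, 1), (8, 1), (8, 1), (8, 1), (8, 1), (8, 1), (8, 1), (8, 1), (8, 1), (10, 1), (10, 1), (10, 1), (10, 1), (10, 1), (10, 1), (10, 1), (10, 1), (10, 1), (10, 1), (10, 1), (10, 1), (10, 1), (10, 1), (10, 1), (10, 1), (8, 1), (8, 1), (8, 1), (8, 1), (8, 1), (8, 1), (8, 1), (8, 1), (8, 1), (8, 1), (8, 1), (8, 1), (8, 1), (8, 1), (8, 1), (8, 1), (10, 1), (10, 1), (10, 1), (10, 1), (10, 1), (10, 1), (10, 1), (10, 1), (10, 1), (10, 1), (10, 1), (10, 1), (10, 1), (10, 1), (10, 1), (10, 1), (8, 1), (8, 1), (8, 1), (8, 1), (8, 1), (8, 1), (8, 1), (8, 1), (8, 1), (8, 1), (8, 1), (8, 1), (8, 1), (8, 1), (8, 1), (8, 1), (10, 1), (10, 1), (10, 1), (10, 1), (10, 1), (10, 1), (10, 1), (10, 1), (10, 1), (10, 1), (10, 1), (10, 1), (10, 1), (10, 1), (10, 1), (10, 1), (8, 1), (8, 1), (8, 1), (8, 1), (8, 1), (8, 1), (8, 1), (8, 1), (8, 1), (8,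 1), (8, 1), (8, 1), (8, 1), (8, 1), (8, 1), (8, 1), (10, 1), (10, 1), (10, 1), (10, 1), (10, 1), (10, 1), (10, 1), (10, 1), (10, 1), (10, 1), (10, 1), (10, 1), (10, 1), (10, 1), (10, 1), (10, 1)], [[],
 [nat_lit 20],
 [nat_lit 16]]),
 (0, 1, [(0, 0), (8, 1), (7, 1), (7, 1), (8, 1), (0, 0), (7, 1), (7, 1), (7, 1), (7, 1), (7, 1), (7, 1), (7, 1), (7, 1), (7, 1), (7, 1), (7, 1), (7, 1), (7, 1), (7, 1), (7, 1), (7, 1), (7, 1), (7, 1), (10, 1), (10, 1), (7, 1), (7, 1), (10, 1), (10, 1), (7, 1), (7, 1), (7, 1), (7, 1), (7, 1), (7, 1), (7, 1), (7, 1), (7, 1), (7, 1), (8, 1), (8, 1), (7, 1), (7, 1), (8, 1), (8, 1), (7, 1), (7, 1), (7, 1), (7, 1), (10, 1), (10, 1), (7, 1), (7, 1), (10, 1), (10, 1), (7, 1), (7, 1), (7, 1), (7, 1), (7, 1), (7, 1), (7, 1), (7, 1), (7, 1), (7, 1), (7, 1), (7, 1), (7, 1), (7, 1), (7, 1), (7, 1), (7, 1), (7, 1), (7, 1), (7, 1), (7, 1), (7, 1), (7, 1), (7, 1), (7, 1), (7, 1), (7, 1), (7, 1), (7, 1),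 (7, 1), (7, 1), (7, 1), (7, 1), (7, 1), (7, 1), (7, 1), (7, 1), (7, 1), (7, 1), (7, 1), (7, 1), (7, 1), (7, 1), (7, 1), (7, 1), (7, 1), (7, 1), (7, 1), (7, 1), (7, 1), (7, 1), (7, 1), (7, 1), (7, 1), (7, 1), (7, 1), (7, 1), (7, 1), (7, 1), (7, 1), (7, 1), (7, 1), (7, 1), (7, 1), (7, 1), (7, 1), (7, 1), (7, 1), (7, 1), (7, 1), (7, 1), (7, 1)], [[],
 [nat_lit 14],
 [nat_lit 20]]),
 (0, 1, [(0, 0), (7, 1), (9, 1), (7, 1), (9, 1), (7, 1), (0, 0), (7, 1), (7, 1), (7, 1), (7, 1), (7, 1), (7, 1), (7, 1), (7, 1), (7, 1), (7, 1), (7, 1), (7, 1), (7, 1), (7, 1), (7, 1), (7, 1), (7, 1), (7, 1), (7, 1), (7, 1), (7, 1), (7, 1), (7, 1), (7, 1), (7, 1), (7, 1), (7, 1), (7, 1), (7, 1), (7, 1), (7, 1), (7, 1), (7, 1), (7, 1), (7, 1), (7, 1), (7, 1), (7, 1), (7, 1), (7, 1), (7, 1), (10, 1), (7, 1), (10, 1), (7, 1), (10, 1), (7, 1), (10, 1), (7, 1), (7, 1), (7, 1), (7, 1), (7, 1), (7, 1), (7, 1), (7, 1), (7, 1), (7, 1), (7, 1), (7, 1),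 (7, 1), (7, 1), (7, 1), (7, 1), (7, 1), (7, 1), (7, 1), (7, 1), (7, 1), (7, 1), (7, 1), (7, 1), (7, 1), (7, 1), (7, 1), (7, 1), (7, 1), (7, 1), (7, 1), (7, 1), (7, 1), (7, 1), (7, 1), (7, 1), (7, 1), (7, 1), (7, 1), (7, 1), (7, 1), (7, 1), (7, 1), (7, 1), (7, 1), (7, 1), (7, 1), (7, 1), (7, 1), (7, 1), (7, 1), (7, 1), (7, 1), (7, 1), (7, 1), (7, 1), (7, 1), (7, 1), (7, 1), (7, 1), (7, 1), (7, 1), (7, 1), (7, 1), (7, 1), (7, 1), (7, 1), (7, 1), (7, 1), (7, 1), (7, 1), (7, 1), (7, 1)], [[],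
 [nat_lit 14],
 [nat_lit 20]]),
 (0, 1, [(0, 0), (7, 1), (7, 1), (8, 1), (8, 1), (7, 1), (7, 1), (0, 0), (7, 1), (7, 1), (7, 1), (7, 1), (7, 1), (7, 1), (7, 1), (7, 1), (7, 1), (7, 1), (7, 1), (7, 1), (7, 1), (7, 1), (7, 1), (7, 1), (7, 1), (7, 1), (7, 1), (7, 1), (7, 1), (7, 1), (7, 1), (7, 1), (7, 1), (7, 1), (7, 1), (7, 1), (7, 1), (7, 1), (7, 1), (7, 1), (7, 1), (7, 1), (7, 1), (7, 1), (7, 1), (7, 1), (7, 1), (7, 1), (7, 1), (10, 1), (10, 1), (7, 1), (7, 1), (10, 1), (10, 1), (7, 1), (7, 1), (7, 1), (7, 1), (7, 1), (7, 1), (7, 1), (7, 1), (7, 1), (7, 1), (7, 1), (7, 1), (7, 1), (7, 1), (7, 1), (7, 1), (7, 1), (7, 1), (7, 1), (7, 1), (7, 1), (7, 1), (7, 1), (7, 1), (7, 1), (7, 1), (7, 1), (7, 1), (7, 1), (7, 1), (7, 1), (7, 1), (7, 1), (7, 1), (7, 1), (7, 1), (7, 1), (7, 1), (7, 1), (7, 1), (7, 1), (7, 1), (7, 1), (7, 1), (7, 1), (7, 1), (7, 1), (7, 1), (7, 1), (7, 1), (7, 1), (7, 1), (7, 1), (7, 1), (7, 1), (7, 1),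 (7, 1), (7, 1), (7, 1), (7, 1), (7, 1), (7, 1), (7, 1), (7, 1), (7, 1), (7, 1), (7, 1), (7, 1), (7, 1), (7, 1), (7, 1), (7, 1), (7, 1)], [[],
 [nat_lit 14],
 [nat_lit 20]]),
 (0, 1, [(0, 0), (7, 1), (7, 1), (7, 1), (7, 1), (7, 1), (7, 1), (7, 1), (0, 0), (7, 1), (7, 1), (7, 1), (7, 1), (7, 1), (7, 1), (7, 1), (7, 1), (7, 1), (7, 1), (7, 1), (7, 1), (7, 1), (7, 1), (7, 1), (7, 1), (7, 1), (7, 1), (7, 1), (7, 1), (7, 1), (7, 1), (7, 1), (7, 1), (7, 1), (7, 1), (7, 1), (7, 1), (11, 1), (7, 1), (7, 1), (7, 1), (7, 1), (7, 1), (7, 1), (11, 1), (7, 1), (7, 1), (7, 1), (7, 1), (7, 1), (7, 1), (7, 1), (7, 1), (7, 1), (7, 1), (7, 1), (7, 1), (7, 1), (7, 1), (7, 1), (7, 1), (7, 1), (7, 1), (7, 1), (7, 1), (7, 1), (7, 1), (7, 1), (7, 1), (7, 1), (7, 1), (7, 1), (7, 1), (7, 1), (7, 1), (7, 1), (7, 1), (7, 1), (7, 1), (7, 1), (7, 1), (7, 1), (7, 1), (7, 1), (7, 1), (7, 1), (7, 1), (7, 1), (7, 1), (7, 1), (7, 1), (7, 1), (7, 1), (7,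 1), (7, 1), (7, 1), (7, 1), (7, 1), (7, 1), (7, 1), (7, 1), (7, 1), (7, 1), (7, 1), (7, 1), (7, 1), (7, 1), (7, 1), (7, 1), (7, 1), (7, 1), (7, 1), (7, 1), (7, 1), (7, 1), (7, 1), (7, 1), (7, 1), (7, 1), (7, 1), (7, 1), (7, 1), (7, 1), (7, 1), (7, 1), (7, 1), (7, 1), (7, 1)], [[],
 [nat_lit 14],
 [nat_lit 16]]),
 (0, 1, [(0, 0), (7, 1), (7, 1), (7, 1), (7, 1), (7, 1), (7, 1), (7, 1), (7, 1), (0, 0), (7, 1), (7, 1), (7, 1), (7, 1), (7, 1), (7, 1), (7, 1), (7, 1), (7, 1), (7, 1), (7, 1), (7, 1), (7, 1), (7, 1), (7, 1), (7, 1), (7, 1), (7, 1), (7, 1), (7, 1), (7, 1), (7, 1), (7, 1), (7, 1), (7, 1), (7, 1), (8, 1), (7, 1), (7, 1), (7, 1), (7, 1), (7, 1), (7, 1), (7, 1), (8, 1), (7, 1), (7, 1), (7, 1), (7, 1), (7, 1), (7, 1), (7, 1), (7, 1), (7, 1), (7, 1), (7, 1), (7, 1), (7, 1), (7, 1), (7, 1), (7, 1), (7, 1), (7, 1), (7, 1), (7, 1), (7, 1), (7, 1), (7, 1), (7, 1), (7, 1), (7, 1), (7, 1), (7, 1), (7, 1), (7, 1), (7, 1),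 (7, 1), (7, 1), (7, 1), (7, 1), (7, 1), (7, 1), (7, 1), (7, 1), (7, 1), (7, 1), (7, 1), (7, 1), (7, 1), (7, 1), (7, 1), (7, 1), (7, 1), (7, 1), (7, 1), (7, 1), (7, 1), (7, 1), (7, 1), (7, 1), (7, 1), (7, 1), (7, 1), (7, 1), (7, 1), (7, 1), (7, 1), (7, 1), (7, 1), (7, 1), (7, 1), (7, 1), (7, 1), (7, 1), (7, 1), (7, 1), (7, 1), (7, 1), (7, 1), (7, 1), (7, 1), (7, 1), (7, 1), (7, 1), (7, 1), (7, 1), (7, 1), (7, 1)], [[],
 [nat_lit 14],
 [nat_lit 16]]),
 (0, 1, [(0, 0), (7, 1), (7, 1), (7, 1), (7, 1), (7, 1), (7, 1), (7, 1), (7, 1), (7, 1), (0, 0), (7, 1), (7, 1), (7, 1), (7, 1), (7, 1), (7, 1), (7, 1), (7, 1), (7, 1), (7, 1), (7, 1), (7, 1), (7, 1), (7, 1), (7, 1), (7, 1), (7, 1), (7, 1), (7, 1), (7, 1), (7, 1), (7, 1), (7, 1), (8, 1), (7, 1), (7, 1), (7, 1), (7, 1), (7, 1), (8, 1), (7, 1), (7, 1), (7, 1), (7, 1), (7, 1), (7, 1), (7, 1), (7, 1), (7, 1), (7, 1), (7, 1), (7, 1), (7, 1), (7, 1), (7, 1), (7, 1), (7, 1), (7,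 1), (7, 1), (7, 1), (7, 1), (7, 1), (7, 1), (7, 3), (7, 1), (7, 1), (7, 1), (7, 1), (7, 1), (7, 1), (7, 1), (7, 1), (7, 1), (7, 3), (7, 1), (7, 1), (7, 1), (7, 1), (7, 1), (7, 1), (7, 1), (7, 1), (7, 1), (7, 1), (7, 1), (7, 1), (7, 1), (7, 1), (7, 1), (7, 1), (7, 1), (7, 1), (7, 1), (7, 1), (7, 1), (7, 1), (7, 1), (7, 1), (7, 3), (7, 1), (7, 1), (7, 1), (7, 1), (7, 1), (7, 3), (7, 1), (7, 1), (7, 1), (7, 1), (7, 1), (7, 1), (7, 1), (7, 1), (7, 1), (7, 1), (7, 1), (7, 1), (7, 1), (7, 1), (7, 1), (7, 1), (7, 1), (7, 1), (7, 1), (7, 1), (7, 1), (7, 1)], [[],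
 [nat_lit 14],
 [nat_lit 26]]),
 (0, 1, [(0, 0), (7, 1), (7, 1), (7, 1), (7, 1), (7, 1), (7, 1), (7, 1), (7, 1), (7, 1), (7, 1), (0, 0), (7, 1), (7, 1), (7, 1), (7, 1), (7, 1), (7, 1), (7, 1), (7, 1), (7, 1), (7, 1), (7, 1), (7, 1), (7, 1), (7, 1), (7, 1), (7, 1), (7, 1), (7, 1), (7, 1), (7, 1), (7, 1), (7, 1), (7, 1), (11, 1), (7, 1), (7, 1), (7, 1), (7, 1), (11, 1), (7, 1), (7, 1), (7, 1), (7, 1), (7, 1), (7, 1), (7, 1), (7, 1), (7, 1), (7, 1), (7, 1), (7, 1), (7, 1), (7, 1), (7, 1), (7, 1), (7, 1), (7, 1), (7, 1), (7, 1), (7, 1), (7, 1), (7, 1), (7, 1), (7, 1), (7, 1), (7, 1), (7, 1), (7, 1), (7, 1), (7, 1), (7, 1), (7, 1), (7, 1), (7, 1), (7, 1), (7, 1), (7, 1), (7, 1), (7, 1), (7, 1), (7, 1), (7, 1), (7, 1), (7, 1), (7, 1), (7, 1), (7, 1), (7, 1), (7, 1), (7, 1), (7, 1), (7, 1), (7, 1), (7, 1), (7, 1), (7, 1), (7, 1), (7, 1), (7, 1), (7, 1), (7, 1), (7, 1), (7, 1), (7, 1), (7, 1), (7, 1), (7, 1), (7, 1), (7, 1),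 (7, 1), (7, 1), (7, 1), (7, 1), (7, 1), (7, 1), (7, 1), (7, 1), (7, 1), (7, 1), (7, 1), (7, 1), (7, 1), (7, 1), (7, 1), (7, 1), (7, 1)], [[],
 [nat_lit 14],
 [nat_lit 16]]),
 (7, 1, [], []),
 (7, 1, [], []),
 (7, 1, [], []),
 (7, 1, [], []),
 (7, 1, [], []),
 (7, 1, [], []),
 (7, 1, [], []),
 (7, 1, [], []),
 (7, 1, [], []),
 (7, 1, [], []),
 (7, 1, [], []),
 (7, 1, [], []),
 (10, 1, [], []),
 (10, 1, [], []),
 (7, 1, [], []),
 (7, 1, [], []),
 (10, 1, [], []),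
 (10, 1, [], []),
 (7, 1, [], []),
 (7, 1, [], []),
 (7, 1, [], []),
 (7, 1, [], []),
 (0, 1, [(0, 0), (7, 1), (7, 1), (7, 1), (7, 1), (7, 1), (7, 1), (7, 1), (7, 1), (7, 1), (8, 1), (7, 1), (7, 1), (7, 1), (7, 1), (7, 1), (7, 1), (7, 1), (7, 1), (7, 1), (7, 1), (7, 1), (7, 1), (7, 1), (7, 1), (7, 1), (7, 1), (7, 1), (7, 1), (7, 1), (7, 1), (7, 1), (7, 1), (7, 1), (0, 0), (7, 1), (7, 1), (7, 1), (7, 1), (7, 1), (8, 1), (7, 1), (7, 1), (7, 1), (7, 1), (7, 1), (7, 1), (7, 1), (7, 1), (7, 1), (7, 1), (7, 1), (7, 1), (7, 1), (7, 1), (7, 1), (7, 1), (7, 1), (7, 1), (7, 1), (7, 1), (7, 1), (7, 1), (7, 1), (7, 3), (7, 1), (7, 1), (7, 1), (7, 1), (7, 1), (7, 1), (7, 1), (7, 1), (7, 1), (7, 3), (7, 1), (7, 1), (7, 1), (7, 1), (7, 1), (7, 1), (7, 1), (7, 1), (7, 1), (7, 1), (7, 1), (7, 1), (7, 1), (7, 1), (7, 1), (7, 1), (7, 1), (7, 1), (7, 1), (7, 1), (7, 1), (7, 1), (7, 1), (7, 1), (7, 3), (7, 1), (7, 1), (7, 1), (7, 1), (7,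 1), (7, 3), (7, 1), (7, 1), (7, 1), (7, 1), (7, 1), (7, 1), (7, 1), (7, 1), (7, 1), (7, 1), (7, 1), (7, 1), (7, 1), (7, 1), (7, 1), (7, 1), (7, 1), (7, 1), (7, 1), (7, 1), (7, 1), (7, 1)], [[],
 [nat_lit 14],
 [nat_lit 24]]),
 (0, 1, [(0, 0), (7, 1), (7, 1), (7, 1), (7, 1), (7, 1), (7, 1), (7, 1), (7, 1), (7, 1), (7, 1), (11, 1), (7, 1), (7, 1), (7, 1), (7, 1), (7, 1), (7, 1), (7, 1), (7, 1), (7, 1), (7, 1), (7, 1), (7, 1), (7, 1), (7, 1), (7, 1), (7, 1), (7, 1), (7, 1), (7, 1), (7, 1), (7, 1), (7, 1), (7, 1), (0, 0), (7, 1), (7, 1), (7, 1), (7, 1), (11, 1), (7, 1), (7, 1), (7, 1), (7, 1), (7, 1), (7, 1), (7, 1), (7, 1), (7, 1), (7, 1), (7, 1), (7, 1), (7, 1), (7, 1), (7, 1), (7, 1), (7, 1), (7, 1), (7, 1), (7, 1), (7, 1), (7, 1), (7, 1), (7, 1), (7, 1), (7, 1), (7, 1), (7, 1), (7, 1), (7, 1), (7, 1), (7, 1), (7, 1), (7, 1), (7, 1), (7, 1), (7, 1), (7, 1), (7, 1), (7, 1), (7, 1), (7, 1), (7, 1), (7, 1), (7, 1), (7, 1),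 (7, 1), (7, 1), (7, 1), (7, 1), (7, 1), (7, 1), (7, 1), (7, 1), (7, 1), (7, 1), (7, 1), (7, 1), (7, 1), (7, 1), (7, 1), (7, 1), (7, 1), (7, 1), (7, 1), (7, 1), (7, 1), (7, 1), (7, 1), (7, 1), (7, 1), (7, 1), (7, 1), (7, 1), (7, 1), (7, 1), (7, 1), (7, 1), (7, 1), (7, 1), (7, 1), (7, 1), (7, 1), (7, 1), (7, 1), (7, 1), (7, 1)], [[],
 [nat_lit 14],
 [nat_lit 24]]),
 (0, 1, [(0, 0), (7, 1), (7, 1), (7, 1), (7, 1), (7, 1), (7, 1), (7, 1), (7, 1), (8, 1), (7, 1), (7, 1), (7, 1), (7, 1), (7, 1), (7, 1), (7, 1), (7, 1), (7, 1), (7, 1), (7, 1), (7, 1), (7, 1), (7, 1), (7, 1), (7, 1), (7, 1), (7, 1), (7, 1), (7, 1), (7, 1), (7, 1), (7, 1), (7, 1), (7, 1), (7, 1), (0, 0), (7, 1), (7, 1), (7, 1), (7, 1), (7, 1), (7, 1), (7, 1), (8, 1), (7, 1), (7, 1), (7, 1), (7, 1), (7, 1), (7, 1), (7, 1), (7, 1), (7, 1), (7, 1), (7, 1), (7, 1), (7, 1), (7, 1), (7, 1), (7, 1), (7, 1), (7, 1), (7, 1), (7, 1), (7, 1), (7, 1), (7, 1), (7, 1), (7,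 1), (7, 1), (7, 1), (7, 1), (7, 1), (7, 1), (7, 1), (7, 1), (7, 1), (7, 1), (7, 1), (7, 1), (7, 1), (7, 1), (7, 1), (7, 1), (7, 1), (7, 1), (7, 1), (7, 1), (7, 1), (7, 1), (7, 1), (7, 1), (7, 1), (7, 1), (7, 1), (7, 1), (7, 1), (7, 1), (7, 1), (7, 1), (7, 1), (7, 1), (7, 1), (7, 1), (7, 1), (7, 1), (7, 1), (7, 1), (7, 1), (7, 1), (7, 1), (7, 1), (7, 1), (7, 1), (7, 1), (7, 1), (7, 1), (7, 1), (7, 1), (7, 1), (7, 1), (7, 1), (7, 1), (7, 1), (7, 1), (7, 1), (7, 1)], [[],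
 [nat_lit 14],
 [nat_lit 24]]),
 (0, 1, [(0, 0), (7, 1), (7, 1), (7, 1), (7, 1), (7, 1), (7, 1), (7, 1), (11, 1), (7, 1), (7, 1), (7, 1), (7, 1), (7, 1), (7, 1), (7, 1), (7, 1), (7, 1), (7, 1), (7, 1), (7, 1), (7, 1), (7, 1), (7, 1), (7, 1), (7, 1), (7, 1), (7, 1), (7, 1), (7, 1), (7, 1), (7, 1), (7, 1), (7, 1), (7, 1), (7, 1), (7, 1), (0, 0), (7, 1), (7, 1), (7, 1), (7, 1), (7, 1), (7, 1), (11, 1), (7, 1), (7, 1), (7, 1), (7, 1), (7, 1), (7, 1), (7, 1), (7, 1), (7, 1), (7, 1), (7, 1), (7, 1), (7, 1), (7, 1), (7, 1), (7, 1), (7, 1), (7, 1), (7, 1), (7, 1), (7, 1), (7, 1), (7, 1), (7, 1), (7, 1), (7, 1), (7, 1), (7, 1), (7, 1), (7, 1), (7, 1), (7, 1), (7, 1), (7, 1), (7, 1), (7, 1), (7, 1), (7, 1), (7, 1), (7, 1), (7, 1), (7, 1), (7, 1), (7, 1), (7, 1), (7, 1), (7, 1), (7, 1), (7, 1), (7, 1), (7, 1), (7, 1), (7, 1), (7, 1), (7, 1), (7, 1), (7, 1), (7, 1), (7, 1), (7, 1), (7, 1), (7, 1), (7, 1), (7, 1), (7, 1), (7, 1),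 (7, 1), (7, 1), (7, 1), (7, 1), (7, 1), (7, 1), (7, 1), (7, 1), (7, 1), (7, 1), (7, 1), (7, 1), (7, 1), (7, 1), (7, 1), (7, 1), (7, 1)], [[],
 [nat_lit 14],
 [nat_lit 24]]),
 (7, 1, [], []),
 (7, 1, [], []),
 (0, 1, [(0, 0), (8, 1), (8, 1), (8, 1), (8, 1), (8, 1), (8, 1), (8, 1), (8, 1), (8, 1), (8, 1), (11, 1), (8, 1), (8, 1), (8, 1), (8, 1), (10, 1), (10, 1), (10, 1), (10, 1), (10, 1), (10, 1), (10, 1), (10, 1), (10, 1), (10, 1), (10, 1), (10, 1), (10, 1), (10, 1), (10, 1), (10, 1), (8, 1), (8, 1), (8, 1), (11, 1), (8, 1), (8, 1), (8, 1), (8, 1), (0, 0), (8, 1), (8, 1), (8, 1), (8, 1), (8, 1), (8, 1), (8, 1), (10, 1), (10, 1), (10, 1), (10, 1), (10, 1), (10, 1), (10, 1), (10, 1), (10, 1), (10, 1), (10, 1), (10, 1), (10, 1), (10, 1), (10, 1), (10, 1), (8, 1), (8, 1), (8, 1), (8, 1), (8, 1), (8, 1), (8, 1), (8, 1), (8, 1), (8, 1), (8, 1), (8, 1), (8, 1), (8, 1), (8, 1), (8, 1), (10, 1), (10, 1), (10, 1), (10, 1), (10,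 1), (10, 1), (10, 1), (10, 1), (10, 1), (10, 1), (10, 1), (10, 1), (10, 1), (10, 1), (10, 1), (10, 1), (8, 1), (8, 1), (8, 1), (8, 1), (8, 1), (8, 1), (8, 1), (8, 1), (8, 1), (8, 1), (8, 1), (8, 1), (8, 1), (8, 1), (8, 1), (8, 1), (10, 1), (10, 1), (10, 1), (10, 1), (10, 1), (10, 1), (10, 1), (10, 1), (10, 1), (10, 1), (10, 1), (10, 1), (10, 1), (10, 1), (10, 1), (10, 1)], [[],
 [nat_lit 24],
 [nat_lit 20]]),
 (0, 1, [(0, 0), (8, 1), (7, 1), (7, 1), (8, 1), (8, 1), (7, 1), (7, 1), (7, 1), (7, 1), (7, 1), (7, 1), (7, 1), (7, 1), (7, 1), (7, 1), (7, 1), (7, 1), (7, 1), (7, 1), (7, 1), (7, 1), (7, 1), (7, 1), (10, 1), (10, 1), (7, 1), (7, 1), (10, 1), (10, 1), (7, 1), (7, 1), (7, 1), (7, 1), (7, 1), (7, 1), (7, 1), (7, 1), (7, 1), (7, 1), (8, 1), (0, 0), (7, 1), (7, 1), (8, 1), (8, 1), (7, 1), (7, 1), (7, 1), (7, 1), (10, 1), (10, 1), (7, 1), (7, 1), (10, 1), (10, 1), (7, 1), (7, 1), (7, 1), (7, 1), (7, 1), (7, 1), (7, 1),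 (7, 1), (7, 1), (7, 1), (7, 1), (7, 1), (7, 1), (7, 1), (7, 1), (7, 1), (7, 1), (7, 1), (7, 1), (7, 1), (7, 1), (7, 1), (7, 1), (7, 1), (7, 1), (7, 1), (7, 1), (7, 1), (7, 1), (7, 1), (7, 1), (7, 1), (7, 1), (7, 1), (7, 1), (7, 1), (7, 1), (7, 1), (7, 1), (7, 1), (7, 1), (7, 1), (7, 1), (7, 1), (7, 1), (7, 1), (7, 1), (7, 1), (7, 1), (7, 1), (7, 1), (7, 1), (7, 1), (7, 1), (7, 1), (7, 1), (7, 1), (7, 1), (7, 1), (7, 1), (7, 1), (7, 1), (7, 1), (7, 1), (7, 1), (7, 1), (7, 1), (7, 1), (7, 1), (7, 1), (7, 1), (7, 1)], [[],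
 [nat_lit 14],
 [nat_lit 24]]),
 (7, 1, [], []),
 (7, 1, [], []),
 (0, 1, [(0, 0), (8, 1), (8, 1), (8, 1), (8, 1), (8, 1), (8, 1), (8, 1), (11, 1), (8, 1), (8, 1), (8, 1), (8, 1), (8, 1), (8, 1), (8, 1), (8, 1), (8, 1), (8, 1), (8, 1), (8, 1), (8, 1), (8, 1), (8, 1), (8, 1), (8, 1), (8, 1), (8, 1), (8, 1), (8, 1), (8, 1), (8, 1), (8, 1), (8, 1), (8, 1), (8, 1), (8, 1), (11, 1), (8, 1), (8, 1), (8, 1), (8, 1), (8, 1), (8, 1), (0, 0), (8, 1), (8, 1), (8, 1), (8, 1), (8, 1), (8, 1), (8, 1), (8, 1), (8, 1), (8, 1), (8, 1), (8, 1), (8, 1), (8, 1), (8, 1), (8, 1), (8, 1), (8, 1), (8, 1), (8, 1), (8, 1), (8, 1), (8, 1), (8, 1), (8, 1), (8, 1), (8, 1), (8, 1), (8, 1), (8, 1), (8, 1), (8, 1), (8, 1), (8, 1), (8, 1), (8, 1), (8, 1), (8, 1), (8, 1), (8, 1), (8, 1), (8, 1), (8, 1), (8, 1), (8, 1), (8, 1), (8, 1), (8, 1), (8, 1), (8, 1), (8, 1), (8, 1), (8, 1), (8, 1), (8, 1), (8, 1), (8, 1), (8, 1), (8, 1), (8, 1), (8, 1), (8, 1),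 (8, 1), (8, 1), (8, 1), (8, 1), (8, 1), (8, 1), (8, 1), (8, 1), (8, 1), (8, 1), (8, 1), (8, 1), (8, 1), (8, 1), (8, 1), (8, 1), (8, 1), (8, 1), (8, 1), (8, 1), (8, 1)], [[],
 [nat_lit 24],
 [nat_lit 16]]),
 (0, 1, [(0, 0), (8, 1), (7, 1), (7, 1), (8, 1), (8, 1), (7, 1), (7, 1), (7, 1), (7, 1), (7, 1), (7, 1), (7, 1), (7, 1), (7, 1), (7, 1), (7, 1), (7, 1), (7, 1), (7, 1), (7, 1), (7, 1), (7, 1), (7, 1), (8, 1), (8, 1), (7, 1), (7, 1), (8, 1), (8, 1), (7, 1), (7, 1), (7, 1), (7, 1), (7, 1), (7, 1), (7, 1), (7, 1), (7, 1), (7, 1), (8, 1), (8, 1), (7, 1), (7, 1), (8, 1), (0, 0), (7, 1), (7, 1), (7, 1), (7, 1), (8, 1), (8, 1), (7, 1), (7, 1), (8, 1), (8, 1), (7, 1), (7, 1), (7, 1), (7, 1), (7, 1), (7, 1), (7, 1), (7, 1), (7, 1), (7, 1), (7, 1), (7, 1), (7, 1), (7, 1), (7, 1), (7, 1), (7, 1), (7, 1), (7, 1), (7, 1), (7, 1), (7, 1), (7, 1), (7, 1), (7, 1), (7, 1), (7, 1), (7, 1), (7, 1), (7, 1), (7, 1), (7, 1), (7, 1), (7,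 1), (7, 1), (7, 1), (7, 1), (7, 1), (7, 1), (7, 1), (7, 1), (7, 1), (7, 1), (7, 1), (7, 1), (7, 1), (7, 1), (7, 1), (7, 1), (7, 1), (7, 1), (7, 1), (7, 1), (7, 1), (7, 1), (7, 1), (7, 1), (7, 1), (7, 1), (7, 1), (7, 1), (7, 1), (7, 1), (7, 1), (7, 1), (7, 1), (7, 1), (7, 1), (7, 1), (7, 1), (7, 1), (7, 1)], [[],
 [nat_lit 14],
 [nat_lit 24]]),
 (7, 1, [], []),
 (7, 1, [], []),
 (0, 1, [(0, 0), (7, 1), (8, 1), (7, 1), (10, 1), (7, 1), (10, 1), (7, 1), (7, 1), (7, 1), (7, 1), (7, 1), (7, 1), (7, 1), (7, 1), (7, 1), (7, 1), (7, 1), (7, 1), (7, 1), (7, 1), (7, 1), (7, 1), (7, 1), (7, 1), (7, 1), (7, 1), (7, 1), (7, 1), (7, 1), (7, 1), (7, 1), (7, 1), (7, 1), (7, 1), (7, 1), (7, 1), (7, 1), (7, 1), (7, 1), (7, 1), (7, 1), (7, 1), (7, 1), (7, 1), (7, 1), (7, 1), (7, 1), (0, 0), (7, 1), (8, 1), (7, 1), (10, 1), (7, 1), (10, 1), (7, 1), (7, 1), (7, 1), (7, 1), (7, 1), (7, 1), (7, 1), (7, 1), (7, 1), (7, 1), (7, 1), (7, 1), (7,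 1), (7, 1), (7, 1), (7, 1), (7, 1), (7, 1), (7, 1), (7, 1), (7, 1), (7, 1), (7, 1), (7, 1), (7, 1), (7, 1), (7, 1), (7, 1), (7, 1), (7, 1), (7, 1), (7, 1), (7, 1), (7, 1), (7, 1), (7, 1), (7, 1), (7, 1), (7, 1), (7, 1), (7, 1), (7, 1), (7, 1), (7, 1), (7, 1), (7, 1), (7, 1), (7, 1), (7, 1), (7, 1), (7, 1), (7, 1), (7, 1), (7, 1), (7, 1), (7, 1), (7, 1), (7, 1), (7, 1), (7, 1), (7, 1), (7, 1), (7, 1), (7, 1), (7, 1), (7, 1), (7, 1), (7, 1), (7, 1), (7, 1), (7, 1), (7, 1), (7, 1)], [[],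
 [nat_lit 14],
 [nat_lit 20]]),
 (0, 1, [(0, 0), (7, 1), (7, 1), (9, 1), (10, 1), (7, 1), (7, 1), (10, 1), (7, 1), (7, 1), (7, 1), (7, 1), (7, 1), (7, 1), (7, 1), (7, 1), (7, 1), (7, 1), (7, 1), (7, 1), (7, 1), (7, 1), (7, 1), (7, 1), (7, 1), (7, 1), (7, 1), (7, 1), (7, 1), (7, 1), (7, 1), (7, 1), (7, 1), (7, 1), (7, 1), (7, 1), (7, 1), (7, 1), (7, 1), (7, 1), (7, 1), (7, 1), (7, 1), (7, 1), (7, 1), (7, 1), (7, 1), (7, 1), (7, 1), (0, 0), (9, 1), (7, 1), (7, 1), (10, 1), (10, 1), (7, 1), (7, 1), (7, 1), (7, 1), (7, 1), (7, 1), (7, 1), (7, 1), (7, 1), (7, 1), (7, 1), (7, 1), (7, 1), (7, 1), (7, 1), (7, 1), (7, 1), (7, 1), (7, 1), (7, 1), (7, 1), (7, 1), (7, 1), (7, 1), (7, 1), (7, 1), (7, 1), (7, 1), (7, 1), (7, 1), (7, 1), (7, 1), (7, 1), (7, 1), (7, 1), (7, 1), (7, 1), (7, 1), (7, 1), (7, 1), (7, 1), (7, 1), (7, 1), (7, 1), (7, 1), (7, 1), (7, 1), (7, 1), (7, 1), (7, 1), (7, 1), (7, 1), (7, 1), (7, 1), (7, 1), (7, 1),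 (7, 1), (7, 1), (7, 1), (7, 1), (7, 1), (7, 1), (7, 1), (7, 1), (7, 1), (7, 1), (7, 1), (7, 1), (7, 1), (7, 1), (7, 1), (7, 1), (7, 1)], [[],
 [nat_lit 14],
 [nat_lit 20]]),
 (0, 1, [(0, 0), (8, 1), (8, 1), (9, 1), (10, 1), (10, 1), (10, 1), (10, 1), (8, 1), (8, 1), (8, 1), (8, 1), (10, 1), (10, 1), (10, 1), (10, 1), (10, 1), (10, 1), (10, 1), (10, 1), (10, 1), (10, 1), (10, 1), (10, 1), (10, 1), (10, 1), (10, 1), (10, 1), (10, 1), (10, 1), (10, 1), (10, 1), (10, 1), (10, 1), (10, 1), (10, 1), (10, 1), (10, 1), (10, 1), (10, 1), (10, 1), (10, 1), (10, 1), (10, 1), (10, 1), (10, 1), (10, 1), (10, 1), (8, 1), (9, 1), (0, 0), (8, 1), (10, 1), (10, 1), (10, 1), (10, 1), (8, 1), (8, 1), (8, 1), (8, 1), (10, 1), (10, 1), (10, 1), (10, 1), (8, 1), (8, 1), (8, 1), (8, 1), (10, 1), (10, 1), (10, 1), (10, 1), (8, 1), (8, 1), (8, 1), (8, 1), (10, 1), (10, 1), (10, 1), (10, 1), (10, 1), (10, 1), (10, 1), (10, 1), (10, 1), (10, 1),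 (10, 1), (10, 1), (10, 1), (10, 1), (10, 1), (10, 1), (10, 1), (10, 1), (10, 1), (10, 1), (10, 1), (10, 1), (10, 1), (10, 1), (10, 1), (10, 1), (10, 1), (10, 1), (10, 1), (10, 1), (10, 1), (10, 1), (10, 1), (10, 1), (10, 1), (10, 1), (8, 1), (8, 1), (8, 1), (8, 1), (10, 1), (10, 1), (10, 1), (10, 1), (8, 1), (8, 1), (8, 1), (8, 1), (10, 1), (10, 1), (10, 1), (10, 1)], [[],
 [nat_lit 20],
 [nat_lit 16]]),
 (0, 1, [(0, 0), (8, 1), (7, 1), (7, 1), (10, 1), (10, 1), (7, 1), (7, 1), (7, 1), (7, 1), (7, 1), (7, 1), (7, 1), (7, 1), (7, 1), (7, 1), (7, 1), (7, 1), (7, 1), (7, 1), (7, 1), (7, 1), (7, 1), (7, 1), (10, 1), (10, 1), (7, 1), (7, 1), (10, 1), (10, 1), (7, 1), (7, 1), (7, 1), (7, 1), (7, 1), (7, 1), (7, 1), (7, 1), (7, 1), (7, 1), (10, 1), (10, 1), (7, 1), (7, 1), (10, 1), (10, 1), (7, 1), (7, 1), (7, 1), (7, 1), (8, 1), (0, 0), (7, 1), (7, 1), (10, 1), (10, 1), (7, 1), (7, 1), (7, 1), (7, 1), (7, 1), (7, 1), (7, 1),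 (7, 1), (7, 1), (7, 1), (7, 1), (7, 1), (7, 1), (7, 1), (7, 1), (7, 1), (7, 1), (7, 1), (7, 1), (7, 1), (7, 1), (7, 1), (7, 1), (7, 1), (7, 1), (7, 1), (7, 1), (7, 1), (7, 1), (7, 1), (7, 1), (7, 1), (7, 1), (7, 1), (7, 1), (7, 1), (7, 1), (7, 1), (7, 1), (7, 1), (7, 1), (7, 1), (7, 1), (7, 1), (7, 1), (7, 1), (7, 1), (7, 1), (7, 1), (7, 1), (7, 1), (7, 1), (7, 1), (7, 1), (7, 1), (7, 1), (7, 1), (7, 1), (7, 1), (7, 1), (7, 1), (7, 1), (7, 1), (7, 1), (7, 1), (7, 1), (7, 1), (7, 1), (7, 1), (7, 1), (7, 1), (7, 1)], [[],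
 [nat_lit 14],
 [nat_lit 20]]),
 (0, 1, [(0, 0), (7, 1), (8, 1), (7, 1), (10, 1), (7, 1), (10, 1), (7, 1), (7, 1), (7, 1), (7, 1), (7, 1), (7, 1), (7, 1), (7, 1), (7, 1), (7, 1), (7, 1), (7, 1), (7, 1), (7, 1), (7, 1), (7, 1), (7, 1), (7, 1), (7, 1), (7, 1), (7, 1), (7, 1), (7, 1), (7, 1), (7, 1), (7, 1), (7, 1), (7, 1), (7, 1), (7, 1), (7, 1), (7, 1), (7, 1), (7, 1), (7, 1), (7, 1), (7, 1), (7, 1), (7, 1), (7, 1), (7, 1), (10, 1), (7, 1), (10, 1), (7, 1), (0, 0), (7, 1), (8, 1), (7, 1), (7, 1), (7, 1), (7, 1), (7, 1), (7, 1), (7, 1), (7, 1), (7, 1), (7, 1), (7, 1), (7, 1), (7, 1), (7, 1), (7, 1), (7, 1), (7, 1), (7, 1), (7, 1), (7, 1), (7, 1), (7, 1), (7, 1), (7, 1), (7, 1), (7, 1), (7, 1), (7, 1), (7, 1), (7, 1), (7, 1), (7, 1), (7, 1), (7, 1), (7, 1), (7, 1), (7, 1), (7, 1), (7, 1), (7, 1), (7, 1), (7, 1), (7, 1), (7, 1), (7, 1), (7, 1), (7, 1), (7, 1), (7, 1), (7, 1), (7, 1), (7, 1), (7, 1), (7, 1), (7, 1), (7, 1),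 (7, 1), (7, 1), (7, 1), (7, 1), (7, 1), (7, 1), (7, 1), (7, 1), (7, 1), (7, 1), (7, 1), (7, 1), (7, 1), (7, 1), (7, 1), (7, 1), (7, 1)], [[],
 [nat_lit 14],
 [nat_lit 20]]),
 (0, 1, [(0, 0), (7, 1), (7, 1), (8, 1), (10, 1), (7, 1), (7, 1), (10, 1), (7, 1), (7, 1), (7, 1), (7, 1), (7, 1), (7, 1), (7, 1), (7, 1), (7, 1), (7, 1), (7, 1), (7, 1), (7, 1), (7, 1), (7, 1), (7, 1), (7, 1), (7, 1), (7, 1), (7, 1), (7, 1), (7, 1), (7, 1), (7, 1), (7, 1), (7, 1), (7, 1), (7, 1), (7, 1), (7, 1), (7, 1), (7, 1), (7, 1), (7, 1), (7, 1), (7, 1), (7, 1), (7, 1), (7, 1), (7, 1), (7, 1), (10, 1), (10, 1), (7, 1), (7, 1), (0, 0), (8, 1), (7, 1), (7, 1), (7, 1), (7, 1), (7, 1), (7, 1), (7, 1), (7, 1), (7, 1), (7, 1), (7, 1), (7, 1), (7, 1), (7, 1), (7, 1), (7, 1), (7, 1), (7, 1), (7, 1), (7, 1), (7, 1), (7, 1), (7, 1), (7, 1), (7, 1), (7, 1), (7, 1), (7, 1), (7, 1), (7, 1), (7, 1), (7, 1), (7, 1), (7, 1), (7, 1), (7, 1), (7, 1), (7, 1),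 (7, 1), (7, 1), (7, 1), (7, 1), (7, 1), (7, 1), (7, 1), (7, 1), (7, 1), (7, 1), (7, 1), (7, 1), (7, 1), (7, 1), (7, 1), (7, 1), (7, 1), (7, 1), (7, 1), (7, 1), (7, 1), (7, 1), (7, 1), (7, 1), (7, 1), (7, 1), (7, 1), (7, 1), (7, 1), (7, 1), (7, 1), (7, 1), (7, 1), (7, 1), (7, 1)], [[],
 [nat_lit 14],
 [nat_lit 20]])]
theorem k48 : jChk F (nat_lit 3510) ws (nat_lit 17) (nat_lit 7) (cosL 2 7) (List.take 54 (cosL 2 7)) j47 = true := by decide +kernel
noncomputable def j49 : List (Nat × Nat × List (Nat × Nat) × List Word) := [(0, 1, [(0, 0), (9, 1), (8, 1), (8, 1), (10, 1), (10, 1), (10, 1), (10, 1), (8, 1), (8, 1), (8, 1), (8, 1), (10, 1), (10, 1), (10, 1), (10, 1), (10, 1), (10, 1), (10, 1), (10, 1), (10, 1), (10, 1), (10, 1), (10, 1), (10, 1), (10, 1), (10, 1), (10, 1), (10, 1), (10, 1), (10, 1), (10, 1), (10, 1), (10, 1), (10, 1), (10, 1), (10, 1), (10, 1), (10, 1), (10, 1), (10, 1), (10, 1), (10, 1), (10, 1), (10, 1),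 (10, 1), (10, 1), (10, 1), (10, 1), (10, 1), (10, 1), (10, 1), (8, 1), (8, 1), (0, 0), (9, 1), (10, 1), (10, 1), (10, 1), (10, 1), (8, 1), (8, 1), (8, 1), (8, 1), (8, 1), (8, 1), (8, 1), (8, 1), (10, 1), (10, 1), (10, 1), (10, 1), (8, 1), (8, 1), (8, 1), (8, 1), (10, 1), (10, 1), (10, 1), (10, 1), (10, 1), (10, 1), (10, 1), (10, 1), (10, 1), (10, 1), (10, 1), (10, 1), (10, 1), (10, 1), (10, 1), (10, 1), (10, 1), (10, 1), (10, 1), (10, 1), (10, 1), (10, 1), (10, 1), (10, 1), (10, 1), (10, 1), (10, 1), (10, 1), (10, 1), (10, 1), (10, 1), (10, 1), (10, 1), (10, 1), (10, 1), (10, 1), (10, 1), (10, 1), (10, 1), (10, 1), (8, 1), (8, 1), (8, 1), (8, 1), (10, 1), (10, 1), (10, 1), (10, 1), (8, 1), (8, 1), (8, 1), (8, 1)], [[],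
 [nat_lit 20],
 [nat_lit 16]]),
 (0, 1, [(0, 0), (9, 1), (7, 1), (7, 1), (10, 1), (10, 1), (7, 1), (7, 1), (7, 1), (7, 1), (7, 1), (7, 1), (7, 1), (7, 1), (7, 1), (7, 1), (7, 1), (7, 1), (7, 1), (7, 1), (7, 1), (7, 1), (7, 1), (7, 1), (10, 1), (10, 1), (7, 1), (7, 1), (10, 1), (10, 1), (7, 1), (7, 1), (7, 1), (7, 1), (7, 1), (7, 1), (7, 1), (7, 1), (7, 1), (7, 1), (10, 1), (10, 1), (7, 1), (7, 1), (10, 1), (10, 1), (7, 1), (7, 1), (7, 1), (7, 1), (10, 1), (10, 1), (7, 1), (7, 1), (9, 1), (0, 0), (7, 1), (7, 1), (7, 1), (7, 1), (7, 1), (7, 1), (7, 1), (7, 1), (7, 1), (7, 1), (7, 1), (7, 1), (7, 1), (7, 1), (7, 1), (7, 1), (7, 1), (7, 1), (7, 1), (7, 1), (7, 1), (7, 1), (7, 1), (7, 1), (7, 1), (7, 1), (7, 1), (7, 1), (7, 1), (7, 1), (7, 1), (7, 1), (7, 1), (7, 1), (7, 1), (7, 1), (7, 1), (7, 1), (7, 1), (7, 1), (7, 1), (7, 1), (7, 1), (7, 1), (7, 1), (7, 1), (7, 1), (7, 1), (7, 1), (7, 1), (7, 1), (7, 1), (7, 1), (7, 1),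 (7, 1), (7, 1), (7, 1), (7, 1), (7, 1), (7, 1), (7, 1), (7, 1), (7, 1), (7, 1), (7, 1), (7, 1), (7, 1), (7, 1), (7, 1), (7, 1), (7, 1), (7, 1)], [[],
 [nat_lit 14],
 [nat_lit 20]]),
 (7, 1, [], []),
 (7, 1, [], []),
 (7, 1, [], []),
 (7, 1, [], []),
 (7, 1, [], []),
 (7, 1, [], []),
 (7, 1, [], []),
 (7, 1, [], []),
 (0, 1, [(0, 0), (7, 1), (7, 1), (7, 1), (7, 1), (7, 1), (7, 1), (7, 1), (7, 1), (7, 1), (7, 3), (7, 1), (7, 1), (7, 1), (7, 1), (7, 1), (7, 1), (7, 1), (7, 3), (7, 1), (7, 1), (7, 1), (7, 1), (7, 1), (7, 3), (7, 1), (7, 1), (7, 1), (7, 1), (7, 1), (7, 1), (7, 1), (7, 1), (7, 1), (7, 1), (7, 1), (7, 1), (7, 1), (7, 1), (7, 1), (7, 1), (7, 1), (7, 1), (7, 1), (7, 1), (7, 1), (7, 1), (7, 1), (7, 1), (7, 1), (7, 1), (7, 1), (7, 1), (7, 1), (7, 1), (7, 1), (7, 1), (7, 1), (7, 1), (7, 1), (7, 1), (7, 1), (7, 1), (7, 1), (0, 0), (7, 1), (7, 1), (7, 1), (7, 1), (7, 1), (7, 1), (7, 1), (7, 1), (7, 1), (7, 3), (7,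 1), (7, 1), (7, 1), (7, 1), (7, 1), (7, 1), (7, 1), (7, 3), (7, 1), (7, 1), (7, 1), (7, 1), (7, 1), (7, 3), (7, 1), (7, 1), (7, 1), (7, 1), (7, 1), (7, 1), (7, 1), (7, 1), (7, 1), (7, 1), (7, 1), (7, 1), (7, 1), (7, 1), (7, 1), (7, 1), (7, 1), (7, 1), (7, 1), (7, 1), (7, 1), (7, 1), (7, 1), (7, 1), (7, 1), (7, 1), (7, 1), (7, 1), (7, 1), (7, 1), (7, 1), (7, 1), (7, 1), (7, 1), (7, 1), (7, 1), (7, 1), (7, 1), (7, 1)], [[],
 [nat_lit 14],
 [nat_lit 26]]),
 (0, 1, [(0, 0), (7, 1), (7, 1), (7, 1), (7, 1), (7, 1), (7, 1), (7, 1), (7, 1), (7, 1), (7, 1), (7, 1), (7, 1), (7, 1), (7, 1), (7, 1), (7, 1), (7, 1), (7, 3), (7, 1), (7, 1), (7, 1), (7, 1), (7, 1), (7, 1), (7, 1), (7, 1), (7, 1), (7, 1), (7, 1), (7, 1), (7, 1), (7, 1), (7, 1), (7, 1), (7, 1), (7, 1), (7, 1), (7, 1), (7, 1), (7, 1), (7, 1), (7, 1), (7, 1), (7, 1), (7, 1), (7, 1), (7, 1), (7, 1), (7, 1), (7, 1), (7, 1), (7, 1), (7, 1), (7, 1), (7, 1), (7, 1), (7, 1),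 (7, 1), (7, 1), (7, 1), (7, 1), (7, 1), (7, 1), (7, 1), (0, 0), (7, 1), (7, 1), (7, 1), (7, 1), (7, 1), (7, 1), (7, 1), (7, 1), (7, 1), (7, 1), (7, 1), (7, 1), (7, 1), (7, 1), (7, 1), (7, 1), (7, 1), (7, 3), (7, 1), (7, 1), (7, 1), (7, 1), (7, 1), (7, 1), (7, 1), (7, 1), (7, 1), (7, 1), (7, 1), (7, 1), (7, 1), (7, 1), (7, 1), (7, 1), (7, 1), (7, 1), (7, 1), (7, 1), (7, 1), (7, 1), (7, 1), (7, 1), (7, 1), (7, 1), (7, 1), (7, 1), (7, 1), (7, 1), (7, 1), (7, 1), (7, 1), (7, 1), (7, 1), (7, 1), (7, 1), (7, 1), (7, 1), (7, 1), (7, 1), (7, 1), (7, 1), (7, 1)], [[],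
 [nat_lit 14],
 [nat_lit 16]]),
 (0, 1, [(0, 0), (7, 1), (7, 1), (7, 1), (7, 1), (7, 1), (7, 1), (7, 1), (7, 1), (7, 1), (7, 1), (7, 1), (7, 1), (7, 1), (7, 1), (7, 1), (7, 1), (7, 1), (7, 1), (7, 1), (7, 1), (7, 1), (7, 1), (7, 1), (7, 1), (7, 1), (7, 1), (7, 1), (7, 1), (7, 1), (7, 1), (7, 1), (7, 1), (7, 1), (7, 1), (7, 1), (7, 1), (7, 1), (7, 1), (7, 1), (7, 3), (7, 1), (7, 1), (7, 1), (7, 1), (7, 1), (7, 1), (7, 1), (7, 1), (7, 1), (7, 1), (7, 1), (7, 1), (7, 1), (7, 1), (7, 1), (7, 1), (7, 1), (7, 1), (7, 1), (7, 1), (7, 1), (7, 1), (7, 1), (7, 1), (7, 1), (0, 0), (7, 1), (7, 1), (7, 1), (7, 1), (7, 1), (7, 1), (7, 1), (7, 1), (7, 1), (7, 1), (7, 1), (7, 1), (7, 1), (7, 1), (7, 1), (7, 1), (7, 1), (7, 1), (7, 1), (7, 1), (7, 1), (7, 1), (7, 1), (7, 1), (7, 1), (7, 1), (7, 1), (7, 1), (7, 1), (7, 1), (7, 1), (7, 1), (7, 1), (7, 1), (7, 1), (7, 1), (7, 1), (7, 1), (7, 1), (7, 1), (7, 3), (7, 1), (7, 1), (7, 1), (7,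 1), (7, 1), (7, 1), (7, 1), (7, 1), (7, 1), (7, 1), (7, 1), (7, 1), (7, 1), (7, 1), (7, 1), (7, 1), (7, 1), (7, 1), (7, 1), (7, 1)], [[],
 [nat_lit 14],
 [nat_lit 16]]),
 (0, 1, [(0, 0), (7, 1), (7, 1), (7, 1), (7, 1), (7, 1), (7, 1), (7, 1), (7, 1), (7, 1), (7, 1), (7, 1), (7, 1), (7, 1), (7, 1), (7, 1), (7, 1), (7, 1), (7, 1), (7, 1), (7, 1), (7, 1), (7, 1), (7, 1), (7, 1), (7, 1), (7, 1), (7, 1), (7, 1), (7, 1), (7, 1), (7, 1), (7, 1), (7, 1), (7, 1), (7, 1), (7, 1), (7, 1), (7, 1), (7, 1), (7, 1), (7, 1), (7, 1), (7, 3), (7, 1), (7, 1), (7, 1), (7, 1), (7, 1), (7, 1), (7, 1), (7, 1), (7, 1), (7, 1), (7, 1), (7, 1), (7, 1), (7, 1), (7, 1), (7, 1), (7, 1), (7, 1), (7, 1), (7, 1), (7, 1), (7, 1), (7, 1), (0, 0), (7, 1), (7, 1), (7, 1), (7, 1), (7, 1), (7, 1), (7, 1), (7, 1), (7, 1), (7, 1), (7, 1), (7, 1), (7, 1), (7, 1), (7, 1), (7, 1), (7, 1), (7, 1), (7, 1), (7, 1), (7, 1), (7, 1), (7, 1), (7, 1), (7, 1), (7, 1),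 (7, 1), (7, 1), (7, 1), (7, 1), (7, 1), (7, 1), (7, 1), (7, 1), (7, 1), (7, 1), (7, 1), (7, 3), (7, 1), (7, 1), (7, 1), (7, 1), (7, 1), (7, 1), (7, 1), (7, 1), (7, 1), (7, 1), (7, 1), (7, 1), (7, 1), (7, 1), (7, 1), (7, 1), (7, 1), (7, 1), (7, 1), (7, 1), (7, 1), (7, 1)], [[],
 [nat_lit 14],
 [nat_lit 16]]),
 (7, 1, [], []),
 (7, 1, [], []),
 (7, 1, [], []),
 (7, 1, [], []),
 (0, 1, [(0, 0), (7, 1), (7, 1), (7, 1), (7, 1), (7, 1), (7, 1), (7, 1), (7, 1), (7, 1), (7, 1), (7, 1), (7, 1), (7, 1), (7, 1), (7, 1), (7, 1), (7, 1), (7, 1), (7, 1), (7, 1), (7, 1), (7, 1), (7, 1), (7, 1), (7, 1), (7, 1), (7, 1), (7, 1), (7, 1), (7, 1), (7, 1), (7, 1), (7, 1), (7, 1), (7, 1), (7, 1), (7, 1), (7, 1), (7, 1), (7, 3), (7, 1), (7, 1), (7, 1), (7, 1), (7, 1), (7, 1), (7, 1), (7, 1), (7, 1), (7, 1), (7, 1), (7, 1), (7, 1), (7, 1), (7, 1), (7, 1), (7, 1), (7, 1), (7, 1), (7, 1), (7, 1), (7, 1), (7, 1), (7, 1), (7, 1), (7, 1), (7, 1),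 (7, 1), (7, 1), (7, 1), (7, 1), (0, 0), (7, 1), (7, 1), (7, 1), (7, 1), (7, 1), (7, 1), (7, 1), (7, 1), (7, 1), (7, 1), (7, 1), (7, 1), (7, 1), (7, 1), (7, 1), (7, 1), (7, 1), (7, 1), (7, 1), (7, 1), (7, 1), (7, 1), (7, 1), (7, 1), (7, 3), (7, 1), (7, 1), (7, 1), (7, 1), (7, 1), (7, 1), (7, 1), (7, 1), (7, 1), (7, 1), (7, 1), (7, 1), (7, 1), (7, 1), (7, 1), (7, 1), (7, 1), (7, 1), (7, 1), (7, 1), (7, 1), (7, 1), (7, 1), (7, 1), (7, 1), (7, 1), (7, 1), (7, 1), (7, 1), (7, 1)], [[],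
 [nat_lit 14],
 [nat_lit 16]]),
 (0, 1, [(0, 0), (7, 1), (7, 1), (7, 1), (7, 1), (7, 1), (7, 1), (7, 1), (7, 1), (7, 1), (7, 1), (7, 1), (7, 1), (7, 1), (7, 1), (7, 1), (7, 1), (7, 1), (7, 1), (7, 1), (7, 1), (7, 1), (7, 1), (7, 1), (7, 1), (7, 1), (7, 1), (7, 1), (7, 1), (7, 1), (7, 1), (7, 1), (7, 1), (7, 3), (7, 1), (7, 1), (7, 1), (7, 1), (7, 1), (7, 1), (7, 1), (7, 1), (7, 1), (7, 1), (7, 1), (7, 1), (7, 1), (7, 1), (7, 1), (7, 1), (7, 1), (7, 1), (7, 1), (7, 1), (7, 1), (7, 1), (7, 1), (7, 1), (7, 1), (7, 1), (7, 1), (7, 1), (7, 1), (7, 1), (7, 1), (7, 1), (7, 1), (7, 1), (7, 1), (7, 1), (7, 1), (7, 1), (7, 1), (0, 0), (7, 1), (7, 1), (7, 1), (7, 1), (7, 1), (7, 1), (7, 1), (7, 1), (7, 1), (7, 1), (7, 1), (7, 1), (7, 1), (7, 1), (7, 1), (7, 1), (7, 1), (7, 1), (7, 1), (7, 1), (7, 1), (7, 1), (7, 1), (7, 1), (7, 1), (7, 1), (7, 1), (7, 1), (7, 1), (7, 1), (7, 1), (7, 3), (7, 1), (7, 1), (7, 1), (7, 1), (7, 1), (7,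 1), (7, 1), (7, 1), (7, 1), (7, 1), (7, 1), (7, 1), (7, 1), (7, 1), (7, 1), (7, 1), (7, 1), (7, 1), (7, 1), (7, 1), (7, 1), (7, 1)], [[],
 [nat_lit 14],
 [nat_lit 16]]),
 (0, 1, [(0, 0), (7, 1), (7, 1), (7, 1), (7, 1), (7, 1), (7, 1), (7, 1), (7, 1), (7, 1), (7, 3), (7, 1), (7, 1), (7, 1), (7, 1), (7, 1), (7, 1), (7, 1), (7, 1), (7, 1), (7, 1), (7, 3), (7, 1), (7, 1), (7, 1), (7, 1), (7, 1), (7, 1), (7, 1), (7, 1), (7, 3), (7, 1), (7, 1), (7, 1), (7, 1), (7, 1), (7, 1), (7, 1), (7, 1), (7, 1), (7, 1), (7, 1), (7, 1), (7, 1), (7, 1), (7, 1), (7, 1), (7, 1), (7, 1), (7, 1), (7, 1), (7, 1), (7, 1), (7, 1), (7, 1), (7, 1), (7, 1), (7, 1), (7, 1), (7, 1), (7, 1), (7, 1), (7, 1), (7, 1), (7, 3), (7, 1), (7, 1), (7, 1), (7, 1), (7, 1), (7, 1), (7, 1), (7, 1), (7, 1), (0, 0), (7, 1), (7, 1), (7, 1), (7, 1), (7, 1), (7, 1), (7, 1), (7, 1), (7, 1), (7, 1), (7, 1), (7, 3), (7, 1), (7, 1), (7, 1), (7, 1), (7, 1), (7, 1), (7, 3),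 (7, 1), (7, 1), (7, 1), (7, 1), (7, 1), (7, 1), (7, 1), (7, 1), (7, 1), (7, 1), (7, 1), (7, 1), (7, 1), (7, 1), (7, 1), (7, 1), (7, 1), (7, 1), (7, 1), (7, 1), (7, 1), (7, 1), (7, 1), (7, 1), (7, 1), (7, 1), (7, 1), (7, 1), (7, 1), (7, 1), (7, 1), (7, 1), (7, 1), (7, 1)], [[],
 [nat_lit 14],
 [nat_lit 26]]),
 (0, 1, [(0, 0), (7, 1), (7, 1), (7, 1), (7, 1), (7, 1), (7, 1), (7, 1), (7, 1), (7, 1), (7, 1), (7, 1), (7, 1), (7, 1), (7, 1), (7, 1), (7, 1), (7, 1), (7, 1), (7, 1), (7, 1), (7, 1), (7, 1), (7, 1), (7, 1), (7, 1), (7, 1), (7, 1), (7, 3), (7, 1), (7, 1), (7, 1), (7, 1), (7, 1), (7, 1), (7, 1), (7, 1), (7, 1), (7, 1), (7, 1), (7, 1), (7, 1), (7, 1), (7, 1), (7, 1), (7, 1), (7, 1), (7, 1), (7, 1), (7, 1), (7, 1), (7, 1), (7, 1), (7, 1), (7, 1), (7, 1), (7, 1), (7, 1), (7, 1), (7, 1), (7, 1), (7, 1), (7, 1), (7, 1), (7, 1), (7, 1), (7, 1), (7, 1), (7, 1), (7, 1), (7, 1), (7, 1), (7, 1), (7, 1), (7, 1), (0, 0), (7,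 1), (7, 1), (7, 1), (7, 1), (7, 1), (7, 1), (7, 1), (7, 1), (7, 1), (7, 3), (7, 1), (7, 1), (7, 1), (7, 1), (7, 1), (7, 1), (7, 1), (7, 1), (7, 1), (7, 1), (7, 1), (7, 1), (7, 1), (7, 1), (7, 1), (7, 1), (7, 1), (7, 1), (7, 1), (7, 1), (7, 1), (7, 1), (7, 1), (7, 1), (7, 1), (7, 1), (7, 1), (7, 1), (7, 1), (7, 1), (7, 1), (7, 1), (7, 1), (7, 1), (7, 1), (7, 1), (7, 1), (7, 1), (7, 1), (7, 1), (7, 1), (7, 1)], [[],
 [nat_lit 14],
 [nat_lit 16]]),
 (7, 1, [], []),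
 (7, 1, [], []),
 (7, 1, [], []),
 (7, 1, [], []),
 (7, 1, [], []),
 (7, 1, [], []),
 (7, 1, [], []),
 (7, 1, [], []),
 (7, 1, [], []),
 (7, 1, [], []),
 (7, 1, [], []),
 (7, 1, [], []),
 (7, 1, [], []),
 (7, 1, [], []),
 (7, 1, [], []),
 (7, 1, [], []),
 (7, 1, [], []),
 (7, 1, [], []),
 (7, 1, [], []),
 (7, 1, [], []),
 (7, 1, [], []),
 (7, 3, [], []),
 (7, 1, [], []),
 (7, 1, [], []),
 (7, 1, [], []),
 (7, 1, [], []),
 (7, 1, [], []),
 (7, 1, [], []),
 (7, 1, [], []),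
 (7, 1, [], []),
 (7, 1, [], []),
 (7, 3, [], []),
 (7, 1, [], []),
 (7, 1, [], []),
 (7, 1, [], []),
 (7, 1, [], []),
 (7, 1, [], []),
 (7, 1, [], []),
 (7, 1, [], []),
 (7, 1, [], []),
 (7, 1, [], []),
 (7, 1, [], []),
 (7, 1, [], []),
 (7, 1, [], []),
 (7, 1, [], []),
 (7, 1, [], []),
 (7, 1, [], []),
 (7, 1, [], []),
 (7, 1, [], []),
 (7, 1, [], []),
 (7, 1, [], []),
 (7, 1, [], [])]
theorem k50 : jChk F (nat_lit 3510) ws (nat_lit 17) (nat_lit 7) (cosL 2 7) (List.drop 54 (cosL 2 7)) j49 = true := by decide +kernel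
theorem maxEA (M : PM G Ω 3510 H15.Fi22P.nets) (hN : Nat.card G = 64561751654400) : ∀ B ∈ H4.MaxEA 2 (sub M.gen zs), B = sub M.gen qs :=
  fun B hB => (thompson_chk (by norm_num) (pc M hN).1 (s := 7) (by decide) ((Nn_eq_sub M.gen zs [] (m := 17) rfl 0).symm ▸ (Nn_eq_sub M.gen zs [] (m := 17) rfl 7).symm ▸ (nq M hN)) ((Nn_eq_sub M.gen zs [] (m := 17) rfl 7).symm ▸ (el M hN))
    (fa_split 54 (jChk_spec k48) (jChk_spec k50)) B ((Nn_eq_sub M.gen zs [] (m := 17) rfl 0).symm ▸ hB)).trans (Nn_eq_sub M.gen zs [] (m := 17) rfl 7)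
noncomputable def w51 : Word := [nat_lit 18, nat_lit 2]
noncomputable def w52 : Word := [nat_lit 2, nat_lit 19]
noncomputable def w53 : Word := [nat_lit 18, nat_lit 20, nat_lit 36]
noncomputable def w54 : Word := [nat_lit 20, nat_lit 18, nat_lit 45]
noncomputable def w55 : Word := [nat_lit 19, nat_lit 34, nat_lit 21]
noncomputable def w56 : Word := [nat_lit 2, nat_lit 19, nat_lit 24, nat_lit 45]
noncomputable def w57 : Word := [nat_lit 2, nat_lit 19, nat_lit 19, nat_lit 36]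
noncomputable def w58 : Word := [nat_lit 2, nat_lit 20, nat_lit 36, nat_lit 19]
noncomputable def w59 : Word := [nat_lit 2, nat_lit 24, nat_lit 8, nat_lit 20]
noncomputable def w60 : Word := [nat_lit 18, nat_lit 2, nat_lit 34, nat_lit 30]
noncomputable def w61 : Word := [nat_lit 18, nat_lit 18, nat_lit 6, nat_lit 49]
noncomputable def w62 : Word := [nat_lit 2, nat_lit 19, nat_lit 32, nat_lit 35]
noncomputable def w63 : Word := [nat_lit 18, nat_lit 18, nat_lit 6, nat_lit 46]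
noncomputable def w64 : Word := [nat_lit 18, nat_lit 2, nat_lit 28, nat_lit 36]
noncomputable def w65 : Word := [nat_lit 18, nat_lit 18, nat_lit 43, nat_lit 27]
noncomputable def w66 : Word := [nat_lit 18, nat_lit 20, nat_lit 34, nat_lit 36]
noncomputable def w67 : Word := [nat_lit 2, nat_lit 29, nat_lit 19, nat_lit 31]
noncomputable def w68 : Word := [nat_lit 2, nat_lit 28, nat_lit 39, nat_lit 20]
noncomputable def w69 : Word := [nat_lit 2, nat_lit 21, nat_lit 34, nat_lit 19]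
noncomputable def w70 : Word := [nat_lit 18, nat_lit 20, nat_lit 42, nat_lit 26]
noncomputable def w71 : Word := [nat_lit 18, nat_lit 18, nat_lit 29, nat_lit 24]
noncomputable def y72 : List Word := [[], w51, w52, w53, w54, w55, w56, w57, w58, w59, w60, w61, w62, w63, w64, w65, w66, w67, w68, w69, w70, w71]
noncomputable def ts : List Word := y72
noncomputable def v73 : List Word := [dw (nat_lit 0x03), dw (nat_lit 0x17090f), dw (nat_lit 0x070b), dw (nat_lit 0x0f), dw (nat_lit 0x2109), dw (nat_lit 0x1b), dw (nat_lit 0x0709), dw (nat_lit 0x051d070b1f)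
, dw (nat_lit 0x1f0f), dw (nat_lit 0x1b01)]
theorem k74 : relK F bs0 (memRels (tws a0 ts) qs v73) = true := by decide +kernel
noncomputable def v75 : List Word := [dw (nat_lit 0x0b13), dw (nat_lit 0x01), dw (nat_lit 0x0103090b0f1113), dw (nat_lit 0x01050d11), dw (nat_lit 0x010511), dw (nat_lit 0x010d11), dw (nat_lit 0x070b0f13), dw (nat_lit 0x07)
, dw (nat_lit 0x010305070d0f11), dw (nat_lit 0x01030507090b0d0f), dw (nat_lit 0x01030d0f13), dw (nat_lit 0x0103050711), dw (nat_lit 0x01090f1113), dw (nat_lit 0x0b), dw (nat_lit 0x01030507090b13), dw (nat_lit 0x0711)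
, dw (nat_lit 0x01050911), dw (nat_lit 0x070b0f11), dw (nat_lit 0x01031113), dw (nat_lit 0x0105090d1113), dw (nat_lit 0x0103090b0d), dw (nat_lit 0x01090d0f)]
theorem k76 : relK F bs0 (memRels qs (tws a0 ts) v75) = true := by decide +kernel
theorem eqQ (M : PM G Ω 3510 H15.Fi22P.nets) (hN : Nat.card G = 64561751654400) : sub M.gen qs = sub M.gen (tws a0 ts) :=
  le_antisymm (sub_le_of_memRels (rels_base (base0 M hN) k74)) (sub_le_of_memRels (rels_base (base0 M hN) k76))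
noncomputable def s77 : Nat := (nat_lit 0x4010000000000000000000000000000000000000000000000210020000000000000000000000000000000000000000000004000000000000200000040800140000000000000000000000000000000000000000000000000000100000000000000008400104000a00010804000000000000000000000000000000000000000000000000000000000001840000000800041a00060000000000000000000000000000004000000000000000000000000000002040e3000000000034000000c000400000000000000000000000000000000000000000000000000300400808010bd80000006000000100004000000000000000000000000000000000000000088340100000223f0000400008004000000000000000000000000000005123e0200000009450d0004000000000000000000000000000000000081c27c0000680000001020000000000000000000000000000000000001040001c447a040000fc10000000000000000000000000000000000000000003004080200048701d0800008900000011000000000000000000000000a29948001801e600200000000007e01e01)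
theorem k78 : band (Nat.ble (nat_lit 3510) (Nat.pow 2 (nat_lit 12))) (fsChk (nat_lit 3510) (nat_lit 12) H15.Fi22P.nets w16 s77 (full (nat_lit 3510)) 0 0 (nat_lit 12)) = true := by decide +kernel
theorem f79 (M : PM G Ω 3510 H15.Fi22P.nets) (hN : Nat.card G = 64561751654400) : IsFix M w16 s77 :=
  fix_one k78
noncomputable def s80 : Nat := (nat_lit 0x400000000000000000000000100002c013000000000000000000000000000200000900000000006800000400000000000000000000000000000010000000800014004400000008000002000021000000000000000000080050000000001000201001000000000008400028000000a000080000002000000108000000080400002008402000048c800000000000020000240000040000000004000000000000000000800080200840400008808001840000000000800001000000000c0000000000400300000000001000000020000000000900100481000400002000000001000000000100000000004000000008500000006000000000000000000000000100400000000000000000000000000300000000000c0000400008004000000000c00000000000020200002001002000000084004000000000000000001a00000002010091000100000000000600000000000000000000000000100010240a80200200000000000004580000000c0000000000000000000002000001012244a040040000000000000008601500000000000000110000000000c00300202151008290000008010000000000009061001001)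
theorem k81 : band (Nat.ble (nat_lit 3510) (Nat.pow 2 (nat_lit 12))) (fsChk (nat_lit 3510) (nat_lit 12) H15.Fi22P.nets w15 s80 (full (nat_lit 3510)) 0 0 (nat_lit 12)) = true := by decide +kernel
theorem f82 (M : PM G Ω 3510 H15.Fi22P.nets) (hN : Nat.card G = 64561751654400) : IsFix M w15 s80 :=
  fix_one k81
noncomputable def s83 : Nat := (nat_lit 0x40100000000000000000000000000000000000000000000000000000000000000000000000000000000000000000000000040000000000000000000000000000000000000000000000000000000000000000000000000000000000000000000000080000000000000108000000000000000000000000000000000000000000000000000000000000000400000000000000000000000000000000000000000000000000000000000000000000000000000000400300000000001000000000000000000000000000000000000000000000000000000000000000004000000008500000006000000000000000000000000000000000000000000000000000000300000000000c0000400008004000000000000000000000000000000001002000000084004000000000000000000000000000000000000000000000000600000000000000000000000000000000000000000000000000000004580000000c00000000000000000000000000000000000000000000000000000008601500000000000000110000000000000000000000008290000008010000000000000001001001)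
theorem k84 : band (Nat.ble (nat_lit 3510) (Nat.pow 2 (nat_lit 12))) (fsChk (nat_lit 3510) (nat_lit 12) H15.Fi22P.nets w14 s83 (full (nat_lit 3510)) 0 0 (nat_lit 12)) = true := by decide +kernel
theorem f85 (M : PM G Ω 3510 H15.Fi22P.nets) (hN : Nat.card G = 64561751654400) : IsFix M w14 s83 :=
  fix_one k84
noncomputable def s86 : Nat := (nat_lit 0x9002008003010001a0000006000020000000020000000401020000000000100000000000000000000000000000000000000000000000000000000000000000000000000000000000400000000000000000000000000000000000000000000000000000000000020000000000000000001000000000000080800000800200001080004000000010000000000000084800000000000800280000020000000280000000a00a00000000002800094000001800000400001840000000012002000009000000c00100000004040001004000004005400e00002800809008000028002c000200000000800000080010000003700080000000a8000000000014401000000200000000000002301c0000000000000000000480040000000001000000020000000000000000001a1000000020200000000602000000000101000000000000000000000080000010091000000000280000600000001020000000000000000000000000000200200001040000004300400080c00000000000000000000000000000000000040040001004000020008200100053000280000000000000000000000000151002009020028410038006000000060c01001)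
theorem k87 : band (Nat.ble (nat_lit 3510) (Nat.pow 2 (nat_lit 12))) (fsChk (nat_lit 3510) (nat_lit 12) H15.Fi22P.nets w13 s86 (full (nat_lit 3510)) 0 0 (nat_lit 12)) = true := by decide +kernel
theorem f88 (M : PM G Ω 3510 H15.Fi22P.nets) (hN : Nat.card G = 64561751654400) : IsFix M w13 s86 :=
  fix_one k87
noncomputable def s89 : Nat := (nat_lit 0x4010000000000000000000000000000000000000000000000000000000000000000000000000000000000000000000000004000000000000000000000000000000000000000000000000000000000000000000000000000000000000000000000008000000000000010800000000000000000000000000000000000000000000000000000000000000000000000000000000000000000000000000000000000000000000000000000000000000000000000040000000000000000000000000000000000000000000000000000000000000000000000000000000000000000800000000000000000000000000000000000000000000000000000000000000000000000000000000000000000000000000000000000000000000000000002000000000000000000000000000000000000000000000000000000000000600000000000000000000000000000000000000000000000000000004100000000c00000000000000000000000000000000000000000000000000000008200100000000000000000000000000000000000000000000000008010000000000000000001001)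
noncomputable def s90 : Nat := (nat_lit 0xc0800000000000000000050000000300064100000000000000000000000240d0000020002480040cc0292020000000000000000000000000000000006616ec0000006000002408000203d80050840140000f00000000000000000000000000000000044e7377c00000010000004000000000ff00104000a00010fffc0000000000000000000000000001977f7f8000000000000000000000009ff0000000800041ffbff018e000000000000000000000003dffff4000000000000000000000004c1e040ff80000000003fff20ffc001fd2780043800000000000000000ffff9000000000000000000038976b978010bf80000007ffe08ff000fff000ff000063000000000003ffc0000000000000c8bd6f56010223f00007fc0f807ff0008fe00090000000ff0000000005123efec8050029450d000770701cb8821390014000001c800000000083ca7ffc006a00820010200009110041042220040000000100000020011408dddd47bfe0002fe14008800000000008010004480420000000000001a230468b138f6caf01dfc004f89500804110000002140080400000000dba6ddc8ca9809e78760800000001fe07e0f)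
theorem k91 : band (Nat.ble (nat_lit 3510) (Nat.pow 2 (nat_lit 12))) (fsChk (nat_lit 3510) (nat_lit 12) H15.Fi22P.nets w12 s90 (full (nat_lit 3510)) 0 0 (nat_lit 12)) = true := by decide +kernel
theorem f92 (M : PM G Ω 3510 H15.Fi22P.nets) (hN : Nat.card G = 64561751654400) : IsFix M w12 s90 :=
  fix_one k91
noncomputable def s93 : Nat := (nat_lit 0x12084db2000000000000000210a020000000000000000040100000000000000000000000000000000000000000000000000000000000000000000000000000000000000000000000040000000000000000000000000000000000000000000000000000000000000000000000000000002000000000000400080000000200000148000000040000080004000000000000000000000000302010000402a484000600000012000000000002000000003008180030080000200800000800020108200108902000000000005040000020000004000000c000000800300000083050083400543000020000001000040140000300014000000a80000000000000010000004100003040000010c0341c40000000000a0800080069000000001000000000000000800000080000102100000000400000007020000000001010000000000000000000000000001000020000000002800006000000010200000000000000000000000000260004c0001040000004300400000c00000000000000000000000000000000000320006401004000000008200100000000000000000000000000000000000080202009000008010000000000000000c01001)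
theorem k94 : band (Nat.ble (nat_lit 3510) (Nat.pow 2 (nat_lit 12))) (fsChk (nat_lit 3510) (nat_lit 12) H15.Fi22P.nets w11 s93 (full (nat_lit 3510)) 0 0 (nat_lit 12)) = true := by decide +kernel
theorem f95 (M : PM G Ω 3510 H15.Fi22P.nets) (hN : Nat.card G = 64561751654400) : IsFix M w11 s93 :=
  fix_one k94
noncomputable def s96 : Nat := (nat_lit 0xc08400000000000000000400000100002c01340000000000000000000000000062002590000003af068000015a000080001000100000005400100001004002b92001556441800002a9b529200a0218036a00010018502020a0074800a20001400a01309004002e8200c440429800004a0215834344031006e012a10001408c54220a019402280048c80e000803880264800a6000814002280280e1641880250024509a0800280e04c624180c888c801a40e00907024c000110120100a2c2400048000400f2c08808a0918030020200000000009181804811824348074341830110000010005814480000140000000087502088a600600000000000000000000310040c0341c41980000000a094000430000001000cc8002444008086800000400c100102103304a82408820d10020019000a42260a824052d480000111a033400026148951255020248050406480020800502e4801284000222104a302c0ac8200b0a32010880010cd97058020e490088000a1018008000024488410123e5f44014822010282000000b6557c1e04c120036041133e0212020c90358287153088ad00000081118449f0618a69c6101f1f7)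
theorem k97 : band (Nat.ble (nat_lit 3510) (Nat.pow 2 (nat_lit 12))) (fsChk (nat_lit 3510) (nat_lit 12) H15.Fi22P.nets w10 s96 (full (nat_lit 3510)) 0 0 (nat_lit 12)) = true := by decide +kernel
theorem f98 (M : PM G Ω 3510 H15.Fi22P.nets) (hN : Nat.card G = 64561751654400) : IsFix M w10 s96 :=
  fix_one k97
noncomputable def s99 : Nat := (nat_lit 0x10005004000000800810000800000004110088405000c00000048800c0020000000000000000000000000000180006004000020000000002000010000008000000400000000000000000000004000000000200000040000000000000000000020000084004800000000000000000000000800000000000001080000000000000000000000000084800040008000010000000000000000000000000001008040000200810080100000000000000001840000000000300000000000000c000000000040000000183160000000802000802000090006000000000000200000000041000000010000010080001100000800002170000000000000010000000000002000000000000000600000000304000204000000000008000000000100080000000000000000120200040000002000000142800001000000018881000000000400010091010004000000000600000826000000040000104c00000000410000200200000000000004100000000c00000001000000030401000800020004000040040000040000000008200100000000000000a20000804000000400000151000400000008010000000060000060001001)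
theorem k100 : band (Nat.ble (nat_lit 3510) (Nat.pow 2 (nat_lit 12))) (fsChk (nat_lit 3510) (nat_lit 12) H15.Fi22P.nets w9 s99 (full (nat_lit 3510)) 0 0 (nat_lit 12)) = true := by decide +kernel
theorem f101 (M : PM G Ω 3510 H15.Fi22P.nets) (hN : Nat.card G = 64561751654400) : IsFix M w9 s99 :=
  fix_one k100
noncomputable def s102 : Nat := (nat_lit 0xc080000000000000000004000000000004010000000000000000000000000000000020000000000c00000000000000000000000000000000000000000000000000004000000000000001000000000000000000000000000000000000000000000000000000000000000000000000000000008000000000000010a00000000000000000000000000000000008010000000000000000000000000000000000000000100000000000000000000000000000002001010000000000000000000000000000040000000000000000000000000000000000000000000000000000400000000000000000000000000000000000800000000000000000000000000000000000000000000000000000000000000000000000000000000000000000000000000000000000000000000000000002000000000000000000000000000000000000000000000000000000001000600000000000000000000000000000000000000000000000000000104105000020e0000000000000000000000000000000000000000000000000000000a200140004c00000000000000000000000000000000000000000008010004000000000000007007)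
theorem k103 : band (Nat.ble (nat_lit 3510) (Nat.pow 2 (nat_lit 12))) (fsChk (nat_lit 3510) (nat_lit 12) H15.Fi22P.nets w8 s102 (full (nat_lit 3510)) 0 0 (nat_lit 12)) = true := by decide +kernel
theorem f104 (M : PM G Ω 3510 H15.Fi22P.nets) (hN : Nat.card G = 64561751654400) : IsFix M w8 s102 :=
  fix_one k103
noncomputable def s105 : Nat := (nat_lit 0x180a0000000000000000c000000000000401000000000000000000000200bc00020004000000004200000000000000000000081000000000004020601bf042016000c1800080c0004258280000000000000800020800000808a04c000000001023141c039e233006600b870116017005d43b8700000000000010990b00014a0000114c19800000286cc301943660320381859c04b0b61d083b90300000000000c0a188098a4e000330000190320000187210240e20402040e50240e300f40816ca3cb61008000000002001900002081210000090100090001010000210000100000010000410011044019008860d38c000000000000080000042008200000000000000000000000000000000008000800100280730000140004000c0011230c000000000000c00606000000e0802017c00008400bae00200e002326f70000002001bb03b70000301fe9445c4e7c000000007ff00100f001b0ffc0000008007ee0efc0000781603efc932bf8450c27e00000003ff80000f001e3fe0000008007ee0efc00003853e001eca221b7a80340d15bc00001ff0000e03be0000103f9f00044fc00c9bf01c3c18707026070339079)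
theorem k106 : band (Nat.ble (nat_lit 3510) (Nat.pow 2 (nat_lit 12))) (fsChk (nat_lit 3510) (nat_lit 12) H15.Fi22P.nets w7 s105 (full (nat_lit 3510)) 0 0 (nat_lit 12)) = true := by decide +kernel
theorem f107 (M : PM G Ω 3510 H15.Fi22P.nets) (hN : Nat.card G = 64561751654400) : IsFix M w7 s105 :=
  fix_one k106
theorem k108 : clsChk (nat_lit 3510) H15.Fi22P.nets F a0 ts s89 [] [] = true := by decide +kernel
theorem cls (M : PM G Ω 3510 H15.Fi22P.nets) (hN : Nat.card G = 64561751654400) : Subgroup.closure (Cls M a0 ∩ (Subgroup.centralizer (sub M.gen qs : Set G) : Set G)) = sub M.gen (tws a0 ts) :=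
  (fi M hN).clos_cls (as := qs) (IsFixL.cons (f107 M hN) (IsFixL.cons (f104 M hN) (IsFixL.cons (f101 M hN) (IsFixL.cons (f98 M hN) (IsFixL.cons (f95 M hN) (IsFixL.cons (f92 M hN) (IsFixL.cons (f88 M hN) (IsFixL.cons (f85 M hN) (IsFixL.cons (f82 M hN) (IsFix.fixL (f79 M hN)) (C := s83) (by decide +kernel)) (C := s83) (by decide +kernel)) (C := s89) (by decide +kernel)) (C := s89) (by decide +kernel)) (C := s89) (by decide +kernel)) (C := s89) (by decide +kernel)) (C := s89) (by decide +kernel)) (C := s89) (by decide +kernel)) (C := s89) (by decide +kernel)) k108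

end L.J22
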