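import Cfsg.Agent.L.J22
import Cfsg.Agent.L.J23
import Cfsg.Agent.L.B22
import Cfsg.Agent.L.B23

/-! Thompson subgroups of the Sylow 2-subgroups of `Fi22` and `Fi23`. -/

set_option autoImplicit false

namespace L
open H14 Cfsg Subgroup

variable {G : Type*} [Group G] [Finite G]

/-- `A` is the only elementary abelian `p`-subgroup of largest order of `T`, of order `p ^ k` -/
def JT (p k : ℕ) (T A : Subgroup G) : Prop := A ≤ T ∧ IsElementaryAbelian p A ∧ Nat.card A = p ^ k ∧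
  (∀ B ∈ H4.MaxEA p T, B = A) ∧ thompsonSubgroupOf p T = A

theorem jt_of {p k : ℕ} {T A : Subgroup G} (hc : Nat.card A = p ^ k) (h : ∀ B ∈ H4.MaxEA p T, B = A) :
    JT p k T A :=
  let ⟨B, hB⟩ := H4.exists_maxEA p T
  ⟨h B hB ▸ hB.1, h B hB ▸ hB.2.1, hc, h, thompson_of h⟩

theorem clos_sylow {D : Set G} (hD : IsThreeTranspositionSet D) {k : ℕ} {T A : Subgroup G}
    (hT : Nat.card T = 2 ^ k) (h : A ≤ T) (h1 : IsDSubgroup D A)
    (h2 : closure (D ∩ centralizer (A : Set G)) = A) : closure {x | x ∈ D ∧ x ∈ T} = A := by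
  refine le_antisymm (h2 ▸ closure_mono fun x hx => ⟨hx.1, ?_⟩) (h1 ▸ closure_mono fun x hx => ⟨hx.1, h hx.2⟩)
  rw [← h1, centralizer_closure]
  exact fun y hy => H28.t3_comm_of_pgroup Nat.prime_two (by norm_num) hD hy.1 hx.1 (k := k)
    (hT ▸ congrArg Subtype.val (pow_card_eq_one' (x := (⟨_, mul_mem (h hy.2) hx.2⟩ : T))))

theorem jt22 {D : Set G} (hD : IsThreeTranspositionGroup D) (ht : IsOfTypeM22 G D) (T : Sylow 2 G) :
    JT 2 10 (T : Subgroup G) (closure {x | x ∈ D ∧ x ∈ (T : Subgroup G)}) := by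
  obtain ⟨Ω, _, M, hN, rfl⟩ := br22 hD ht
  obtain ⟨M, e, h⟩ := (cjS_sylow hN (by norm_num) (J22.zc M hN) T).ex K22.a0
  rw [h, e, clos_sylow (e ▸ hD.1) (J22.zc M hN) (sub_drop_le _ _ J22.zs) (J22.eqQ M hN ▸ dsub_tws M _ _)
    ((J22.cls M hN).trans (J22.eqQ M hN).symm)]
  exact jt_of (J22.qc M hN) (J22.maxEA M hN)

theorem jt23M {Ω : Type*} [MulAction G Ω] (M : PM G Ω 31671 H15.Fi23P.nets)
    (hN : Nat.card G = 4089470473293004800) (T : Sylow 2 G) : ∃ A, JT 2 11 (T : Subgroup G) A := by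
  obtain ⟨M, -, h⟩ := (cjS_sylow hN (by norm_num) (J23.zc M hN) T).ex K23.a0
  exact ⟨_, h ▸ jt_of (J23.qc M hN) (J23.maxEA M hN)⟩

theorem jt23 {D : Set G} (hD : IsThreeTranspositionGroup D) (ht : IsOfTypeM23 G D) (T : Sylow 2 G) :
    JT 2 11 (T : Subgroup G) (closure {x | x ∈ D ∧ x ∈ (T : Subgroup G)}) := by
  obtain ⟨Ω, _, M, hN, rfl⟩ := br23 hD ht
  obtain ⟨M, e, h⟩ := (cjS_sylow hN (by norm_num) (J23.zc M hN) T).ex K23.a0
  rw [h, e, clos_sylow (e ▸ hD.1) (J23.zc M hN) (sub_drop_le _ _ J23.zs) (J23.eqQ M hN ▸ dsub_tws M _ _)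
    ((J23.cls M hN).trans (J23.eqQ M hN).symm)]
  exact jt_of (J23.qc M hN) (J23.maxEA M hN)

omit [Finite G] in
theorem JT.card_le {p k : ℕ} {T A B : Subgroup G} (h : JT p k T A) (h1 : B ≤ T) (h2 : IsElementaryAbelian p B)
    [Finite G] : Nat.card B ≤ p ^ k :=
  let ⟨C, hC⟩ := H4.exists_maxEA p T
  h.2.2.1 ▸ h.2.2.2.1 C hC ▸ hC.2.2 B h1 h2

theorem JT.eq {p k : ℕ} {T A B : Subgroup G} (h : JT p k T A) (h1 : B ≤ T) (h2 : IsElementaryAbelian p B)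
    (h3 : Nat.card B = p ^ k) : B = A :=
  h.2.2.2.1 B ⟨h1, h2, fun _ c1 c2 => h3 ▸ h.card_le c1 c2⟩

end L
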