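import Cfsg.Agent.L.KS43T
import Cfsg.Agent.L.KF

/-! Generated certificate (toolsL/cg.hpp). -/
set_option autoImplicit false
set_option maxRecDepth 200000
set_option Elab.async false
set_option linter.unusedVariables false
set_option linter.unusedSectionVars false

namespace L.KS43
open H14 L.KS43T
variable {G Ω : Type*} [Group G] [Finite G] [MulAction G Ω]

noncomputable def w0 : Word := [nat_lit 0]
noncomputable def w1 : Word := [nat_lit 2]
noncomputable def w2 : Word := [nat_lit 4]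
noncomputable def w3 : Word := [nat_lit 6]
theorem k4 : orbChk (nat_lit 40) H15.StdS43.nets F [] (sel [w0, w1, w2, w3] [nat_lit 0, nat_lit 1, nat_lit 2, nat_lit 3]) [dw (nat_lit 0x01), dw (nat_lit 0x03), dw (nat_lit 0x07), dw (nat_lit 0x05), dw (nat_lit 0x03)] (dn (nat_lit 16) (nat_lit 0x088309410704068204c40782078106030504050306430543054101c102c402c10204020101040081)) (bit (nat_lit 0)) (full (nat_lit 40)) = true := by decide +kernel
theorem o5 (M : PM G Ω 40 H15.StdS43.nets) (hN : Nat.card G = 25920) : Orb M ⊤ [] (nat_lit 0) (full (nat_lit 40)) :=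
  (Orb.ext le_top (orb_bit ⊤ [] (b := (nat_lit 0)) rfl) k4)
noncomputable def w6 : Word := [nat_lit 8]
noncomputable def w7 : Word := [nat_lit 10]
theorem k8 : orbChk (nat_lit 40) H15.StdS43.nets F [nat_lit 0] (sel [w6, w7] [nat_lit 0, nat_lit 1]) [dw (nat_lit 0x01), dw (nat_lit 0x03), dw (nat_lit 0x01), dw (nat_lit 0x03), dw (nat_lit 0x01)] (dn (nat_lit 16) (nat_lit 0x0541080109c102410602098209810082008106c2068202c2)) (bit (nat_lit 1)) (nat_lit 0xeb3d26befe) = true := by decide +kernel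
theorem o9 (M : PM G Ω 40 H15.StdS43.nets) (hN : Nat.card G = 25920) : Orb M ⊤ [nat_lit 0] (nat_lit 1) (nat_lit 0xeb3d26befe) :=
  (Orb.ext le_top (orb_bit ⊤ [nat_lit 0] (b := (nat_lit 1)) rfl) k8)
noncomputable def w10 : Word := [nat_lit 12]
noncomputable def w11 : Word := [nat_lit 14]
theorem k12 : orbChk (nat_lit 40) H15.StdS43.nets F [nat_lit 1, nat_lit 0] (sel [w10, w11] [nat_lit 0, nat_lit 1]) [] (dn (nat_lit 16) (nat_lit 0x06c10541034103c100c200820081)) (bit (nat_lit 2)) (nat_lit 0x200920a00c) = true := by decide +kernel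
theorem o13 (M : PM G Ω 40 H15.StdS43.nets) (hN : Nat.card G = 25920) : Orb M ⊤ [nat_lit 1, nat_lit 0] (nat_lit 2) (nat_lit 0x200920a00c) :=
  (Orb.ext le_top (orb_bit ⊤ [nat_lit 1, nat_lit 0] (b := (nat_lit 2)) rfl) k12)
noncomputable def w14 : Word := [nat_lit 16]
theorem k15 : orbChk (nat_lit 40) H15.StdS43.nets F [nat_lit 2, nat_lit 1, nat_lit 0] (sel [w14] [nat_lit 0]) [] (dn (nat_lit 16) (nat_lit 0x08010101)) (bit (nat_lit 4)) (nat_lit 0x4100000010) = true := by decide +kernel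
theorem o16 (M : PM G Ω 40 H15.StdS43.nets) (hN : Nat.card G = 25920) : Orb M ⊤ [nat_lit 2, nat_lit 1, nat_lit 0] (nat_lit 4) (nat_lit 0x4100000010) :=
  (Orb.ext le_top (orb_bit ⊤ [nat_lit 2, nat_lit 1, nat_lit 0] (b := (nat_lit 4)) rfl) k15)
noncomputable def c17 : Chn := [((nat_lit 0), (full (nat_lit 40))), ((nat_lit 1), (nat_lit 0xeb3d26befe)), ((nat_lit 2), (nat_lit 0x200920a00c)), ((nat_lit 4), (nat_lit 0x4100000010))]
theorem k18 : Nat.ble 25920 (cval (nat_lit 40) c17) = true := by decide +kernel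
theorem e19 (M : PM G Ω 40 H15.StdS43.nets) (hN : Nat.card G = 25920) : EC M ⊤ [] c17 :=
  ec_top (c := c17) ⟨(o5 M hN), ⟨(o9 M hN), ⟨(o13 M hN), ⟨(o16 M hN), trivial⟩⟩⟩⟩ hN k18
noncomputable def bs0 : List Nat := [nat_lit 0, nat_lit 1, nat_lit 2, nat_lit 4]
theorem base0 (M : PM G Ω 40 H15.StdS43.nets) (hN : Nat.card G = 25920) : IsBase M bs0 :=
  base_of_ec (e19 M hN) (by decide +kernel)
theorem k20 : orbChk (nat_lit 40) H15.StdS43.nets F [nat_lit 0] (sel [w6, w7, w10, w11, w14] [nat_lit 0, nat_lit 1, nat_lit 2, nat_lit 3, nat_lit 4]) [dw (nat_lit 0x01), dw (nat_lit 0x03)] (dn (nat_lit 16) (nat_lit 0x0501078107c204c105c1058505840203)) (bit (nat_lit 8)) (nat_lit 0x14c2d94100) = true := by decide +kernel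
theorem o21 (M : PM G Ω 40 H15.StdS43.nets) (hN : Nat.card G = 25920) : Orb M ⊤ [nat_lit 0] (nat_lit 8) (nat_lit 0x14c2d94100) :=
  (Orb.ext le_top (orb_bit ⊤ [nat_lit 0] (b := (nat_lit 8)) rfl) k20)

end L.KS43
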