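import Cfsg.Agent.L.KA
import Cfsg.Agent.H15.StdS43

/-! Generated certificate (toolsL/cg.hpp). -/
set_option autoImplicit false
set_option maxRecDepth 200000
set_option Elab.async false
set_option linter.unusedVariables false
set_option linter.unusedSectionVars false

namespace L.KS43T
open H14 
variable {G Ω : Type*} [Group G] [Finite G] [MulAction G Ω]

noncomputable def t0 : List (List Nat) := [[nat_lit 0xffffffbe480000000000000000000000ffff0041b67e2a000000000000000000ff00ff4037e815940000000000000000f0f0f0f1f49491ca0000000000000000cccccced05656dc80000000000000000aaaaaa8ae7c6490f, nat_lit 0, nat_lit 0, nat_lit 0, nat_lit 0, nat_lit 0, nat_lit 0, nat_lit 0, nat_lit 0, nat_lit 0, nat_lit 0, nat_lit 0, nat_lit 0, nat_lit 0, nat_lit 0, nat_lit 0]]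
theorem k1 : tchk 128 6 16 1 (letN H15.StdS43.nets (Nat.xor 0 1)) t0 = true := by decide +kernel
noncomputable def t2 : List (List Nat) := [[nat_lit 0xffffffde404000000000000000000000ffff0021bfb228040000000000000000ff00ff21b22d9c180000000000000000f0f0f0f07c3471590000000000000000ccccccadc9a866d80000000000000000aaaaaacb272f60b1, nat_lit 0, nat_lit 0, nat_lit 0, nat_lit 0, nat_lit 0, nat_lit 0, nat_lit 0, nat_lit 0, nat_lit 0, nat_lit 0, nat_lit 0, nat_lit 0, nat_lit 0, nat_lit 0, nat_lit 0]]
theorem k3 : tchk 128 6 16 1 (letN H15.StdS43.nets (Nat.xor 1 1)) t2 = true := by decide +kernel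
noncomputable def t4 : List (List Nat) := [[nat_lit 0xffffffb6460000000000000000000000ffff004998ee29400000000000000000ff00ff40b966921c0000000000000000f0f0f0bcb0f0b8aa0000000000000000ccccccc5cca8f0970000000000000000aaaaaaaae8cdc3b0, nat_lit 0, nat_lit 0, nat_lit 0, nat_lit 0, nat_lit 0, nat_lit 0, nat_lit 0, nat_lit 0, nat_lit 0, nat_lit 0, nat_lit 0, nat_lit 0, nat_lit 0, nat_lit 0, nat_lit 0]]
theorem k5 : tchk 128 6 16 1 (letN H15.StdS43.nets (Nat.xor 2 1)) t4 = true := by decide +kernel
noncomputable def t6 : List (List Nat) := [[nat_lit 0xfffffff2042400000000000000000000ffff000dfb8821120000000000000000ff00ff0d9852e3090000000000000000f0f0f0b8f4c1e8b80000000000000000ccccccccaeb994890000000000000000aaaaaaa3c9f8b2e0, nat_lit 0, nat_lit 0, nat_lit 0, nat_lit 0, nat_lit 0, nat_lit 0, nat_lit 0, nat_lit 0, nat_lit 0, nat_lit 0, nat_lit 0, nat_lit 0, nat_lit 0, nat_lit 0, nat_lit 0]]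
theorem k7 : tchk 128 6 16 1 (letN H15.StdS43.nets (Nat.xor 3 1)) t6 = true := by decide +kernel
noncomputable def t8 : List (List Nat) := [[nat_lit 0xffffff75320000000000000000000000ffff008ac97e28800000000000000000ff00ff804d9e95280000000000000000f0f0f0fc457098760000000000000000cccccc44f9e8e4630000000000000000aaaaaaa61fa3a80f, nat_lit 0, nat_lit 0, nat_lit 0, nat_lit 0, nat_lit 0, nat_lit 0, nat_lit 0, nat_lit 0, nat_lit 0, nat_lit 0, nat_lit 0, nat_lit 0, nat_lit 0, nat_lit 0, nat_lit 0]]
theorem k9 : tchk 128 6 16 1 (letN H15.StdS43.nets (Nat.xor 4 1)) t8 = true := by decide +kernel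
noncomputable def t10 : List (List Nat) := [[nat_lit 0xfffffff1201200000000000000000000ffff000edfc428020000000000000000ff00ff0ec82cb5050000000000000000f0f0f07c70cdd8540000000000000000ccccccc06d75ae640000000000000000aaaaaa262ebfca81, nat_lit 0, nat_lit 0, nat_lit 0, nat_lit 0, nat_lit 0, nat_lit 0, nat_lit 0, nat_lit 0, nat_lit 0, nat_lit 0, nat_lit 0, nat_lit 0, nat_lit 0, nat_lit 0, nat_lit 0]]
theorem k11 : tchk 128 6 16 1 (letN H15.StdS43.nets (Nat.xor 5 1)) t10 = true := by decide +kernel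
noncomputable def t12 : List (List Nat) := [[nat_lit 0xffffff7e110000000000000000000000ffff0081c43b8f400000000000000000ff00ff80ec1b50360000000000000000f0f0f0f0d2b0dcb10000000000000000cccccc5ce648cbac0000000000000000aaaaaa3a88be82fc, nat_lit 0, nat_lit 0, nat_lit 0, nat_lit 0, nat_lit 0, nat_lit 0, nat_lit 0, nat_lit 0, nat_lit 0, nat_lit 0, nat_lit 0, nat_lit 0, nat_lit 0, nat_lit 0, nat_lit 0]]
theorem k13 : tchk 128 6 16 1 (letN H15.StdS43.nets (Nat.xor 6 1)) t12 = true := by decide +kernel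
noncomputable def t14 : List (List Nat) := [[nat_lit 0xffffffee100100000000000000000000ffff0011ef2006660000000000000000ff00ff11c4dc56410000000000000000f0f0f0f0f0a2f4a50000000000000000cccccc4cdcd24aae0000000000000000aaaaaa2a9ae887e9, nat_lit 0, nat_lit 0, nat_lit 0, nat_lit 0, nat_lit 0, nat_lit 0, nat_lit 0, nat_lit 0, nat_lit 0, nat_lit 0, nat_lit 0, nat_lit 0, nat_lit 0, nat_lit 0, nat_lit 0]]
theorem k15 : tchk 128 6 16 1 (letN H15.StdS43.nets (Nat.xor 7 1)) t14 = true := by decide +kernel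
noncomputable def t16 : List (List Nat) := [[nat_lit 0xffffffc8611010000000000000000000ffff0035908d4d840000000000000000ff00ff340267ac8a0000000000000000f0f0f07ef6a603220000000000000000ccccccd7a230e7d00000000000000000aaaaaace9c25d0ce, nat_lit 0, nat_lit 0, nat_lit 0, nat_lit 0, nat_lit 0, nat_lit 0, nat_lit 0, nat_lit 0, nat_lit 0, nat_lit 0, nat_lit 0, nat_lit 0, nat_lit 0, nat_lit 0, nat_lit 0]]
theorem k17 : tchk 128 6 16 1 (letN H15.StdS43.nets (Nat.xor 8 1)) t16 = true := by decide +kernel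
noncomputable def t18 : List (List Nat) := [[nat_lit 0xffffffa8d00400800000000000000000ffff005522b1d1220000000000000000ff00ff5305e84c620000000000000000f0f0f0de58b88d1c0000000000000000ccccccb8ad9b0b2a0000000000000000aaaaaa681991fed2, nat_lit 0, nat_lit 0, nat_lit 0, nat_lit 0, nat_lit 0, nat_lit 0, nat_lit 0, nat_lit 0, nat_lit 0, nat_lit 0, nat_lit 0, nat_lit 0, nat_lit 0, nat_lit 0, nat_lit 0]]
theorem k19 : tchk 128 6 16 1 (letN H15.StdS43.nets (Nat.xor 9 1)) t18 = true := by decide +kernel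
noncomputable def t20 : List (List Nat) := [[nat_lit 0xffffff64500080060000000000000000ffff0099a1794d000000000000000000ff00ff90a6b42ea00000000000000000f0f0f03253177d2c0000000000000000ccccccbc1a7783c80000000000000000aaaaaa939d4485be, nat_lit 0, nat_lit 0, nat_lit 0, nat_lit 0, nat_lit 0, nat_lit 0, nat_lit 0, nat_lit 0, nat_lit 0, nat_lit 0, nat_lit 0, nat_lit 0, nat_lit 0, nat_lit 0, nat_lit 0]]
theorem k21 : tchk 128 6 16 1 (letN H15.StdS43.nets (Nat.xor 10 1)) t20 = true := by decide +kernel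
noncomputable def t22 : List (List Nat) := [[nat_lit 0xffffff45880600200000000000000000ffff00904769c3480000000000000000ff00ff9833b056180000000000000000f0f0f0d9cf1839160000000000000000cccccc3d3a1d8b8c0000000000000000aaaaaa4a1f057de8, nat_lit 0, nat_lit 0, nat_lit 0, nat_lit 0, nat_lit 0, nat_lit 0, nat_lit 0, nat_lit 0, nat_lit 0, nat_lit 0, nat_lit 0, nat_lit 0, nat_lit 0, nat_lit 0, nat_lit 0]]
theorem k23 : tchk 128 6 16 1 (letN H15.StdS43.nets (Nat.xor 11 1)) t22 = true := by decide +kernel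
noncomputable def t24 : List (List Nat) := [[nat_lit 0xffffff18362400000000000000000000ffff00c6c8d2e1100000000000000000ff00ffa1891b31d00000000000000000f0f0f0bcc5a39f200000000000000000cccccc49d7c1275c0000000000000000aaaaaaab7170a3a6, nat_lit 0, nat_lit 0, nat_lit 0, nat_lit 0, nat_lit 0, nat_lit 0, nat_lit 0, nat_lit 0, nat_lit 0, nat_lit 0, nat_lit 0, nat_lit 0, nat_lit 0, nat_lit 0, nat_lit 0]]
theorem k25 : tchk 128 6 16 1 (letN H15.StdS43.nets (Nat.xor 12 1)) t24 = true := by decide +kernel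
noncomputable def t26 : List (List Nat) := [[nat_lit 0xffffff90201628000000000000000000ffff006f53c8c1000000000000000000ff00ff4ec9a190d00000000000000000f0f0f03a6eed36200000000000000000ccccccc161fd075c0000000000000000aaaaaaa6796223b6, nat_lit 0, nat_lit 0, nat_lit 0, nat_lit 0, nat_lit 0, nat_lit 0, nat_lit 0, nat_lit 0, nat_lit 0, nat_lit 0, nat_lit 0, nat_lit 0, nat_lit 0, nat_lit 0, nat_lit 0]]
theorem k27 : tchk 128 6 16 1 (letN H15.StdS43.nets (Nat.xor 13 1)) t26 = true := by decide +kernel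
noncomputable def t28 : List (List Nat) := [[nat_lit 0xffffff78001404400000000000000000ffff0006f388e1900000000000000000ff00ff807741391c0000000000000000f0f0f06d70d2d32c0000000000000000ccccccd948ea6d940000000000000000aaaaaa2b2e08ed6e, nat_lit 0, nat_lit 0, nat_lit 0, nat_lit 0, nat_lit 0, nat_lit 0, nat_lit 0, nat_lit 0, nat_lit 0, nat_lit 0, nat_lit 0, nat_lit 0, nat_lit 0, nat_lit 0, nat_lit 0]]
theorem k29 : tchk 128 6 16 1 (letN H15.StdS43.nets (Nat.xor 14 1)) t28 = true := by decide +kernel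
noncomputable def t30 : List (List Nat) := [[nat_lit 0xffffffe4001204800000000000000000ffff00117349434c0000000000000000ff00ff08fba11a180000000000000000f0f0f0767ce554240000000000000000cccccccb40fdee080000000000000000aaaaaaa02a6f2c7e, nat_lit 0, nat_lit 0, nat_lit 0, nat_lit 0, nat_lit 0, nat_lit 0, nat_lit 0, nat_lit 0, nat_lit 0, nat_lit 0, nat_lit 0, nat_lit 0, nat_lit 0, nat_lit 0, nat_lit 0]]
theorem k31 : tchk 128 6 16 1 (letN H15.StdS43.nets (Nat.xor 15 1)) t30 = true := by decide +kernel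
noncomputable def t32 : List (List Nat) := [[nat_lit 0xffffff133a0000100000000000000000ffff008c80ffa9000000000000000000ff00ffa045f6d6000000000000000000f0f0f0f709ca71e00000000000000000cccccc23a6cccdcc0000000000000000aaaaaa2abd9aa2aa, nat_lit 0, nat_lit 0, nat_lit 0, nat_lit 0, nat_lit 0, nat_lit 0, nat_lit 0, nat_lit 0, nat_lit 0, nat_lit 0, nat_lit 0, nat_lit 0, nat_lit 0, nat_lit 0, nat_lit 0]]
theorem k33 : tchk 128 6 16 1 (letN H15.StdS43.nets (Nat.xor 16 1)) t32 = true := by decide +kernel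
noncomputable def t34 : List (List Nat) := [[nat_lit 0xffffffd0101280100000000000000000ffff002ee78929000000000000000000ff00ff2e086c7f000000000000000000f0f0f01bdb28d1f00000000000000000cccccc20dc9e4ddc0000000000000000aaaaaaacb9ae82aa, nat_lit 0, nat_lit 0, nat_lit 0, nat_lit 0, nat_lit 0, nat_lit 0, nat_lit 0, nat_lit 0, nat_lit 0, nat_lit 0, nat_lit 0, nat_lit 0, nat_lit 0, nat_lit 0, nat_lit 0]]
theorem k35 : tchk 128 6 16 1 (letN H15.StdS43.nets (Nat.xor 17 1)) t34 = true := by decide +kernel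
noncomputable def TT : List (List (List Nat)) := [t0, t2, t4, t6, t8, t10, t12, t14, t16, t18, t20, t22, t24, t26, t28, t30, t32, t34]
noncomputable def TC (a c : Nat) : Nat := tabC 128 6 16 H15.StdS43.nets 18 TT a c
noncomputable def on : Nat := nat_lit 0x10000000000000000000000000000000100000000000000000000000000000001000000000000000000000000000000010000000000000000000000000000000100000000000000000000000000000001
noncomputable def F : FK := tabF TC on (nat_lit 0xfffffffffffffffffffffffffffffffe)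
instance instF : PtK 40 H15.StdS43.nets F := tabF_ok (R := 1) H15.StdS43.nets_ok (by decide +kernel) (fa_lt (k := 17) (fa_lt (k := 16) (fa_lt (k := 15) (fa_lt (k := 14) (fa_lt (k := 13) (fa_lt (k := 12) (fa_lt (k := 11) (fa_lt (k := 10) (fa_lt (k := 9) (fa_lt (k := 8) (fa_lt (k := 7) (fa_lt (k := 6) (fa_lt (k := 5) (fa_lt (k := 4) (fa_lt (k := 3) (fa_lt (k := 2) (fa_lt (k := 1) (fa_lt (k := 0) fa_lt0 k1) k3) k5) k7) k9) k11) k13) k15) k17) k19) k21) k23) k25) k27) k29) k31) k33) k35) fun _ _ => rfl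

end L.KS43T
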