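import Cfsg.Agent.L.KU62T
import Cfsg.Agent.L.KF

/-! Generated certificate (toolsL/cg.hpp). -/
set_option autoImplicit false
set_option maxRecDepth 200000
set_option Elab.async false
set_option linter.unusedVariables false
set_option linter.unusedSectionVars false

namespace L.KU62
open H14 L.KU62T
variable {G Ω : Type*} [Group G] [Finite G] [MulAction G Ω]

noncomputable def w0 : Word := [nat_lit 18]
noncomputable def w1 : Word := [nat_lit 30]
noncomputable def w2 : Word := [nat_lit 0]
theorem k3 : orbChk (nat_lit 693) H15.StdU62.nets F [] (sel [w0, w1, w2] [nat_lit 0, nat_lit 1, nat_lit 2]) [dw (nat_lit 0x05), dw (nat_lit 0x01), dw (nat_lit 0x03), dw (nat_lit 0x01), dw (nat_lit 0x03), dw (nat_lit 0x05), dw (nat_lit 0x01), dw (nat_lit 0x03)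
, dw (nat_lit 0x05), dw (nat_lit 0x03), dw (nat_lit 0x01), dw (nat_lit 0x03), dw (nat_lit 0x05), dw (nat_lit 0x03), dw (nat_lit 0x01), dw (nat_lit 0x03)
, dw (nat_lit 0x05), dw (nat_lit 0x03)] (dn (nat_lit 20) (nat_lit 0x03b4206d02012020a38205301)) (bit (nat_lit 0)) (full (nat_lit 693)) = true := by decide +kernel
theorem o4 (M : PM G Ω 693 H15.StdU62.nets) (hN : Nat.card G = 9196830720) : Orb M ⊤ [] (nat_lit 0) (full (nat_lit 693)) :=
  (Orb.ext le_top (orb_bit ⊤ [] (b := (nat_lit 0)) rfl) k3)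
noncomputable def s5 : Nat := (nat_lit 0x2024630800464021581000820c31030004574b1880d861023000800099a1000f22a022824e4ef02a20bcc803000000e80c000000d88e6000039ddf5040001550800011878000067590155820496400098224105b0ca00)
noncomputable def w6 : Word := [nat_lit 12]
noncomputable def w7 : Word := [nat_lit 14]
noncomputable def w8 : Word := [nat_lit 16]
noncomputable def w9 : Word := [nat_lit 20]
theorem k10 : orbChk (nat_lit 693) H15.StdU62.nets F [nat_lit 0] (sel [w6, w7, w8, w0, w9] [nat_lit 0, nat_lit 1, nat_lit 2, nat_lit 3, nat_lit 4]) [dw (nat_lit 0x01), dw (nat_lit 0x03), dw (nat_lit 0x05), dw (nat_lit 0x07), dw (nat_lit 0x03), dw (nat_lit 0x05), dw (nat_lit 0x09), dw (nat_lit 0x01)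
, dw (nat_lit 0x03), dw (nat_lit 0x05)] (dn (nat_lit 20) (nat_lit 0x01d8104ec1092040920105e42036040360104b820198200dc2073c3066c503981013c20374103a0404e8204e81093820888206d02005c405ac20724200a42061840554205541063810370403702030040300201d0201d01040410600205502024c2024c109d01012820128100604087440164401884043c4)) (bit (nat_lit 9)) s5 = true := by decide +kernel
theorem o11 (M : PM G Ω 693 H15.StdU62.nets) (hN : Nat.card G = 9196830720) : Orb M ⊤ [nat_lit 0] (nat_lit 9) s5 :=
  (Orb.ext le_top (orb_bit ⊤ [nat_lit 0] (b := (nat_lit 9)) rfl) k10)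
noncomputable def s12 : Nat := (nat_lit 0x460000000400010000000001103000002030000d8410030000000000000000000000240024020000000000000008004000000800200000000101000000450000000828000000480004000006000008004101008800)
noncomputable def w13 : Word := [nat_lit 22]
theorem k14 : orbChk (nat_lit 693) H15.StdU62.nets F [nat_lit 9, nat_lit 0] (sel [w8, w9, w13] [nat_lit 0, nat_lit 1, nat_lit 2]) [dw (nat_lit 0x03), dw (nat_lit 0x05), dw (nat_lit 0x01), dw (nat_lit 0x05)] (dn (nat_lit 20) (nat_lit 0x044c100cc30a081087430188101242082010a98307c0207c010060304b8303803038010a8830a88206543065420080107f0307f0208f4308f420a84303603003c3003c102e830648301d8301d8108083080810414204141060820910200982)) (bit (nat_lit 11)) s12 = true := by decide +kernel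
theorem o15 (M : PM G Ω 693 H15.StdU62.nets) (hN : Nat.card G = 9196830720) : Orb M ⊤ [nat_lit 9, nat_lit 0] (nat_lit 11) s12 :=
  (Orb.ext le_top (orb_bit ⊤ [nat_lit 9, nat_lit 0] (b := (nat_lit 11)) rfl) k14)
noncomputable def s16 : Nat := (nat_lit 0x200000002042000000000000000000002000420000000800000000011101002400000cc00000000000000000000800000000000002042002400884808000000000100000000000002000400)
noncomputable def w17 : Word := [nat_lit 24]
noncomputable def w18 : Word := [nat_lit 26]
theorem k19 : orbChk (nat_lit 693) H15.StdU62.nets F [nat_lit 11, nat_lit 9, nat_lit 0] (sel [w8, w17, w18] [nat_lit 0, nat_lit 1, nat_lit 2]) [dw (nat_lit 0x01), dw (nat_lit 0x03), dw (nat_lit 0x05)] (dn (nat_lit 20) (nat_lit 0x0584202a4302a4205e02023c308e4208e41096430964202d43050830508105f02069c302b820064200641026810714203bc2050c2050c10728207281)) (bit (nat_lit 10)) s16 = true := by decide +kernel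
theorem o20 (M : PM G Ω 693 H15.StdU62.nets) (hN : Nat.card G = 9196830720) : Orb M ⊤ [nat_lit 11, nat_lit 9, nat_lit 0] (nat_lit 10) s16 :=
  (Orb.ext le_top (orb_bit ⊤ [nat_lit 11, nat_lit 9, nat_lit 0] (b := (nat_lit 10)) rfl) k19)
noncomputable def s21 : Nat := (nat_lit 0x101000000001000000000004000000080000000000000000004000000000020000000010000000000000000000000210000001000000000000000000000100a0000000000000248000000000a008000000000810010002)
noncomputable def w22 : Word := [nat_lit 32]
theorem k23 : orbChk (nat_lit 693) H15.StdU62.nets F [nat_lit 10, nat_lit 11, nat_lit 9, nat_lit 0] (sel [w1, w22] [nat_lit 0, nat_lit 1]) [dw (nat_lit 0x01), dw (nat_lit 0x03)] (dn (nat_lit 20) (nat_lit 0x012c102082015420ad01015c2015c104f01004020a201008c2008c102fc202fc108ec208ec10070200701050410ab0104801)) (bit (nat_lit 1)) s21 = true := by decide +kernel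
theorem o24 (M : PM G Ω 693 H15.StdU62.nets) (hN : Nat.card G = 9196830720) : Orb M ⊤ [nat_lit 10, nat_lit 11, nat_lit 9, nat_lit 0] (nat_lit 1) s21 :=
  (Orb.ext le_top (orb_bit ⊤ [nat_lit 10, nat_lit 11, nat_lit 9, nat_lit 0] (b := (nat_lit 1)) rfl) k23)
noncomputable def s25 : Nat := (nat_lit 0x400000000000000000000000000000000000000000000000000000000000000000000000000000000000000000000000000000000000000000000000000000000000000000000000000000004)
noncomputable def w26 : Word := [nat_lit 34]
theorem k27 : orbChk (nat_lit 693) H15.StdU62.nets F [nat_lit 1, nat_lit 10, nat_lit 11, nat_lit 9, nat_lit 0] (sel [w26] [nat_lit 0]) [] (dn (nat_lit 20) (nat_lit 0x00081)) (bit (nat_lit 2)) s25 = true := by decide +kernel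
theorem o28 (M : PM G Ω 693 H15.StdU62.nets) (hN : Nat.card G = 9196830720) : Orb M ⊤ [nat_lit 1, nat_lit 10, nat_lit 11, nat_lit 9, nat_lit 0] (nat_lit 2) s25 :=
  (Orb.ext le_top (orb_bit ⊤ [nat_lit 1, nat_lit 10, nat_lit 11, nat_lit 9, nat_lit 0] (b := (nat_lit 2)) rfl) k27)
noncomputable def c29 : Chn := [((nat_lit 0), (full (nat_lit 693))), ((nat_lit 9), s5), ((nat_lit 11), s12), ((nat_lit 10), s16), ((nat_lit 1), s21), ((nat_lit 2), s25)]
theorem k30 : Nat.ble 9196830720 (cval (nat_lit 693) c29) = true := by decide +kernel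
theorem e31 (M : PM G Ω 693 H15.StdU62.nets) (hN : Nat.card G = 9196830720) : EC M ⊤ [] c29 :=
  ec_top (c := c29) ⟨(o4 M hN), ⟨(o11 M hN), ⟨(o15 M hN), ⟨(o20 M hN), ⟨(o24 M hN), ⟨(o28 M hN), trivial⟩⟩⟩⟩⟩⟩ hN k30
noncomputable def bs0 : List Nat := [nat_lit 0, nat_lit 9, nat_lit 11, nat_lit 10, nat_lit 1, nat_lit 2]
theorem base0 (M : PM G Ω 693 H15.StdU62.nets) (hN : Nat.card G = 9196830720) : IsBase M bs0 :=
  base_of_ec (e31 M hN) (by decide +kernel)
noncomputable def s32 : Nat := (nat_lit 0x1dfdb9cf7ffb9bfdea7efff7df3cefcfffba8b4e77f279efdcfff7fff665efff0dd5fdd7db1b10fd5df4337fcffffff17f3ffffff27719ffffc6220afbfffeaaf7fffee787ffff98a6feaa7dfb69bfff67ddbefa4f35fe)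
noncomputable def w33 : Word := [nat_lit 28]
theorem k34 : orbChk (nat_lit 693) H15.StdU62.nets F [nat_lit 0] (sel [w6, w7, w8, w0, w9, w13, w17, w18, w33, w1, w22, w26] [nat_lit 0, nat_lit 1, nat_lit 2, nat_lit 3, nat_lit 4, nat_lit 5, nat_lit 6, nat_lit 7, nat_lit 8, nat_lit 9, nat_lit 10, nat_lit 11]) [dw (nat_lit 0x01), dw (nat_lit 0x05), dw (nat_lit 0x0d), dw (nat_lit 0x13), dw (nat_lit 0x15), dw (nat_lit 0x0b), dw (nat_lit 0x0f), dw (nat_lit 0x03)
, dw (nat_lit 0x13), dw (nat_lit 0x0d), dw (nat_lit 0x0f)] (dn (nat_lit 20) (nat_lit 0x04aca026040278105c8b0540406f0204f05031060310102d0105e860780106bc100e44)) (bit (nat_lit 1)) s32 = true := by decide +kernel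
theorem o35 (M : PM G Ω 693 H15.StdU62.nets) (hN : Nat.card G = 9196830720) : Orb M ⊤ [nat_lit 0] (nat_lit 1) s32 :=
  (Orb.ext le_top (orb_bit ⊤ [nat_lit 0] (b := (nat_lit 1)) rfl) k34)

end L.KU62
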