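import Cfsg.Agent.L.KE
import Cfsg.Agent.L.Out

/-! Automorphisms of a normal subgroup `L` that are induced by the overgroup. -/

set_option autoImplicit false

namespace L
open H14 Cfsg Subgroup

noncomputable def kilK (F : FK) (bs : List ℕ) (a u b : Word) (Rs E : List Word) : Bool :=
  allL (fun e => bor (List.elem e [b]) (anyL (fun w => neK F bs [(flat [a, u, e] w, [])]) Rs)) E

theorem kil_of {G Ω : Type*} [Group G] [MulAction G Ω] {n : ℕ} {L : List Net} {M : PM G Ω n L}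
    {F : FK} [PtK n L F] {bs : List ℕ} (hb : IsBase M bs) {a u b : Word} {Rs E : List Word}
    (h : kilK F bs a u b Rs E = true) :
    ∀ e ∈ E, e = b ∨ ∃ w ∈ Rs, ev M.gen (flat [a, u, e] w) ≠ ev M.gen [] := fun e he =>
  (bor_iff.1 (allL_iff.1 h e he)).imp (fun h => List.mem_singleton.1 (List.mem_of_elem_eq_true h))
    fun h => let ⟨w, h1, h2⟩ := anyL_iff.1 h; ⟨w, h1, ne_base1 hb h2⟩

variable {G : Type*} [Group G] [Finite G]

theorem aut_inner {L : Subgroup G} [L.Normal] {gen : ℕ → G} {a t u b : Word} {p s m : ℕ} {Rs E : List Word}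
    (hp : p.Prime) (ho : orderOf (ev gen a) = p) (hN : ¬ p ^ 2 ∣ Nat.card G)
    (ht : ev gen t * ev gen a = ev gen a ^ s * ev gen t) (hu : ev gen u = ev gen t ^ m)
    (hs : ¬ p ∣ s ^ m - 1) (hs1 : 1 ≤ s ^ m)
    (hC : ∀ g, g * ev gen a = ev gen a * g → g ∈ zpowers (ev gen a))
    (hk : ∀ k < p, k ≠ 0 → ∃ i, s ^ i % p = k) (hb : ev gen b * ev gen u = ev gen u * ev gen b)
    (hK : sub gen [a, u, b] = L) (hE : ∀ g, g * ev gen u = ev gen u * g → ∃ e ∈ E, ev gen e = g)
    (hR : Rels gen (List.map (fun w => (flat [a, u, b] w, [])) Rs))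
    (hk' : ∀ e ∈ E, e = b ∨ ∃ w ∈ Rs, ev gen (flat [a, u, e] w) ≠ ev gen [])
    (α : MulAut L) : ∃ g : G, α = MulAut.conjNormal g := by
  have m1 : ∀ i, loc gen [a, u, b] i ∈ L := fun i => by
    rw [← ev_single (loc gen [a, u, b]) i, ← ev_flat, ← hK]; exact ev_flat_mem _ _ _
  let X : ℕ → L := fun i => ⟨_, m1 i⟩
  have h1 : orderOf (X 0) = p := (orderOf_coe _).symm.trans ho
  obtain ⟨g, k, hk1, e1, e2⟩ := aut_normal (a := X 0) (u := X 1) (r := s ^ m) (ks := List.range' 1 (p - 1)) hp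
    (h1 ▸ pow_orderOf_eq_one _) (fun e => hp.one_lt.ne' (by rw [← h1, e, orderOf_one]))
    (fun h => hN (h.trans (card_subgroup_dvd_card L)))
    (Subtype.ext (show ev gen u * ev gen a = ev gen a ^ s ^ m * ev gen u by rw [hu]; exact pow_conj_of ht m))
    hs hs1 (fun g hg => by
      obtain ⟨k, hk⟩ := hC g (congrArg Subtype.val hg)
      exact ⟨k, Subtype.ext hk⟩)
    (fun k h h' => ⟨0, by
      rw [pow_zero, mul_one, Nat.mod_eq_of_lt h, List.mem_range'_1]; omega⟩) α
  rw [List.mem_range'_1] at hk1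
  obtain ⟨i, hi⟩ := hk k (by omega) (by omega)
  let β : MulAut L := MulAut.conjNormal (ev gen t ^ i)⁻¹ * (MulAut.conj g * α)
  have b1 : β (X 0) = X 0 := Subtype.ext (by
    show (ev gen t ^ i)⁻¹ * ((MulAut.conj g * α) (X 0) : G) * (ev gen t ^ i)⁻¹⁻¹ = ev gen a
    rw [e1, inv_inv, mul_assoc, inv_mul_eq_iff_eq_mul, pow_conj_of ht i, ← hi, ← ho]
    exact congrArg (· * _) (pow_mod_orderOf _ _))
  have b2 : β (X 1) = X 1 := Subtype.ext (by
    show (ev gen t ^ i)⁻¹ * ((MulAut.conj g * α) (X 1) : G) * (ev gen t ^ i)⁻¹⁻¹ = ev gen u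
    rw [e2, inv_inv, mul_assoc, inv_mul_eq_iff_eq_mul]
    show ev gen u * _ = _
    rw [hu, ← pow_add, ← pow_add, add_comm])
  have b3 : β (X 2) = X 2 := by
    obtain ⟨e, he, e3⟩ := hE (β (X 2)) (by
      have : β (X 2 * X 1) = β (X 1 * X 2) := congrArg β (Subtype.ext hb)
      rw [map_mul, map_mul, b2] at this
      exact congrArg Subtype.val this)
    rcases hk' e he with rfl | ⟨w, h2, h3⟩
    · exact Subtype.ext e3.symm
    · refine absurd ?_ h3
      have h4 : ev X w = 1 := Subtype.ext ((map_ev L.subtype w).trans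
        ((ev_flat _ _ _).symm.trans (hR _ (List.mem_map_of_mem h2))))
      have h5 := map_ev (gen := X) (L.subtype.comp β.toMonoidHom) w
      rw [h4, map_one] at h5
      rw [ev_flat, ev_nil, h5]
      congr 1
      funext j
      rcases j with _ | _ | _ | j
      exacts [congrArg Subtype.val b1.symm, congrArg Subtype.val b2.symm, e3,
        (map_one (L.subtype.comp β.toMonoidHom)).symm]
  have b4 : β = 1 := by
    ext ⟨y, hy⟩
    have : sub gen [a, u, b] ≤ (β.toMonoidHom.eqLocus (MonoidHom.id L)).map L.subtype :=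
      (sub_le _).2 (by
        simp only [List.mem_cons, List.not_mem_nil, or_false]
        rintro _ (rfl | rfl | rfl)
        exacts [⟨_, b1, rfl⟩, ⟨_, b2, rfl⟩, ⟨_, b3, rfl⟩])
    obtain ⟨z, h2, rfl⟩ := this (hK ▸ hy)
    exact congrArg Subtype.val h2
  refine ⟨(g : G)⁻¹ * ev gen t ^ i, ?_⟩
  rw [map_mul, map_inv, MulAut.conjNormal_val, eq_inv_mul_iff_mul_eq, eq_comm, ← inv_mul_eq_one, ← map_inv]
  exact b4

theorem out_of_inner {L : Subgroup G} [L.Normal] (hZ : center L = ⊥) (hC : centralizer (L : Set G) ≤ L)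
    (h : ∀ α : MulAut L, ∃ g : G, α = MulAut.conjNormal g) : Nat.card (Out L) = L.index := by
  have h1 : Function.Bijective (MulAut.conjNormal : G →* MulAut L) :=
    ⟨(injective_iff_map_eq_one _).2 fun g hg => by
      have h2 : g ∈ centralizer (L : Set G) := fun s hs =>
        (mul_inv_eq_iff_eq_mul.1 (congrArg Subtype.val (MulEquiv.congr_fun hg ⟨s, hs⟩))).symm
      have h3 : (⟨g, hC h2⟩ : L) ∈ center L := mem_center_iff.2 fun s => Subtype.ext (h2 s s.2)
      rw [hZ] at h3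
      exact congrArg Subtype.val (mem_bot.1 h3), fun α => let ⟨g, e⟩ := h α; ⟨g, e.symm⟩⟩
  have h2 := card_aut hZ rfl rfl
  rw [← Nat.card_congr (Equiv.ofBijective _ h1), ← L.index_mul_card] at h2
  exact (Nat.eq_of_mul_eq_mul_right Nat.card_pos h2).symm

end L
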