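import Cfsg.Agent.L.OFi23C0

/-! Generated certificate (toolsL) for the group OFi23 of degree 31671 and order 4089470473293004800. -/
set_option autoImplicit false
set_option maxRecDepth 100000
set_option maxHeartbeats 0
set_option linter.unusedSectionVars false

namespace L.OFi23
open H14 Cfsg

universe u

section
variable {G : Type u} {Ω : Type*} [Group G] [MulAction G Ω] [FaithfulSMul G Ω] (M : PM G Ω 31671 nets)

theorem RCa : Rels M.gen (commRels wa csa) := (M.rels_of_idArr (by decide) cca)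
theorem cpa8 : CP M wa .nil [nat_lit 8023, nat_lit 2080, nat_lit 28114, nat_lit 4299, nat_lit 30253, nat_lit 1694, nat_lit 15362, nat_lit 0] [[]] := cp_nil _ _
theorem cpa7 : CP M wa cha7 [nat_lit 2080, nat_lit 28114, nat_lit 4299, nat_lit 30253, nat_lit 1694, nat_lit 15362, nat_lit 0] [[]] := cp_det _ _ dta7 (cpa8 M)
theorem cpa6 : CP M wa cha6 [nat_lit 28114, nat_lit 4299, nat_lit 30253, nat_lit 1694, nat_lit 15362, nat_lit 0] [[]] := cp_det _ _ dta6 (cpa7 M)
theorem cpa5 : CP M wa cha5 [nat_lit 4299, nat_lit 30253, nat_lit 1694, nat_lit 15362, nat_lit 0] [[]] := cp_det _ _ dta5 (cpa6 M)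
theorem cpa4 : CP M wa cha4 [nat_lit 30253, nat_lit 1694, nat_lit 15362, nat_lit 0] [[]] := cp_det _ _ dta4 (cpa5 M)
theorem cpa3 : CP M wa cha3 [nat_lit 1694, nat_lit 15362, nat_lit 0] [[]] := cp_det _ _ dta3 (cpa4 M)
theorem cpa2 : CP M wa cha2 [nat_lit 15362, nat_lit 0] [[]] := cp_det _ _ dta2 (cpa3 M)
theorem cpa1 : CP M wa cha1 [nat_lit 0] [[]] := cp_det _ _ dta1 (cpa2 M)
theorem cpa0 : CP M wa cha0 [] Ea0 := cp_lvl (RCa M) lka0 dka0_0 (cpa1 M)
theorem cena (hN : Nat.card G = 4089470473293004800) (g : G) (hg : g * ev M.gen wa = ev M.gen wa * g) : ∃ t ∈ Ea0, g = ev M.gen t := cp_top (cpa0 M) hN chca g hg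
theorem RCu : Rels M.gen (commRels (powW wu 1) csu) := (M.rels_of_idArr (by decide) ccu)
theorem cpu10 : CP M (powW wu 1) .nil [nat_lit 0, nat_lit 1, nat_lit 4796, nat_lit 17377, nat_lit 2921, nat_lit 2973, nat_lit 14166, nat_lit 3, nat_lit 1760, nat_lit 299] [[]] := cp_nil _ _
theorem cpu9 : CP M (powW wu 1) chu9 [nat_lit 1, nat_lit 4796, nat_lit 17377, nat_lit 2921, nat_lit 2973, nat_lit 14166, nat_lit 3, nat_lit 1760, nat_lit 299] Eu9 := cp_lvl (RCu M) lku9 rfl (cpu10 M)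
theorem cpu8 : CP M (powW wu 1) chu8 [nat_lit 4796, nat_lit 17377, nat_lit 2921, nat_lit 2973, nat_lit 14166, nat_lit 3, nat_lit 1760, nat_lit 299] Eu8 := cp_lvl (RCu M) lku8 rfl (cpu9 M)
theorem cpu7 : CP M (powW wu 1) chu7 [nat_lit 17377, nat_lit 2921, nat_lit 2973, nat_lit 14166, nat_lit 3, nat_lit 1760, nat_lit 299] Eu8 := cp_det _ _ dtu7 (cpu8 M)
theorem cpu6 : CP M (powW wu 1) chu6 [nat_lit 2921, nat_lit 2973, nat_lit 14166, nat_lit 3, nat_lit 1760, nat_lit 299] Eu8 := cp_det _ _ dtu6 (cpu7 M)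
theorem cpu5 : CP M (powW wu 1) chu5 [nat_lit 2973, nat_lit 14166, nat_lit 3, nat_lit 1760, nat_lit 299] Eu8 := cp_det _ _ dtu5 (cpu6 M)
theorem cpu4 : CP M (powW wu 1) chu4 [nat_lit 14166, nat_lit 3, nat_lit 1760, nat_lit 299] Eu8 := cp_det _ _ dtu4 (cpu5 M)
theorem cpu3 : CP M (powW wu 1) chu3 [nat_lit 3, nat_lit 1760, nat_lit 299] Eu8 := cp_det _ _ dtu3 (cpu4 M)
theorem cpu2 : CP M (powW wu 1) chu2 [nat_lit 1760, nat_lit 299] Eu2 := cp_lvl (RCu M) lku2 dku2_0 (cpu3 M)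
theorem cpu1 : CP M (powW wu 1) chu1 [nat_lit 299] Eu1 := cp_lvl (RCu M) lku1 rfl (cpu2 M)
theorem cpu0 : CP M (powW wu 1) chu0 [] Eu0 := cp_lvl (RCu M) lku0 dku0_0 (cpu1 M)
theorem cenu (hN : Nat.card G = 4089470473293004800) (g : G) (hg : g * ev M.gen (powW wu 1) = ev M.gen (powW wu 1) * g) : ∃ t ∈ Eu0, g = ev M.gen t := cp_top (cpu0 M) hN chcu g hg
theorem Rdefs : Rels M.gen (defRels defs 10) := (Rels.take_drop 1 (M.rels_of_idArr (by decide) dc_0) (Rels.take_drop 1 (M.rels_of_idArr (by decide) dc_1) (Rels.take_drop 1 (M.rels_of_idArr (by decide) dc_2) (Rels.take_drop 8 (M.rels_of_idArr (by decide) dc_3) (Rels.take_drop 11 (M.rels_of_idArr (by decide) dc_4) (M.rels_of_idArr (by decide) dc_5))))))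
theorem top (hN : Nat.card G = 4089470473293004800) : sub M.gen [wa, wu, wb] = ⊤ := top_of_defs (lo := 10) (j := 3) hN chca (Rdefs M) (by decide +kernel)
theorem upper (hN : Nat.card G = 4089470473293004800) (α : MulAut G) : ∃ g : G, ∃ q ∈ [((1 : ℕ), ([] : Word))],
    Maps M.gen (MulAut.conj g * α) [wa, wu, wb] [powW wa q.1, wu, q.2 ++ wb] :=
  out_upper hN (by decide +kernel) (by norm_num) ari (Rels.take_drop 4 (M.rels_of_idArr (by decide) nf_0) (M.rels_of_idArr (by decide) nf_1)) mva (cena M hN) pwa (cenu M hN) lf_0 α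
include M in
theorem out (hN : Nat.card G = 4089470473293004800) : Nat.card (Out G) = 1 := out_one (top M hN) (upper M hN)
end

section
variable {G : Type u} {Ω : Type*} [Group G] [MulAction G Ω]

noncomputable def mach (E : Enc Ω 31671) (hr : ∀ l < 10, ∃ g : G, E.Real (getL Net.nil nets l) g) : PM G Ω 31671 nets :=
  PM.ofReal G E (by decide) nets_ok (real_of_slp E (by decide) (by decide) nets_ok hr (ds := defs) (by decide +kernel) (by decide +kernel)
    (Rdefs (permPM 31671 nets (by decide) (by decide) nets_ok)))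
theorem out' [FaithfulSMul G Ω] (E : Enc Ω 31671) (hr : ∀ l < 10, ∃ g : G, E.Real (getL Net.nil nets l) g) (hN : Nat.card G = 4089470473293004800) : Nat.card (Out G) = 1 := out (mach E hr) hN
end

end L.OFi23
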