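import Cfsg.Agent.L.OFi23D1

/-! Generated certificate (toolsL) for the group OFi23 of degree 31671 and order 4089470473293004800. -/
set_option Elab.async false
set_option autoImplicit false
set_option maxRecDepth 100000
set_option maxHeartbeats 0
set_option linter.unusedSectionVars false

namespace L.OFi23
open H14 Cfsg

universe u

theorem chca : band (Nat.ble 1 4089470473293004800) (Nat.ble 4089470473293004800 (cha0.val 31671 nets)) = true := by decide +kernel
theorem cca : relsChk 31671 nets 15 (idArr 31671 15 15 0) (commRels wa csa) = true := by decide +kernel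
theorem dka0_0 : deadChk 31671 nets F wa cha0 [] dda0_0 = true := by decide +kernel
theorem lka0 : lvlChk 31671 nets F wa cha0 [] (List.map (flat csa) Ta0) (List.map (flat csa) cwa0) sca0 dda0 0 = true := by decide +kernel
theorem dta1 : detChk F wa cha1 [nat_lit 0] 0 6 = true := by decide +kernel
theorem dta2 : detChk F wa cha2 [nat_lit 15362, nat_lit 0] 15362 4 = true := by decide +kernel
theorem dta3 : detChk F wa cha3 [nat_lit 1694, nat_lit 15362, nat_lit 0] 1694 6 = true := by decide +kernel
theorem dta4 : detChk F wa cha4 [nat_lit 30253, nat_lit 1694, nat_lit 15362, nat_lit 0] 30253 1 = true := by decide +kernel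
theorem dta5 : detChk F wa cha5 [nat_lit 4299, nat_lit 30253, nat_lit 1694, nat_lit 15362, nat_lit 0] 1694 1 = true := by decide +kernel
theorem dta6 : detChk F wa cha6 [nat_lit 28114, nat_lit 4299, nat_lit 30253, nat_lit 1694, nat_lit 15362, nat_lit 0] 28114 2 = true := by decide +kernel
theorem dta7 : detChk F wa cha7 [nat_lit 2080, nat_lit 28114, nat_lit 4299, nat_lit 30253, nat_lit 1694, nat_lit 15362, nat_lit 0] 0 1 = true := by decide +kernel
theorem chcu : band (Nat.ble 1 4089470473293004800) (Nat.ble 4089470473293004800 (chu0.val 31671 nets)) = true := by decide +kernel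
theorem ccu : relsChk 31671 nets 15 (idArr 31671 15 15 0) (commRels (powW wu 1) csu) = true := by decide +kernel
theorem dku0_0 : deadChk 31671 nets F (powW wu 1) chu0 [] ddu0_0 = true := by decide +kernel
theorem lku0 : lvlChk 31671 nets F (powW wu 1) chu0 [] (List.map (flat csu) Tu0) (List.map (flat csu) cwu0) scu0 ddu0 1 = true := by decide +kernel
theorem lku1 : lvlChk 31671 nets F (powW wu 1) chu1 [nat_lit 299] (List.map (flat csu) Tu1) (List.map (flat csu) cwu1) scu1 ddu1 1 = true := by decide +kernel
theorem dku2_0 : deadChk 31671 nets F (powW wu 1) chu2 [nat_lit 1760, nat_lit 299] ddu2_0 = true := by decide +kernel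
theorem lku2 : lvlChk 31671 nets F (powW wu 1) chu2 [nat_lit 1760, nat_lit 299] (List.map (flat csu) Tu2) (List.map (flat csu) cwu2) scu2 ddu2 0 = true := by decide +kernel
theorem dtu3 : detChk F (powW wu 1) chu3 [nat_lit 3, nat_lit 1760, nat_lit 299] 3 3 = true := by decide +kernel
theorem dtu4 : detChk F (powW wu 1) chu4 [nat_lit 14166, nat_lit 3, nat_lit 1760, nat_lit 299] 14166 3 = true := by decide +kernel
theorem dtu5 : detChk F (powW wu 1) chu5 [nat_lit 2973, nat_lit 14166, nat_lit 3, nat_lit 1760, nat_lit 299] 2973 2 = true := by decide +kernel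
theorem dtu6 : detChk F (powW wu 1) chu6 [nat_lit 2921, nat_lit 2973, nat_lit 14166, nat_lit 3, nat_lit 1760, nat_lit 299] 3 1 = true := by decide +kernel
theorem dtu7 : detChk F (powW wu 1) chu7 [nat_lit 17377, nat_lit 2921, nat_lit 2973, nat_lit 14166, nat_lit 3, nat_lit 1760, nat_lit 299] 14166 1 = true := by decide +kernel
theorem lku8 : lvlChk 31671 nets F (powW wu 1) chu8 [nat_lit 4796, nat_lit 17377, nat_lit 2921, nat_lit 2973, nat_lit 14166, nat_lit 3, nat_lit 1760, nat_lit 299] (List.map (flat csu) Tu8) (List.map (flat csu) cwu8) scu8 ddu8 0 = true := by decide +kernel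
theorem lku9 : lvlChk 31671 nets F (powW wu 1) chu9 [nat_lit 1, nat_lit 4796, nat_lit 17377, nat_lit 2921, nat_lit 2973, nat_lit 14166, nat_lit 3, nat_lit 1760, nat_lit 299] (List.map (flat csu) Tu9) (List.map (flat csu) cwu9) scu9 ddu9 0 = true := by decide +kernel
theorem nf_0 : relsChk 31671 nets 15 (idArr 31671 15 15 0) (List.take 4 (nfRels wa wu wb 23 2 1 10 Rs)) = true := by decide +kernel
theorem nf_1 : relsChk 31671 nets 15 (idArr 31671 15 15 0) (List.drop 4 (nfRels wa wu wb 23 2 1 10 Rs)) = true := by decide +kernel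
theorem lf_0 : allL (lfChk 31671 F wa wu wb ks Rs [((1 : ℕ), ([] : Word))]) Eu0 = true := by decide +kernel
theorem ari : ariChk 4089470473293004800 23 2 11 ks = true := by decide +kernel
theorem mva : band (Nat.ble (Nat.succ 0) 31671) (bnot (Nat.beq (apW F wa 0) 0)) = true := by decide +kernel
theorem pwa : pwChk wa 23 Ea0 = true := by decide +kernel
theorem dc_0 : relsChk 31671 nets 15 (idArr 31671 15 15 0) (List.take 1 (defRels defs 10)) = true := by decide +kernel
theorem dc_1 : relsChk 31671 nets 15 (idArr 31671 15 15 0) (List.take 1 (List.drop 1 (defRels defs 10))) = true := by decide +kernel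
theorem dc_2 : relsChk 31671 nets 15 (idArr 31671 15 15 0) (List.take 1 (List.drop 1 (List.drop 1 (defRels defs 10)))) = true := by decide +kernel
theorem dc_3 : relsChk 31671 nets 15 (idArr 31671 15 15 0) (List.take 8 (List.drop 1 (List.drop 1 (List.drop 1 (defRels defs 10))))) = true := by decide +kernel
theorem dc_4 : relsChk 31671 nets 15 (idArr 31671 15 15 0) (List.take 11 (List.drop 8 (List.drop 1 (List.drop 1 (List.drop 1 (defRels defs 10)))))) = true := by decide +kernel
theorem dc_5 : relsChk 31671 nets 15 (idArr 31671 15 15 0) (List.drop 11 (List.drop 8 (List.drop 1 (List.drop 1 (List.drop 1 (defRels defs 10)))))) = true := by decide +kernel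

end L.OFi23
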