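import Cfsg.Agent.L.Top
import Cfsg.Agent.L.Out2
import Cfsg.Agent.H14.HSc

/-! Generated certificate (toolsL) for the group OHS of degree 100 and order 44352000. -/
set_option Elab.async false
set_option autoImplicit false
set_option maxRecDepth 100000
set_option maxHeartbeats 0
set_option linter.unusedSectionVars false

namespace L.OHS
open H14 Cfsg

universe u

noncomputable def n2 : Net := (.cons (nat_lit 1) (nat_lit 0x10110540104405104114440)
(.cons (nat_lit 2) (nat_lit 0x2331310311322220201101220)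
(.cons (nat_lit 4) (nat_lit 0x20f00070e000a0608060007)
(.cons (nat_lit 8) (nat_lit 0x2200dd004a004000bc0005)
(.cons (nat_lit 16) (nat_lit 0x6c800000810500000000)
(.cons (nat_lit 32) (nat_lit 0x300000000595318c0)
(.cons (nat_lit 64) (nat_lit 0xcf9df7edb)
(.cons (nat_lit 32) (nat_lit 0xe000000002b16c1d6)
(.cons (nat_lit 16) (nat_lit 0x7d9600008a120000f11b)
(.cons (nat_lit 8) (nat_lit 0xd4000100bd009d00cf0098)
(.cons (nat_lit 4) (nat_lit 0xa000b080209000b0a0d0801)
(.cons (nat_lit 2) (nat_lit 0x3222332131033102032102010)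
(.cons (nat_lit 1) (nat_lit 0x1114004150410055054110544)
.nil)))))))))))))
theorem n2_ok : Net.ok 100 n2 = true := by decide +kernel
noncomputable def n3 : Net := (.cons (nat_lit 1) (nat_lit 0x1104151144045114150545040)
(.cons (nat_lit 2) (nat_lit 0x1320003023311323230012130)
(.cons (nat_lit 4) (nat_lit 0xd0a07040a0007020e020a08)
(.cons (nat_lit 8) (nat_lit 0xaf0011003f0052008d000c)
(.cons (nat_lit 16) (nat_lit 0xc050000204c00000000)
(.cons (nat_lit 32) (nat_lit 0x1000000008390c1e0)
(.cons (nat_lit 64) (nat_lit 0x9dff1f1fa)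
(.cons (nat_lit 32) (nat_lit 0x60000000079960290)
(.cons (nat_lit 16) (nat_lit 0x12950000b9e90000da4e)
(.cons (nat_lit 8) (nat_lit 0x6000a6005c0013008f0056)
(.cons (nat_lit 4) (nat_lit 0xb04070c060d020e0c02090c)
(.cons (nat_lit 2) (nat_lit 0x213031312332233321211212)
(.cons (nat_lit 1) (nat_lit 0x4554511444045151041140404)
.nil)))))))))))))
theorem n3_ok : Net.ok 100 n3 = true := by decide +kernel
noncomputable def n4 : Net := (.cons (nat_lit 1) (nat_lit 0x4105051410055154004111040)
(.cons (nat_lit 2) (nat_lit 0x3313013121332013211320320)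
(.cons (nat_lit 4) (nat_lit 0x1060c09090002040f010e0a)
(.cons (nat_lit 8) (nat_lit 0x3f009800d10057009a0001)
(.cons (nat_lit 16) (nat_lit 0x42910000032800000001)
(.cons (nat_lit 32) (nat_lit 0x28900740)
(.cons (nat_lit 64) (nat_lit 0xbf99d0764)
(.cons (nat_lit 32) (nat_lit 0x7000000004cff9109)
(.cons (nat_lit 16) (nat_lit 0x708b00004fd0000035e5)
(.cons (nat_lit 8) (nat_lit 0x66008100c9005200a9008f)
(.cons (nat_lit 4) (nat_lit 0x60000060d020e04080909)
(.cons (nat_lit 2) (nat_lit 0x1211021122222220223032322)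
(.cons (nat_lit 1) (nat_lit 0x1540444015101445551541145)
.nil)))))))))))))
theorem n4_ok : Net.ok 100 n4 = true := by decide +kernel
noncomputable def n5 : Net := (.cons (nat_lit 1) (nat_lit 0x1540015515444545444140010)
(.cons (nat_lit 2) (nat_lit 0x1032201330110002011303000)
(.cons (nat_lit 4) (nat_lit 0xa0e0a000e000b040e0a070a)
(.cons (nat_lit 8) (nat_lit 0x5f002800c300ba00ed0005)
(.cons (nat_lit 16) (nat_lit 0x6c110000c39000000004)
(.cons (nat_lit 32) (nat_lit 0x60000000000d19220)
(.cons (nat_lit 64) (nat_lit 0x986dffbf6)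
(.cons (nat_lit 32) (nat_lit 0x6000000000f28fc1e)
(.cons (nat_lit 16) (nat_lit 0x91d100002dba00000e6f)
(.cons (nat_lit 8) (nat_lit 0xc2007800a400f600e600a8)
(.cons (nat_lit 4) (nat_lit 0xe030b070305010c06020201)
(.cons (nat_lit 2) (nat_lit 0x3302231301321002012323300)
(.cons (nat_lit 1) (nat_lit 0x104441505545014555101410)
.nil)))))))))))))
theorem n5_ok : Net.ok 100 n5 = true := by decide +kernel
noncomputable def n6 : Net := (.cons (nat_lit 1) (nat_lit 0x5544115505411550044055410)
(.cons (nat_lit 2) (nat_lit 0x2102221321323111203102010)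
(.cons (nat_lit 4) (nat_lit 0x2050b08040e0c060e000904)
(.cons (nat_lit 8) (nat_lit 0x1000720046006c00010005)
(.cons (nat_lit 16) (nat_lit 0xdc7000001a380000000a)
(.cons (nat_lit 32) (nat_lit 0x500000000029934e0)
(.cons (nat_lit 64) (nat_lit 0x26b9db6ed)
(.cons (nat_lit 32) (nat_lit 0xd00000000e21b6e94)
(.cons (nat_lit 16) (nat_lit 0xdaa800006a24000090d1)
(.cons (nat_lit 8) (nat_lit 0xa6001b008a0082008d006f)
(.cons (nat_lit 4) (nat_lit 0x5080e0208040000020c0a02)
(.cons (nat_lit 2) (nat_lit 0x2312201303320311032103220)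
(.cons (nat_lit 1) (nat_lit 0x145145151104141154014454)
.nil)))))))))))))
theorem n6_ok : Net.ok 100 n6 = true := by decide +kernel
noncomputable def n7 : Net := (.cons (nat_lit 1) (nat_lit 0x1545505500050104500100400)
(.cons (nat_lit 2) (nat_lit 0x3230100011022311001031120)
(.cons (nat_lit 4) (nat_lit 0x90f0f0c0806030105080801)
(.cons (nat_lit 8) (nat_lit 0x67003b00fe0005004c0000)
(.cons (nat_lit 16) (nat_lit 0x458a0000046000000000)
(.cons (nat_lit 32) (nat_lit 0x1b088020)
(.cons (nat_lit 64) (nat_lit 0xf7f88d323)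
(.cons (nat_lit 32) (nat_lit 0x100000000c7ed0aa5)
(.cons (nat_lit 16) (nat_lit 0x48200000c3af0000a960)
(.cons (nat_lit 8) (nat_lit 0xd500e20071006400a90008)
(.cons (nat_lit 4) (nat_lit 0x5030401060d0c060c060b01)
(.cons (nat_lit 2) (nat_lit 0x1000103233222333232223112)
(.cons (nat_lit 1) (nat_lit 0x4515010541410445414154454)
.nil)))))))))))))
theorem n7_ok : Net.ok 100 n7 = true := by decide +kernel
noncomputable def n8 : Net := (.cons (nat_lit 1) (nat_lit 0x4555544140044501005040414)
(.cons (nat_lit 2) (nat_lit 0x300223032210211133111330)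
(.cons (nat_lit 4) (nat_lit 0xa0e0f02080d0c010e020002)
(.cons (nat_lit 8) (nat_lit 0x490048009a001800000008)
(.cons (nat_lit 16) (nat_lit 0xc360000020900000004)
(.cons (nat_lit 32) (nat_lit 0x900000000083c8720)
(.cons (nat_lit 64) (nat_lit 0x77e3dffaa)
(.cons (nat_lit 32) (nat_lit 0x200000000f2ccace4)
(.cons (nat_lit 16) (nat_lit 0x269e00001cca000021e4)
(.cons (nat_lit 8) (nat_lit 0xd30003001f007a0001000c)
(.cons (nat_lit 4) (nat_lit 0x903090a0a07010201020a06)
(.cons (nat_lit 2) (nat_lit 0x3133320103033203232020302)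
(.cons (nat_lit 1) (nat_lit 0x5114111454400110511451540)
.nil)))))))))))))
theorem n8_ok : Net.ok 100 n8 = true := by decide +kernel
noncomputable def n9 : Net := (.cons (nat_lit 1) (nat_lit 0x4151140055511110000405440)
(.cons (nat_lit 2) (nat_lit 0x200303212301032220210230)
(.cons (nat_lit 4) (nat_lit 0x9020008020700060c0e0102)
(.cons (nat_lit 8) (nat_lit 0xfb00970056002f00050002)
(.cons (nat_lit 16) (nat_lit 0x4f050000c61e00000008)
(.cons (nat_lit 32) (nat_lit 0x40000000016e00010)
(.cons (nat_lit 64) (nat_lit 0xd56f18950)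
(.cons (nat_lit 32) (nat_lit 0xa000000007558a5d6)
(.cons (nat_lit 16) (nat_lit 0x7a7f0000a17f00008518)
(.cons (nat_lit 8) (nat_lit 0xeb00fb0000000d0017006e)
(.cons (nat_lit 4) (nat_lit 0x307030e01050608090e0702)
(.cons (nat_lit 2) (nat_lit 0x21211031201213223221122)
(.cons (nat_lit 1) (nat_lit 0x4111550504514105045400450)
.nil)))))))))))))
theorem n9_ok : Net.ok 100 n9 = true := by decide +kernel
noncomputable def n10 : Net := (.cons (nat_lit 1) (nat_lit 0x5500440100005040045004014)
(.cons (nat_lit 2) (nat_lit 0x3112332101000210113230100)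
(.cons (nat_lit 4) (nat_lit 0xc080800000e090904090001)
(.cons (nat_lit 8) (nat_lit 0xe0004f000b00930009000e)
(.cons (nat_lit 16) (nat_lit 0x20090000535000000008)
(.cons (nat_lit 32) (nat_lit 0xa0000000002a14d40)
(.cons (nat_lit 64) (nat_lit 0x162a1dd4f)
(.cons (nat_lit 32) (nat_lit 0x40000000071d9894a)
(.cons (nat_lit 16) (nat_lit 0x22c6000019f10000b1a5)
(.cons (nat_lit 8) (nat_lit 0xe200670003000800890009)
(.cons (nat_lit 4) (nat_lit 0xf09020704040909040f050b)
(.cons (nat_lit 2) (nat_lit 0x112310321020022212301020)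
(.cons (nat_lit 1) (nat_lit 0x101004040455154404045414)
.nil)))))))))))))
theorem n10_ok : Net.ok 100 n10 = true := by decide +kernel
noncomputable def n11 : Net := (.cons (nat_lit 1) (nat_lit 0x545101005155441545100514)
(.cons (nat_lit 2) (nat_lit 0x112232222300232101200)
(.cons (nat_lit 4) (nat_lit 0x10f0e0609070a0d08080200)
(.cons (nat_lit 8) (nat_lit 0xc80029008000c300860008)
(.cons (nat_lit 16) (nat_lit 0xe58000080000000000f)
(.cons (nat_lit 32) (nat_lit 0xd0000000058490480)
(.cons (nat_lit 64) (nat_lit 0x27afb648d)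
(.cons (nat_lit 32) (nat_lit 0xf00000000f5e36c97)
(.cons (nat_lit 16) (nat_lit 0xe069000024200000bb21)
(.cons (nat_lit 8) (nat_lit 0x4a00690094003d00090080)
(.cons (nat_lit 4) (nat_lit 0xb0f02060805020b02080d08)
(.cons (nat_lit 2) (nat_lit 0x10112011311333013310322)
(.cons (nat_lit 1) (nat_lit 0x1504104005415510501104510)
.nil)))))))))))))
theorem n11_ok : Net.ok 100 n11 = true := by decide +kernel
noncomputable def n12 : Net := (.cons (nat_lit 1) (nat_lit 0x4014411100441545400000000)
(.cons (nat_lit 2) (nat_lit 0x30000031100021110201000)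
(.cons (nat_lit 4) (nat_lit 0x60d0900000f0d0504000009)
(.cons (nat_lit 8) (nat_lit 0xa30017004400010044000b)
(.cons (nat_lit 16) (nat_lit 0x1ae10000035500000004)
(.cons (nat_lit 32) (nat_lit 0x800000000bc2002d0)
(.cons (nat_lit 64) (nat_lit 0x7fe6047ff)
(.cons (nat_lit 32) (nat_lit 0xa00000000ac3d8bd2)
(.cons (nat_lit 16) (nat_lit 0x1be80000035500003104)
(.cons (nat_lit 8) (nat_lit 0xb20016004400500044000a)
(.cons (nat_lit 4) (nat_lit 0x60f0901030f0e0405030109)
(.cons (nat_lit 2) (nat_lit 0x30000031100021110201000)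
(.cons (nat_lit 1) (nat_lit 0x4014411100441545400000000)
.nil)))))))))))))
theorem n12_ok : Net.ok 100 n12 = true := by decide +kernel
noncomputable def n13 : Net := (.cons (nat_lit 1) (nat_lit 0x4001051540150410101444000)
(.cons (nat_lit 2) (nat_lit 0x1012210323201122321030220)
(.cons (nat_lit 4) (nat_lit 0x3000c000f03090808040a08)
(.cons (nat_lit 8) (nat_lit 0xf400de0008009b00080008)
(.cons (nat_lit 16) (nat_lit 0x191700000b8000000009)
(.cons (nat_lit 32) (nat_lit 0x100000000502f0220)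
(.cons (nat_lit 64) (nat_lit 0xe552f5eb9)
(.cons (nat_lit 32) (nat_lit 0x10000000058af8130)
(.cons (nat_lit 16) (nat_lit 0x8d3700000af000000607)
(.cons (nat_lit 8) (nat_lit 0xe400c60099008a00080038)
(.cons (nat_lit 4) (nat_lit 0x3000c010f020c0902040b08)
(.cons (nat_lit 2) (nat_lit 0x1012210303201122303032220)
(.cons (nat_lit 1) (nat_lit 0x4401011554150410101445000)
.nil)))))))))))))
theorem n13_ok : Net.ok 100 n13 = true := by decide +kernel
noncomputable def n14 : Net := (.cons (nat_lit 1) (nat_lit 0x5044115150104500500115100)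
(.cons (nat_lit 2) (nat_lit 0x220100121110000203200000)
(.cons (nat_lit 4) (nat_lit 0x300050200010004080d0000)
(.cons (nat_lit 8) (nat_lit 0xf2007a000f00a100060009)
(.cons (nat_lit 16) (nat_lit 0x27580000030000000006)
(.cons (nat_lit 32) (nat_lit 0x80000000000132740)
(.cons (nat_lit 64) (nat_lit 0x5237b674d)
(.cons (nat_lit 32) (nat_lit 0xb000000001a9735e3)
(.cons (nat_lit 16) (nat_lit 0xbd590000904100009616)
(.cons (nat_lit 8) (nat_lit 0xf2007a000f00a900060009)
(.cons (nat_lit 4) (nat_lit 0x300050200010004080d0000)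
(.cons (nat_lit 2) (nat_lit 0x320100121100000303200002)
(.cons (nat_lit 1) (nat_lit 0x5044115150104500500115100)
.nil)))))))))))))
theorem n14_ok : Net.ok 100 n14 = true := by decide +kernel
noncomputable def n15 : Net := (.cons (nat_lit 1) (nat_lit 0x5510111005154501455540010)
(.cons (nat_lit 2) (nat_lit 0x2303202322322100311000200)
(.cons (nat_lit 4) (nat_lit 0x20908000009040c00000000)
(.cons (nat_lit 8) (nat_lit 0x1900500007008e00460002)
(.cons (nat_lit 16) (nat_lit 0x59660000282f00000004)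
(.cons (nat_lit 32) (nat_lit 0x10000000050348910)
(.cons (nat_lit 64) (nat_lit 0xf56769f12)
(.cons (nat_lit 32) (nat_lit 0x30000000098f1adb2)
(.cons (nat_lit 16) (nat_lit 0x587700003b3f00004008)
(.cons (nat_lit 8) (nat_lit 0x98000d0056008a00260006)
(.cons (nat_lit 4) (nat_lit 0x20d08050008050c05000400)
(.cons (nat_lit 2) (nat_lit 0x2303212323322100311000200)
(.cons (nat_lit 1) (nat_lit 0x5510111005154501455540010)
.nil)))))))))))))
theorem n15_ok : Net.ok 100 n15 = true := by decide +kernel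
noncomputable def n16 : Net := (.cons (nat_lit 1) (nat_lit 0x141104500141400440500400)
(.cons (nat_lit 2) (nat_lit 0x3213012222123021002011310)
(.cons (nat_lit 4) (nat_lit 0xb010c0f0b0c01000c0a0a0d)
(.cons (nat_lit 8) (nat_lit 0x4c004d00ed009600d30001)
(.cons (nat_lit 16) (nat_lit 0x2d6c000059ea00000001)
(.cons (nat_lit 32) (nat_lit 0x22f01710)
(.cons (nat_lit 64) (nat_lit 0xa6bf1b738)
(.cons (nat_lit 32) (nat_lit 0xd00000000a8544577)
(.cons (nat_lit 16) (nat_lit 0xd6fb00006e9d0000f40a)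
(.cons (nat_lit 8) (nat_lit 0x6400ee003600ec005a0000)
(.cons (nat_lit 4) (nat_lit 0x70c0403000a080b0f080d0f)
(.cons (nat_lit 2) (nat_lit 0x1020001223122302123202222)
(.cons (nat_lit 1) (nat_lit 0x5050551145004445044405010)
.nil)))))))))))))
theorem n16_ok : Net.ok 100 n16 = true := by decide +kernel
noncomputable def n17 : Net := (.cons (nat_lit 1) (nat_lit 0x5504055155540450154044440)
(.cons (nat_lit 2) (nat_lit 0x1300001032012103031221010)
(.cons (nat_lit 4) (nat_lit 0x60e04010e0a0c0c060f0605)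
(.cons (nat_lit 8) (nat_lit 0x200a600c6004900a40002)
(.cons (nat_lit 16) (nat_lit 0x7a380000496a00000002)
(.cons (nat_lit 32) (nat_lit 0x60000000040068050)
(.cons (nat_lit 64) (nat_lit 0x9e906d2ff)
(.cons (nat_lit 32) (nat_lit 0xbe32539c)
(.cons (nat_lit 16) (nat_lit 0xc8d60000d4600000a981)
(.cons (nat_lit 8) (nat_lit 0xfb000a00f100ee0005006b)
(.cons (nat_lit 4) (nat_lit 0xc0f04050f0300030c0e0701)
(.cons (nat_lit 2) (nat_lit 0x1203330033121021311321110)
(.cons (nat_lit 1) (nat_lit 0x1155511104454510444454114)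
.nil)))))))))))))
theorem n17_ok : Net.ok 100 n17 = true := by decide +kernel
noncomputable def n18 : Net := (.cons (nat_lit 1) (nat_lit 0x4400544541544504055410410)
(.cons (nat_lit 2) (nat_lit 0x21213002213032303001020)
(.cons (nat_lit 4) (nat_lit 0xe02050307050902080a0701)
(.cons (nat_lit 8) (nat_lit 0xc100080012002800110001)
(.cons (nat_lit 16) (nat_lit 0x184c000068200000000b)
(.cons (nat_lit 32) (nat_lit 0xc00000000909398d0)
(.cons (nat_lit 64) (nat_lit 0x2b9d3d9df)
(.cons (nat_lit 32) (nat_lit 0x10000000030ef491f)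
(.cons (nat_lit 16) (nat_lit 0xf4e8000068d600004268)
(.cons (nat_lit 8) (nat_lit 0xcc0003003600270076002b)
(.cons (nat_lit 4) (nat_lit 0x10402070b090107040a000d)
(.cons (nat_lit 2) (nat_lit 0x1321133002103023103211132)
(.cons (nat_lit 1) (nat_lit 0x1410555455055551414510440)
.nil)))))))))))))
theorem n18_ok : Net.ok 100 n18 = true := by decide +kernel
noncomputable def n19 : Net := (.cons (nat_lit 1) (nat_lit 0x4405104011055054501111000)
(.cons (nat_lit 2) (nat_lit 0x101221300023120022222030)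
(.cons (nat_lit 4) (nat_lit 0x3040601030907060605000c)
(.cons (nat_lit 8) (nat_lit 0xa005a00a600920026000e)
(.cons (nat_lit 16) (nat_lit 0x3c700000064700000005)
(.cons (nat_lit 32) (nat_lit 0x88008800)
(.cons (nat_lit 64) (nat_lit 0xfedda9ab0)
(.cons (nat_lit 32) (nat_lit 0x70000000024968b4b)
(.cons (nat_lit 16) (nat_lit 0xe5ca0000de670000b545)
(.cons (nat_lit 8) (nat_lit 0x400a800ea00b0006700ac)
(.cons (nat_lit 4) (nat_lit 0xb0e030207060507060d070a)
(.cons (nat_lit 2) (nat_lit 0x331013110113020102022030)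
(.cons (nat_lit 1) (nat_lit 0x5451154001511155411001040)
.nil)))))))))))))
theorem n19_ok : Net.ok 100 n19 = true := by decide +kernel
noncomputable def n20 : Net := (.cons (nat_lit 1) (nat_lit 0x5000004004410011001400500)
(.cons (nat_lit 2) (nat_lit 0x1333332202013000200000020)
(.cons (nat_lit 4) (nat_lit 0x50d0602090d090b03010200)
(.cons (nat_lit 8) (nat_lit 0x9000e2004a003000000008)
(.cons (nat_lit 16) (nat_lit 0x911200003d1800000008)
(.cons (nat_lit 32) (nat_lit 0x51020070)
(.cons (nat_lit 64) (nat_lit 0xbd7c60372)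
(.cons (nat_lit 32) (nat_lit 0x711a1c74)
(.cons (nat_lit 16) (nat_lit 0xa90a0000ab0c00005018)
(.cons (nat_lit 8) (nat_lit 0x8400f2007f00240014003c)
(.cons (nat_lit 4) (nat_lit 0x50d0602090d090b03010200)
(.cons (nat_lit 2) (nat_lit 0x1333332202013000200000020)
(.cons (nat_lit 1) (nat_lit 0x5000014004410011001500500)
.nil)))))))))))))
theorem n20_ok : Net.ok 100 n20 = true := by decide +kernel
noncomputable def n21 : Net := (.cons (nat_lit 1) (nat_lit 0x444100045405450150414444)
(.cons (nat_lit 2) (nat_lit 0x2103331002010330002230100)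
(.cons (nat_lit 4) (nat_lit 0x20a01040403090f000c020e)
(.cons (nat_lit 8) (nat_lit 0x9b007300b200ed002c0001)
(.cons (nat_lit 16) (nat_lit 0xb4c00000074f00000004)
(.cons (nat_lit 32) (nat_lit 0x80000000086083100)
(.cons (nat_lit 64) (nat_lit 0x78e4837b9)
(.cons (nat_lit 32) (nat_lit 0x500000000a3dc25a0)
(.cons (nat_lit 16) (nat_lit 0x6aa3000021850000c4f0)
(.cons (nat_lit 8) (nat_lit 0xb200f200ad006f00540035)
(.cons (nat_lit 4) (nat_lit 0x509080906030d0c04080b0a)
(.cons (nat_lit 2) (nat_lit 0x1230110123303120002131112)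
(.cons (nat_lit 1) (nat_lit 0x1450151441540551041514540)
.nil)))))))))))))
theorem n21_ok : Net.ok 100 n21 = true := by decide +kernel
noncomputable def n22 : Net := (.cons (nat_lit 1) (nat_lit 0x1155141415500541055405510)
(.cons (nat_lit 2) (nat_lit 0x1103232311122230330122110)
(.cons (nat_lit 4) (nat_lit 0x20f030d0c0b08010c0c0100)
(.cons (nat_lit 8) (nat_lit 0x3d00b9006f005100c00002)
(.cons (nat_lit 16) (nat_lit 0x539a00000c2c00000001)
(.cons (nat_lit 32) (nat_lit 0x770b080)
(.cons (nat_lit 64) (nat_lit 0x80778facb)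
(.cons (nat_lit 32) (nat_lit 0x7000000005aeae065)
(.cons (nat_lit 16) (nat_lit 0xbfff0000651e000034c4)
(.cons (nat_lit 8) (nat_lit 0xb00330046007200d200a8)
(.cons (nat_lit 4) (nat_lit 0x10d0307010f02040707090e)
(.cons (nat_lit 2) (nat_lit 0x2302111113223333032220221)
(.cons (nat_lit 1) (nat_lit 0x401140141115110155514014)
.nil)))))))))))))
theorem n22_ok : Net.ok 100 n22 = true := by decide +kernel
noncomputable def nets : List Net := [H14.HSc.n0, H14.HSc.n1, n2, n3, n4, n5, n6, n7, n8, n9, n10, n11, n12, n13, n14, n15, n16, n17, n18, n19, n20, n21, n22]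
theorem nets_ok : netsOk 100 nets = true := List.all_eq_true.2 (fa_cons H14.HSc.n0_ok (fa_cons H14.HSc.n1_ok (fa_cons n2_ok (fa_cons n3_ok (fa_cons n4_ok (fa_cons n5_ok (fa_cons n6_ok (fa_cons n7_ok (fa_cons n8_ok (fa_cons n9_ok (fa_cons n10_ok (fa_cons n11_ok (fa_cons n12_ok (fa_cons n13_ok (fa_cons n14_ok (fa_cons n15_ok (fa_cons n16_ok (fa_cons n17_ok (fa_cons n18_ok (fa_cons n19_ok (fa_cons n20_ok (fa_cons n21_ok (fa_cons n22_ok (fa_nil))))))))))))))))))))))))
noncomputable def F : Nat → Nat → Nat := ptF (nat_lit 64) (nat_lit 7) nets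
instance instF : PtF 100 nets F := ptF_ok nets_ok (by decide +kernel)
noncomputable def defs : List Word := [dw (nat_lit 0x01030203020402020202040202040101030104), dw (nat_lit 0x030104040104020401040101010104040202020401040402), dw (nat_lit 0x0303030101030204010101010104020302030202020402), dw (nat_lit 0x0a0608050a0505070a0a0606), dw (nat_lit 0x0c05070b07), dw (nat_lit 0x0d080e), dw (nat_lit 0x070d070e080e070d), dw (nat_lit 0x0f12120f0f120f1210101210)
, dw (nat_lit 0x1010120f110f0f120f1210), dw (nat_lit 0x10101012), dw (nat_lit 0x1415), dw (nat_lit 0x18141813171713151416), dw (nat_lit 0x1313151816161713131517), dw (nat_lit 0x161614), dw (nat_lit 0x060607090509), dw (nat_lit 0x22220808212108220822)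
, dw (nat_lit 0x212107222208082107210722), dw (nat_lit 0x2525082507260725), dw (nat_lit 0x0808270828), dw (nat_lit 0x2729), dw (nat_lit 0x0a0a)]
noncomputable def npi : Net := (.cons (nat_lit 1) (nat_lit 0x4551441011050155040000400)
(.cons (nat_lit 2) (nat_lit 0x3133123032101300023032000)
(.cons (nat_lit 4) (nat_lit 0xb00080202030903070d0009)
(.cons (nat_lit 8) (nat_lit 0xdb003b004e00dc00410008)
(.cons (nat_lit 16) (nat_lit 0xb08300004ed400000008)
(.cons (nat_lit 32) (nat_lit 0x60000000004285060)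
(.cons (nat_lit 64) (nat_lit 0x9d4a97667)
(.cons (nat_lit 32) (nat_lit 0x100000000f83467a1)
(.cons (nat_lit 16) (nat_lit 0x409d0000b7ad00007196)
(.cons (nat_lit 8) (nat_lit 0x9d00cc00d6001a00010074)
(.cons (nat_lit 4) (nat_lit 0x601050e0207080903050b08)
(.cons (nat_lit 2) (nat_lit 0x3113232320112302133031301)
(.cons (nat_lit 1) (nat_lit 0x5501050001115050100045051)
.nil)))))))))))))
theorem npi_ok : Net.ok 100 npi = true := by decide +kernel
theorem nets_ok' : netsOk 100 (nets ++ [npi]) = true :=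
  List.all_append.trans (by rw [show nets.all _ = true from nets_ok, List.all_cons, npi_ok]; rfl)
noncomputable def wa : Word := [nat_lit 4]
noncomputable def wu : Word := [nat_lit 6]
noncomputable def wb : Word := [nat_lit 8]
noncomputable def cha5 : Lv := .cons (nat_lit 99) [dw (nat_lit 0x19), dw (nat_lit 0x1b), dw (nat_lit 0x1d), dw (nat_lit 0x1f)] [dw (nat_lit 0x01), dw (nat_lit 0x03), dw (nat_lit 0x05), dw (nat_lit 0x07)] .nil
noncomputable def cha4 : Lv := .cons (nat_lit 51) [dw (nat_lit 0x13), dw (nat_lit 0x15), dw (nat_lit 0x17)] [dw (nat_lit 0x01), dw (nat_lit 0x01)] cha5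
noncomputable def cha3 : Lv := .cons (nat_lit 6) [dw (nat_lit 0x0f), dw (nat_lit 0x11)] [dw (nat_lit 0x01), dw (nat_lit 0x03), dw (nat_lit 0x01), dw (nat_lit 0x05), dw (nat_lit 0x11), dw (nat_lit 0x01)] cha4
noncomputable def cha2 : Lv := .cons (nat_lit 93) [dw (nat_lit 0x07), dw (nat_lit 0x0d)] [dw (nat_lit 0x01), dw (nat_lit 0x03), dw (nat_lit 0x01), dw (nat_lit 0x07), dw (nat_lit 0x0b), dw (nat_lit 0x01)] cha3
noncomputable def cha1 : Lv := .cons (nat_lit 0) [dw (nat_lit 0x05), dw (nat_lit 0x0b)] [dw (nat_lit 0x01), dw (nat_lit 0x03), dw (nat_lit 0x01), dw (nat_lit 0x05), dw (nat_lit 0x07), dw (nat_lit 0x0b), dw (nat_lit 0x01)] cha2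
noncomputable def cha0 : Lv := .cons (nat_lit 21) [dw (nat_lit 0x09)] [dw (nat_lit 0x01), dw (nat_lit 0x0101), dw (nat_lit 0x03), dw (nat_lit 0x05), dw (nat_lit 0x03), dw (nat_lit 0x01), dw (nat_lit 0x0d), dw (nat_lit 0x03)
, dw (nat_lit 0x09), dw (nat_lit 0x0f)] cha1
noncomputable def csa : List Word := [dw (nat_lit 0x05)]
noncomputable def dda0 : List (Word × CT) := []
noncomputable def Ta0 : List Word := [[]]
noncomputable def cwa0 : List Word := []
noncomputable def sca0 : List Word := []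
noncomputable def dda1_0 : List (Word × CT) := [(dw (nat_lit 0x0b), (.step (nat_lit 0) (nat_lit 1) (dw (nat_lit 0x0d)) (.step (nat_lit 93) (nat_lit 1) [] (.dead (nat_lit 6) (nat_lit 2)))))]
noncomputable def dda1 : List (Word × CT) := dda1_0
noncomputable def Ta1 : List Word := [[], dw (nat_lit 0x01), dw (nat_lit 0x0101), dw (nat_lit 0x010101), dw (nat_lit 0x01010101), dw (nat_lit 0x0101010101), dw (nat_lit 0x010101010101), dw (nat_lit 0x01010101010101)
, dw (nat_lit 0x0101010101010101), dw (nat_lit 0x010101010101010101), dw (nat_lit 0x01010101010101010101)]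
noncomputable def cwa1 : List Word := [dw (nat_lit 0x01)]
noncomputable def sca1 : List Word := [dw (nat_lit 0x01), dw (nat_lit 0x0101), dw (nat_lit 0x02020202), dw (nat_lit 0x020202)]
noncomputable def Ea1 : List Word := mulL [[]] (List.map (flat csa) Ta1)
noncomputable def Ea0 : List Word := mulL Ea1 (List.map (flat csa) Ta0)
noncomputable def chu6 : Lv := .cons (nat_lit 92) [dw (nat_lit 0x2b)] [dw (nat_lit 0x01), dw (nat_lit 0x01)] .nil
noncomputable def chu5 : Lv := .cons (nat_lit 18) [dw (nat_lit 0x27), dw (nat_lit 0x29)] [dw (nat_lit 0x01), dw (nat_lit 0x03)] chu6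
noncomputable def chu4 : Lv := .cons (nat_lit 5) [dw (nat_lit 0x07)] [dw (nat_lit 0x01), dw (nat_lit 0x0101), dw (nat_lit 0x01)] chu5
noncomputable def chu3 : Lv := .cons (nat_lit 27) [dw (nat_lit 0x25)] [dw (nat_lit 0x01), dw (nat_lit 0x0101), dw (nat_lit 0x03)] chu4
noncomputable def chu2 : Lv := .cons (nat_lit 47) [dw (nat_lit 0x23)] [dw (nat_lit 0x01), dw (nat_lit 0x0501), dw (nat_lit 0x03), dw (nat_lit 0x01), dw (nat_lit 0x03), dw (nat_lit 0x03)] chu3
noncomputable def chu1 : Lv := .cons (nat_lit 19) [dw (nat_lit 0x21)] [dw (nat_lit 0x01), dw (nat_lit 0x0401), dw (nat_lit 0x01), dw (nat_lit 0x05), dw (nat_lit 0x0b), dw (nat_lit 0x03), dw (nat_lit 0x01), dw (nat_lit 0x05)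
, dw (nat_lit 0x01)] chu2
noncomputable def chu0 : Lv := .cons (nat_lit 0) [dw (nat_lit 0x05), dw (nat_lit 0x09)] [dw (nat_lit 0x01), dw (nat_lit 0x03), dw (nat_lit 0x01), dw (nat_lit 0x05), dw (nat_lit 0x09), dw (nat_lit 0x03), dw (nat_lit 0x01), dw (nat_lit 0x05)
, dw (nat_lit 0x03), dw (nat_lit 0x01)] chu1
noncomputable def csu : List Word := [dw (nat_lit 0x07), dw (nat_lit 0x2d)]
noncomputable def ddu0 : List (Word × CT) := []
noncomputable def Tu0 : List Word := [[], dw (nat_lit 0x03), dw (nat_lit 0x04), dw (nat_lit 0x0303), dw (nat_lit 0x0404)]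
noncomputable def cwu0 : List Word := []
noncomputable def scu0 : List Word := []
noncomputable def ddu1_0 : List (Word × CT) := [(dw (nat_lit 0x22222322), (.alt (dw (nat_lit 0x23)) (.alt [] (.alt [] (.step (nat_lit 5) (nat_lit 1) (dw (nat_lit 0x28)) (.step (nat_lit 18) (nat_lit 1) [] (.bad (nat_lit 1)))) (.alt (dw (nat_lit 0x07)) (.step (nat_lit 5) (nat_lit 1) (dw (nat_lit 0x28)) (.step (nat_lit 18) (nat_lit 1) [] (.bad (nat_lit 1)))) (.alt (dw (nat_lit 0x08)) (.step (nat_lit 5) (nat_lit 1) (dw (nat_lit 0x28)) (.step (nat_lit 18) (nat_lit 1) [] (.bad (nat_lit 1)))) (.alt (dw (nat_lit 0x2807)) (.step (nat_lit 5) (nat_lit 1) [] (.step (nat_lit 18) (nat_lit 1) (dw (nat_lit 0x2c)) (.bad (nat_lit 1)))) (.alt (dw (nat_lit 0x2b08)) (.step (nat_lit 5) (nat_lit 1) [] (.step (nat_lit 18) (nat_lit 1) (dw (nat_lit 0x2b)) (.bad (nat_lit 1)))) (.nil (nat_lit 0))))))) (.nil (nat_lit 1))) (.nil (nat_lit 1))))]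
noncomputable def ddu1 : List (Word × CT) := ddu1_0
noncomputable def Tu1 : List Word := [[]]
noncomputable def cwu1 : List Word := [dw (nat_lit 0x01)]
noncomputable def scu1 : List Word := []
noncomputable def ddu2 : List (Word × CT) := []
noncomputable def Tu2 : List Word := [[]]
noncomputable def cwu2 : List Word := []
noncomputable def scu2 : List Word := []
noncomputable def ddu3 : List (Word × CT) := []
noncomputable def Tu3 : List Word := [[]]
noncomputable def cwu3 : List Word := []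
noncomputable def scu3 : List Word := []
noncomputable def ddu4 : List (Word × CT) := []
noncomputable def Tu4 : List Word := [[], dw (nat_lit 0x01), dw (nat_lit 0x02), dw (nat_lit 0x0101), dw (nat_lit 0x0202)]
noncomputable def cwu4 : List Word := []
noncomputable def scu4 : List Word := []
noncomputable def Eu4 : List Word := mulL [[]] (List.map (flat csu) Tu4)
noncomputable def Eu3 : List Word := mulL Eu4 (List.map (flat csu) Tu3)
noncomputable def Eu2 : List Word := mulL Eu3 (List.map (flat csu) Tu2)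
noncomputable def Eu1 : List Word := mulL Eu2 (List.map (flat csu) Tu1)
noncomputable def Eu0 : List Word := mulL Eu1 (List.map (flat csu) Tu0)
noncomputable def Rs : List (Word × Nat) := [(dw (nat_lit 0x050301050301050301050301), nat_lit 18)]
noncomputable def ks : List Nat := [nat_lit 1, nat_lit 2]
noncomputable def wc : Word := dw (nat_lit 0x2d07)
theorem chca : band (Nat.ble 1 44352000) (Nat.ble 44352000 (cha0.val 100 nets)) = true := by decide +kernel
theorem cca_0 : relsPt F (bas cha0) (commRels wa csa) = true := by decide +kernel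
theorem lka0 : lvlChk 100 nets F wa cha0 [] (List.map (flat csa) Ta0) (List.map (flat csa) cwa0) sca0 dda0 1 = true := by decide +kernel
theorem dka1_0 : deadChk 100 nets F wa cha1 [nat_lit 21] dda1_0 = true := by decide +kernel
theorem lka1 : lvlChk 100 nets F wa cha1 [nat_lit 21] (List.map (flat csa) Ta1) (List.map (flat csa) cwa1) sca1 dda1 0 = true := by decide +kernel
theorem dta2 : detChk F wa cha2 [nat_lit 0, nat_lit 21] 0 1 = true := by decide +kernel
theorem dta3 : detChk F wa cha3 [nat_lit 93, nat_lit 0, nat_lit 21] 93 1 = true := by decide +kernel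
theorem dta4 : detChk F wa cha4 [nat_lit 6, nat_lit 93, nat_lit 0, nat_lit 21] 6 2 = true := by decide +kernel
theorem dta5 : detChk F wa cha5 [nat_lit 51, nat_lit 6, nat_lit 93, nat_lit 0, nat_lit 21] 6 1 = true := by decide +kernel
theorem chcu : band (Nat.ble 1 44352000) (Nat.ble 44352000 (chu0.val 100 nets)) = true := by decide +kernel
theorem ccu_0 : relsPt F (bas cha0) (commRels (powW wu 1) csu) = true := by decide +kernel
theorem lku0 : lvlChk 100 nets F (powW wu 1) chu0 [] (List.map (flat csu) Tu0) (List.map (flat csu) cwu0) scu0 ddu0 1 = true := by decide +kernel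
theorem dku1_0 : deadChk 100 nets F (powW wu 1) chu1 [nat_lit 0] ddu1_0 = true := by decide +kernel
theorem lku1 : lvlChk 100 nets F (powW wu 1) chu1 [nat_lit 0] (List.map (flat csu) Tu1) (List.map (flat csu) cwu1) scu1 ddu1 1 = true := by decide +kernel
theorem lku2 : lvlChk 100 nets F (powW wu 1) chu2 [nat_lit 19, nat_lit 0] (List.map (flat csu) Tu2) (List.map (flat csu) cwu2) scu2 ddu2 1 = true := by decide +kernel
theorem lku3 : lvlChk 100 nets F (powW wu 1) chu3 [nat_lit 47, nat_lit 19, nat_lit 0] (List.map (flat csu) Tu3) (List.map (flat csu) cwu3) scu3 ddu3 1 = true := by decide +kernel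
theorem lku4 : lvlChk 100 nets F (powW wu 1) chu4 [nat_lit 27, nat_lit 47, nat_lit 19, nat_lit 0] (List.map (flat csu) Tu4) (List.map (flat csu) cwu4) scu4 ddu4 0 = true := by decide +kernel
theorem dtu5 : detChk F (powW wu 1) chu5 [nat_lit 5, nat_lit 27, nat_lit 47, nat_lit 19, nat_lit 0] 5 1 = true := by decide +kernel
theorem dtu6 : detChk F (powW wu 1) chu6 [nat_lit 18, nat_lit 5, nat_lit 27, nat_lit 47, nat_lit 19, nat_lit 0] 18 1 = true := by decide +kernel
theorem nf_0 : relsPt F (bas cha0) (nfRels wa wu wb 11 3 1 4 Rs) = true := by decide +kernel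
theorem lf_0 : allL (lfChk 100 F wa wu wb ks Rs [((1 : ℕ), ([] : Word)), (2, wc)]) Eu0 = true := by decide +kernel
theorem ari : ariChk 44352000 11 3 5 ks = true := by decide +kernel
theorem mva : band (Nat.ble (Nat.succ 0) 100) (bnot (Nat.beq (apW F wa 0) 0)) = true := by decide +kernel
theorem pwa : pwChk wa 11 Ea0 = true := by decide +kernel
theorem dc : relsChk 100 nets 7 (idArr 100 7 7 0) (defRels defs 2) = true := by decide +kernel
theorem pic : relsChk 100 (nets ++ [npi]) 7 (idArr 100 7 7 0) (piRels 46 [wa, wu, wb] [powW wa 2, wu, wc ++ wb]) = true := by decide +kernel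
theorem ni_0 : allL (niChk 100 F wa wb 2 wc [nat_lit 5]) Eu0 = true := by decide +kernel
section
variable {G : Type u} {Ω : Type*} [Group G] [MulAction G Ω] [FaithfulSMul G Ω] (M : PM G Ω 100 nets)

theorem Rdefs : Rels M.gen (defRels defs 2) := (M.rels_of_idArr (by decide) dc)
variable (hN : Nat.card G = 44352000)
include hN
theorem RCa : Rels M.gen (commRels wa csa) := (rels_of_pt hN chca cca_0)
theorem cpa6 : CP M wa .nil [nat_lit 99, nat_lit 51, nat_lit 6, nat_lit 93, nat_lit 0, nat_lit 21] [[]] := cp_nil _ _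
theorem cpa5 : CP M wa cha5 [nat_lit 51, nat_lit 6, nat_lit 93, nat_lit 0, nat_lit 21] [[]] := cp_det _ _ dta5 (cpa6 M hN)
theorem cpa4 : CP M wa cha4 [nat_lit 6, nat_lit 93, nat_lit 0, nat_lit 21] [[]] := cp_det _ _ dta4 (cpa5 M hN)
theorem cpa3 : CP M wa cha3 [nat_lit 93, nat_lit 0, nat_lit 21] [[]] := cp_det _ _ dta3 (cpa4 M hN)
theorem cpa2 : CP M wa cha2 [nat_lit 0, nat_lit 21] [[]] := cp_det _ _ dta2 (cpa3 M hN)
theorem cpa1 : CP M wa cha1 [nat_lit 21] Ea1 := cp_lvl (RCa M hN) lka1 dka1_0 (cpa2 M hN)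
theorem cpa0 : CP M wa cha0 [] Ea0 := cp_lvl (RCa M hN) lka0 rfl (cpa1 M hN)
theorem cena (g : G) (hg : g * ev M.gen wa = ev M.gen wa * g) : ∃ t ∈ Ea0, g = ev M.gen t := cp_top (cpa0 M hN) hN chca g hg
theorem RCu : Rels M.gen (commRels (powW wu 1) csu) := (rels_of_pt hN chca ccu_0)
theorem cpu7 : CP M (powW wu 1) .nil [nat_lit 92, nat_lit 18, nat_lit 5, nat_lit 27, nat_lit 47, nat_lit 19, nat_lit 0] [[]] := cp_nil _ _
theorem cpu6 : CP M (powW wu 1) chu6 [nat_lit 18, nat_lit 5, nat_lit 27, nat_lit 47, nat_lit 19, nat_lit 0] [[]] := cp_det _ _ dtu6 (cpu7 M hN)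
theorem cpu5 : CP M (powW wu 1) chu5 [nat_lit 5, nat_lit 27, nat_lit 47, nat_lit 19, nat_lit 0] [[]] := cp_det _ _ dtu5 (cpu6 M hN)
theorem cpu4 : CP M (powW wu 1) chu4 [nat_lit 27, nat_lit 47, nat_lit 19, nat_lit 0] Eu4 := cp_lvl (RCu M hN) lku4 rfl (cpu5 M hN)
theorem cpu3 : CP M (powW wu 1) chu3 [nat_lit 47, nat_lit 19, nat_lit 0] Eu3 := cp_lvl (RCu M hN) lku3 rfl (cpu4 M hN)
theorem cpu2 : CP M (powW wu 1) chu2 [nat_lit 19, nat_lit 0] Eu2 := cp_lvl (RCu M hN) lku2 rfl (cpu3 M hN)
theorem cpu1 : CP M (powW wu 1) chu1 [nat_lit 0] Eu1 := cp_lvl (RCu M hN) lku1 dku1_0 (cpu2 M hN)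
theorem cpu0 : CP M (powW wu 1) chu0 [] Eu0 := cp_lvl (RCu M hN) lku0 rfl (cpu1 M hN)
theorem cenu (g : G) (hg : g * ev M.gen (powW wu 1) = ev M.gen (powW wu 1) * g) : ∃ t ∈ Eu0, g = ev M.gen t := cp_top (cpu0 M hN) hN chcu g hg
theorem top : sub M.gen [wa, wu, wb] = ⊤ := top_of_defs (lo := 2) (j := 3) hN chca (Rdefs M) (by decide +kernel)
theorem upper (α : MulAut G) : ∃ g : G, ∃ q ∈ [((1 : ℕ), ([] : Word)), (2, wc)],
    Maps M.gen (MulAut.conj g * α) [wa, wu, wb] [powW wa q.1, wu, q.2 ++ wb] :=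
  out_upper hN (by decide +kernel) (by norm_num) ari (rels_of_pt hN chca nf_0) mva (cena M hN) pwa (cenu M hN) lf_0 α
theorem outer : ∃ ν, Maps M.gen ν [wa, wu, wb] [powW wa 2, wu, wc ++ wb] :=
  haveI := fin_of_card hN (by decide +kernel)
  aut_of_perm (permPM 100 _ (by decide) (by decide) nets_ok') (by decide +kernel)
    ((permPM 100 _ (by decide) (by decide) nets_ok').rels_of_idArr (by decide) pic) rfl (top M hN)
include M in
theorem out : Nat.card (Out G) = 2 := out_two (top M hN) (upper M hN) (outer M hN) (cenu M hN) ni_0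
end

section
variable {G : Type u} {Ω : Type*} [Group G] [MulAction G Ω]

noncomputable def mach (E : Enc Ω 100) (hr : ∀ l < 2, ∃ g : G, E.Real (getL Net.nil nets l) g) : PM G Ω 100 nets :=
  PM.ofReal G E (by decide) nets_ok (real_of_slp E (by decide) (by decide) nets_ok hr (ds := defs) (by decide +kernel) (by decide +kernel)
    (Rdefs (permPM 100 nets (by decide) (by decide) nets_ok)))
theorem out' [FaithfulSMul G Ω] (E : Enc Ω 100) (hr : ∀ l < 2, ∃ g : G, E.Real (getL Net.nil nets l) g) (hN : Nat.card G = 44352000) : Nat.card (Out G) = 2 := out (mach E hr) hN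
end

end L.OHS
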