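import Cfsg.Agent.L.Top
import Cfsg.Agent.L.Out2
import Cfsg.Agent.H15.StdJ2

/-! Generated certificate (toolsL) for the group OJ2 of degree 100 and order 604800. -/
set_option Elab.async false
set_option autoImplicit false
set_option maxRecDepth 100000
set_option maxHeartbeats 0
set_option linter.unusedSectionVars false

namespace L.OJ2
open H14 Cfsg

universe u

noncomputable def n2 : Net := (.cons (nat_lit 1) (nat_lit 0x454001541145551455045004)
(.cons (nat_lit 2) (nat_lit 0x12003202221020010121210)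
(.cons (nat_lit 4) (nat_lit 0x90a0605080a02050104080c)
(.cons (nat_lit 8) (nat_lit 0xbb0038008e00c500010008)
(.cons (nat_lit 16) (nat_lit 0x21fb0000402200000000)
(.cons (nat_lit 32) (nat_lit 0xa590c260)
(.cons (nat_lit 64) (nat_lit 0x6edbfd778)
(.cons (nat_lit 32) (nat_lit 0xc00000000445b2520)
(.cons (nat_lit 16) (nat_lit 0xfa1b0000ddfe000056b0)
(.cons (nat_lit 8) (nat_lit 0xab00d2009d004d00f40055)
(.cons (nat_lit 4) (nat_lit 0xb0e08020d06090b0c01050a)
(.cons (nat_lit 2) (nat_lit 0x2030110333210033031101132)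
(.cons (nat_lit 1) (nat_lit 0x4405105105111404104441500)
.nil)))))))))))))
theorem n2_ok : Net.ok 100 n2 = true := by decide +kernel
noncomputable def n3 : Net := (.cons (nat_lit 1) (nat_lit 0x104055115154014050141440)
(.cons (nat_lit 2) (nat_lit 0x3120232101022233121122210)
(.cons (nat_lit 4) (nat_lit 0x60a040a010a09040c060101)
(.cons (nat_lit 8) (nat_lit 0xef00c50093008000150000)
(.cons (nat_lit 16) (nat_lit 0x63a30000d22900000003)
(.cons (nat_lit 32) (nat_lit 0x4000000000125c090)
(.cons (nat_lit 64) (nat_lit 0xc6377d090)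
(.cons (nat_lit 32) (nat_lit 0x300000000567320a3)
(.cons (nat_lit 16) (nat_lit 0x576e0000dd7100002cb9)
(.cons (nat_lit 8) (nat_lit 0x9600fb0000000d009e009d)
(.cons (nat_lit 4) (nat_lit 0xd030c0f09020a0706010c00)
(.cons (nat_lit 2) (nat_lit 0x1310320313331313003031023)
(.cons (nat_lit 1) (nat_lit 0x5055400441514450445111545)
.nil)))))))))))))
theorem n3_ok : Net.ok 100 n3 = true := by decide +kernel
noncomputable def n4 : Net := (.cons (nat_lit 1) (nat_lit 0x5501011404040541151001410)
(.cons (nat_lit 2) (nat_lit 0x2103233122213202033312030)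
(.cons (nat_lit 4) (nat_lit 0x90802050402010308050300)
(.cons (nat_lit 8) (nat_lit 0x28009c0082002000490000)
(.cons (nat_lit 16) (nat_lit 0x910c0000c20f00000000)
(.cons (nat_lit 32) (nat_lit 0xe00000000ef420420)
(.cons (nat_lit 64) (nat_lit 0xfffdfef30)
(.cons (nat_lit 32) (nat_lit 0xd00000000cfb91858)
(.cons (nat_lit 16) (nat_lit 0x52080000f10700001028)
(.cons (nat_lit 8) (nat_lit 0x2c007c0055001000a60020)
(.cons (nat_lit 4) (nat_lit 0x604030e08010b0f040a030c)
(.cons (nat_lit 2) (nat_lit 0x1203133211123101033321030)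
(.cons (nat_lit 1) (nat_lit 0x54544151515014404554145)
.nil)))))))))))))
theorem n4_ok : Net.ok 100 n4 = true := by decide +kernel
noncomputable def n5 : Net := (.cons (nat_lit 1) (nat_lit 0x5444005045404500450114504)
(.cons (nat_lit 2) (nat_lit 0x1230212331022221110302300)
(.cons (nat_lit 4) (nat_lit 0x2040a080e0c0f05060d0808)
(.cons (nat_lit 8) (nat_lit 0x7e0090008a0042004a0000)
(.cons (nat_lit 16) (nat_lit 0xd9670000241c00000004)
(.cons (nat_lit 32) (nat_lit 0xe00000000e1891490)
(.cons (nat_lit 64) (nat_lit 0xaffcdf6f4)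
(.cons (nat_lit 32) (nat_lit 0x600000000601b92f7)
(.cons (nat_lit 16) (nat_lit 0x3ac40000fb3c0000182c)
(.cons (nat_lit 8) (nat_lit 0xd60090009c00ff00850038)
(.cons (nat_lit 4) (nat_lit 0xa080f0a0d0a05060002030b)
(.cons (nat_lit 2) (nat_lit 0x1213232331022322003031000)
(.cons (nat_lit 1) (nat_lit 0x5445114444455100511054500)
.nil)))))))))))))
theorem n5_ok : Net.ok 100 n5 = true := by decide +kernel
noncomputable def n6 : Net := (.cons (nat_lit 1) (nat_lit 0x4400005440144555515100000)
(.cons (nat_lit 2) (nat_lit 0x1011031210100220033211100)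
(.cons (nat_lit 4) (nat_lit 0x6050801070903040b0702)
(.cons (nat_lit 8) (nat_lit 0xf3005f004c0089008a0000)
(.cons (nat_lit 16) (nat_lit 0xc1d50000540400000003)
(.cons (nat_lit 32) (nat_lit 0x800000000836830e0)
(.cons (nat_lit 64) (nat_lit 0x8bbfcffe3)
(.cons (nat_lit 32) (nat_lit 0x30000000025e4c221)
(.cons (nat_lit 16) (nat_lit 0x91450000d4e80000292e)
(.cons (nat_lit 8) (nat_lit 0x1000e900e100b300d20035)
(.cons (nat_lit 4) (nat_lit 0xa010a0c0b030504070c090e)
(.cons (nat_lit 2) (nat_lit 0x3101112330000220332231102)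
(.cons (nat_lit 1) (nat_lit 0x4141500154540541154504405)
.nil)))))))))))))
theorem n6_ok : Net.ok 100 n6 = true := by decide +kernel
noncomputable def n7 : Net := (.cons (nat_lit 1) (nat_lit 0x451050510515515455044004)
(.cons (nat_lit 2) (nat_lit 0x2313121130202201122010110)
(.cons (nat_lit 4) (nat_lit 0xd0e0604060d020d0c030b08)
(.cons (nat_lit 8) (nat_lit 0x210083004900db00aa0004)
(.cons (nat_lit 16) (nat_lit 0xc8000001150000000c)
(.cons (nat_lit 32) (nat_lit 0xc0000000080892850)
(.cons (nat_lit 64) (nat_lit 0xe1c9287f)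
(.cons (nat_lit 32) (nat_lit 0xeb889846)
(.cons (nat_lit 16) (nat_lit 0xd1380000d6eb0000f517)
(.cons (nat_lit 8) (nat_lit 0xa300ca00b000ba001400f7)
(.cons (nat_lit 4) (nat_lit 0x4050d010c070d0f06030b06)
(.cons (nat_lit 2) (nat_lit 0x2323002333211111110020312)
(.cons (nat_lit 1) (nat_lit 0x451454011515114041454015)
.nil)))))))))))))
theorem n7_ok : Net.ok 100 n7 = true := by decide +kernel
noncomputable def n8 : Net := (.cons (nat_lit 1) (nat_lit 0x1450101041051550010415144)
(.cons (nat_lit 2) (nat_lit 0x1113232021302301332002310)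
(.cons (nat_lit 4) (nat_lit 0x109070f02070c0704080000)
(.cons (nat_lit 8) (nat_lit 0x5400b00011005800140004)
(.cons (nat_lit 16) (nat_lit 0x311f0000005400000004)
(.cons (nat_lit 32) (nat_lit 0x512602c0)
(.cons (nat_lit 64) (nat_lit 0x713602c0)
(.cons (nat_lit 32) (nat_lit 0xd0000000058766ac4)
(.cons (nat_lit 16) (nat_lit 0x253d000000510000d44f)
(.cons (nat_lit 8) (nat_lit 0xfd00770096009f00120097)
(.cons (nat_lit 4) (nat_lit 0xb070d0502070d0201070400)
(.cons (nat_lit 2) (nat_lit 0x1120012311113102132223203)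
(.cons (nat_lit 1) (nat_lit 0x5455150144051541010555540)
.nil)))))))))))))
theorem n8_ok : Net.ok 100 n8 = true := by decide +kernel
noncomputable def n9 : Net := (.cons (nat_lit 1) (nat_lit 0x4540545000000140104040400)
(.cons (nat_lit 2) (nat_lit 0x2130000022300300010010300)
(.cons (nat_lit 4) (nat_lit 0x20c0e090a00010401050800)
(.cons (nat_lit 8) (nat_lit 0x6000b1003b003c00040000)
(.cons (nat_lit 16) (nat_lit 0x340000004e300000008)
(.cons (nat_lit 32) (nat_lit 0x90000000001f88810)
(.cons (nat_lit 64) (nat_lit 0x393f99c98)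
(.cons (nat_lit 32) (nat_lit 0x9000000000dd909d0)
(.cons (nat_lit 16) (nat_lit 0x52640000e46e0000111f)
(.cons (nat_lit 8) (nat_lit 0x61003000ba003500050089)
(.cons (nat_lit 4) (nat_lit 0x60406090200090c01050a00)
(.cons (nat_lit 2) (nat_lit 0x2130000022300300010010300)
(.cons (nat_lit 1) (nat_lit 0x4500544000000540114140400)
.nil)))))))))))))
theorem n9_ok : Net.ok 100 n9 = true := by decide +kernel
noncomputable def n10 : Net := (.cons (nat_lit 1) (nat_lit 0x5440044115040041005450440)
(.cons (nat_lit 2) (nat_lit 0x220221222123020212230200)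
(.cons (nat_lit 4) (nat_lit 0x8000a08040a01030b000408)
(.cons (nat_lit 8) (nat_lit 0x80001a000700d100a90000)
(.cons (nat_lit 16) (nat_lit 0x3922000041a100000001)
(.cons (nat_lit 32) (nat_lit 0x38900020)
(.cons (nat_lit 64) (nat_lit 0x9b99284a9)
(.cons (nat_lit 32) (nat_lit 0xd000000007a359129)
(.cons (nat_lit 16) (nat_lit 0x1982000009af0000a811)
(.cons (nat_lit 8) (nat_lit 0x2300b2002f0059006d00c2)
(.cons (nat_lit 4) (nat_lit 0x8000a08000a01070f040408)
(.cons (nat_lit 2) (nat_lit 0x220231222123030212230200)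
(.cons (nat_lit 1) (nat_lit 0x5440044115041041005450440)
.nil)))))))))))))
theorem n10_ok : Net.ok 100 n10 = true := by decide +kernel
noncomputable def n11 : Net := (.cons (nat_lit 1) (nat_lit 0x1445001505050111051500010)
(.cons (nat_lit 2) (nat_lit 0x100220000000023322003020)
(.cons (nat_lit 4) (nat_lit 0xc040b0000050a08000f0300)
(.cons (nat_lit 8) (nat_lit 0x8e00aa0014003000090009)
(.cons (nat_lit 16) (nat_lit 0x720a0000220800000004)
(.cons (nat_lit 32) (nat_lit 0x30000000002384030)
(.cons (nat_lit 64) (nat_lit 0x632ba52b1)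
(.cons (nat_lit 32) (nat_lit 0xb00000000262c5810)
(.cons (nat_lit 16) (nat_lit 0x6c9800002218000037aa)
(.cons (nat_lit 8) (nat_lit 0x9d008900910083003f006f)
(.cons (nat_lit 4) (nat_lit 0xc040b0400050a08000f0300)
(.cons (nat_lit 2) (nat_lit 0x100220000200023322003020)
(.cons (nat_lit 1) (nat_lit 0x1445001505054111051500010)
.nil)))))))))))))
theorem n11_ok : Net.ok 100 n11 = true := by decide +kernel
noncomputable def n12 : Net := (.cons (nat_lit 1) (nat_lit 0x4141101151040050054501050)
(.cons (nat_lit 2) (nat_lit 0x320201330013212023030100)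
(.cons (nat_lit 4) (nat_lit 0x10c07050b0004040e0c0208)
(.cons (nat_lit 8) (nat_lit 0x7400310029009600a8000a)
(.cons (nat_lit 16) (nat_lit 0x58a20000d9a000000000)
(.cons (nat_lit 32) (nat_lit 0x30000000035cc4030)
(.cons (nat_lit 64) (nat_lit 0x8b7cf7afb)
(.cons (nat_lit 32) (nat_lit 0x20000000082db3a1d)
(.cons (nat_lit 16) (nat_lit 0xa830000fb490000717c)
(.cons (nat_lit 8) (nat_lit 0xfd00bb004100b900370006)
(.cons (nat_lit 4) (nat_lit 0x301030c030c0607030d0602)
(.cons (nat_lit 2) (nat_lit 0x123012131003021322322210)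
(.cons (nat_lit 1) (nat_lit 0x4444140141010141055111055)
.nil)))))))))))))
theorem n12_ok : Net.ok 100 n12 = true := by decide +kernel
noncomputable def n13 : Net := (.cons (nat_lit 1) (nat_lit 0x5551011155011500140000450)
(.cons (nat_lit 2) (nat_lit 0x1123111203122331122313300)
(.cons (nat_lit 4) (nat_lit 0x20f070a02060c0300050508)
(.cons (nat_lit 8) (nat_lit 0x33008900230005000b0004)
(.cons (nat_lit 16) (nat_lit 0xd04c0000913b0000000a)
(.cons (nat_lit 32) (nat_lit 0x400000000283053c0)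
(.cons (nat_lit 64) (nat_lit 0xaf9f05bde)
(.cons (nat_lit 32) (nat_lit 0x8000000003bd7ca90)
(.cons (nat_lit 16) (nat_lit 0xfe880000347b00004f60)
(.cons (nat_lit 8) (nat_lit 0x870043009700e8003a0043)
(.cons (nat_lit 4) (nat_lit 0xd09070b070809030304010a)
(.cons (nat_lit 2) (nat_lit 0x3013101122032200312222010)
(.cons (nat_lit 1) (nat_lit 0x4140004041015445005500454)
.nil)))))))))))))
theorem n13_ok : Net.ok 100 n13 = true := by decide +kernel
noncomputable def n14 : Net := (.cons (nat_lit 1) (nat_lit 0x1555400111040540115051014)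
(.cons (nat_lit 2) (nat_lit 0x1321113033200322211001300)
(.cons (nat_lit 4) (nat_lit 0xb0f0c070707080e0a020702)
(.cons (nat_lit 8) (nat_lit 0xa300ef002000e100800002)
(.cons (nat_lit 16) (nat_lit 0x1c5000008e4400000002)
(.cons (nat_lit 32) (nat_lit 0x1000000000008b610)
(.cons (nat_lit 64) (nat_lit 0x36e5ab7b8)
(.cons (nat_lit 32) (nat_lit 0x70000000060ca1f37)
(.cons (nat_lit 16) (nat_lit 0xc6130000fed2000014d2)
(.cons (nat_lit 8) (nat_lit 0xaf0032008a001700e80013)
(.cons (nat_lit 4) (nat_lit 0x80e040403020b020602030e)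
(.cons (nat_lit 2) (nat_lit 0x32023031031300310123013)
(.cons (nat_lit 1) (nat_lit 0x151541440441504405151055)
.nil)))))))))))))
theorem n14_ok : Net.ok 100 n14 = true := by decide +kernel
noncomputable def n15 : Net := (.cons (nat_lit 1) (nat_lit 0x505150004500011001400010)
(.cons (nat_lit 2) (nat_lit 0x2102000302232000220010)
(.cons (nat_lit 4) (nat_lit 0x80d00040809080903080c00)
(.cons (nat_lit 8) (nat_lit 0x4b005f000e000300c40000)
(.cons (nat_lit 16) (nat_lit 0xf9eb00009d1000000000)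
(.cons (nat_lit 32) (nat_lit 0x206b8510)
(.cons (nat_lit 64) (nat_lit 0x647b9fd0)
(.cons (nat_lit 32) (nat_lit 0x8523f953)
(.cons (nat_lit 16) (nat_lit 0xf71f00009b500000dd3f)
(.cons (nat_lit 8) (nat_lit 0x5b0017003e004a00b500db)
(.cons (nat_lit 4) (nat_lit 0x805000d0809080903080c0a)
(.cons (nat_lit 2) (nat_lit 0x302222322212002000232)
(.cons (nat_lit 1) (nat_lit 0x505140005500011001500010)
.nil)))))))))))))
theorem n15_ok : Net.ok 100 n15 = true := by decide +kernel
noncomputable def n16 : Net := (.cons (nat_lit 1) (nat_lit 0x1015540440454514405540454)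
(.cons (nat_lit 2) (nat_lit 0x1000002213220220002301000)
(.cons (nat_lit 4) (nat_lit 0xa02030d05060f04090f0705)
(.cons (nat_lit 8) (nat_lit 0x4f009f00aa004a00e10004)
(.cons (nat_lit 16) (nat_lit 0xa9cc0000403100000004)
(.cons (nat_lit 32) (nat_lit 0xc0000000060101020)
(.cons (nat_lit 64) (nat_lit 0x9ec7f51b6)
(.cons (nat_lit 32) (nat_lit 0xd0000000042be91fa)
(.cons (nat_lit 16) (nat_lit 0x772d000089370000a69d)
(.cons (nat_lit 8) (nat_lit 0xcd0027000b003b00b800dd)
(.cons (nat_lit 4) (nat_lit 0xa0c010e0d0a0508000c0d0e)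
(.cons (nat_lit 2) (nat_lit 0x1201212323220200131333102)
(.cons (nat_lit 1) (nat_lit 0x1114144050440541451101045)
.nil)))))))))))))
theorem n16_ok : Net.ok 100 n16 = true := by decide +kernel
noncomputable def n17 : Net := (.cons (nat_lit 1) (nat_lit 0x5444005045404500450114504)
(.cons (nat_lit 2) (nat_lit 0x1230212331022221110302300)
(.cons (nat_lit 4) (nat_lit 0x2040a080e0c0f05060d0808)
(.cons (nat_lit 8) (nat_lit 0x7e0090008a0042004a0000)
(.cons (nat_lit 16) (nat_lit 0xd9670000241c00000004)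
(.cons (nat_lit 32) (nat_lit 0xe00000000e1891490)
(.cons (nat_lit 64) (nat_lit 0xaffcdf6f4)
(.cons (nat_lit 32) (nat_lit 0x600000000601b92f7)
(.cons (nat_lit 16) (nat_lit 0x3ac40000fb3c0000182c)
(.cons (nat_lit 8) (nat_lit 0xd60090009c00ff00850038)
(.cons (nat_lit 4) (nat_lit 0xa080f0a0d0a05060002030b)
(.cons (nat_lit 2) (nat_lit 0x1213232331022322003031000)
(.cons (nat_lit 1) (nat_lit 0x5445114444455100511054500)
.nil)))))))))))))
theorem n17_ok : Net.ok 100 n17 = true := by decide +kernel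
noncomputable def n18 : Net := (.cons (nat_lit 1) (nat_lit 0x15550410514040014400104)
(.cons (nat_lit 2) (nat_lit 0x321120330021230110101200)
(.cons (nat_lit 4) (nat_lit 0x3010b04040b0206010e0802)
(.cons (nat_lit 8) (nat_lit 0xe500a80034004200250002)
(.cons (nat_lit 16) (nat_lit 0x68b200001a0400000002)
(.cons (nat_lit 32) (nat_lit 0xa0000000037004500)
(.cons (nat_lit 64) (nat_lit 0xcbfa25516)
(.cons (nat_lit 32) (nat_lit 0xa0000000025467d40)
(.cons (nat_lit 16) (nat_lit 0x7b930000abc50000706b)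
(.cons (nat_lit 8) (nat_lit 0xe500ea00340060000500a2)
(.cons (nat_lit 4) (nat_lit 0x101090604090004030f0a02)
(.cons (nat_lit 2) (nat_lit 0x321120330021230110101300)
(.cons (nat_lit 1) (nat_lit 0x15550410514040014400104)
.nil)))))))))))))
theorem n18_ok : Net.ok 100 n18 = true := by decide +kernel
noncomputable def n19 : Net := (.cons (nat_lit 1) (nat_lit 0x514414114451501511000510)
(.cons (nat_lit 2) (nat_lit 0x1220103223300133200011000)
(.cons (nat_lit 4) (nat_lit 0x509060a080809030d030c03)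
(.cons (nat_lit 8) (nat_lit 0xaa00b400d100f0000b0000)
(.cons (nat_lit 16) (nat_lit 0x8b8400008cab00000000)
(.cons (nat_lit 32) (nat_lit 0xd000000006a861460)
(.cons (nat_lit 64) (nat_lit 0xd6b979560)
(.cons (nat_lit 32) (nat_lit 0xe00000000688b8b91)
(.cons (nat_lit 16) (nat_lit 0x64f300009cc20000fe76)
(.cons (nat_lit 8) (nat_lit 0x8800b90049009200a6008f)
(.cons (nat_lit 4) (nat_lit 0xb0b01090d0e050c080d050b)
(.cons (nat_lit 2) (nat_lit 0x2331101221201000132332111)
(.cons (nat_lit 1) (nat_lit 0x5150051015051044445051541)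
.nil)))))))))))))
theorem n19_ok : Net.ok 100 n19 = true := by decide +kernel
noncomputable def nets : List Net := [H15.StdJ2.n0, H15.StdJ2.n1, n2, n3, n4, n5, n6, n7, n8, n9, n10, n11, n12, n13, n14, n15, n16, n17, n18, n19]
theorem nets_ok : netsOk 100 nets = true := List.all_eq_true.2 (fa_cons H15.StdJ2.n0_ok (fa_cons H15.StdJ2.n1_ok (fa_cons n2_ok (fa_cons n3_ok (fa_cons n4_ok (fa_cons n5_ok (fa_cons n6_ok (fa_cons n7_ok (fa_cons n8_ok (fa_cons n9_ok (fa_cons n10_ok (fa_cons n11_ok (fa_cons n12_ok (fa_cons n13_ok (fa_cons n14_ok (fa_cons n15_ok (fa_cons n16_ok (fa_cons n17_ok (fa_cons n18_ok (fa_cons n19_ok (fa_nil)))))))))))))))))))))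
noncomputable def F : Nat → Nat → Nat := ptF (nat_lit 64) (nat_lit 7) nets
instance instF : PtF 100 nets F := ptF_ok nets_ok (by decide +kernel)
noncomputable def defs : List Word := [dw (nat_lit 0x0203010303010401030104010301030104020301040103010401040103020402030104010302), dw (nat_lit 0x010301030104010301030301040103010401030103010301), dw (nat_lit 0x02040103020402030104010302030104020302040103010402040103020402030104010302), dw (nat_lit 0x0a08080a), dw (nat_lit 0x0a060a060a060a05050809), dw (nat_lit 0x0e060b0e05050e0c0d0b), dw (nat_lit 0x0c0505), dw (nat_lit 0x06100b0f0f05)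
, dw (nat_lit 0x121411), dw (nat_lit 0x1411131214), dw (nat_lit 0x0a080609070a060a), dw (nat_lit 0x05050a0509060905), dw (nat_lit 0x1c191b191b1b1b1a1b1a1c), dw (nat_lit 0x1d1d1a1e191e191d1d), dw (nat_lit 0x19191d19), dw (nat_lit 0x22221f21)
, dw (nat_lit 0x231f24), dw (nat_lit 0x0925)]
noncomputable def npi : Net := (.cons (nat_lit 1) (nat_lit 0x4444411005554111145504100)
(.cons (nat_lit 2) (nat_lit 0x2012020332020001030301010)
(.cons (nat_lit 4) (nat_lit 0xb0c020d080c0a0209000500)
(.cons (nat_lit 8) (nat_lit 0xfd00900080001e00280000)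
(.cons (nat_lit 16) (nat_lit 0x70a50000180d00000008)
(.cons (nat_lit 32) (nat_lit 0xe0555830)
(.cons (nat_lit 64) (nat_lit 0xae8d5dbf8)
(.cons (nat_lit 32) (nat_lit 0x900000000f0fd107c)
(.cons (nat_lit 16) (nat_lit 0xfc7500001f5d00003cca)
(.cons (nat_lit 8) (nat_lit 0xbd00100000005b006c00c0)
(.cons (nat_lit 4) (nat_lit 0xb04020d000c0a0a0d050901)
(.cons (nat_lit 2) (nat_lit 0x2012020232120030133301110)
(.cons (nat_lit 1) (nat_lit 0x4444411005554111145504100)
.nil)))))))))))))
theorem npi_ok : Net.ok 100 npi = true := by decide +kernel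
theorem nets_ok' : netsOk 100 (nets ++ [npi]) = true :=
  List.all_append.trans (by rw [show nets.all _ = true from nets_ok, List.all_cons, npi_ok]; rfl)
noncomputable def wa : Word := [nat_lit 4]
noncomputable def wu : Word := [nat_lit 6]
noncomputable def wb : Word := [nat_lit 8]
noncomputable def cha4 : Lv := .cons (nat_lit 66) [dw (nat_lit 0x15), dw (nat_lit 0x17)] [dw (nat_lit 0x01), dw (nat_lit 0x03)] .nil
noncomputable def cha3 : Lv := .cons (nat_lit 31) [dw (nat_lit 0x11), dw (nat_lit 0x13)] [dw (nat_lit 0x01), dw (nat_lit 0x0501), dw (nat_lit 0x01)] cha4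
noncomputable def cha2 : Lv := .cons (nat_lit 5) [dw (nat_lit 0x05), dw (nat_lit 0x0b), dw (nat_lit 0x0f)] [dw (nat_lit 0x01), dw (nat_lit 0x03), dw (nat_lit 0x01), dw (nat_lit 0x01)] cha3
noncomputable def cha1 : Lv := .cons (nat_lit 92) [dw (nat_lit 0x0d)] [dw (nat_lit 0x01), dw (nat_lit 0x01), dw (nat_lit 0x03), dw (nat_lit 0x05), dw (nat_lit 0x01), dw (nat_lit 0x03), dw (nat_lit 0x03), dw (nat_lit 0x01)
, dw (nat_lit 0x03)] cha2
noncomputable def cha0 : Lv := .cons (nat_lit 96) [dw (nat_lit 0x07), dw (nat_lit 0x09)] [dw (nat_lit 0x01), dw (nat_lit 0x03), dw (nat_lit 0x05), dw (nat_lit 0x07), dw (nat_lit 0x03), dw (nat_lit 0x01), dw (nat_lit 0x09), dw (nat_lit 0x05)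
, dw (nat_lit 0x03), dw (nat_lit 0x07)] cha1
noncomputable def csa : List Word := [dw (nat_lit 0x05)]
noncomputable def dda0_0 : List (Word × CT) := [(dw (nat_lit 0x07), (.alt [] (.alt [] (.step (nat_lit 5) (nat_lit 1) (dw (nat_lit 0x1512)) (.step (nat_lit 31) (nat_lit 1) (dw (nat_lit 0x15)) (.bad (nat_lit 0)))) (.alt (dw (nat_lit 0x05)) (.step (nat_lit 5) (nat_lit 1) (dw (nat_lit 0x1512)) (.step (nat_lit 31) (nat_lit 1) (dw (nat_lit 0x15)) (.bad (nat_lit 0)))) (.alt (dw (nat_lit 0x06)) (.step (nat_lit 5) (nat_lit 1) (dw (nat_lit 0x1512)) (.step (nat_lit 31) (nat_lit 1) (dw (nat_lit 0x15)) (.bad (nat_lit 0)))) (.alt (dw (nat_lit 0x0b)) (.step (nat_lit 5) (nat_lit 1) (dw (nat_lit 0x13)) (.step (nat_lit 31) (nat_lit 1) (dw (nat_lit 0x15)) (.bad (nat_lit 0)))) (.alt (dw (nat_lit 0x1105)) (.step (nat_lit 5) (nat_lit 1) (dw (nat_lit 0x1312)) (.step (nat_lit 31) (nat_lit 1) (dw (nat_lit 0x17)) (.bad (nat_lit 0)))) (.alt (dw (nat_lit 0x0c05)) (.step (nat_lit 5) (nat_lit 1) (dw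 (nat_lit 0x1312)) (.step (nat_lit 31) (nat_lit 1) (dw (nat_lit 0x17)) (.bad (nat_lit 0)))) (.alt (dw (nat_lit 0x1706)) (.step (nat_lit 5) (nat_lit 1) (dw (nat_lit 0x11)) (.step (nat_lit 31) (nat_lit 1) (dw (nat_lit 0x17)) (.bad (nat_lit 0)))) (.nil (nat_lit 0))))))))) (.nil (nat_lit 1))))]
noncomputable def dda0 : List (Word × CT) := dda0_0
noncomputable def Ta0 : List Word := [[]]
noncomputable def cwa0 : List Word := [dw (nat_lit 0x01)]
noncomputable def sca0 : List Word := []
noncomputable def dda1 : List (Word × CT) := []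
noncomputable def Ta1 : List Word := [[]]
noncomputable def cwa1 : List Word := []
noncomputable def sca1 : List Word := []
noncomputable def dda2 : List (Word × CT) := []
noncomputable def Ta2 : List Word := [[], dw (nat_lit 0x01), dw (nat_lit 0x0101), dw (nat_lit 0x010101), dw (nat_lit 0x01010101), dw (nat_lit 0x0101010101), dw (nat_lit 0x010101010101)]
noncomputable def cwa2 : List Word := []
noncomputable def sca2 : List Word := []
noncomputable def Ea2 : List Word := mulL [[]] (List.map (flat csa) Ta2)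
noncomputable def Ea1 : List Word := mulL Ea2 (List.map (flat csa) Ta1)
noncomputable def Ea0 : List Word := mulL Ea1 (List.map (flat csa) Ta0)
noncomputable def chu5 : Lv := .cons (nat_lit 49) [dw (nat_lit 0x25)] [dw (nat_lit 0x01)] .nil
noncomputable def chu4 : Lv := .cons (nat_lit 5) [dw (nat_lit 0x1f), dw (nat_lit 0x23)] [dw (nat_lit 0x01), dw (nat_lit 0x03)] chu5
noncomputable def chu3 : Lv := .cons (nat_lit 92) [dw (nat_lit 0x21)] [dw (nat_lit 0x01), dw (nat_lit 0x0601)] chu4
noncomputable def chu2 : Lv := .cons (nat_lit 96) [dw (nat_lit 0x19), dw (nat_lit 0x1d)] [dw (nat_lit 0x01), dw (nat_lit 0x0804), dw (nat_lit 0x01), dw (nat_lit 0x01)] chu3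
noncomputable def chu1 : Lv := .cons (nat_lit 88) [dw (nat_lit 0x1b)] [dw (nat_lit 0x01), dw (nat_lit 0x0203), dw (nat_lit 0x03), dw (nat_lit 0x05), dw (nat_lit 0x03), dw (nat_lit 0x01), dw (nat_lit 0x01), dw (nat_lit 0x05)
] chu2
noncomputable def chu0 : Lv := .cons (nat_lit 99) [dw (nat_lit 0x05), dw (nat_lit 0x07), dw (nat_lit 0x09)] [dw (nat_lit 0x01), dw (nat_lit 0x03), dw (nat_lit 0x05), dw (nat_lit 0x07), dw (nat_lit 0x01), dw (nat_lit 0x09), dw (nat_lit 0x03), dw (nat_lit 0x01)
, dw (nat_lit 0x05)] chu1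
noncomputable def csu : List Word := [dw (nat_lit 0x07), dw (nat_lit 0x27)]
noncomputable def ddu0 : List (Word × CT) := []
noncomputable def Tu0 : List Word := [[], dw (nat_lit 0x01), dw (nat_lit 0x03), dw (nat_lit 0x0301)]
noncomputable def cwu0 : List Word := []
noncomputable def scu0 : List Word := []
noncomputable def ddu2 : List (Word × CT) := []
noncomputable def Tu2 : List Word := [[]]
noncomputable def cwu2 : List Word := []
noncomputable def scu2 : List Word := []
noncomputable def ddu4 : List (Word × CT) := []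
noncomputable def Tu4 : List Word := [[], dw (nat_lit 0x0101), dw (nat_lit 0x0202)]
noncomputable def cwu4 : List Word := []
noncomputable def scu4 : List Word := []
noncomputable def Eu4 : List Word := mulL [[]] (List.map (flat csu) Tu4)
noncomputable def Eu2 : List Word := mulL Eu4 (List.map (flat csu) Tu2)
noncomputable def Eu0 : List Word := mulL Eu2 (List.map (flat csu) Tu0)
noncomputable def Rs : List (Word × Nat) := [(dw (nat_lit 0x050401050401050401050401050401050401050401), nat_lit 16), (dw (nat_lit 0x050105010501050105010501050105010501050105010501), nat_lit 50)]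
noncomputable def ks : List Nat := [nat_lit 1]
noncomputable def wc : Word := dw (nat_lit 0x070707)
theorem chca : band (Nat.ble 1 604800) (Nat.ble 604800 (cha0.val 100 nets)) = true := by decide +kernel
theorem cca_0 : relsPt F (bas cha0) (commRels wa csa) = true := by decide +kernel
theorem dka0_0 : deadChk 100 nets F wa cha0 [] dda0_0 = true := by decide +kernel
theorem lka0 : lvlChk 100 nets F wa cha0 [] (List.map (flat csa) Ta0) (List.map (flat csa) cwa0) sca0 dda0 1 = true := by decide +kernel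
theorem lka1 : lvlChk 100 nets F wa cha1 [nat_lit 96] (List.map (flat csa) Ta1) (List.map (flat csa) cwa1) sca1 dda1 1 = true := by decide +kernel
theorem lka2 : lvlChk 100 nets F wa cha2 [nat_lit 92, nat_lit 96] (List.map (flat csa) Ta2) (List.map (flat csa) cwa2) sca2 dda2 0 = true := by decide +kernel
theorem dta3 : detChk F wa cha3 [nat_lit 5, nat_lit 92, nat_lit 96] 5 1 = true := by decide +kernel
theorem dta4 : detChk F wa cha4 [nat_lit 31, nat_lit 5, nat_lit 92, nat_lit 96] 31 1 = true := by decide +kernel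
theorem chcu : band (Nat.ble 1 604800) (Nat.ble 604800 (chu0.val 100 nets)) = true := by decide +kernel
theorem ccu_0 : relsPt F (bas cha0) (commRels (powW wu 1) csu) = true := by decide +kernel
theorem lku0 : lvlChk 100 nets F (powW wu 1) chu0 [] (List.map (flat csu) Tu0) (List.map (flat csu) cwu0) scu0 ddu0 2 = true := by decide +kernel
theorem dtu1 : detChk F (powW wu 1) chu1 [nat_lit 99] 99 1 = true := by decide +kernel
theorem lku2 : lvlChk 100 nets F (powW wu 1) chu2 [nat_lit 88, nat_lit 99] (List.map (flat csu) Tu2) (List.map (flat csu) cwu2) scu2 ddu2 2 = true := by decide +kernel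
theorem dtu3 : detChk F (powW wu 1) chu3 [nat_lit 96, nat_lit 88, nat_lit 99] 96 1 = true := by decide +kernel
theorem lku4 : lvlChk 100 nets F (powW wu 1) chu4 [nat_lit 92, nat_lit 96, nat_lit 88, nat_lit 99] (List.map (flat csu) Tu4) (List.map (flat csu) cwu4) scu4 ddu4 0 = true := by decide +kernel
theorem dtu5 : detChk F (powW wu 1) chu5 [nat_lit 5, nat_lit 92, nat_lit 96, nat_lit 88, nat_lit 99] 5 1 = true := by decide +kernel
theorem nf_0 : relsPt F (bas cha0) (nfRels wa wu wb 7 3 1 5 Rs) = true := by decide +kernel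
theorem lf_0 : allL (lfChk 100 F wa wu wb ks Rs [((1 : ℕ), ([] : Word)), (1, wc)]) Eu0 = true := by decide +kernel
theorem ari : ariChk 604800 7 3 6 ks = true := by decide +kernel
theorem mva : band (Nat.ble (Nat.succ 0) 100) (bnot (Nat.beq (apW F wa 0) 0)) = true := by decide +kernel
theorem pwa : pwChk wa 7 Ea0 = true := by decide +kernel
theorem dc : relsChk 100 nets 7 (idArr 100 7 7 0) (defRels defs 2) = true := by decide +kernel
theorem pic : relsChk 100 (nets ++ [npi]) 7 (idArr 100 7 7 0) (piRels 40 [wa, wu, wb] [powW wa 1, wu, wc ++ wb]) = true := by decide +kernel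
theorem ni_0 : allL (niChk 100 F wa wb 1 wc [nat_lit 66]) Eu0 = true := by decide +kernel
section
variable {G : Type u} {Ω : Type*} [Group G] [MulAction G Ω] [FaithfulSMul G Ω] (M : PM G Ω 100 nets)

theorem Rdefs : Rels M.gen (defRels defs 2) := (M.rels_of_idArr (by decide) dc)
variable (hN : Nat.card G = 604800)
include hN
theorem RCa : Rels M.gen (commRels wa csa) := (rels_of_pt hN chca cca_0)
theorem cpa5 : CP M wa .nil [nat_lit 66, nat_lit 31, nat_lit 5, nat_lit 92, nat_lit 96] [[]] := cp_nil _ _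
theorem cpa4 : CP M wa cha4 [nat_lit 31, nat_lit 5, nat_lit 92, nat_lit 96] [[]] := cp_det _ _ dta4 (cpa5 M hN)
theorem cpa3 : CP M wa cha3 [nat_lit 5, nat_lit 92, nat_lit 96] [[]] := cp_det _ _ dta3 (cpa4 M hN)
theorem cpa2 : CP M wa cha2 [nat_lit 92, nat_lit 96] Ea2 := cp_lvl (RCa M hN) lka2 rfl (cpa3 M hN)
theorem cpa1 : CP M wa cha1 [nat_lit 96] Ea1 := cp_lvl (RCa M hN) lka1 rfl (cpa2 M hN)
theorem cpa0 : CP M wa cha0 [] Ea0 := cp_lvl (RCa M hN) lka0 dka0_0 (cpa1 M hN)
theorem cena (g : G) (hg : g * ev M.gen wa = ev M.gen wa * g) : ∃ t ∈ Ea0, g = ev M.gen t := cp_top (cpa0 M hN) hN chca g hg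
theorem RCu : Rels M.gen (commRels (powW wu 1) csu) := (rels_of_pt hN chca ccu_0)
theorem cpu6 : CP M (powW wu 1) .nil [nat_lit 49, nat_lit 5, nat_lit 92, nat_lit 96, nat_lit 88, nat_lit 99] [[]] := cp_nil _ _
theorem cpu5 : CP M (powW wu 1) chu5 [nat_lit 5, nat_lit 92, nat_lit 96, nat_lit 88, nat_lit 99] [[]] := cp_det _ _ dtu5 (cpu6 M hN)
theorem cpu4 : CP M (powW wu 1) chu4 [nat_lit 92, nat_lit 96, nat_lit 88, nat_lit 99] Eu4 := cp_lvl (RCu M hN) lku4 rfl (cpu5 M hN)
theorem cpu3 : CP M (powW wu 1) chu3 [nat_lit 96, nat_lit 88, nat_lit 99] Eu4 := cp_det _ _ dtu3 (cpu4 M hN)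
theorem cpu2 : CP M (powW wu 1) chu2 [nat_lit 88, nat_lit 99] Eu2 := cp_lvl (RCu M hN) lku2 rfl (cpu3 M hN)
theorem cpu1 : CP M (powW wu 1) chu1 [nat_lit 99] Eu2 := cp_det _ _ dtu1 (cpu2 M hN)
theorem cpu0 : CP M (powW wu 1) chu0 [] Eu0 := cp_lvl (RCu M hN) lku0 rfl (cpu1 M hN)
theorem cenu (g : G) (hg : g * ev M.gen (powW wu 1) = ev M.gen (powW wu 1) * g) : ∃ t ∈ Eu0, g = ev M.gen t := cp_top (cpu0 M hN) hN chcu g hg
theorem top : sub M.gen [wa, wu, wb] = ⊤ := top_of_defs (lo := 2) (j := 3) hN chca (Rdefs M) (by decide +kernel)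
theorem upper (α : MulAut G) : ∃ g : G, ∃ q ∈ [((1 : ℕ), ([] : Word)), (1, wc)],
    Maps M.gen (MulAut.conj g * α) [wa, wu, wb] [powW wa q.1, wu, q.2 ++ wb] :=
  out_upper hN (by decide +kernel) (by norm_num) ari (rels_of_pt hN chca nf_0) mva (cena M hN) pwa (cenu M hN) lf_0 α
theorem outer : ∃ ν, Maps M.gen ν [wa, wu, wb] [powW wa 1, wu, wc ++ wb] :=
  haveI := fin_of_card hN (by decide +kernel)
  aut_of_perm (permPM 100 _ (by decide) (by decide) nets_ok') (by decide +kernel)
    ((permPM 100 _ (by decide) (by decide) nets_ok').rels_of_idArr (by decide) pic) rfl (top M hN)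
include M in
theorem out : Nat.card (Out G) = 2 := out_two (top M hN) (upper M hN) (outer M hN) (cenu M hN) ni_0
end

section
variable {G : Type u} {Ω : Type*} [Group G] [MulAction G Ω]

noncomputable def mach (E : Enc Ω 100) (hr : ∀ l < 2, ∃ g : G, E.Real (getL Net.nil nets l) g) : PM G Ω 100 nets :=
  PM.ofReal G E (by decide) nets_ok (real_of_slp E (by decide) (by decide) nets_ok hr (ds := defs) (by decide +kernel) (by decide +kernel)
    (Rdefs (permPM 100 nets (by decide) (by decide) nets_ok)))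
theorem out' [FaithfulSMul G Ω] (E : Enc Ω 100) (hr : ∀ l < 2, ∃ g : G, E.Real (getL Net.nil nets l) g) (hN : Nat.card G = 604800) : Nat.card (Out G) = 2 := out (mach E hr) hN
end

end L.OJ2
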