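import Cfsg.Agent.L.Top
import Cfsg.Agent.L.Out

/-! Generated certificate (toolsL) for the group OM12 of degree 24 and order 95040. -/
set_option Elab.async false
set_option autoImplicit false
set_option maxRecDepth 100000
set_option maxHeartbeats 0
set_option linter.unusedSectionVars false

namespace L.OM12
open H14 Cfsg

universe u

noncomputable def n0 : Net := (.cons (nat_lit 1) (nat_lit 0x114104)
(.cons (nat_lit 2) (nat_lit 0x121300)
(.cons (nat_lit 4) (nat_lit 0x40000)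
(.cons (nat_lit 8) (nat_lit 0x1)
(.cons (nat_lit 16) (nat_lit 0xe9)
(.cons (nat_lit 8) (nat_lit 0xe3)
(.cons (nat_lit 4) (nat_lit 0x50602)
(.cons (nat_lit 2) (nat_lit 0x11330)
(.cons (nat_lit 1) (nat_lit 0x545000)
.nil)))))))))
theorem n0_ok : Net.ok 24 n0 = true := by decide +kernel
noncomputable def n1 : Net := (.cons (nat_lit 1) (nat_lit 0x415550)
(.cons (nat_lit 2) (nat_lit 0x303130)
(.cons (nat_lit 4) (nat_lit 0x80b00)
(.cons (nat_lit 8) (nat_lit 0x2)
(.cons (nat_lit 16) (nat_lit 0x5e)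
(.cons (nat_lit 8) (nat_lit 0x3e)
(.cons (nat_lit 4) (nat_lit 0x10f08)
(.cons (nat_lit 2) (nat_lit 0x321110)
(.cons (nat_lit 1) (nat_lit 0x115454)
.nil)))))))))
theorem n1_ok : Net.ok 24 n1 = true := by decide +kernel
noncomputable def n2 : Net := (.cons (nat_lit 1) (nat_lit 0x455100)
(.cons (nat_lit 2) (nat_lit 0x323000)
(.cons (nat_lit 4) (nat_lit 0x80100)
(.cons (nat_lit 8) (nat_lit 0xa)
(.cons (nat_lit 16) (nat_lit 0x2a)
(.cons (nat_lit 8) (nat_lit 0x7a)
(.cons (nat_lit 4) (nat_lit 0x90404)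
(.cons (nat_lit 2) (nat_lit 0x212120)
(.cons (nat_lit 1) (nat_lit 0x154005)
.nil)))))))))
theorem n2_ok : Net.ok 24 n2 = true := by decide +kernel
noncomputable def n3 : Net := (.cons (nat_lit 1) (nat_lit 0x141550)
(.cons (nat_lit 2) (nat_lit 0x311110)
(.cons (nat_lit 4) (nat_lit 0xe0000)
(.cons (nat_lit 8) (nat_lit 0x91)
(.cons (nat_lit 16) (nat_lit 0xdb)
(.cons (nat_lit 8) (nat_lit 0x2f)
(.cons (nat_lit 4) (nat_lit 0x40708)
(.cons (nat_lit 2) (nat_lit 0x333130)
(.cons (nat_lit 1) (nat_lit 0x154440)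
.nil)))))))))
theorem n3_ok : Net.ok 24 n3 = true := by decide +kernel
noncomputable def n4 : Net := (.cons (nat_lit 1) (nat_lit 0x40040)
(.cons (nat_lit 2) (nat_lit 0x121110)
(.cons (nat_lit 4) (nat_lit 0x20200)
(.cons (nat_lit 8) (nat_lit 0x41)
(.cons (nat_lit 16) (nat_lit 0x69)
(.cons (nat_lit 8) (nat_lit 0x75)
(.cons (nat_lit 4) (nat_lit 0x70e08)
(.cons (nat_lit 2) (nat_lit 0x211030)
(.cons (nat_lit 1) (nat_lit 0x444040)
.nil)))))))))
theorem n4_ok : Net.ok 24 n4 = true := by decide +kernel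
noncomputable def n5 : Net := (.cons (nat_lit 1) (nat_lit 0x551500)
(.cons (nat_lit 2) (nat_lit 0x101200)
(.cons (nat_lit 4) (nat_lit 0xe0400)
(.cons (nat_lit 8) (nat_lit 0x4)
(.cons (nat_lit 16) (nat_lit 0xb4)
(.cons (nat_lit 8) (nat_lit 0x5c)
(.cons (nat_lit 4) (nat_lit 0x10508)
(.cons (nat_lit 2) (nat_lit 0x130320)
(.cons (nat_lit 1) (nat_lit 0x5150)
.nil)))))))))
theorem n5_ok : Net.ok 24 n5 = true := by decide +kernel
noncomputable def n6 : Net := (.cons (nat_lit 1) (nat_lit 0x454500)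
(.cons (nat_lit 2) (nat_lit 0x3000)
(.cons (nat_lit 4) (nat_lit 0x30800)
(.cons (nat_lit 8) (nat_lit 0xa4)
(.cons (nat_lit 16) (nat_lit 0xbc)
(.cons (nat_lit 8) (nat_lit 0x1c)
(.cons (nat_lit 4) (nat_lit 0x10204)
(.cons (nat_lit 2) (nat_lit 0x301230)
(.cons (nat_lit 1) (nat_lit 0x140540)
.nil)))))))))
theorem n6_ok : Net.ok 24 n6 = true := by decide +kernel
noncomputable def n7 : Net := (.cons (nat_lit 1) (nat_lit 0x14050)
(.cons (nat_lit 2) (nat_lit 0x122000)
(.cons (nat_lit 16) (nat_lit 0x5c)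
(.cons (nat_lit 8) (nat_lit 0xc0)
(.cons (nat_lit 4) (nat_lit 0x20e00)
(.cons (nat_lit 2) (nat_lit 0x310200)
(.cons (nat_lit 1) (nat_lit 0x44150)
.nil)))))))
theorem n7_ok : Net.ok 24 n7 = true := by decide +kernel
noncomputable def n8 : Net := (.cons (nat_lit 1) (nat_lit 0x1010)
(.cons (nat_lit 2) (nat_lit 0x13200)
(.cons (nat_lit 8) (nat_lit 0x67)
(.cons (nat_lit 16) (nat_lit 0xe7)
(.cons (nat_lit 8) (nat_lit 0x7f)
(.cons (nat_lit 4) (nat_lit 0xe0404)
(.cons (nat_lit 2) (nat_lit 0x223200)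
(.cons (nat_lit 1) (nat_lit 0x501414)
.nil))))))))
theorem n8_ok : Net.ok 24 n8 = true := by decide +kernel
noncomputable def n9 : Net := (.cons (nat_lit 1) (nat_lit 0x404040)
(.cons (nat_lit 2) (nat_lit 0x210130)
(.cons (nat_lit 4) (nat_lit 0x60200)
(.cons (nat_lit 8) (nat_lit 0x41)
(.cons (nat_lit 16) (nat_lit 0x75)
(.cons (nat_lit 8) (nat_lit 0x97)
(.cons (nat_lit 4) (nat_lit 0xa0704)
(.cons (nat_lit 2) (nat_lit 0x130120)
(.cons (nat_lit 1) (nat_lit 0x41500)
.nil)))))))))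
theorem n9_ok : Net.ok 24 n9 = true := by decide +kernel
noncomputable def n10 : Net := (.cons (nat_lit 1) (nat_lit 0x40400)
(.cons (nat_lit 2) (nat_lit 0x110100)
(.cons (nat_lit 4) (nat_lit 0x40a00)
(.cons (nat_lit 8) (nat_lit 0x79)
(.cons (nat_lit 16) (nat_lit 0xf9)
(.cons (nat_lit 8) (nat_lit 0x9d)
(.cons (nat_lit 4) (nat_lit 0xb0204)
(.cons (nat_lit 2) (nat_lit 0x11320)
(.cons (nat_lit 1) (nat_lit 0x510504)
.nil)))))))))
theorem n10_ok : Net.ok 24 n10 = true := by decide +kernel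
noncomputable def n11 : Net := (.cons (nat_lit 1) (nat_lit 0x144450)
(.cons (nat_lit 2) (nat_lit 0x12300)
(.cons (nat_lit 4) (nat_lit 0x40200)
(.cons (nat_lit 8) (nat_lit 0xa)
(.cons (nat_lit 16) (nat_lit 0x6a)
(.cons (nat_lit 8) (nat_lit 0xf2)
(.cons (nat_lit 4) (nat_lit 0x60308)
(.cons (nat_lit 2) (nat_lit 0x323300)
(.cons (nat_lit 1) (nat_lit 0x151040)
.nil)))))))))
theorem n11_ok : Net.ok 24 n11 = true := by decide +kernel
noncomputable def n12 : Net := (.cons (nat_lit 1) (nat_lit 0x51540)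
(.cons (nat_lit 2) (nat_lit 0x2100)
(.cons (nat_lit 4) (nat_lit 0x90000)
(.cons (nat_lit 8) (nat_lit 0x6b)
(.cons (nat_lit 16) (nat_lit 0xeb)
(.cons (nat_lit 8) (nat_lit 0xb)
(.cons (nat_lit 4) (nat_lit 0xc0a08)
(.cons (nat_lit 2) (nat_lit 0x210330)
(.cons (nat_lit 1) (nat_lit 0x150110)
.nil)))))))))
theorem n12_ok : Net.ok 24 n12 = true := by decide +kernel
noncomputable def n13 : Net := (.cons (nat_lit 1) (nat_lit 0x500)
(.cons (nat_lit 2) (nat_lit 0x10320)
(.cons (nat_lit 4) (nat_lit 0xd0200)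
(.cons (nat_lit 8) (nat_lit 0x45)
(.cons (nat_lit 16) (nat_lit 0xc5)
(.cons (nat_lit 8) (nat_lit 0xad)
(.cons (nat_lit 4) (nat_lit 0x90c00)
(.cons (nat_lit 2) (nat_lit 0x232110)
(.cons (nat_lit 1) (nat_lit 0x101500)
.nil)))))))))
theorem n13_ok : Net.ok 24 n13 = true := by decide +kernel
noncomputable def n14 : Net := (.cons (nat_lit 1) (nat_lit 0x411010)
(.cons (nat_lit 2) (nat_lit 0x321200)
(.cons (nat_lit 4) (nat_lit 0x90d00)
(.cons (nat_lit 8) (nat_lit 0x60)
(.cons (nat_lit 16) (nat_lit 0xf0)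
(.cons (nat_lit 8) (nat_lit 0x90)
(.cons (nat_lit 4) (nat_lit 0x20908)
(.cons (nat_lit 2) (nat_lit 0x1330)
(.cons (nat_lit 1) (nat_lit 0x514510)
.nil)))))))))
theorem n14_ok : Net.ok 24 n14 = true := by decide +kernel
noncomputable def n15 : Net := (.cons (nat_lit 1) (nat_lit 0x455100)
(.cons (nat_lit 2) (nat_lit 0x323000)
(.cons (nat_lit 4) (nat_lit 0x80100)
(.cons (nat_lit 8) (nat_lit 0xa)
(.cons (nat_lit 16) (nat_lit 0x2a)
(.cons (nat_lit 8) (nat_lit 0x7a)
(.cons (nat_lit 4) (nat_lit 0x90404)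
(.cons (nat_lit 2) (nat_lit 0x212120)
(.cons (nat_lit 1) (nat_lit 0x154005)
.nil)))))))))
theorem n15_ok : Net.ok 24 n15 = true := by decide +kernel
noncomputable def nets : List Net := [n0, n1, n2, n3, n4, n5, n6, n7, n8, n9, n10, n11, n12, n13, n14, n15]
theorem nets_ok : netsOk 24 nets = true := List.all_eq_true.2 (fa_cons n0_ok (fa_cons n1_ok (fa_cons n2_ok (fa_cons n3_ok (fa_cons n4_ok (fa_cons n5_ok (fa_cons n6_ok (fa_cons n7_ok (fa_cons n8_ok (fa_cons n9_ok (fa_cons n10_ok (fa_cons n11_ok (fa_cons n12_ok (fa_cons n13_ok (fa_cons n14_ok (fa_cons n15_ok (fa_nil)))))))))))))))))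
noncomputable def F : Nat → Nat → Nat := ptF (nat_lit 64) (nat_lit 5) nets
instance instF : PtF 24 nets F := ptF_ok nets_ok (by decide +kernel)
noncomputable def defs : List Word := [dw (nat_lit 0x06020602050402030202), dw (nat_lit 0x020401080202), dw (nat_lit 0x0409040409), dw (nat_lit 0x0a04), dw (nat_lit 0x0c0e0c), dw (nat_lit 0x0b0e0b0e0b0e0e), dw (nat_lit 0x06020303050206), dw (nat_lit 0x02030213040413)
, dw (nat_lit 0x041616040416), dw (nat_lit 0x0415031515), dw (nat_lit 0x171a17171a1a171a17), dw (nat_lit 0x181a), dw (nat_lit 0x05)]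
noncomputable def npi : Net := (.cons (nat_lit 1) (nat_lit 0x450100)
(.cons (nat_lit 2) (nat_lit 0x320120)
(.cons (nat_lit 4) (nat_lit 0xf0000)
(.cons (nat_lit 8) (nat_lit 0x32)
(.cons (nat_lit 16) (nat_lit 0x3e)
(.cons (nat_lit 8) (nat_lit 0xf5)
(.cons (nat_lit 4) (nat_lit 0x60d0c)
(.cons (nat_lit 2) (nat_lit 0x123222)
(.cons (nat_lit 1) (nat_lit 0x505551)
.nil)))))))))
theorem npi_ok : Net.ok 24 npi = true := by decide +kernel
theorem nets_ok' : netsOk 24 (nets ++ [npi]) = true :=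
  List.all_append.trans (by rw [show nets.all _ = true from nets_ok, List.all_cons, npi_ok]; rfl)
noncomputable def wa : Word := [nat_lit 0]
noncomputable def wu : Word := [nat_lit 2]
noncomputable def wb : Word := [nat_lit 4]
noncomputable def cha4 : Lv := .cons (nat_lit 6) [dw (nat_lit 0x0f), dw (nat_lit 0x11)] [dw (nat_lit 0x01), dw (nat_lit 0x03), dw (nat_lit 0x0303)] .nil
noncomputable def cha3 : Lv := .cons (nat_lit 4) [dw (nat_lit 0x0b), dw (nat_lit 0x0d)] [dw (nat_lit 0x01), dw (nat_lit 0x03), dw (nat_lit 0x05), dw (nat_lit 0x01)] cha4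
noncomputable def cha2 : Lv := .cons (nat_lit 12) [dw (nat_lit 0x03), dw (nat_lit 0x09)] [dw (nat_lit 0x01), dw (nat_lit 0x03), dw (nat_lit 0x0404), dw (nat_lit 0x01)] cha3
noncomputable def cha1 : Lv := .cons (nat_lit 1) [dw (nat_lit 0x01), dw (nat_lit 0x07)] [dw (nat_lit 0x01), dw (nat_lit 0x03), dw (nat_lit 0x01), dw (nat_lit 0x03), dw (nat_lit 0x01)] cha2
noncomputable def cha0 : Lv := .cons (nat_lit 0) [dw (nat_lit 0x05)] [dw (nat_lit 0x01), dw (nat_lit 0x03), dw (nat_lit 0x05), dw (nat_lit 0x01), dw (nat_lit 0x01), dw (nat_lit 0x01)] cha1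
noncomputable def csa : List Word := [dw (nat_lit 0x01)]
noncomputable def dda0 : List (Word × CT) := []
noncomputable def Ta0 : List Word := [[]]
noncomputable def cwa0 : List Word := []
noncomputable def sca0 : List Word := []
noncomputable def dda1 : List (Word × CT) := []
noncomputable def Ta1 : List Word := [[], dw (nat_lit 0x01), dw (nat_lit 0x0101), dw (nat_lit 0x010101), dw (nat_lit 0x01010101), dw (nat_lit 0x0101010101), dw (nat_lit 0x010101010101), dw (nat_lit 0x01010101010101)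
, dw (nat_lit 0x0101010101010101), dw (nat_lit 0x010101010101010101), dw (nat_lit 0x01010101010101010101)]
noncomputable def cwa1 : List Word := []
noncomputable def sca1 : List Word := []
noncomputable def Ea1 : List Word := mulL [[]] (List.map (flat csa) Ta1)
noncomputable def Ea0 : List Word := mulL Ea1 (List.map (flat csa) Ta0)
noncomputable def chu4 : Lv := .cons (nat_lit 13) [dw (nat_lit 0x1b), dw (nat_lit 0x1d)] [dw (nat_lit 0x01), dw (nat_lit 0x03), dw (nat_lit 0x0404)] .nil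
noncomputable def chu3 : Lv := .cons (nat_lit 18) [dw (nat_lit 0x17), dw (nat_lit 0x19)] [dw (nat_lit 0x01), dw (nat_lit 0x0205), dw (nat_lit 0x01), dw (nat_lit 0x05), dw (nat_lit 0x03)] chu4
noncomputable def chu2 : Lv := .cons (nat_lit 2) [dw (nat_lit 0x03), dw (nat_lit 0x15)] [dw (nat_lit 0x01), dw (nat_lit 0x03), dw (nat_lit 0x01), dw (nat_lit 0x07)] chu3
noncomputable def chu1 : Lv := .cons (nat_lit 1) [dw (nat_lit 0x01), dw (nat_lit 0x13)] [dw (nat_lit 0x01), dw (nat_lit 0x040e), dw (nat_lit 0x05), dw (nat_lit 0x01), dw (nat_lit 0x01)] chu2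
noncomputable def chu0 : Lv := .cons (nat_lit 0) [dw (nat_lit 0x05)] [dw (nat_lit 0x01), dw (nat_lit 0x03), dw (nat_lit 0x0905), dw (nat_lit 0x07), dw (nat_lit 0x01), dw (nat_lit 0x01)] chu1
noncomputable def csu : List Word := [dw (nat_lit 0x03), dw (nat_lit 0x1f)]
noncomputable def ddu0 : List (Word × CT) := []
noncomputable def Tu0 : List Word := [[], dw (nat_lit 0x03)]
noncomputable def cwu0 : List Word := []
noncomputable def scu0 : List Word := []
noncomputable def ddu1 : List (Word × CT) := []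
noncomputable def Tu1 : List Word := [[]]
noncomputable def cwu1 : List Word := []
noncomputable def scu1 : List Word := []
noncomputable def ddu2_0 : List (Word × CT) := [(dw (nat_lit 0x15), (.step (nat_lit 2) (nat_lit 1) (dw (nat_lit 0x1c18)) (.step (nat_lit 18) (nat_lit 1) [] (.bad (nat_lit 3)))))]
noncomputable def ddu2 : List (Word × CT) := ddu2_0
noncomputable def Tu2 : List Word := [[], dw (nat_lit 0x01), dw (nat_lit 0x02), dw (nat_lit 0x0101), dw (nat_lit 0x0202)]
noncomputable def cwu2 : List Word := [dw (nat_lit 0x01)]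
noncomputable def scu2 : List Word := [dw (nat_lit 0x01), dw (nat_lit 0x0202), dw (nat_lit 0x01)]
noncomputable def Eu2 : List Word := mulL [[]] (List.map (flat csu) Tu2)
noncomputable def Eu1 : List Word := mulL Eu2 (List.map (flat csu) Tu1)
noncomputable def Eu0 : List Word := mulL Eu1 (List.map (flat csu) Tu0)
noncomputable def Rs : List (Word × Nat) := [(dw (nat_lit 0x060106010601060106010601), nat_lit 13), (dw (nat_lit 0x060301060301060301060301060301060301060301060301), nat_lit 6)]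
noncomputable def ks : List Nat := [nat_lit 1, nat_lit 2]
noncomputable def wc : Word := []
theorem chca : band (Nat.ble 1 95040) (Nat.ble 95040 (cha0.val 24 nets)) = true := by decide +kernel
theorem cca : relsChk 24 nets 5 (idArr 24 5 5 0) (commRels wa csa) = true := by decide +kernel
theorem lka0 : lvlChk 24 nets F wa cha0 [] (List.map (flat csa) Ta0) (List.map (flat csa) cwa0) sca0 dda0 1 = true := by decide +kernel
theorem lka1 : lvlChk 24 nets F wa cha1 [nat_lit 0] (List.map (flat csa) Ta1) (List.map (flat csa) cwa1) sca1 dda1 0 = true := by decide +kernel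
theorem dta2 : detChk F wa cha2 [nat_lit 1, nat_lit 0] 1 1 = true := by decide +kernel
theorem dta3 : detChk F wa cha3 [nat_lit 12, nat_lit 1, nat_lit 0] 12 1 = true := by decide +kernel
theorem dta4 : detChk F wa cha4 [nat_lit 4, nat_lit 12, nat_lit 1, nat_lit 0] 4 1 = true := by decide +kernel
theorem chcu : band (Nat.ble 1 95040) (Nat.ble 95040 (chu0.val 24 nets)) = true := by decide +kernel
theorem ccu : relsChk 24 nets 5 (idArr 24 5 5 0) (commRels (powW wu 1) csu) = true := by decide +kernel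
theorem lku0 : lvlChk 24 nets F (powW wu 1) chu0 [] (List.map (flat csu) Tu0) (List.map (flat csu) cwu0) scu0 ddu0 1 = true := by decide +kernel
theorem lku1 : lvlChk 24 nets F (powW wu 1) chu1 [nat_lit 0] (List.map (flat csu) Tu1) (List.map (flat csu) cwu1) scu1 ddu1 1 = true := by decide +kernel
theorem dku2_0 : deadChk 24 nets F (powW wu 1) chu2 [nat_lit 1, nat_lit 0] ddu2_0 = true := by decide +kernel
theorem lku2 : lvlChk 24 nets F (powW wu 1) chu2 [nat_lit 1, nat_lit 0] (List.map (flat csu) Tu2) (List.map (flat csu) cwu2) scu2 ddu2 0 = true := by decide +kernel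
theorem dtu3 : detChk F (powW wu 1) chu3 [nat_lit 2, nat_lit 1, nat_lit 0] 2 1 = true := by decide +kernel
theorem dtu4 : detChk F (powW wu 1) chu4 [nat_lit 18, nat_lit 2, nat_lit 1, nat_lit 0] 18 1 = true := by decide +kernel
theorem nf : relsChk 24 nets 5 (idArr 24 5 5 0) (nfRels wa wu wb 11 3 1 1 Rs) = true := by decide +kernel
theorem lf_0 : allL (lfChk 24 F wa wu wb ks Rs [((1 : ℕ), ([] : Word)), (2, wc)]) Eu0 = true := by decide +kernel
theorem ari : ariChk 95040 11 3 5 ks = true := by decide +kernel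
theorem mva : band (Nat.ble (Nat.succ 1) 24) (bnot (Nat.beq (apW F wa 1) 1)) = true := by decide +kernel
theorem pwa : pwChk wa 11 Ea0 = true := by decide +kernel
theorem dc : relsChk 24 nets 5 (idArr 24 5 5 0) (defRels defs 3) = true := by decide +kernel
theorem pic : relsChk 24 (nets ++ [npi]) 5 (idArr 24 5 5 0) (piRels 32 [wa, wu, wb] [powW wa 2, wu, wc ++ wb]) = true := by decide +kernel
theorem ni_0 : allL (niChk 24 F wa wb 2 wc [nat_lit 17]) Eu0 = true := by decide +kernel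
section
variable {G : Type u} {Ω : Type*} [Group G] [MulAction G Ω] [FaithfulSMul G Ω] (M : PM G Ω 24 nets)

theorem RCa : Rels M.gen (commRels wa csa) := (M.rels_of_idArr (by decide) cca)
theorem cpa5 : CP M wa .nil [nat_lit 6, nat_lit 4, nat_lit 12, nat_lit 1, nat_lit 0] [[]] := cp_nil _ _
theorem cpa4 : CP M wa cha4 [nat_lit 4, nat_lit 12, nat_lit 1, nat_lit 0] [[]] := cp_det _ _ dta4 (cpa5 M)
theorem cpa3 : CP M wa cha3 [nat_lit 12, nat_lit 1, nat_lit 0] [[]] := cp_det _ _ dta3 (cpa4 M)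
theorem cpa2 : CP M wa cha2 [nat_lit 1, nat_lit 0] [[]] := cp_det _ _ dta2 (cpa3 M)
theorem cpa1 : CP M wa cha1 [nat_lit 0] Ea1 := cp_lvl (RCa M) lka1 rfl (cpa2 M)
theorem cpa0 : CP M wa cha0 [] Ea0 := cp_lvl (RCa M) lka0 rfl (cpa1 M)
theorem cena (hN : Nat.card G = 95040) (g : G) (hg : g * ev M.gen wa = ev M.gen wa * g) : ∃ t ∈ Ea0, g = ev M.gen t := cp_top (cpa0 M) hN chca g hg
theorem RCu : Rels M.gen (commRels (powW wu 1) csu) := (M.rels_of_idArr (by decide) ccu)
theorem cpu5 : CP M (powW wu 1) .nil [nat_lit 13, nat_lit 18, nat_lit 2, nat_lit 1, nat_lit 0] [[]] := cp_nil _ _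
theorem cpu4 : CP M (powW wu 1) chu4 [nat_lit 18, nat_lit 2, nat_lit 1, nat_lit 0] [[]] := cp_det _ _ dtu4 (cpu5 M)
theorem cpu3 : CP M (powW wu 1) chu3 [nat_lit 2, nat_lit 1, nat_lit 0] [[]] := cp_det _ _ dtu3 (cpu4 M)
theorem cpu2 : CP M (powW wu 1) chu2 [nat_lit 1, nat_lit 0] Eu2 := cp_lvl (RCu M) lku2 dku2_0 (cpu3 M)
theorem cpu1 : CP M (powW wu 1) chu1 [nat_lit 0] Eu1 := cp_lvl (RCu M) lku1 rfl (cpu2 M)
theorem cpu0 : CP M (powW wu 1) chu0 [] Eu0 := cp_lvl (RCu M) lku0 rfl (cpu1 M)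
theorem cenu (hN : Nat.card G = 95040) (g : G) (hg : g * ev M.gen (powW wu 1) = ev M.gen (powW wu 1) * g) : ∃ t ∈ Eu0, g = ev M.gen t := cp_top (cpu0 M) hN chcu g hg
theorem Rdefs : Rels M.gen (defRels defs 3) := (M.rels_of_idArr (by decide) dc)
theorem top (hN : Nat.card G = 95040) : sub M.gen [wa, wu, wb] = ⊤ := top_of_defs (lo := 0) (j := 0) hN chca (Rdefs M) (by decide +kernel)
theorem upper (hN : Nat.card G = 95040) (α : MulAut G) : ∃ g : G, ∃ q ∈ [((1 : ℕ), ([] : Word)), (2, wc)],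
    Maps M.gen (MulAut.conj g * α) [wa, wu, wb] [powW wa q.1, wu, q.2 ++ wb] :=
  out_upper hN (by decide +kernel) (by norm_num) ari (M.rels_of_idArr (by decide) nf) mva (cena M hN) pwa (cenu M hN) lf_0 α
theorem outer (hN : Nat.card G = 95040) : ∃ ν, Maps M.gen ν [wa, wu, wb] [powW wa 2, wu, wc ++ wb] :=
  haveI := fin_of_card hN (by decide +kernel)
  aut_of_perm (permPM 24 _ (by decide) (by decide) nets_ok') (by decide +kernel)
    ((permPM 24 _ (by decide) (by decide) nets_ok').rels_of_idArr (by decide) pic) rfl (top M hN)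
include M in
theorem out (hN : Nat.card G = 95040) : Nat.card (Out G) = 2 := out_two (top M hN) (upper M hN) (outer M hN) (cenu M hN) ni_0
end

section
variable {G : Type u} {Ω : Type*} [Group G] [MulAction G Ω]

noncomputable def mach (E : Enc Ω 24) (hr : ∀ l < 3, ∃ g : G, E.Real (getL Net.nil nets l) g) : PM G Ω 24 nets :=
  PM.ofReal G E (by decide) nets_ok (real_of_slp E (by decide) (by decide) nets_ok hr (ds := defs) (by decide +kernel) (by decide +kernel)
    (Rdefs (permPM 24 nets (by decide) (by decide) nets_ok)))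
theorem out' [FaithfulSMul G Ω] (E : Enc Ω 24) (hr : ∀ l < 3, ∃ g : G, E.Real (getL Net.nil nets l) g) (hN : Nat.card G = 95040) : Nat.card (Out G) = 2 := out (mach E hr) hN
end

end L.OM12
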