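import Cfsg.Agent.L.Top
import Cfsg.Agent.L.Out

/-! Generated certificate (toolsL) for the group OM22 of degree 24 and order 443520. -/
set_option Elab.async false
set_option autoImplicit false
set_option maxRecDepth 100000
set_option maxHeartbeats 0
set_option linter.unusedSectionVars false

namespace L.OM22
open H14 Cfsg

universe u

noncomputable def n0 : Net := (.cons (nat_lit 1) (nat_lit 0x410500)
(.cons (nat_lit 2) (nat_lit 0x112100)
(.cons (nat_lit 4) (nat_lit 0xf0200)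
(.cons (nat_lit 8) (nat_lit 0x92)
(.cons (nat_lit 16) (nat_lit 0xf2)
(.cons (nat_lit 8) (nat_lit 0xec)
(.cons (nat_lit 4) (nat_lit 0x10b08)
(.cons (nat_lit 2) (nat_lit 0x312230)
(.cons (nat_lit 1) (nat_lit 0x400054)
.nil)))))))))
theorem n0_ok : Net.ok 24 n0 = true := by decide +kernel
noncomputable def n1 : Net := (.cons (nat_lit 1) (nat_lit 0x404440)
(.cons (nat_lit 2) (nat_lit 0x201210)
(.cons (nat_lit 4) (nat_lit 0x80c00)
(.cons (nat_lit 8) (nat_lit 0xa0)
(.cons (nat_lit 16) (nat_lit 0xbc)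
(.cons (nat_lit 8) (nat_lit 0x84)
(.cons (nat_lit 4) (nat_lit 0x10800)
(.cons (nat_lit 2) (nat_lit 0x223300)
(.cons (nat_lit 1) (nat_lit 0x400400)
.nil)))))))))
theorem n1_ok : Net.ok 24 n1 = true := by decide +kernel
noncomputable def n2 : Net := (.cons (nat_lit 1) (nat_lit 0x554544)
(.cons (nat_lit 2) (nat_lit 0x10220)
(.cons (nat_lit 8) (nat_lit 0x81)
(.cons (nat_lit 16) (nat_lit 0xad)
(.cons (nat_lit 8) (nat_lit 0x8b)
(.cons (nat_lit 4) (nat_lit 0xa0c08)
(.cons (nat_lit 2) (nat_lit 0x1220)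
(.cons (nat_lit 1) (nat_lit 0x555504)
.nil))))))))
theorem n2_ok : Net.ok 24 n2 = true := by decide +kernel
noncomputable def n3 : Net := (.cons (nat_lit 1) (nat_lit 0x551400)
(.cons (nat_lit 2) (nat_lit 0x300020)
(.cons (nat_lit 4) (nat_lit 0x30900)
(.cons (nat_lit 8) (nat_lit 0x2)
(.cons (nat_lit 16) (nat_lit 0x5a)
(.cons (nat_lit 8) (nat_lit 0x92)
(.cons (nat_lit 4) (nat_lit 0xd000c)
(.cons (nat_lit 2) (nat_lit 0x322320)
(.cons (nat_lit 1) (nat_lit 0x551440)
.nil)))))))))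
theorem n3_ok : Net.ok 24 n3 = true := by decide +kernel
noncomputable def n4 : Net := (.cons (nat_lit 1) (nat_lit 0x400)
(.cons (nat_lit 2) (nat_lit 0x33110)
(.cons (nat_lit 4) (nat_lit 0x50600)
(.cons (nat_lit 8) (nat_lit 0x1)
(.cons (nat_lit 16) (nat_lit 0x49)
(.cons (nat_lit 8) (nat_lit 0xf9)
(.cons (nat_lit 4) (nat_lit 0x20e0c)
(.cons (nat_lit 2) (nat_lit 0x123030)
(.cons (nat_lit 1) (nat_lit 0x41400)
.nil)))))))))
theorem n4_ok : Net.ok 24 n4 = true := by decide +kernel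
noncomputable def n5 : Net := (.cons (nat_lit 1) (nat_lit 0x144500)
(.cons (nat_lit 2) (nat_lit 0x221020)
(.cons (nat_lit 4) (nat_lit 0x30400)
(.cons (nat_lit 8) (nat_lit 0x41)
(.cons (nat_lit 16) (nat_lit 0x6d)
(.cons (nat_lit 8) (nat_lit 0xa1)
(.cons (nat_lit 4) (nat_lit 0xa0a0c)
(.cons (nat_lit 2) (nat_lit 0x203130)
(.cons (nat_lit 1) (nat_lit 0x154110)
.nil)))))))))
theorem n5_ok : Net.ok 24 n5 = true := by decide +kernel
noncomputable def n6 : Net := (.cons (nat_lit 1) (nat_lit 0x414100)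
(.cons (nat_lit 2) (nat_lit 0x123000)
(.cons (nat_lit 4) (nat_lit 0x40200)
(.cons (nat_lit 8) (nat_lit 0x82)
(.cons (nat_lit 16) (nat_lit 0xa6)
(.cons (nat_lit 8) (nat_lit 0x4e)
(.cons (nat_lit 4) (nat_lit 0xe0200)
(.cons (nat_lit 2) (nat_lit 0x101230)
(.cons (nat_lit 1) (nat_lit 0x454100)
.nil)))))))))
theorem n6_ok : Net.ok 24 n6 = true := by decide +kernel
noncomputable def n7 : Net := (.cons (nat_lit 1) (nat_lit 0x414040)
(.cons (nat_lit 2) (nat_lit 0x20120)
(.cons (nat_lit 4) (nat_lit 0x90c00)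
(.cons (nat_lit 8) (nat_lit 0xa3)
(.cons (nat_lit 16) (nat_lit 0xa3)
(.cons (nat_lit 8) (nat_lit 0xcb)
(.cons (nat_lit 4) (nat_lit 0x30f00)
(.cons (nat_lit 2) (nat_lit 0x220330)
(.cons (nat_lit 1) (nat_lit 0x554444)
.nil)))))))))
theorem n7_ok : Net.ok 24 n7 = true := by decide +kernel
noncomputable def n8 : Net := (.cons (nat_lit 1) (nat_lit 0x100010)
(.cons (nat_lit 2) (nat_lit 0x230010)
(.cons (nat_lit 4) (nat_lit 0x80200)
(.cons (nat_lit 8) (nat_lit 0x2)
(.cons (nat_lit 16) (nat_lit 0x4e)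
(.cons (nat_lit 8) (nat_lit 0x2a)
(.cons (nat_lit 4) (nat_lit 0x8060c)
(.cons (nat_lit 2) (nat_lit 0x330120)
(.cons (nat_lit 1) (nat_lit 0x40044)
.nil)))))))))
theorem n8_ok : Net.ok 24 n8 = true := by decide +kernel
noncomputable def n9 : Net := (.cons (nat_lit 1) (nat_lit 0x14410)
(.cons (nat_lit 4) (nat_lit 0x70500)
(.cons (nat_lit 8) (nat_lit 0x3)
(.cons (nat_lit 16) (nat_lit 0x27)
(.cons (nat_lit 8) (nat_lit 0xdb)
(.cons (nat_lit 4) (nat_lit 0x70500)
(.cons (nat_lit 2) (nat_lit 0x110)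
(.cons (nat_lit 1) (nat_lit 0x14410)
.nil))))))))
theorem n9_ok : Net.ok 24 n9 = true := by decide +kernel
noncomputable def n10 : Net := (.cons (nat_lit 1) (nat_lit 0x14410)
(.cons (nat_lit 8) (nat_lit 0x2)
(.cons (nat_lit 16) (nat_lit 0x72)
(.cons (nat_lit 8) (nat_lit 0x6)
(.cons (nat_lit 4) (nat_lit 0x908)
(.cons (nat_lit 2) (nat_lit 0x100010)
(.cons (nat_lit 1) (nat_lit 0x14410)
.nil)))))))
theorem n10_ok : Net.ok 24 n10 = true := by decide +kernel
noncomputable def n11 : Net := (.cons (nat_lit 1) (nat_lit 0x400100)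
(.cons (nat_lit 2) (nat_lit 0x200320)
(.cons (nat_lit 4) (nat_lit 0x80000)
(.cons (nat_lit 8) (nat_lit 0x8)
(.cons (nat_lit 16) (nat_lit 0x28)
(.cons (nat_lit 8) (nat_lit 0x5c)
(.cons (nat_lit 4) (nat_lit 0x9040c)
(.cons (nat_lit 2) (nat_lit 0x200320)
(.cons (nat_lit 1) (nat_lit 0x400500)
.nil)))))))))
theorem n11_ok : Net.ok 24 n11 = true := by decide +kernel
noncomputable def n12 : Net := (.cons (nat_lit 1) (nat_lit 0x411400)
(.cons (nat_lit 2) (nat_lit 0x302100)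
(.cons (nat_lit 4) (nat_lit 0xe0100)
(.cons (nat_lit 8) (nat_lit 0x2)
(.cons (nat_lit 16) (nat_lit 0x2e)
(.cons (nat_lit 8) (nat_lit 0x12)
(.cons (nat_lit 4) (nat_lit 0xe0d00)
(.cons (nat_lit 2) (nat_lit 0x302100)
(.cons (nat_lit 1) (nat_lit 0x511444)
.nil)))))))))
theorem n12_ok : Net.ok 24 n12 = true := by decide +kernel
noncomputable def n13 : Net := (.cons (nat_lit 1) (nat_lit 0x10010)
(.cons (nat_lit 2) (nat_lit 0x3110)
(.cons (nat_lit 4) (nat_lit 0xb0900)
(.cons (nat_lit 8) (nat_lit 0x83)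
(.cons (nat_lit 16) (nat_lit 0x97)
(.cons (nat_lit 8) (nat_lit 0xcb)
(.cons (nat_lit 4) (nat_lit 0xc070c)
(.cons (nat_lit 2) (nat_lit 0x21030)
(.cons (nat_lit 1) (nat_lit 0x111140)
.nil)))))))))
theorem n13_ok : Net.ok 24 n13 = true := by decide +kernel
noncomputable def n14 : Net := (.cons (nat_lit 1) (nat_lit 0x510050)
(.cons (nat_lit 2) (nat_lit 0x22030)
(.cons (nat_lit 4) (nat_lit 0x70800)
(.cons (nat_lit 8) (nat_lit 0x21)
(.cons (nat_lit 16) (nat_lit 0x61)
(.cons (nat_lit 8) (nat_lit 0x49)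
(.cons (nat_lit 4) (nat_lit 0xd0004)
(.cons (nat_lit 2) (nat_lit 0x203200)
(.cons (nat_lit 1) (nat_lit 0x401054)
.nil)))))))))
theorem n14_ok : Net.ok 24 n14 = true := by decide +kernel
noncomputable def n15 : Net := (.cons (nat_lit 1) (nat_lit 0x151540)
(.cons (nat_lit 2) (nat_lit 0x201200)
(.cons (nat_lit 4) (nat_lit 0x400)
(.cons (nat_lit 8) (nat_lit 0x90)
(.cons (nat_lit 16) (nat_lit 0xd0)
(.cons (nat_lit 8) (nat_lit 0xc8)
(.cons (nat_lit 4) (nat_lit 0x40900)
(.cons (nat_lit 2) (nat_lit 0x323310)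
(.cons (nat_lit 1) (nat_lit 0x144450)
.nil)))))))))
theorem n15_ok : Net.ok 24 n15 = true := by decide +kernel
noncomputable def n16 : Net := (.cons (nat_lit 1) (nat_lit 0x11400)
(.cons (nat_lit 2) (nat_lit 0x301320)
(.cons (nat_lit 4) (nat_lit 0x70100)
(.cons (nat_lit 8) (nat_lit 0x84)
(.cons (nat_lit 16) (nat_lit 0xbc)
(.cons (nat_lit 8) (nat_lit 0x74)
(.cons (nat_lit 4) (nat_lit 0x70900)
(.cons (nat_lit 2) (nat_lit 0x300330)
(.cons (nat_lit 1) (nat_lit 0x140540)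
.nil)))))))))
theorem n16_ok : Net.ok 24 n16 = true := by decide +kernel
noncomputable def n17 : Net := (.cons (nat_lit 1) (nat_lit 0x50000)
(.cons (nat_lit 2) (nat_lit 0x103000)
(.cons (nat_lit 4) (nat_lit 0x50000)
(.cons (nat_lit 8) (nat_lit 0x11)
(.cons (nat_lit 16) (nat_lit 0x71)
(.cons (nat_lit 8) (nat_lit 0x41)
(.cons (nat_lit 4) (nat_lit 0x50808)
(.cons (nat_lit 2) (nat_lit 0x132010)
(.cons (nat_lit 1) (nat_lit 0x50000)
.nil)))))))))
theorem n17_ok : Net.ok 24 n17 = true := by decide +kernel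
noncomputable def n18 : Net := (.cons (nat_lit 1) (nat_lit 0x411000)
(.cons (nat_lit 2) (nat_lit 0x112320)
(.cons (nat_lit 4) (nat_lit 0xc0400)
(.cons (nat_lit 8) (nat_lit 0x24)
(.cons (nat_lit 16) (nat_lit 0x6c)
(.cons (nat_lit 8) (nat_lit 0x14)
(.cons (nat_lit 4) (nat_lit 0x40800)
(.cons (nat_lit 2) (nat_lit 0x111100)
(.cons (nat_lit 1) (nat_lit 0x500110)
.nil)))))))))
theorem n18_ok : Net.ok 24 n18 = true := by decide +kernel
noncomputable def nets : List Net := [n0, n1, n2, n3, n4, n5, n6, n7, n8, n9, n10, n11, n12, n13, n14, n15, n16, n17, n18]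
theorem nets_ok : netsOk 24 nets = true := List.all_eq_true.2 (fa_cons n0_ok (fa_cons n1_ok (fa_cons n2_ok (fa_cons n3_ok (fa_cons n4_ok (fa_cons n5_ok (fa_cons n6_ok (fa_cons n7_ok (fa_cons n8_ok (fa_cons n9_ok (fa_cons n10_ok (fa_cons n11_ok (fa_cons n12_ok (fa_cons n13_ok (fa_cons n14_ok (fa_cons n15_ok (fa_cons n16_ok (fa_cons n17_ok (fa_cons n18_ok (fa_nil))))))))))))))))))))
noncomputable def F : Nat → Nat → Nat := ptF (nat_lit 64) (nat_lit 5) nets
instance instF : PtF 24 nets F := ptF_ok nets_ok (by decide +kernel)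
noncomputable def defs : List Word := [dw (nat_lit 0x01010306030206), dw (nat_lit 0x0804070407), dw (nat_lit 0x040803), dw (nat_lit 0x0a0a0c090c), dw (nat_lit 0x0b0b09090c09090c090c0c0a0c0c0909), dw (nat_lit 0x090b090c0c0909090c0c0a0b090b), dw (nat_lit 0x0d110f110e), dw (nat_lit 0x0e0f)
, dw (nat_lit 0x0f0d1012120d110f1210), dw (nat_lit 0x0e110d0d110d10), dw (nat_lit 0x02040603020603050306), dw (nat_lit 0x1b04041c04041c041b04), dw (nat_lit 0x1e1e031d031e04040404), dw (nat_lit 0x03031d1d031d041d041e031e031d1d04041e031d0303), dw (nat_lit 0x03031e1e041e), dw (nat_lit 0x202123222420)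
]
noncomputable def npi : Net := (.cons (nat_lit 1) (nat_lit 0x101454)
(.cons (nat_lit 2) (nat_lit 0x1100)
(.cons (nat_lit 4) (nat_lit 0xc0400)
(.cons (nat_lit 16) (nat_lit 0xb4)
(.cons (nat_lit 8) (nat_lit 0x4a)
(.cons (nat_lit 4) (nat_lit 0xb0d02)
(.cons (nat_lit 2) (nat_lit 0x13332)
(.cons (nat_lit 1) (nat_lit 0x104550)
.nil))))))))
theorem npi_ok : Net.ok 24 npi = true := by decide +kernel
theorem nets_ok' : netsOk 24 (nets ++ [npi]) = true :=
  List.all_append.trans (by rw [show nets.all _ = true from nets_ok, List.all_cons, npi_ok]; rfl)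
noncomputable def wa : Word := [nat_lit 0]
noncomputable def wu : Word := [nat_lit 2]
noncomputable def wb : Word := [nat_lit 4]
noncomputable def cha4 : Lv := .cons (nat_lit 14) [dw (nat_lit 0x13), dw (nat_lit 0x15), dw (nat_lit 0x17), dw (nat_lit 0x19)] [dw (nat_lit 0x01), dw (nat_lit 0x03), dw (nat_lit 0x05), dw (nat_lit 0x07)] .nil
noncomputable def cha3 : Lv := .cons (nat_lit 19) [dw (nat_lit 0x0d), dw (nat_lit 0x0f), dw (nat_lit 0x11)] [dw (nat_lit 0x01), dw (nat_lit 0x01)] cha4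
noncomputable def cha2 : Lv := .cons (nat_lit 17) [dw (nat_lit 0x09), dw (nat_lit 0x0b)] [dw (nat_lit 0x01), dw (nat_lit 0x03), dw (nat_lit 0x01), dw (nat_lit 0x0d), dw (nat_lit 0x11), dw (nat_lit 0x01)] cha3
noncomputable def cha1 : Lv := .cons (nat_lit 15) [dw (nat_lit 0x03), dw (nat_lit 0x07)] [dw (nat_lit 0x01), dw (nat_lit 0x0b04), dw (nat_lit 0x01), dw (nat_lit 0x07), dw (nat_lit 0x03), dw (nat_lit 0x01)] cha2
noncomputable def cha0 : Lv := .cons (nat_lit 1) [dw (nat_lit 0x01), dw (nat_lit 0x05)] [dw (nat_lit 0x01), dw (nat_lit 0x03), dw (nat_lit 0x01), dw (nat_lit 0x05), dw (nat_lit 0x13), dw (nat_lit 0x0b)] cha1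
noncomputable def csa : List Word := [dw (nat_lit 0x01)]
noncomputable def dda0_0 : List (Word × CT) := [(dw (nat_lit 0x05), (.step (nat_lit 1) (nat_lit 1) (dw (nat_lit 0x1207)) (.step (nat_lit 15) (nat_lit 1) (dw (nat_lit 0x1909)) (.dead (nat_lit 17) (nat_lit 4)))))]
noncomputable def dda0 : List (Word × CT) := dda0_0
noncomputable def Ta0 : List Word := [[], dw (nat_lit 0x01), dw (nat_lit 0x0101), dw (nat_lit 0x010101), dw (nat_lit 0x01010101), dw (nat_lit 0x0101010101), dw (nat_lit 0x010101010101), dw (nat_lit 0x01010101010101)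
, dw (nat_lit 0x0101010101010101), dw (nat_lit 0x010101010101010101), dw (nat_lit 0x01010101010101010101)]
noncomputable def cwa0 : List Word := [dw (nat_lit 0x01)]
noncomputable def sca0 : List Word := [dw (nat_lit 0x01), dw (nat_lit 0x0202), dw (nat_lit 0x020202), dw (nat_lit 0x010101), dw (nat_lit 0x01)]
noncomputable def Ea0 : List Word := mulL [[]] (List.map (flat csa) Ta0)
noncomputable def chu4 : Lv := .cons (nat_lit 8) [dw (nat_lit 0x25)] [dw (nat_lit 0x01), dw (nat_lit 0x01)] .nil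
noncomputable def chu3 : Lv := .cons (nat_lit 18) [dw (nat_lit 0x1f), dw (nat_lit 0x21), dw (nat_lit 0x23)] [dw (nat_lit 0x01), dw (nat_lit 0x03), dw (nat_lit 0x05), dw (nat_lit 0x01), dw (nat_lit 0x01)] chu4
noncomputable def chu2 : Lv := .cons (nat_lit 2) [dw (nat_lit 0x03), dw (nat_lit 0x1d)] [dw (nat_lit 0x01), dw (nat_lit 0x03), dw (nat_lit 0x01), dw (nat_lit 0x03), dw (nat_lit 0x01), dw (nat_lit 0x01)] chu3
noncomputable def chu1 : Lv := .cons (nat_lit 10) [dw (nat_lit 0x1b)] [dw (nat_lit 0x01), dw (nat_lit 0x0101), dw (nat_lit 0x05), dw (nat_lit 0x03), dw (nat_lit 0x01), dw (nat_lit 0x03)] chu2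
noncomputable def chu0 : Lv := .cons (nat_lit 1) [dw (nat_lit 0x01), dw (nat_lit 0x05)] [dw (nat_lit 0x01), dw (nat_lit 0x03), dw (nat_lit 0x01), dw (nat_lit 0x05), dw (nat_lit 0x05), dw (nat_lit 0x05)] chu1
noncomputable def csu : List Word := [dw (nat_lit 0x03)]
noncomputable def ddu0_0 : List (Word × CT) := [(dw (nat_lit 0x05), (.alt [] (.alt [] (.step (nat_lit 2) (nat_lit 1) (dw (nat_lit 0x2022)) (.step (nat_lit 18) (nat_lit 1) (dw (nat_lit 0x25)) (.bad (nat_lit 3)))) (.alt (dw (nat_lit 0x03)) (.step (nat_lit 2) (nat_lit 1) (dw (nat_lit 0x2022)) (.step (nat_lit 18) (nat_lit 1) (dw (nat_lit 0x25)) (.bad (nat_lit 3)))) (.alt (dw (nat_lit 0x04)) (.step (nat_lit 2) (nat_lit 1) (dw (nat_lit 0x2022)) (.step (nat_lit 18) (nat_lit 1) (dw (nat_lit 0x25)) (.bad (nat_lit 3)))) (.alt (dw (nat_lit 0x1d)) (.step (nat_lit 2) (nat_lit 1) (dw (nat_lit 0x2022)) (.dead (nat_lit 18) (nat_lit 1))) (.alt (dw (nat_lit 0x1e)) (.step (nat_lit 2)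 (nat_lit 1) [] (.dead (nat_lit 18) (nat_lit 1))) (.alt (dw (nat_lit 0x1f03)) (.step (nat_lit 2) (nat_lit 1) (dw (nat_lit 0x20)) (.dead (nat_lit 18) (nat_lit 1))) (.alt (dw (nat_lit 0x2003)) (.step (nat_lit 2) (nat_lit 1) (dw (nat_lit 0x2022)) (.dead (nat_lit 18) (nat_lit 1))) (.alt (dw (nat_lit 0x2103)) (.step (nat_lit 2) (nat_lit 1) [] (.dead (nat_lit 18) (nat_lit 1))) (.alt (dw (nat_lit 0x2203)) (.step (nat_lit 2) (nat_lit 1) (dw (nat_lit 0x1f21)) (.dead (nat_lit 18) (nat_lit 1))) (.alt (dw (nat_lit 0x0303)) (.step (nat_lit 2) (nat_lit 1) (dw (nat_lit 0x2022)) (.step (nat_lit 18) (nat_lit 1) (dw (nat_lit 0x25)) (.bad (nat_lit 3)))) (.alt (dw (nat_lit 0x1e03)) (.step (nat_lit 2) (nat_lit 1) (dw (nat_lit 0x1f21)) (.dead (nat_lit 18) (nat_lit 1))) (.alt (dw (nat_lit 0x2504)) (.step (nat_lit 2) (nat_lit 1) [] (.step (nat_lit 18) (nat_lit 1) (dw (nat_lit 0x25)) (.bad (nat_lit 3)))) (.alt (dw (nat_lit 0x1f04)) (.step (nat_lit 2)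 (nat_lit 1) (dw (nat_lit 0x2120)) (.dead (nat_lit 18) (nat_lit 1))) (.alt (dw (nat_lit 0x2004)) (.step (nat_lit 2) (nat_lit 1) (dw (nat_lit 0x2220)) (.dead (nat_lit 18) (nat_lit 1))) (.alt (dw (nat_lit 0x2104)) (.step (nat_lit 2) (nat_lit 1) (dw (nat_lit 0x251f)) (.dead (nat_lit 18) (nat_lit 1))) (.alt (dw (nat_lit 0x2304)) (.step (nat_lit 2) (nat_lit 1) (dw (nat_lit 0x1f)) (.dead (nat_lit 18) (nat_lit 1))) (.alt (dw (nat_lit 0x201d)) (.step (nat_lit 2) (nat_lit 1) (dw (nat_lit 0x1f)) (.dead (nat_lit 18) (nat_lit 1))) (.alt (dw (nat_lit 0x1e1f03)) (.step (nat_lit 2) (nat_lit 1) (dw (nat_lit 0x21)) (.dead (nat_lit 18) (nat_lit 1))) (.alt (dw (nat_lit 0x032103)) (.step (nat_lit 2) (nat_lit 1) [] (.dead (nat_lit 18) (nat_lit 1))) (.alt (dw (nat_lit 0x031e03)) (.step (nat_lit 2) (nat_lit 1) (dw (nat_lit 0x1f21)) (.dead (nat_lit 18) (nat_lit 1))) (.nil (nat_lit 0)))))))))))))))))))))) (.nil (nat_lit 1))))]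
noncomputable def ddu0 : List (Word × CT) := ddu0_0
noncomputable def Tu0 : List Word := [[]]
noncomputable def cwu0 : List Word := [dw (nat_lit 0x01)]
noncomputable def scu0 : List Word := []
noncomputable def ddu1 : List (Word × CT) := []
noncomputable def Tu1 : List Word := [[]]
noncomputable def cwu1 : List Word := []
noncomputable def scu1 : List Word := []
noncomputable def ddu2_0 : List (Word × CT) := [(dw (nat_lit 0x1d), (.step (nat_lit 2) (nat_lit 1) (dw (nat_lit 0x1f)) (.dead (nat_lit 18) (nat_lit 1)))),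
  (dw (nat_lit 0x1e), (.step (nat_lit 2) (nat_lit 1) (dw (nat_lit 0x21)) (.dead (nat_lit 18) (nat_lit 1)))),
  (dw (nat_lit 0x1f03), (.step (nat_lit 2) (nat_lit 1) (dw (nat_lit 0x251f)) (.dead (nat_lit 18) (nat_lit 1))))]
noncomputable def ddu2 : List (Word × CT) := ddu2_0
noncomputable def Tu2 : List Word := [[], dw (nat_lit 0x01), dw (nat_lit 0x02), dw (nat_lit 0x0101), dw (nat_lit 0x0202)]
noncomputable def cwu2 : List Word := [dw (nat_lit 0x01)]
noncomputable def scu2 : List Word := [dw (nat_lit 0x01), dw (nat_lit 0x0202), dw (nat_lit 0x01)]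
noncomputable def Eu2 : List Word := mulL [[]] (List.map (flat csu) Tu2)
noncomputable def Eu1 : List Word := mulL Eu2 (List.map (flat csu) Tu1)
noncomputable def Eu0 : List Word := mulL Eu1 (List.map (flat csu) Tu0)
noncomputable def Rs : List (Word × Nat) := [(dw (nat_lit 0x050501050501050501), nat_lit 7)]
noncomputable def ks : List Nat := [nat_lit 1, nat_lit 2]
noncomputable def wc : Word := dw (nat_lit 0x0303)
theorem chca : band (Nat.ble 1 443520) (Nat.ble 443520 (cha0.val 24 nets)) = true := by decide +kernel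
theorem cca : relsChk 24 nets 5 (idArr 24 5 5 0) (commRels wa csa) = true := by decide +kernel
theorem dka0_0 : deadChk 24 nets F wa cha0 [] dda0_0 = true := by decide +kernel
theorem lka0 : lvlChk 24 nets F wa cha0 [] (List.map (flat csa) Ta0) (List.map (flat csa) cwa0) sca0 dda0 0 = true := by decide +kernel
theorem dta1 : detChk F wa cha1 [nat_lit 1] 1 1 = true := by decide +kernel
theorem dta2 : detChk F wa cha2 [nat_lit 15, nat_lit 1] 15 1 = true := by decide +kernel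
theorem dta3 : detChk F wa cha3 [nat_lit 17, nat_lit 15, nat_lit 1] 17 4 = true := by decide +kernel
theorem dta4 : detChk F wa cha4 [nat_lit 19, nat_lit 17, nat_lit 15, nat_lit 1] 17 1 = true := by decide +kernel
theorem chcu : band (Nat.ble 1 443520) (Nat.ble 443520 (chu0.val 24 nets)) = true := by decide +kernel
theorem ccu : relsChk 24 nets 5 (idArr 24 5 5 0) (commRels (powW wu 1) csu) = true := by decide +kernel
theorem dku0_0 : deadChk 24 nets F (powW wu 1) chu0 [] ddu0_0 = true := by decide +kernel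
theorem lku0 : lvlChk 24 nets F (powW wu 1) chu0 [] (List.map (flat csu) Tu0) (List.map (flat csu) cwu0) scu0 ddu0 1 = true := by decide +kernel
theorem lku1 : lvlChk 24 nets F (powW wu 1) chu1 [nat_lit 1] (List.map (flat csu) Tu1) (List.map (flat csu) cwu1) scu1 ddu1 1 = true := by decide +kernel
theorem dku2_0 : deadChk 24 nets F (powW wu 1) chu2 [nat_lit 10, nat_lit 1] ddu2_0 = true := by decide +kernel
theorem lku2 : lvlChk 24 nets F (powW wu 1) chu2 [nat_lit 10, nat_lit 1] (List.map (flat csu) Tu2) (List.map (flat csu) cwu2) scu2 ddu2 0 = true := by decide +kernel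
theorem dtu3 : detChk F (powW wu 1) chu3 [nat_lit 2, nat_lit 10, nat_lit 1] 2 1 = true := by decide +kernel
theorem dtu4 : detChk F (powW wu 1) chu4 [nat_lit 18, nat_lit 2, nat_lit 10, nat_lit 1] 18 1 = true := by decide +kernel
theorem nf : relsChk 24 nets 5 (idArr 24 5 5 0) (nfRels wa wu wb 11 3 1 3 Rs) = true := by decide +kernel
theorem lf_0 : allL (lfChk 24 F wa wu wb ks Rs [((1 : ℕ), ([] : Word)), (2, wc)]) Eu0 = true := by decide +kernel
theorem ari : ariChk 443520 11 3 5 ks = true := by decide +kernel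
theorem mva : band (Nat.ble (Nat.succ 1) 24) (bnot (Nat.beq (apW F wa 1) 1)) = true := by decide +kernel
theorem pwa : pwChk wa 11 Ea0 = true := by decide +kernel
theorem dc : relsChk 24 nets 5 (idArr 24 5 5 0) (defRels defs 3) = true := by decide +kernel
theorem pic : relsChk 24 (nets ++ [npi]) 5 (idArr 24 5 5 0) (piRels 38 [wa, wu, wb] [powW wa 2, wu, wc ++ wb]) = true := by decide +kernel
theorem ni_0 : allL (niChk 24 F wa wb 2 wc [nat_lit 4]) Eu0 = true := by decide +kernel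
section
variable {G : Type u} {Ω : Type*} [Group G] [MulAction G Ω] [FaithfulSMul G Ω] (M : PM G Ω 24 nets)

theorem RCa : Rels M.gen (commRels wa csa) := (M.rels_of_idArr (by decide) cca)
theorem cpa5 : CP M wa .nil [nat_lit 14, nat_lit 19, nat_lit 17, nat_lit 15, nat_lit 1] [[]] := cp_nil _ _
theorem cpa4 : CP M wa cha4 [nat_lit 19, nat_lit 17, nat_lit 15, nat_lit 1] [[]] := cp_det _ _ dta4 (cpa5 M)
theorem cpa3 : CP M wa cha3 [nat_lit 17, nat_lit 15, nat_lit 1] [[]] := cp_det _ _ dta3 (cpa4 M)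
theorem cpa2 : CP M wa cha2 [nat_lit 15, nat_lit 1] [[]] := cp_det _ _ dta2 (cpa3 M)
theorem cpa1 : CP M wa cha1 [nat_lit 1] [[]] := cp_det _ _ dta1 (cpa2 M)
theorem cpa0 : CP M wa cha0 [] Ea0 := cp_lvl (RCa M) lka0 dka0_0 (cpa1 M)
theorem cena (hN : Nat.card G = 443520) (g : G) (hg : g * ev M.gen wa = ev M.gen wa * g) : ∃ t ∈ Ea0, g = ev M.gen t := cp_top (cpa0 M) hN chca g hg
theorem RCu : Rels M.gen (commRels (powW wu 1) csu) := (M.rels_of_idArr (by decide) ccu)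
theorem cpu5 : CP M (powW wu 1) .nil [nat_lit 8, nat_lit 18, nat_lit 2, nat_lit 10, nat_lit 1] [[]] := cp_nil _ _
theorem cpu4 : CP M (powW wu 1) chu4 [nat_lit 18, nat_lit 2, nat_lit 10, nat_lit 1] [[]] := cp_det _ _ dtu4 (cpu5 M)
theorem cpu3 : CP M (powW wu 1) chu3 [nat_lit 2, nat_lit 10, nat_lit 1] [[]] := cp_det _ _ dtu3 (cpu4 M)
theorem cpu2 : CP M (powW wu 1) chu2 [nat_lit 10, nat_lit 1] Eu2 := cp_lvl (RCu M) lku2 dku2_0 (cpu3 M)
theorem cpu1 : CP M (powW wu 1) chu1 [nat_lit 1] Eu1 := cp_lvl (RCu M) lku1 rfl (cpu2 M)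
theorem cpu0 : CP M (powW wu 1) chu0 [] Eu0 := cp_lvl (RCu M) lku0 dku0_0 (cpu1 M)
theorem cenu (hN : Nat.card G = 443520) (g : G) (hg : g * ev M.gen (powW wu 1) = ev M.gen (powW wu 1) * g) : ∃ t ∈ Eu0, g = ev M.gen t := cp_top (cpu0 M) hN chcu g hg
theorem Rdefs : Rels M.gen (defRels defs 3) := (M.rels_of_idArr (by decide) dc)
theorem top (hN : Nat.card G = 443520) : sub M.gen [wa, wu, wb] = ⊤ := top_of_defs (lo := 0) (j := 0) hN chca (Rdefs M) (by decide +kernel)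
theorem upper (hN : Nat.card G = 443520) (α : MulAut G) : ∃ g : G, ∃ q ∈ [((1 : ℕ), ([] : Word)), (2, wc)],
    Maps M.gen (MulAut.conj g * α) [wa, wu, wb] [powW wa q.1, wu, q.2 ++ wb] :=
  out_upper hN (by decide +kernel) (by norm_num) ari (M.rels_of_idArr (by decide) nf) mva (cena M hN) pwa (cenu M hN) lf_0 α
theorem outer (hN : Nat.card G = 443520) : ∃ ν, Maps M.gen ν [wa, wu, wb] [powW wa 2, wu, wc ++ wb] :=
  haveI := fin_of_card hN (by decide +kernel)
  aut_of_perm (permPM 24 _ (by decide) (by decide) nets_ok') (by decide +kernel)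
    ((permPM 24 _ (by decide) (by decide) nets_ok').rels_of_idArr (by decide) pic) rfl (top M hN)
include M in
theorem out (hN : Nat.card G = 443520) : Nat.card (Out G) = 2 := out_two (top M hN) (upper M hN) (outer M hN) (cenu M hN) ni_0
end

section
variable {G : Type u} {Ω : Type*} [Group G] [MulAction G Ω]

noncomputable def mach (E : Enc Ω 24) (hr : ∀ l < 3, ∃ g : G, E.Real (getL Net.nil nets l) g) : PM G Ω 24 nets :=
  PM.ofReal G E (by decide) nets_ok (real_of_slp E (by decide) (by decide) nets_ok hr (ds := defs) (by decide +kernel) (by decide +kernel)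
    (Rdefs (permPM 24 nets (by decide) (by decide) nets_ok)))
theorem out' [FaithfulSMul G Ω] (E : Enc Ω 24) (hr : ∀ l < 3, ∃ g : G, E.Real (getL Net.nil nets l) g) (hN : Nat.card G = 443520) : Nat.card (Out G) = 2 := out (mach E hr) hN
end

end L.OM22
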