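import Cfsg.Agent.L.Top
import Cfsg.Agent.L.Out

/-! Generated certificate (toolsL) for the group OM23 of degree 24 and order 10200960. -/
set_option Elab.async false
set_option autoImplicit false
set_option maxRecDepth 100000
set_option maxHeartbeats 0
set_option linter.unusedSectionVars false

namespace L.OM23
open H14 Cfsg

universe u

noncomputable def n0 : Net := (.cons (nat_lit 1) (nat_lit 0x514100)
(.cons (nat_lit 2) (nat_lit 0x333100)
(.cons (nat_lit 4) (nat_lit 0x30000)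
(.cons (nat_lit 8) (nat_lit 0x24)
(.cons (nat_lit 16) (nat_lit 0x3c)
(.cons (nat_lit 8) (nat_lit 0x10)
(.cons (nat_lit 4) (nat_lit 0x50d0f)
(.cons (nat_lit 2) (nat_lit 0x320112)
(.cons (nat_lit 1) (nat_lit 0x415014)
.nil)))))))))
theorem n0_ok : Net.ok 24 n0 = true := by decide +kernel
noncomputable def n1 : Net := (.cons (nat_lit 1) (nat_lit 0x555544)
(.cons (nat_lit 2) (nat_lit 0x122110)
(.cons (nat_lit 4) (nat_lit 0x40800)
(.cons (nat_lit 8) (nat_lit 0xa2)
(.cons (nat_lit 16) (nat_lit 0xea)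
(.cons (nat_lit 8) (nat_lit 0xc0)
(.cons (nat_lit 4) (nat_lit 0x80c0c)
(.cons (nat_lit 2) (nat_lit 0x130020)
(.cons (nat_lit 1) (nat_lit 0x404550)
.nil)))))))))
theorem n1_ok : Net.ok 24 n1 = true := by decide +kernel
noncomputable def n2 : Net := (.cons (nat_lit 1) (nat_lit 0x51000)
(.cons (nat_lit 2) (nat_lit 0x201000)
(.cons (nat_lit 4) (nat_lit 0x60000)
(.cons (nat_lit 8) (nat_lit 0x1)
(.cons (nat_lit 16) (nat_lit 0xb5)
(.cons (nat_lit 8) (nat_lit 0x15)
(.cons (nat_lit 4) (nat_lit 0x20800)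
(.cons (nat_lit 2) (nat_lit 0x200210)
(.cons (nat_lit 1) (nat_lit 0x110150)
.nil)))))))))
theorem n2_ok : Net.ok 24 n2 = true := by decide +kernel
noncomputable def n3 : Net := (.cons (nat_lit 1) (nat_lit 0x151100)
(.cons (nat_lit 2) (nat_lit 0x230100)
(.cons (nat_lit 4) (nat_lit 0x200)
(.cons (nat_lit 8) (nat_lit 0x40)
(.cons (nat_lit 16) (nat_lit 0xc4)
(.cons (nat_lit 8) (nat_lit 0x64)
(.cons (nat_lit 4) (nat_lit 0xd080a)
(.cons (nat_lit 2) (nat_lit 0x331210)
(.cons (nat_lit 1) (nat_lit 0x145410)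
.nil)))))))))
theorem n3_ok : Net.ok 24 n3 = true := by decide +kernel
noncomputable def n4 : Net := (.cons (nat_lit 1) (nat_lit 0x441414)
(.cons (nat_lit 2) (nat_lit 0x130120)
(.cons (nat_lit 4) (nat_lit 0x90200)
(.cons (nat_lit 8) (nat_lit 0xc0)
(.cons (nat_lit 16) (nat_lit 0xf0)
(.cons (nat_lit 8) (nat_lit 0xde)
(.cons (nat_lit 4) (nat_lit 0x30808)
(.cons (nat_lit 2) (nat_lit 0x130220)
(.cons (nat_lit 1) (nat_lit 0x540500)
.nil)))))))))
theorem n4_ok : Net.ok 24 n4 = true := by decide +kernel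
noncomputable def n5 : Net := (.cons (nat_lit 1) (nat_lit 0x114100)
(.cons (nat_lit 2) (nat_lit 0x311000)
(.cons (nat_lit 4) (nat_lit 0x50400)
(.cons (nat_lit 8) (nat_lit 0xc2)
(.cons (nat_lit 16) (nat_lit 0xd6)
(.cons (nat_lit 8) (nat_lit 0xc2)
(.cons (nat_lit 4) (nat_lit 0x5050a)
(.cons (nat_lit 2) (nat_lit 0x311022)
(.cons (nat_lit 1) (nat_lit 0x114100)
.nil)))))))))
theorem n5_ok : Net.ok 24 n5 = true := by decide +kernel
noncomputable def n6 : Net := (.cons (nat_lit 1) (nat_lit 0x415440)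
(.cons (nat_lit 2) (nat_lit 0x302300)
(.cons (nat_lit 4) (nat_lit 0x50000)
(.cons (nat_lit 8) (nat_lit 0x5a)
(.cons (nat_lit 16) (nat_lit 0x7e)
(.cons (nat_lit 8) (nat_lit 0xc)
(.cons (nat_lit 4) (nat_lit 0x30302)
(.cons (nat_lit 2) (nat_lit 0x101110)
(.cons (nat_lit 1) (nat_lit 0x541140)
.nil)))))))))
theorem n6_ok : Net.ok 24 n6 = true := by decide +kernel
noncomputable def n7 : Net := (.cons (nat_lit 1) (nat_lit 0x504500)
(.cons (nat_lit 2) (nat_lit 0x101300)
(.cons (nat_lit 4) (nat_lit 0x40000)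
(.cons (nat_lit 8) (nat_lit 0x84)
(.cons (nat_lit 16) (nat_lit 0xa4)
(.cons (nat_lit 8) (nat_lit 0x2)
(.cons (nat_lit 4) (nat_lit 0x60300)
(.cons (nat_lit 2) (nat_lit 0x110300)
(.cons (nat_lit 1) (nat_lit 0x544500)
.nil)))))))))
theorem n7_ok : Net.ok 24 n7 = true := by decide +kernel
noncomputable def n8 : Net := (.cons (nat_lit 1) (nat_lit 0x404540)
(.cons (nat_lit 2) (nat_lit 0x121100)
(.cons (nat_lit 8) (nat_lit 0x44)
(.cons (nat_lit 16) (nat_lit 0x64)
(.cons (nat_lit 4) (nat_lit 0x80704)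
(.cons (nat_lit 2) (nat_lit 0x101300)
(.cons (nat_lit 1) (nat_lit 0x400550)
.nil)))))))
theorem n8_ok : Net.ok 24 n8 = true := by decide +kernel
noncomputable def n9 : Net := (.cons (nat_lit 1) (nat_lit 0x401100)
(.cons (nat_lit 2) (nat_lit 0x33120)
(.cons (nat_lit 4) (nat_lit 0x900)
(.cons (nat_lit 8) (nat_lit 0x1)
(.cons (nat_lit 16) (nat_lit 0x23)
(.cons (nat_lit 8) (nat_lit 0x91)
(.cons (nat_lit 4) (nat_lit 0x80f00)
(.cons (nat_lit 2) (nat_lit 0x33120)
(.cons (nat_lit 1) (nat_lit 0x401510)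
.nil)))))))))
theorem n9_ok : Net.ok 24 n9 = true := by decide +kernel
noncomputable def n10 : Net := (.cons (nat_lit 1) (nat_lit 0x40010)
(.cons (nat_lit 2) (nat_lit 0x122100)
(.cons (nat_lit 4) (nat_lit 0xc0200)
(.cons (nat_lit 8) (nat_lit 0x56)
(.cons (nat_lit 16) (nat_lit 0xf6)
(.cons (nat_lit 8) (nat_lit 0xd2)
(.cons (nat_lit 4) (nat_lit 0xc0502)
(.cons (nat_lit 2) (nat_lit 0x23300)
(.cons (nat_lit 1) (nat_lit 0x510)
.nil)))))))))
theorem n10_ok : Net.ok 24 n10 = true := by decide +kernel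
noncomputable def n11 : Net := (.cons (nat_lit 1) (nat_lit 0x555500)
(.cons (nat_lit 2) (nat_lit 0x322200)
(.cons (nat_lit 4) (nat_lit 0x800)
(.cons (nat_lit 8) (nat_lit 0x40)
(.cons (nat_lit 16) (nat_lit 0x62)
(.cons (nat_lit 8) (nat_lit 0xd0)
(.cons (nat_lit 4) (nat_lit 0x20a02)
(.cons (nat_lit 2) (nat_lit 0x332300)
(.cons (nat_lit 1) (nat_lit 0x555500)
.nil)))))))))
theorem n11_ok : Net.ok 24 n11 = true := by decide +kernel
noncomputable def n12 : Net := (.cons (nat_lit 1) (nat_lit 0x154000)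
(.cons (nat_lit 2) (nat_lit 0x30120)
(.cons (nat_lit 4) (nat_lit 0x900)
(.cons (nat_lit 8) (nat_lit 0x46)
(.cons (nat_lit 16) (nat_lit 0x46)
(.cons (nat_lit 8) (nat_lit 0xd6)
(.cons (nat_lit 4) (nat_lit 0x50d02)
(.cons (nat_lit 2) (nat_lit 0x32120)
(.cons (nat_lit 1) (nat_lit 0x154000)
.nil)))))))))
theorem n12_ok : Net.ok 24 n12 = true := by decide +kernel
noncomputable def n13 : Net := (.cons (nat_lit 1) (nat_lit 0x445010)
(.cons (nat_lit 2) (nat_lit 0x12000)
(.cons (nat_lit 4) (nat_lit 0x80300)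
(.cons (nat_lit 8) (nat_lit 0xb)
(.cons (nat_lit 16) (nat_lit 0xab)
(.cons (nat_lit 8) (nat_lit 0x39)
(.cons (nat_lit 4) (nat_lit 0xa0502)
(.cons (nat_lit 2) (nat_lit 0x12000)
(.cons (nat_lit 1) (nat_lit 0x445010)
.nil)))))))))
theorem n13_ok : Net.ok 24 n13 = true := by decide +kernel
noncomputable def n14 : Net := (.cons (nat_lit 1) (nat_lit 0x10150)
(.cons (nat_lit 2) (nat_lit 0x22300)
(.cons (nat_lit 4) (nat_lit 0x50000)
(.cons (nat_lit 8) (nat_lit 0x21)
(.cons (nat_lit 16) (nat_lit 0x73)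
(.cons (nat_lit 8) (nat_lit 0x67)
(.cons (nat_lit 4) (nat_lit 0x1060a)
(.cons (nat_lit 2) (nat_lit 0x101200)
(.cons (nat_lit 1) (nat_lit 0x141554)
.nil)))))))))
theorem n14_ok : Net.ok 24 n14 = true := by decide +kernel
noncomputable def n15 : Net := (.cons (nat_lit 1) (nat_lit 0x444000)
(.cons (nat_lit 2) (nat_lit 0x121020)
(.cons (nat_lit 4) (nat_lit 0x20200)
(.cons (nat_lit 8) (nat_lit 0x80)
(.cons (nat_lit 16) (nat_lit 0xe0)
(.cons (nat_lit 8) (nat_lit 0x7c)
(.cons (nat_lit 4) (nat_lit 0xb0c)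
(.cons (nat_lit 2) (nat_lit 0x110300)
(.cons (nat_lit 1) (nat_lit 0x405454)
.nil)))))))))
theorem n15_ok : Net.ok 24 n15 = true := by decide +kernel
noncomputable def n16 : Net := (.cons (nat_lit 1) (nat_lit 0x110000)
(.cons (nat_lit 2) (nat_lit 0x200220)
(.cons (nat_lit 4) (nat_lit 0x20c00)
(.cons (nat_lit 8) (nat_lit 0x84)
(.cons (nat_lit 16) (nat_lit 0xb4)
(.cons (nat_lit 8) (nat_lit 0x30)
(.cons (nat_lit 4) (nat_lit 0x60208)
(.cons (nat_lit 2) (nat_lit 0x330230)
(.cons (nat_lit 1) (nat_lit 0x114014)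
.nil)))))))))
theorem n16_ok : Net.ok 24 n16 = true := by decide +kernel
noncomputable def n17 : Net := (.cons (nat_lit 1) (nat_lit 0x55400)
(.cons (nat_lit 2) (nat_lit 0x303000)
(.cons (nat_lit 4) (nat_lit 0x20900)
(.cons (nat_lit 8) (nat_lit 0x9)
(.cons (nat_lit 16) (nat_lit 0xfd)
(.cons (nat_lit 8) (nat_lit 0x29)
(.cons (nat_lit 4) (nat_lit 0x70704)
(.cons (nat_lit 2) (nat_lit 0x202210)
(.cons (nat_lit 1) (nat_lit 0x111454)
.nil)))))))))
theorem n17_ok : Net.ok 24 n17 = true := by decide +kernel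
noncomputable def n18 : Net := (.cons (nat_lit 1) (nat_lit 0x110110)
(.cons (nat_lit 2) (nat_lit 0x121300)
(.cons (nat_lit 4) (nat_lit 0x10c00)
(.cons (nat_lit 8) (nat_lit 0x35)
(.cons (nat_lit 16) (nat_lit 0x7d)
(.cons (nat_lit 8) (nat_lit 0xd)
(.cons (nat_lit 4) (nat_lit 0xa00)
(.cons (nat_lit 2) (nat_lit 0x120200)
(.cons (nat_lit 1) (nat_lit 0x111540)
.nil)))))))))
theorem n18_ok : Net.ok 24 n18 = true := by decide +kernel
noncomputable def n19 : Net := (.cons (nat_lit 1) (nat_lit 0x515010)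
(.cons (nat_lit 2) (nat_lit 0x312010)
(.cons (nat_lit 4) (nat_lit 0x60400)
(.cons (nat_lit 8) (nat_lit 0x6)
(.cons (nat_lit 16) (nat_lit 0xe6)
(.cons (nat_lit 8) (nat_lit 0xc2)
(.cons (nat_lit 4) (nat_lit 0x20a08)
(.cons (nat_lit 2) (nat_lit 0x313020)
(.cons (nat_lit 1) (nat_lit 0x515444)
.nil)))))))))
theorem n19_ok : Net.ok 24 n19 = true := by decide +kernel
noncomputable def n20 : Net := (.cons (nat_lit 1) (nat_lit 0x101150)
(.cons (nat_lit 2) (nat_lit 0x100030)
(.cons (nat_lit 4) (nat_lit 0x40800)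
(.cons (nat_lit 8) (nat_lit 0x40)
(.cons (nat_lit 16) (nat_lit 0x50)
(.cons (nat_lit 8) (nat_lit 0xf4)
(.cons (nat_lit 4) (nat_lit 0x10d0c)
(.cons (nat_lit 2) (nat_lit 0x13020)
(.cons (nat_lit 1) (nat_lit 0x111150)
.nil)))))))))
theorem n20_ok : Net.ok 24 n20 = true := by decide +kernel
noncomputable def n21 : Net := (.cons (nat_lit 1) (nat_lit 0x54000)
(.cons (nat_lit 2) (nat_lit 0x203020)
(.cons (nat_lit 4) (nat_lit 0x30100)
(.cons (nat_lit 8) (nat_lit 0x1)
(.cons (nat_lit 16) (nat_lit 0xb9)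
(.cons (nat_lit 8) (nat_lit 0x45)
(.cons (nat_lit 4) (nat_lit 0x30900)
(.cons (nat_lit 2) (nat_lit 0x203020)
(.cons (nat_lit 1) (nat_lit 0x54000)
.nil)))))))))
theorem n21_ok : Net.ok 24 n21 = true := by decide +kernel
noncomputable def n22 : Net := (.cons (nat_lit 1) (nat_lit 0x104000)
(.cons (nat_lit 2) (nat_lit 0x23000)
(.cons (nat_lit 4) (nat_lit 0xd0d00)
(.cons (nat_lit 8) (nat_lit 0x1)
(.cons (nat_lit 16) (nat_lit 0xf1)
(.cons (nat_lit 8) (nat_lit 0xd)
(.cons (nat_lit 4) (nat_lit 0xd0d00)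
(.cons (nat_lit 2) (nat_lit 0x23000)
(.cons (nat_lit 1) (nat_lit 0x105404)
.nil)))))))))
theorem n22_ok : Net.ok 24 n22 = true := by decide +kernel
noncomputable def n23 : Net := (.cons (nat_lit 1) (nat_lit 0x54000)
(.cons (nat_lit 2) (nat_lit 0x300000)
(.cons (nat_lit 4) (nat_lit 0xd0000)
(.cons (nat_lit 8) (nat_lit 0x18)
(.cons (nat_lit 16) (nat_lit 0x1c)
(.cons (nat_lit 8) (nat_lit 0x38)
(.cons (nat_lit 4) (nat_lit 0xd0408)
(.cons (nat_lit 2) (nat_lit 0x320010)
(.cons (nat_lit 1) (nat_lit 0x54000)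
.nil)))))))))
theorem n23_ok : Net.ok 24 n23 = true := by decide +kernel
noncomputable def n24 : Net := (.cons (nat_lit 1) (nat_lit 0x4440)
(.cons (nat_lit 2) (nat_lit 0x2100)
(.cons (nat_lit 16) (nat_lit 0x4)
(.cons (nat_lit 8) (nat_lit 0xc8)
(.cons (nat_lit 4) (nat_lit 0x30100)
(.cons (nat_lit 2) (nat_lit 0x2100)
(.cons (nat_lit 1) (nat_lit 0x4450)
.nil)))))))
theorem n24_ok : Net.ok 24 n24 = true := by decide +kernel
noncomputable def nets : List Net := [n0, n1, n2, n3, n4, n5, n6, n7, n8, n9, n10, n11, n12, n13, n14, n15, n16, n17, n18, n19, n20, n21, n22, n23, n24]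
theorem nets_ok : netsOk 24 nets = true := List.all_eq_true.2 (fa_cons n0_ok (fa_cons n1_ok (fa_cons n2_ok (fa_cons n3_ok (fa_cons n4_ok (fa_cons n5_ok (fa_cons n6_ok (fa_cons n7_ok (fa_cons n8_ok (fa_cons n9_ok (fa_cons n10_ok (fa_cons n11_ok (fa_cons n12_ok (fa_cons n13_ok (fa_cons n14_ok (fa_cons n15_ok (fa_cons n16_ok (fa_cons n17_ok (fa_cons n18_ok (fa_cons n19_ok (fa_cons n20_ok (fa_cons n21_ok (fa_cons n22_ok (fa_cons n23_ok (fa_cons n24_ok (fa_nil))))))))))))))))))))))))))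
noncomputable def F : Nat → Nat → Nat := ptF (nat_lit 64) (nat_lit 5) nets
instance instF : PtF 24 nets F := ptF_ok nets_ok (by decide +kernel)
noncomputable def defs : List Word := [dw (nat_lit 0x0205030101030501), dw (nat_lit 0x030706040803), dw (nat_lit 0x06070607), dw (nat_lit 0x0a0a0c0a0a0b0a0b), dw (nat_lit 0x0a0a0c0a0b0a0b090b0a0b0a), dw (nat_lit 0x0d0d0d0d100d100e0f0e0f0e0f0f0d), dw (nat_lit 0x100e0f0d0d100d100d0d0d0f0f0d0f0d100d0f0d0d0f0f0d10), dw (nat_lit 0x100d0f0e0e0f0f0e)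
, dw (nat_lit 0x111414111311161313111412151312141411), dw (nat_lit 0x14121313121612141213111311111611111114121315), dw (nat_lit 0x1312141113111613), dw (nat_lit 0x010306060204), dw (nat_lit 0x041d03), dw (nat_lit 0x20061f061f061f), dw (nat_lit 0x05051f1f0505), dw (nat_lit 0x21242123222322242424242121232223222424)
, dw (nat_lit 0x23212123212121232124242123212424242123212421232124), dw (nat_lit 0x22242424), dw (nat_lit 0x29262826292629252828292928282929262627272729292527262a282626292726), dw (nat_lit 0x25272929252a26262927), dw (nat_lit 0x282626262a2527272a282a282a27252825282a2527), dw (nat_lit 0x26282628252926272726292626)]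
noncomputable def wa : Word := [nat_lit 0]
noncomputable def wu : Word := [nat_lit 2]
noncomputable def wb : Word := [nat_lit 4]
noncomputable def cha5 : Lv := .cons (nat_lit 7) [dw (nat_lit 0x13), dw (nat_lit 0x17), dw (nat_lit 0x19), dw (nat_lit 0x1b)] [dw (nat_lit 0x01), dw (nat_lit 0x03), dw (nat_lit 0x05), dw (nat_lit 0x07)] .nil
noncomputable def cha4 : Lv := .cons (nat_lit 12) [dw (nat_lit 0x11), dw (nat_lit 0x15)] [dw (nat_lit 0x01), dw (nat_lit 0x01)] cha5
noncomputable def cha3 : Lv := .cons (nat_lit 16) [dw (nat_lit 0x0d), dw (nat_lit 0x0f)] [dw (nat_lit 0x01), dw (nat_lit 0x03), dw (nat_lit 0x09), dw (nat_lit 0x0d), dw (nat_lit 0x03), dw (nat_lit 0x01)] cha4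
noncomputable def cha2 : Lv := .cons (nat_lit 3) [dw (nat_lit 0x09), dw (nat_lit 0x0b)] [dw (nat_lit 0x01), dw (nat_lit 0x1303), dw (nat_lit 0x01), dw (nat_lit 0x03), dw (nat_lit 0x05), dw (nat_lit 0x05)] cha3
noncomputable def cha1 : Lv := .cons (nat_lit 6) [dw (nat_lit 0x03), dw (nat_lit 0x05), dw (nat_lit 0x07)] [dw (nat_lit 0x01), dw (nat_lit 0x05), dw (nat_lit 0x07), dw (nat_lit 0x13), dw (nat_lit 0x01), dw (nat_lit 0x03)] cha2
noncomputable def cha0 : Lv := .cons (nat_lit 0) [dw (nat_lit 0x01)] [dw (nat_lit 0x01), dw (nat_lit 0x0101), dw (nat_lit 0x07), dw (nat_lit 0x09), dw (nat_lit 0x01), dw (nat_lit 0x0d)] cha1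
noncomputable def csa : List Word := [dw (nat_lit 0x01)]
noncomputable def dda0 : List (Word × CT) := []
noncomputable def Ta0 : List Word := [[], dw (nat_lit 0x01), dw (nat_lit 0x0101), dw (nat_lit 0x010101), dw (nat_lit 0x01010101), dw (nat_lit 0x0101010101), dw (nat_lit 0x010101010101), dw (nat_lit 0x01010101010101)
, dw (nat_lit 0x0101010101010101), dw (nat_lit 0x010101010101010101), dw (nat_lit 0x01010101010101010101), dw (nat_lit 0x0101010101010101010101), dw (nat_lit 0x010101010101010101010101), dw (nat_lit 0x01010101010101010101010101), dw (nat_lit 0x0101010101010101010101010101), dw (nat_lit 0x010101010101010101010101010101)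
, dw (nat_lit 0x01010101010101010101010101010101), dw (nat_lit 0x0101010101010101010101010101010101), dw (nat_lit 0x010101010101010101010101010101010101), dw (nat_lit 0x01010101010101010101010101010101010101), dw (nat_lit 0x0101010101010101010101010101010101010101), dw (nat_lit 0x010101010101010101010101010101010101010101), dw (nat_lit 0x01010101010101010101010101010101010101010101)]
noncomputable def cwa0 : List Word := []
noncomputable def sca0 : List Word := []
noncomputable def Ea0 : List Word := mulL [[]] (List.map (flat csa) Ta0)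
noncomputable def chu5 : Lv := .cons (nat_lit 11) [dw (nat_lit 0x2b), dw (nat_lit 0x2d), dw (nat_lit 0x2f), dw (nat_lit 0x31)] [dw (nat_lit 0x01), dw (nat_lit 0x03), dw (nat_lit 0x05), dw (nat_lit 0x07)] .nil
noncomputable def chu4 : Lv := .cons (nat_lit 9) [dw (nat_lit 0x25), dw (nat_lit 0x27), dw (nat_lit 0x29)] [dw (nat_lit 0x01), dw (nat_lit 0x01)] chu5
noncomputable def chu3 : Lv := .cons (nat_lit 19) [dw (nat_lit 0x21), dw (nat_lit 0x23)] [dw (nat_lit 0x01), dw (nat_lit 0x03), dw (nat_lit 0x01), dw (nat_lit 0x07), dw (nat_lit 0x07), dw (nat_lit 0x01)] chu4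
noncomputable def chu2 : Lv := .cons (nat_lit 8) [dw (nat_lit 0x05), dw (nat_lit 0x1f)] [dw (nat_lit 0x01), dw (nat_lit 0x03), dw (nat_lit 0x01), dw (nat_lit 0x05), dw (nat_lit 0x07), dw (nat_lit 0x01)] chu3
noncomputable def chu1 : Lv := .cons (nat_lit 1) [dw (nat_lit 0x03), dw (nat_lit 0x1d)] [dw (nat_lit 0x01), dw (nat_lit 0x0101), dw (nat_lit 0x03), dw (nat_lit 0x05), dw (nat_lit 0x01), dw (nat_lit 0x07)] chu2
noncomputable def chu0 : Lv := .cons (nat_lit 0) [dw (nat_lit 0x01)] [dw (nat_lit 0x01), dw (nat_lit 0x0101), dw (nat_lit 0x09), dw (nat_lit 0x07), dw (nat_lit 0x01), dw (nat_lit 0x09)] chu1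
noncomputable def csu : List Word := [dw (nat_lit 0x03)]
noncomputable def ddu0 : List (Word × CT) := []
noncomputable def Tu0 : List Word := [[]]
noncomputable def cwu0 : List Word := []
noncomputable def scu0 : List Word := []
noncomputable def ddu1_0 : List (Word × CT) := [(dw (nat_lit 0x1e), (.step (nat_lit 1) (nat_lit 1) (dw (nat_lit 0x0505)) (.step (nat_lit 8) (nat_lit 1) (dw (nat_lit 0x2422)) (.dead (nat_lit 19) (nat_lit 2)))))]
noncomputable def ddu1 : List (Word × CT) := ddu1_0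
noncomputable def Tu1 : List Word := [[], dw (nat_lit 0x01), dw (nat_lit 0x02), dw (nat_lit 0x0101), dw (nat_lit 0x0202), dw (nat_lit 0x010101), dw (nat_lit 0x020202), dw (nat_lit 0x01010101)
, dw (nat_lit 0x02020202), dw (nat_lit 0x0101010101), dw (nat_lit 0x0202020202)]
noncomputable def cwu1 : List Word := [dw (nat_lit 0x01)]
noncomputable def scu1 : List Word := [dw (nat_lit 0x01), dw (nat_lit 0x0202), dw (nat_lit 0x020202), dw (nat_lit 0x020202), dw (nat_lit 0x01)]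
noncomputable def Eu1 : List Word := mulL [[]] (List.map (flat csu) Tu1)
noncomputable def Eu0 : List Word := mulL Eu1 (List.map (flat csu) Tu0)
noncomputable def Rs : List (Word × Nat) := [(dw (nat_lit 0x0406010104060101040601010406010104060101), nat_lit 0)]
noncomputable def ks : List Nat := [nat_lit 1, nat_lit 5]
theorem chca : band (Nat.ble 1 10200960) (Nat.ble 10200960 (cha0.val 24 nets)) = true := by decide +kernel
theorem cca : relsChk 24 nets 5 (idArr 24 5 5 0) (commRels wa csa) = true := by decide +kernel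
theorem lka0 : lvlChk 24 nets F wa cha0 [] (List.map (flat csa) Ta0) (List.map (flat csa) cwa0) sca0 dda0 0 = true := by decide +kernel
theorem dta1 : detChk F wa cha1 [nat_lit 0] 0 1 = true := by decide +kernel
theorem dta2 : detChk F wa cha2 [nat_lit 6, nat_lit 0] 6 1 = true := by decide +kernel
theorem dta3 : detChk F wa cha3 [nat_lit 3, nat_lit 6, nat_lit 0] 3 1 = true := by decide +kernel
theorem dta4 : detChk F wa cha4 [nat_lit 16, nat_lit 3, nat_lit 6, nat_lit 0] 16 6 = true := by decide +kernel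
theorem dta5 : detChk F wa cha5 [nat_lit 12, nat_lit 16, nat_lit 3, nat_lit 6, nat_lit 0] 16 1 = true := by decide +kernel
theorem chcu : band (Nat.ble 1 10200960) (Nat.ble 10200960 (chu0.val 24 nets)) = true := by decide +kernel
theorem ccu : relsChk 24 nets 5 (idArr 24 5 5 0) (commRels (powW wu 1) csu) = true := by decide +kernel
theorem lku0 : lvlChk 24 nets F (powW wu 1) chu0 [] (List.map (flat csu) Tu0) (List.map (flat csu) cwu0) scu0 ddu0 1 = true := by decide +kernel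
theorem dku1_0 : deadChk 24 nets F (powW wu 1) chu1 [nat_lit 0] ddu1_0 = true := by decide +kernel
theorem lku1 : lvlChk 24 nets F (powW wu 1) chu1 [nat_lit 0] (List.map (flat csu) Tu1) (List.map (flat csu) cwu1) scu1 ddu1 0 = true := by decide +kernel
theorem dtu2 : detChk F (powW wu 1) chu2 [nat_lit 1, nat_lit 0] 1 1 = true := by decide +kernel
theorem dtu3 : detChk F (powW wu 1) chu3 [nat_lit 8, nat_lit 1, nat_lit 0] 8 1 = true := by decide +kernel
theorem dtu4 : detChk F (powW wu 1) chu4 [nat_lit 19, nat_lit 8, nat_lit 1, nat_lit 0] 19 2 = true := by decide +kernel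
theorem dtu5 : detChk F (powW wu 1) chu5 [nat_lit 9, nat_lit 19, nat_lit 8, nat_lit 1, nat_lit 0] 19 1 = true := by decide +kernel
theorem nf : relsChk 24 nets 5 (idArr 24 5 5 0) (nfRels wa wu wb 23 2 1 9 Rs) = true := by decide +kernel
theorem lf_0 : allL (lfChk 24 F wa wu wb ks Rs [((1 : ℕ), ([] : Word))]) Eu0 = true := by decide +kernel
theorem ari : ariChk 10200960 23 2 11 ks = true := by decide +kernel
theorem mva : band (Nat.ble (Nat.succ 0) 24) (bnot (Nat.beq (apW F wa 0) 0)) = true := by decide +kernel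
theorem pwa : pwChk wa 23 Ea0 = true := by decide +kernel
theorem dc : relsChk 24 nets 5 (idArr 24 5 5 0) (defRels defs 3) = true := by decide +kernel
section
variable {G : Type u} {Ω : Type*} [Group G] [MulAction G Ω] [FaithfulSMul G Ω] (M : PM G Ω 24 nets)

theorem RCa : Rels M.gen (commRels wa csa) := (M.rels_of_idArr (by decide) cca)
theorem cpa6 : CP M wa .nil [nat_lit 7, nat_lit 12, nat_lit 16, nat_lit 3, nat_lit 6, nat_lit 0] [[]] := cp_nil _ _
theorem cpa5 : CP M wa cha5 [nat_lit 12, nat_lit 16, nat_lit 3, nat_lit 6, nat_lit 0] [[]] := cp_det _ _ dta5 (cpa6 M)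
theorem cpa4 : CP M wa cha4 [nat_lit 16, nat_lit 3, nat_lit 6, nat_lit 0] [[]] := cp_det _ _ dta4 (cpa5 M)
theorem cpa3 : CP M wa cha3 [nat_lit 3, nat_lit 6, nat_lit 0] [[]] := cp_det _ _ dta3 (cpa4 M)
theorem cpa2 : CP M wa cha2 [nat_lit 6, nat_lit 0] [[]] := cp_det _ _ dta2 (cpa3 M)
theorem cpa1 : CP M wa cha1 [nat_lit 0] [[]] := cp_det _ _ dta1 (cpa2 M)
theorem cpa0 : CP M wa cha0 [] Ea0 := cp_lvl (RCa M) lka0 rfl (cpa1 M)
theorem cena (hN : Nat.card G = 10200960) (g : G) (hg : g * ev M.gen wa = ev M.gen wa * g) : ∃ t ∈ Ea0, g = ev M.gen t := cp_top (cpa0 M) hN chca g hg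
theorem RCu : Rels M.gen (commRels (powW wu 1) csu) := (M.rels_of_idArr (by decide) ccu)
theorem cpu6 : CP M (powW wu 1) .nil [nat_lit 11, nat_lit 9, nat_lit 19, nat_lit 8, nat_lit 1, nat_lit 0] [[]] := cp_nil _ _
theorem cpu5 : CP M (powW wu 1) chu5 [nat_lit 9, nat_lit 19, nat_lit 8, nat_lit 1, nat_lit 0] [[]] := cp_det _ _ dtu5 (cpu6 M)
theorem cpu4 : CP M (powW wu 1) chu4 [nat_lit 19, nat_lit 8, nat_lit 1, nat_lit 0] [[]] := cp_det _ _ dtu4 (cpu5 M)
theorem cpu3 : CP M (powW wu 1) chu3 [nat_lit 8, nat_lit 1, nat_lit 0] [[]] := cp_det _ _ dtu3 (cpu4 M)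
theorem cpu2 : CP M (powW wu 1) chu2 [nat_lit 1, nat_lit 0] [[]] := cp_det _ _ dtu2 (cpu3 M)
theorem cpu1 : CP M (powW wu 1) chu1 [nat_lit 0] Eu1 := cp_lvl (RCu M) lku1 dku1_0 (cpu2 M)
theorem cpu0 : CP M (powW wu 1) chu0 [] Eu0 := cp_lvl (RCu M) lku0 rfl (cpu1 M)
theorem cenu (hN : Nat.card G = 10200960) (g : G) (hg : g * ev M.gen (powW wu 1) = ev M.gen (powW wu 1) * g) : ∃ t ∈ Eu0, g = ev M.gen t := cp_top (cpu0 M) hN chcu g hg
theorem Rdefs : Rels M.gen (defRels defs 3) := (M.rels_of_idArr (by decide) dc)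
theorem top (hN : Nat.card G = 10200960) : sub M.gen [wa, wu, wb] = ⊤ := top_of_defs (lo := 0) (j := 0) hN chca (Rdefs M) (by decide +kernel)
theorem upper (hN : Nat.card G = 10200960) (α : MulAut G) : ∃ g : G, ∃ q ∈ [((1 : ℕ), ([] : Word))],
    Maps M.gen (MulAut.conj g * α) [wa, wu, wb] [powW wa q.1, wu, q.2 ++ wb] :=
  out_upper hN (by decide +kernel) (by norm_num) ari (M.rels_of_idArr (by decide) nf) mva (cena M hN) pwa (cenu M hN) lf_0 α
include M in
theorem out (hN : Nat.card G = 10200960) : Nat.card (Out G) = 1 := out_one (top M hN) (upper M hN)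
end

section
variable {G : Type u} {Ω : Type*} [Group G] [MulAction G Ω]

noncomputable def mach (E : Enc Ω 24) (hr : ∀ l < 3, ∃ g : G, E.Real (getL Net.nil nets l) g) : PM G Ω 24 nets :=
  PM.ofReal G E (by decide) nets_ok (real_of_slp E (by decide) (by decide) nets_ok hr (ds := defs) (by decide +kernel) (by decide +kernel)
    (Rdefs (permPM 24 nets (by decide) (by decide) nets_ok)))
theorem out' [FaithfulSMul G Ω] (E : Enc Ω 24) (hr : ∀ l < 3, ∃ g : G, E.Real (getL Net.nil nets l) g) (hN : Nat.card G = 10200960) : Nat.card (Out G) = 1 := out (mach E hr) hN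
end

end L.OM23
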