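import Cfsg.Agent.L.Top
import Cfsg.Agent.L.Out2
import Cfsg.Agent.H14.McLc

/-! Generated certificate (toolsL) for the group OMcL of degree 275 and order 898128000. -/
set_option Elab.async false
set_option autoImplicit false
set_option maxRecDepth 100000
set_option maxHeartbeats 0
set_option linter.unusedSectionVars false

namespace L.OMcL
open H14 Cfsg

universe u

noncomputable def n2 : Net := (.cons (nat_lit 1) (nat_lit 0x55045414154054550444151001545144504514450414141010050000405144440144)
(.cons (nat_lit 2) (nat_lit 0x130013202323111002030033311023322120021131030303203120000103311212322)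
(.cons (nat_lit 4) (nat_lit 0x60b0307020e0e0f010e0d020808060c04020d0d000f0a09020f0c0402040d0a02)
(.cons (nat_lit 8) (nat_lit 0x2a00a400dc00a6003a004b002100c50062002300f900d700380019002700280004)
(.cons (nat_lit 16) (nat_lit 0x2000050e40000a9120000194c0000a0c700008a150000b67c000014ea00008440)
(.cons (nat_lit 32) (nat_lit 0x1071f32f00000000120bed590000000080042126000000000004dce9)
(.cons (nat_lit 64) (nat_lit 0xb4ec2092100091960000000000000000000000000002d23e)
(.cons (nat_lit 128) (nat_lit 0xe68016a5881285621a6c2b5fd8bff601)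
(.cons (nat_lit 256) (nat_lit 0x7ffff)
(.cons (nat_lit 128) (nat_lit 0x2a0bd)
(.cons (nat_lit 64) (nat_lit 0x6cf77fdcf0ba0b46000000000000000089a18a64bf06a8dc)
(.cons (nat_lit 32) (nat_lit 0x5bd57e1a0000000014702ea200000000ccf97b840000000084724ddb)
(.cons (nat_lit 16) (nat_lit 0x10000f74c000038910000d0f8000097e90000618b0000e1f00000237f0000317c)
(.cons (nat_lit 8) (nat_lit 0xe80096005100c60016001800aa00d60094000b00250072009e00c2003300ea00ac)
(.cons (nat_lit 4) (nat_lit 0xc0f0e0a02040b0f04000c0001090c0d09080f0b05010d0208090a0e080a0608010d)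
(.cons (nat_lit 2) (nat_lit 0x3232130200030113011031132031220210200023021001011302132112301231321)
(.cons (nat_lit 1) (nat_lit 0x5115401544150154441451415455440545500144044504444105541555501441104)
.nil)))))))))))))))))
theorem n2_ok : Net.ok 275 n2 = true := by decide +kernel
noncomputable def n3 : Net := (.cons (nat_lit 1) (nat_lit 0x11505140401005400405045440141111444554454011515151441440045410454500)
(.cons (nat_lit 2) (nat_lit 0x13301313030113133010333301110331322032100030213110123312031122110020)
(.cons (nat_lit 4) (nat_lit 0x60000000e0c0003080204040e0500060b01060702060e010808040101030a010702)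
(.cons (nat_lit 8) (nat_lit 0x5700a9002a00f10052002e0009006900700013000a0034002d0054000500620003)
(.cons (nat_lit 16) (nat_lit 0x400005d6500002687000009af00008b2f0000b8c200001ea00000c01800008838)
(.cons (nat_lit 32) (nat_lit 0xd1b3fb6000000003188ad9e0000000004421643000000000002c22a)
(.cons (nat_lit 64) (nat_lit 0x9e663208540e0f3f00000000000000000000000000011342)
(.cons (nat_lit 128) (nat_lit 0x14eee644d119accd8a09193fa4264f07)
(.cons (nat_lit 256) (nat_lit 0x7df7f)
(.cons (nat_lit 128) (nat_lit 0x1b8b0)
(.cons (nat_lit 64) (nat_lit 0xce316a6a55d76764000000000000000040a7b7d8bcf63348)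
(.cons (nat_lit 32) (nat_lit 0xad8b6c8d00000000508953230000000035b1bf0500000000530da3ad)
(.cons (nat_lit 16) (nat_lit 0x30000450b00000d5d00003a7900008b280000c5fb00006cb3000030f000009d3b)
(.cons (nat_lit 8) (nat_lit 0x5e002f0030006a0073006500f3008300a6006d007e0019009b00dd00c300b7003c)
(.cons (nat_lit 4) (nat_lit 0x607060e0a0209040c040c0a0f0a070f0b00040605020a0a0307040b0c0a060d0406)
(.cons (nat_lit 2) (nat_lit 0x23010112032113230221330102302332230131311001121222221222211133320220)
(.cons (nat_lit 1) (nat_lit 0x151550411015544111040441145401504440511004500550544145540011541444550)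
.nil)))))))))))))))))
theorem n3_ok : Net.ok 275 n3 = true := by decide +kernel
noncomputable def n4 : Net := (.cons (nat_lit 1) (nat_lit 0x14050551510404510454540011044001550110051010011504514545001041100504)
(.cons (nat_lit 2) (nat_lit 0x110001121130220332321010010322032012032332121002202010113323221101122)
(.cons (nat_lit 4) (nat_lit 0xf0502000c0f01090c020f010f040f06070e01080b030f05020d0c0c0f09080b0003)
(.cons (nat_lit 8) (nat_lit 0x8200d3006600cd00fd00d600ce009c0023003d00fb008e00db008300f900170002)
(.cons (nat_lit 16) (nat_lit 0x2000001b000009f060000d800000082a4000072010000a6b00000967400000200)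
(.cons (nat_lit 32) (nat_lit 0x52b8ce9200000000bba2a080000000009216c85b000000000006b310)
(.cons (nat_lit 64) (nat_lit 0x18464804080a2d60000000000000000000000000000e74d)
(.cons (nat_lit 128) (nat_lit 0xb1975e6bedb84004126a3198a41a0a82)
(.cons (nat_lit 256) (nat_lit 0x7ffff)
(.cons (nat_lit 128) (nat_lit 0x7e551)
(.cons (nat_lit 64) (nat_lit 0x5b24b975f0b3c88d00000000000000002e19a195bda0dd2a)
(.cons (nat_lit 32) (nat_lit 0x8a92316c0000000038ddb91b00000000d6af4206000000006b072a4d)
(.cons (nat_lit 16) (nat_lit 0x70000d47c0000e9de000066910000d8e30000097b00004adb000087770000135d)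
(.cons (nat_lit 8) (nat_lit 0xf5003c0093001d000300c60060003f008200280055001300d000fc003a00d0001f)
(.cons (nat_lit 4) (nat_lit 0x40f070c0e0d08060704000c0002010e00020c07070205090c050306070c0a0f030e)
(.cons (nat_lit 2) (nat_lit 0x20312201121130103000000120232032212221122132103112303311111030001103)
(.cons (nat_lit 1) (nat_lit 0x145501000100115444151451541141154000550545450015041410511150054004040)
.nil)))))))))))))))))
theorem n4_ok : Net.ok 275 n4 = true := by decide +kernel
noncomputable def n5 : Net := (.cons (nat_lit 1) (nat_lit 0x115145045044010105055040014154444504455401410450441145541051444440144)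
(.cons (nat_lit 2) (nat_lit 0x111222012113133121320001231132313233220300002111331022101021322210032)
(.cons (nat_lit 4) (nat_lit 0xe0f0e080c0e0c0c050f010e040b0c0806000102020c00020b0a0b01090803000106)
(.cons (nat_lit 8) (nat_lit 0x63009800bc00c900b5008d00c20014000d00600094001000900059008c000b0001)
(.cons (nat_lit 16) (nat_lit 0x2000079410000cc9e0000888f0000a48800002a300000ec3d000003a100001c28)
(.cons (nat_lit 32) (nat_lit 0x608e0c6d00000000c69b67c1000000004571d06e0000000000049197)
(.cons (nat_lit 64) (nat_lit 0x16230006404ac17400000000000000000000000000002feb)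
(.cons (nat_lit 128) (nat_lit 0x8d7cd79f3e8b5d5ad3d34c39eae0138d)
(.cons (nat_lit 256) (nat_lit 0x7ffff)
(.cons (nat_lit 128) (nat_lit 0x1a12e)
(.cons (nat_lit 64) (nat_lit 0xa9dcde6e5f190b7300000000000000000f24c831d2fef66c)
(.cons (nat_lit 32) (nat_lit 0x2d65012d000000002416ce70000000007ec05fbb0000000099620dd0)
(.cons (nat_lit 16) (nat_lit 0x4e5b00002ef900007e2a000008ba0000bcfe00002d7200001dcd00007412)
(.cons (nat_lit 8) (nat_lit 0x48005900f8007800a100250049003700a50042007700a5009800df00be00bd005b)
(.cons (nat_lit 4) (nat_lit 0x3050e070607090b0801000f0001000602010807090d080b030d0906010c0d040804)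
(.cons (nat_lit 2) (nat_lit 0x13322130212333023030000230122020312020333001333231310310133102223332)
(.cons (nat_lit 1) (nat_lit 0x41445400451115104500515100104005054404515054544041005544505041400044)
.nil)))))))))))))))))
theorem n5_ok : Net.ok 275 n5 = true := by decide +kernel
noncomputable def n6 : Net := (.cons (nat_lit 1) (nat_lit 0x1051140455014511155501404554151111011440555504011001540005010541151)
(.cons (nat_lit 2) (nat_lit 0x32012301000000222011213203321231213112023030132001111033021020001110)
(.cons (nat_lit 4) (nat_lit 0x70803050e020d060b00070304020604090502050e08000701010307030c00060202)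
(.cons (nat_lit 8) (nat_lit 0x97007e007a0039007e00e10089008a001300990047009b006600c800b000320006)
(.cons (nat_lit 16) (nat_lit 0x2000079cc000091340000d0f20000f731000010c000009bfb00006cb400008010)
(.cons (nat_lit 32) (nat_lit 0x7128d6c1000000002ce894a2000000000140094800000000000184b9)
(.cons (nat_lit 64) (nat_lit 0xde81cc4507684ab100000000000000000000000000052ddd)
(.cons (nat_lit 128) (nat_lit 0x1238ecabb9defbaaed8f0244de315eb0)
(.cons (nat_lit 256) (nat_lit 0x7ffff)
(.cons (nat_lit 128) (nat_lit 0xdbe7)
(.cons (nat_lit 64) (nat_lit 0x5c6000dc88765a140000000000000000971a67d663db5ffa)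
(.cons (nat_lit 32) (nat_lit 0x8566f0e9000000002715187800000000325e441f00000000d3008eb8)
(.cons (nat_lit 16) (nat_lit 0x50000df5b000088b700002da4000060ab0000467f0000dd3a0000f04100001d9b)
(.cons (nat_lit 8) (nat_lit 0xc600dc0001001800bc00e9000d0076008500ab00c0003200d3002e007a006a0046)
(.cons (nat_lit 4) (nat_lit 0x3090a0809000206030a05010e010e050d0900070800030801090603000e0703060f)
(.cons (nat_lit 2) (nat_lit 0x123123213023120010112312333121303332333022203200122303013210300233230)
(.cons (nat_lit 1) (nat_lit 0x15400405011055004505410454110155400500544014401115415510400141415411)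
.nil)))))))))))))))))
theorem n6_ok : Net.ok 275 n6 = true := by decide +kernel
noncomputable def n7 : Net := (.cons (nat_lit 1) (nat_lit 0x144501551145004010155011150500100510000514040505401105005405055414440)
(.cons (nat_lit 2) (nat_lit 0x1133131221110032331102030213020112133213133313001002121203233211220)
(.cons (nat_lit 4) (nat_lit 0x40f010c090d09080e030905070f0c0c06080e0502050102050b040a000006050802)
(.cons (nat_lit 8) (nat_lit 0xe200c3002500db005400600010001000b3000f00d8003500290028002400840000)
(.cons (nat_lit 16) (nat_lit 0x1000047dd0000e8090000f2c60000044100002151000028860000985800008748)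
(.cons (nat_lit 32) (nat_lit 0x16167d02000000008389d549000000004b6f080d000000000006c100)
(.cons (nat_lit 64) (nat_lit 0x65107a0628ca627c00000000000000000000000000014498)
(.cons (nat_lit 128) (nat_lit 0xbf58481ff581858f48a6b2190c4c6b5d)
(.cons (nat_lit 256) (nat_lit 0x7ffdd)
(.cons (nat_lit 128) (nat_lit 0x79fe9)
(.cons (nat_lit 64) (nat_lit 0xe9cec0911649779c0000000000000000e8026e23776de3b0)
(.cons (nat_lit 32) (nat_lit 0xa5c065e30000000097cf8a720000000052357d7b000000001aaa4a56)
(.cons (nat_lit 16) (nat_lit 0x40000c79f0000fd3f0000445a000010f40000951c0000f79d0000a67500009d60)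
(.cons (nat_lit 8) (nat_lit 0x97008000da004500c6001200350022004d001d0057005500cc000c003600120006)
(.cons (nat_lit 4) (nat_lit 0x2060e0b0a0006060f07010309090805050607010f0d000e0c020e0808030401060a)
(.cons (nat_lit 2) (nat_lit 0x33020310133113000200301311300132323333302230100310031102232320220030)
(.cons (nat_lit 1) (nat_lit 0x15454400415501551145555040450051454550501144154150551445515444554040)
.nil)))))))))))))))))
theorem n7_ok : Net.ok 275 n7 = true := by decide +kernel
noncomputable def n8 : Net := (.cons (nat_lit 1) (nat_lit 0x115501545010541415105450415414404450101105555451115411140114004545110)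
(.cons (nat_lit 2) (nat_lit 0x11311122102000332010012031103120030233123231120301320120310012211000)
(.cons (nat_lit 4) (nat_lit 0xb0d0a090e010b0a050a0307000c0a0e0c04030b05070e0203090f0408070b050201)
(.cons (nat_lit 8) (nat_lit 0x6400f000460014004d002500c1003000500093000900f000a600b5001100fe0003)
(.cons (nat_lit 16) (nat_lit 0x20000823700004b92000039e50000222d000081b2000073d90000860500008840)
(.cons (nat_lit 32) (nat_lit 0x654501e400000000d1e9047b0000000009b224a40000000000021e84)
(.cons (nat_lit 64) (nat_lit 0xd4c118d0491de511000000000000000000000000000131c1)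
(.cons (nat_lit 128) (nat_lit 0x2f76a7aadc59289cf8b11b5333c360ab)
(.cons (nat_lit 256) (nat_lit 0x3ffef)
(.cons (nat_lit 128) (nat_lit 0x5ef82)
(.cons (nat_lit 64) (nat_lit 0xd1bbaa47df4770cc00000000000000005147c2ba83c4c4cd)
(.cons (nat_lit 32) (nat_lit 0x62d7854a000000004c59ec88000000000191b32000000000e1f9480f)
(.cons (nat_lit 16) (nat_lit 0x400009b1e000000f50000f8bd0000e318000014340000cf8c0000048000009a07)
(.cons (nat_lit 8) (nat_lit 0xba004d00f900de0012001b00ae009400dd001e00dc00d200670021000c00e70027)
(.cons (nat_lit 4) (nat_lit 0xc06000b00010f0f0400010a080d09000b070e0b0605070e000e090f050807050007)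
(.cons (nat_lit 2) (nat_lit 0x301322031122202210201131222123233120123123220202301330322102202112)
(.cons (nat_lit 1) (nat_lit 0x10504555005041441415154415405510455544054451144401410411015105440144)
.nil)))))))))))))))))
theorem n8_ok : Net.ok 275 n8 = true := by decide +kernel
noncomputable def n9 : Net := (.cons (nat_lit 1) (nat_lit 0x14451015555540515450500004151515541045155145551014051140515504110150)
(.cons (nat_lit 2) (nat_lit 0x131233023330332222102133010212302230303021302221033020232320230100300)
(.cons (nat_lit 4) (nat_lit 0x80f080407010008030a0e060503010406020d0c0a02040a060807070b0f00050000)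
(.cons (nat_lit 8) (nat_lit 0x85006600100039006400980042003500870010003f0044007a000200a400170001)
(.cons (nat_lit 16) (nat_lit 0x3000042da000018030000695000000d9800007041000070b10000cd6000001708)
(.cons (nat_lit 32) (nat_lit 0x2bd98466000000006581847e00000000020ad35000000000000750b9)
(.cons (nat_lit 64) (nat_lit 0x1c3a52ae0501380000000000000000000000000000d98c)
(.cons (nat_lit 128) (nat_lit 0xfe683eaab3848059069700545c6e013c)
(.cons (nat_lit 256) (nat_lit 0x7ffff)
(.cons (nat_lit 128) (nat_lit 0x7a6eb)
(.cons (nat_lit 64) (nat_lit 0xbc15d6382330576d000000000000000028d267618ad0c55c)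
(.cons (nat_lit 32) (nat_lit 0xb85e51fe000000007a01800a00000000de7c665d000000006e6beffb)
(.cons (nat_lit 16) (nat_lit 0x5bc0000003190000646e00001ce90000a4b7000001c90000a72f00009357)
(.cons (nat_lit 8) (nat_lit 0x2d0013006d00d800c7009f001000aa00e60060009000ed003d001a007e00b80021)
(.cons (nat_lit 4) (nat_lit 0x30803090704070c0c01000a0e050a0201040f0406050509040805060f0c00010404)
(.cons (nat_lit 2) (nat_lit 0x20121202313301212232313031330002133232323322001030000203322022002010)
(.cons (nat_lit 1) (nat_lit 0x154440155400001500401101014510051014511541045100101010540510045145444)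
.nil)))))))))))))))))
theorem n9_ok : Net.ok 275 n9 = true := by decide +kernel
noncomputable def n10 : Net := (.cons (nat_lit 1) (nat_lit 0x11041414015001105410041151441441100545441500415410444101440155540445)
(.cons (nat_lit 2) (nat_lit 0x11002113031132020223001303301321002200012101232312313222302311303220)
(.cons (nat_lit 4) (nat_lit 0x509080700090e0b0e0d07010a07000000070c0a04040f0a06060f040c08000c0c05)
(.cons (nat_lit 8) (nat_lit 0x2b007e00dc000f008f002a0024003b00d3000c009800c000150092001d00120007)
(.cons (nat_lit 16) (nat_lit 0x50000120a00007e02000000bf0000021d000081920000c4130000ce2800002090)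
(.cons (nat_lit 32) (nat_lit 0x41c061cc000000002dbcd9c5000000006143044b000000000002d542)
(.cons (nat_lit 64) (nat_lit 0x463a2aa88b02a1a0000000000000000000000000001043f)
(.cons (nat_lit 128) (nat_lit 0x5f6ea98f17561bd66281436489aa0e52)
(.cons (nat_lit 256) (nat_lit 0x3ffff)
(.cons (nat_lit 128) (nat_lit 0x17a1a)
(.cons (nat_lit 64) (nat_lit 0x20e35375073c9206000000000000000097b71fa3e8e7546f)
(.cons (nat_lit 32) (nat_lit 0xe1b6d291000000003f04410e00000000e7fc7e28000000003600f92b)
(.cons (nat_lit 16) (nat_lit 0x600008f340000de240000e96d000073b30000fb7800007fa20000902c00003969)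
(.cons (nat_lit 8) (nat_lit 0x1f00dd00fd006e009000a100fd0057000300eb002e00c700e1001d007600fe001b)
(.cons (nat_lit 4) (nat_lit 0x9080d050e0402090e0f0c080e0d010a0a090a060a0204040f0a07070c0b0d050301)
(.cons (nat_lit 2) (nat_lit 0x2310331331100020311222321120221213213022111302211300220130133302121)
(.cons (nat_lit 1) (nat_lit 0x150154001414150415505451144000510410455405155440450100554510055411415)
.nil)))))))))))))))))
theorem n10_ok : Net.ok 275 n10 = true := by decide +kernel
noncomputable def n11 : Net := (.cons (nat_lit 1) (nat_lit 0x155040555101005550545510104404451141105151410040145504051111000001000)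
(.cons (nat_lit 2) (nat_lit 0x123011102230230123003031133221333201301101303302133032210000020002020)
(.cons (nat_lit 4) (nat_lit 0xc08080c060c000202090e0d000103010a00030508000b0200020700040e0c060400)
(.cons (nat_lit 8) (nat_lit 0x1700f400a30009002c00b1007a00a100e4000e0040001b0032004f009600040000)
(.cons (nat_lit 16) (nat_lit 0x500009fe00000b68d0000458b0000636a00007c4000001208000022d200003010)
(.cons (nat_lit 32) (nat_lit 0x6082b1150000000002440cdc0000000080bb60b0000000000000a04c)
(.cons (nat_lit 64) (nat_lit 0x80c89b85522c904100000000000000000000000000017060)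
(.cons (nat_lit 128) (nat_lit 0xe6ba6bf43f9073502452d47b65bcc289)
(.cons (nat_lit 256) (nat_lit 0x5f6fd)
(.cons (nat_lit 128) (nat_lit 0x4c389)
(.cons (nat_lit 64) (nat_lit 0x864edbd5fcfc916700000000000000007d264858ccbb7168)
(.cons (nat_lit 32) (nat_lit 0x16a2b99d0000000060cca4dd00000000e25364ba000000006629a8c4)
(.cons (nat_lit 16) (nat_lit 0x7000097e80000fe850000558b0000636200007440000012050000aad20000701c)
(.cons (nat_lit 8) (nat_lit 0x1700fc00eb000500a400b500fa002100ec0006004000130032004700d6000c0008)
(.cons (nat_lit 4) (nat_lit 0xc08080d060c00020a090e0d08090b010a08030d08000b0a00020700040e0c060402)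
(.cons (nat_lit 2) (nat_lit 0x123011102230230123003031133221333201301101303302133032210000020002020)
(.cons (nat_lit 1) (nat_lit 0x155040555101005550545510104404451141105151410040145504051111000001000)
.nil)))))))))))))))))
theorem n11_ok : Net.ok 275 n11 = true := by decide +kernel
noncomputable def n12 : Net := (.cons (nat_lit 1) (nat_lit 0x155511150055541141515051105051140145455015440055010155411501554145451)
(.cons (nat_lit 2) (nat_lit 0x23000232322212103220213310132201320233322303020021201230110011113020)
(.cons (nat_lit 4) (nat_lit 0x60e08040c00040b0d0601040e0d010b080e01030505030c04030f0c0400080a0100)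
(.cons (nat_lit 8) (nat_lit 0x3600af000f006100350029004a0039005700700015009c004600a5001700000006)
(.cons (nat_lit 16) (nat_lit 0x60000b80a00008c06000005130000d85300007128000032020000880900005a50)
(.cons (nat_lit 32) (nat_lit 0x8f7bc3c200000000a290e35f00000000a021e5a7000000000000cd08)
(.cons (nat_lit 64) (nat_lit 0x2434d6920205359e00000000000000000000000000016901)
(.cons (nat_lit 128) (nat_lit 0x8166cc5a7e35b881351013cc88b2005d)
(.cons (nat_lit 256) (nat_lit 0x3ff5d)
(.cons (nat_lit 128) (nat_lit 0x533)
(.cons (nat_lit 64) (nat_lit 0xbb92f49f7bfa4924000000000000000014cf240e4d25a6aa)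
(.cons (nat_lit 32) (nat_lit 0x8cc7736e000000008103cb4f000000008420beec00000000b1977d4e)
(.cons (nat_lit 16) (nat_lit 0xbea100001a7b000028b300005ef600005a230000b4110000d2400000e662)
(.cons (nat_lit 8) (nat_lit 0x6b00bb005e000000a3004100ca00840070001800ef009b001100e200b600a1001a)
(.cons (nat_lit 4) (nat_lit 0x40d080a0a0f050a0d03060f0c0c01010f0a0403050c0503050b06020800020d0e01)
(.cons (nat_lit 2) (nat_lit 0x122003313333021002222103033323022212013322131120022210312312331312331)
(.cons (nat_lit 1) (nat_lit 0x5404511410555111410055501451404145440550555110540455555450051455545)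
.nil)))))))))))))))))
theorem n12_ok : Net.ok 275 n12 = true := by decide +kernel
noncomputable def n13 : Net := (.cons (nat_lit 1) (nat_lit 0x51550445001051414415510041150041544155115014155140145110000140040000)
(.cons (nat_lit 2) (nat_lit 0x11022320100313323300100303011220221102010001321300010121303211120200)
(.cons (nat_lit 4) (nat_lit 0xc0c010d0b070c0d000b0504060b0b0d06010f05010b0c040b070300030403010800)
(.cons (nat_lit 8) (nat_lit 0x5004c00cf004e00e10042003200d300f8002b006b008400c800a900f000a40000)
(.cons (nat_lit 16) (nat_lit 0x2000024d700000f8300008c400000994000009ae00000d867000080a400004218)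
(.cons (nat_lit 32) (nat_lit 0x6446518c0000000056143597000000002d9e49060000000000014904)
(.cons (nat_lit 64) (nat_lit 0xe1091ce01e0d82b000000000000000000000000000030824)
(.cons (nat_lit 128) (nat_lit 0x68a29ea1e97b573591e98041b6774602)
(.cons (nat_lit 256) (nat_lit 0x74f3e)
(.cons (nat_lit 128) (nat_lit 0x7e6c2)
(.cons (nat_lit 64) (nat_lit 0xb705c5244e951a780000000000000000af3e69b6001128a4)
(.cons (nat_lit 32) (nat_lit 0xb44c697e000000000616ad55000000006d9d59c6000000001003d9c4)
(.cons (nat_lit 16) (nat_lit 0xe45700008f870000ad63000099760000dac0000070ef0000408400004238)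
(.cons (nat_lit 8) (nat_lit 0x500c5004f004600e9004b003700d300f800ab006b00040040000900f000a40000)
(.cons (nat_lit 4) (nat_lit 0xd0c01050b07040d000b0d04060b0b0506010705010b040c03070b00030403010000)
(.cons (nat_lit 2) (nat_lit 0x11022300100313323300300303011220221102012001321302010301303231122202)
(.cons (nat_lit 1) (nat_lit 0x51551455001051414415510041150041544155114014145140145114000140040000)
.nil)))))))))))))))))
theorem n13_ok : Net.ok 275 n13 = true := by decide +kernel
noncomputable def n14 : Net := (.cons (nat_lit 1) (nat_lit 0x55501401444545440400400455454541100001541155004515110050401415141540)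
(.cons (nat_lit 2) (nat_lit 0x123201230203111012320300121233222223332133013131101201210132212030030)
(.cons (nat_lit 4) (nat_lit 0xa060d09090c0f060e0205080a070402090708050b0f0d0509010a0e090801040d04)
(.cons (nat_lit 8) (nat_lit 0x3800a6009400b7006a00d1001400fb00dc000d00eb00050000002200fa00970004)
(.cons (nat_lit 16) (nat_lit 0x30000d9260000378700003de200000518000089e20000a4f40000950900000040)
(.cons (nat_lit 32) (nat_lit 0x28f4072200000000712af8c80000000005b2b1630000000000011342)
(.cons (nat_lit 64) (nat_lit 0x4748304d8d10e340000000000000000000000000003e57a)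
(.cons (nat_lit 128) (nat_lit 0x27fdcaf6b00bdb01c026bc0b3ff2421)
(.cons (nat_lit 256) (nat_lit 0x7ff7f)
(.cons (nat_lit 128) (nat_lit 0x4b765)
(.cons (nat_lit 64) (nat_lit 0x2e185751b909c59a0000000000000000e55e32b8fbcc746d)
(.cons (nat_lit 32) (nat_lit 0x8426741f000000000532500300000000609c1f6500000000262ad03d)
(.cons (nat_lit 16) (nat_lit 0x400003c150000eaed0000e9470000552c00006cb000004d180000152f00000b99)
(.cons (nat_lit 8) (nat_lit 0x7b00560025003d00e6001b0040009300fe001300d400bd00aa0095004e0032006f)
(.cons (nat_lit 4) (nat_lit 0xd000c0d0600010c0c0a040e050c0b040f0f0f0b080004030807010a0b0b0c030f03)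
(.cons (nat_lit 2) (nat_lit 0x22011123111310023211130202230232020321100331101001033002323313001232)
(.cons (nat_lit 1) (nat_lit 0x151411014145045045504015150541541141040115401101455014541045400541540)
.nil)))))))))))))))))
theorem n14_ok : Net.ok 275 n14 = true := by decide +kernel
noncomputable def n15 : Net := (.cons (nat_lit 1) (nat_lit 0x105144105144545500040144040455550000414541004440404011155515510500550)
(.cons (nat_lit 2) (nat_lit 0x131200032110303133222132123033232132222212301332201323022103201001000)
(.cons (nat_lit 4) (nat_lit 0xf0e0e030e0a09050108010a0e0f030105030b0a060f0d0c0e0c00030e0a02050d02)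
(.cons (nat_lit 8) (nat_lit 0x5400d10024005200830082008b006a0048000e000b00740061007b004500630003)
(.cons (nat_lit 16) (nat_lit 0x40000070e0000c77f0000d8c40000045200000f040000a36c0000653900001020)
(.cons (nat_lit 32) (nat_lit 0x1d7a3a6400000000a1029e61000000003e05814d0000000000004d58)
(.cons (nat_lit 64) (nat_lit 0x2c042320035087a200000000000000000000000000046342)
(.cons (nat_lit 128) (nat_lit 0x41d56f41667ab0afefe39c2fd52350e2)
(.cons (nat_lit 256) (nat_lit 0x7fffe)
(.cons (nat_lit 128) (nat_lit 0x71fb2)
(.cons (nat_lit 64) (nat_lit 0xba6d0a1e6e3b921f000000000000000088560ca1500b222d)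
(.cons (nat_lit 32) (nat_lit 0x6b238fba00000000c8281d0000000000b7e6bebf0000000069f848a5)
(.cons (nat_lit 16) (nat_lit 0x10000fd8d00007c850000a8330000188900007363000093930000bf690000f167)
(.cons (nat_lit 8) (nat_lit 0xb90056009100e0007e00ad00a70090008900ed00f700f600df002c006300930076)
(.cons (nat_lit 4) (nat_lit 0x50c0d090c030b07040b0b0f0008070c040d0b02030d0f080f05020f030a0c0b0902)
(.cons (nat_lit 2) (nat_lit 0x31100013013131013132330211133030023301021112233023310102333131033230)
(.cons (nat_lit 1) (nat_lit 0x15454040150114011541505544100451441514514150410041540005110105051501)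
.nil)))))))))))))))))
theorem n15_ok : Net.ok 275 n15 = true := by decide +kernel
noncomputable def n16 : Net := (.cons (nat_lit 1) (nat_lit 0x41540500105040014441504411005444044445404405440115511510415045451554)
(.cons (nat_lit 2) (nat_lit 0x13111130201030131232133010113011101113112112311003232320321033321302)
(.cons (nat_lit 4) (nat_lit 0x10e0c0307020a0006060b0e0a0f0c0f070e0d020b060e080d000e0505050e090800)
(.cons (nat_lit 8) (nat_lit 0xc100e8006500d100bd001b003c00f400120011002c008800e6008d00a100400002)
(.cons (nat_lit 16) (nat_lit 0x2000021ae0000da160000471a0000c8aa00000123000090880000365e00000560)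
(.cons (nat_lit 32) (nat_lit 0x19ee02ca000000003088867300000000165641b00000000000000da8)
(.cons (nat_lit 64) (nat_lit 0xa922890226b445100000000000000000000000000002f980)
(.cons (nat_lit 128) (nat_lit 0x1034fa08ae6ab0d4ff4a450781d08d55)
(.cons (nat_lit 256) (nat_lit 0x6fdff)
(.cons (nat_lit 128) (nat_lit 0x5e2b2)
(.cons (nat_lit 64) (nat_lit 0xc070ce23df0c504c000000000000000083fc7d8be17cb8a8)
(.cons (nat_lit 32) (nat_lit 0x17ebb4eb000000009df8eef4000000007e1a2c1e000000004593e435)
(.cons (nat_lit 16) (nat_lit 0x4000047bb0000afa400003cb600004c920000fb4600003c6e0000d4d60000876d)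
(.cons (nat_lit 8) (nat_lit 0x9800f8004b00e900bc007f003100e600fb004800f70011002f009d005700840068)
(.cons (nat_lit 4) (nat_lit 0x306020d0f0506020901010207040309030f0f09030c08000f0404050a080003)
(.cons (nat_lit 2) (nat_lit 0x23221221221321330313312133303320032220331200023332103120202202031320)
(.cons (nat_lit 1) (nat_lit 0x10541101000541014154444101501000004005410555441040405050010410110514)
.nil)))))))))))))))))
theorem n16_ok : Net.ok 275 n16 = true := by decide +kernel
noncomputable def n17 : Net := (.cons (nat_lit 1) (nat_lit 0x14044415510501144145045140101404151501105400105500050450010010000000)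
(.cons (nat_lit 2) (nat_lit 0x33111321233131113222010131302312301233202021012023220120111000020100)
(.cons (nat_lit 4) (nat_lit 0x80200040901030000000502090a0d0606070402060d050809080c09080203000200)
(.cons (nat_lit 8) (nat_lit 0xa2007600a100d200cd005000570084006b0085004c00c300690085002600000000)
(.cons (nat_lit 16) (nat_lit 0xd779000082270000a986000032a70000721d0000e42800000120000040a0)
(.cons (nat_lit 32) (nat_lit 0x4d07ce88000000000208d10100000000808a929a0000000000008600)
(.cons (nat_lit 64) (nat_lit 0xa20153cc031c4100000000000000000000000000005080)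
(.cons (nat_lit 128) (nat_lit 0xc46a8fcd0064581603c8c6becc0bf441)
(.cons (nat_lit 256) (nat_lit 0x3f6e3)
(.cons (nat_lit 128) (nat_lit 0x3f445)
(.cons (nat_lit 64) (nat_lit 0x10c98bd7dd2317cf0000000000000000e05c8394f180c594)
(.cons (nat_lit 32) (nat_lit 0x8c37c7bc00000000e7aed8560000000078b0e9ad00000000f1318655)
(.cons (nat_lit 16) (nat_lit 0x40000f679000087250000a884000033e40000f71e0000e52a00008820000041a0)
(.cons (nat_lit 8) (nat_lit 0xaa007600a100da00cd005000560084006b0084005d00d300690095002600120000)
(.cons (nat_lit 4) (nat_lit 0x80200040901030002000702090b0d0606070502060d050809080c09080203000300)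
(.cons (nat_lit 2) (nat_lit 0x33111321233131113222010121302313311233202121012023220120111000020100)
(.cons (nat_lit 1) (nat_lit 0x14044415510501144145045140501405151505105000105514050450010010000000)
.nil)))))))))))))))))
theorem n17_ok : Net.ok 275 n17 = true := by decide +kernel
noncomputable def n18 : Net := (.cons (nat_lit 1) (nat_lit 0x11004404011040115015151511050544110501140014455541401101441510500010)
(.cons (nat_lit 2) (nat_lit 0x222201130200223313233032021011120222100022201121201333030203122132)
(.cons (nat_lit 4) (nat_lit 0xe040b070104020b080a07020a0b070d0702080c0107000106020a0c070c0d040c00)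
(.cons (nat_lit 8) (nat_lit 0xb30058000b0055008700040026004b0073008500b600a200cf00e0000800860002)
(.cons (nat_lit 16) (nat_lit 0x500006eb90000303500005e2b000012a40000b4a0000004460000de2500000040)
(.cons (nat_lit 32) (nat_lit 0xe6e1da3a0000000087328113000000008040080b000000000001460f)
(.cons (nat_lit 64) (nat_lit 0xc0040546804fa37400000000000000000000000000024806)
(.cons (nat_lit 128) (nat_lit 0x41c2132f8222d84b989714494e68417f)
(.cons (nat_lit 256) (nat_lit 0x3cf7f)
(.cons (nat_lit 128) (nat_lit 0x5733b)
(.cons (nat_lit 64) (nat_lit 0xe185d2de443ca3d70000000000000000a4aa0299a0335a02)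
(.cons (nat_lit 32) (nat_lit 0xfee2e052000000008f3dbb320000000030543e1a00000000e853347d)
(.cons (nat_lit 16) (nat_lit 0x4000063fa0000383d00005a68000093240000b7f2000045d700001c63000045db)
(.cons (nat_lit 8) (nat_lit 0xb30074004b005d000700060026008d00f3008700b400aa00cf00e2001a00c6002a)
(.cons (nat_lit 4) (nat_lit 0xc04050101040a09080a07000a0b070f0702080e010f00000602080805090d000e00)
(.cons (nat_lit 2) (nat_lit 0x100322001130203323313033032021010120222100022201021201321230303122122)
(.cons (nat_lit 1) (nat_lit 0x11044404011040115005151551050544110501140014455541400101401110500050)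
.nil)))))))))))))))))
theorem n18_ok : Net.ok 275 n18 = true := by decide +kernel
noncomputable def n19 : Net := (.cons (nat_lit 1) (nat_lit 0x154415110550015505004044151040541450114054154050105110551515044500111)
(.cons (nat_lit 2) (nat_lit 0x20121113032202230302020020123131330311021123032030010001200013130120)
(.cons (nat_lit 4) (nat_lit 0xc0e000c0b0605090304000a00000007040f06040008070601000200080a0a0c0304)
(.cons (nat_lit 8) (nat_lit 0xcf00600029006b007f004a002100cf001b0059004e000600c10014009400420001)
(.cons (nat_lit 16) (nat_lit 0x9dec0000dab10000613900006eec000079fa0000080d00001dee000070b8)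
(.cons (nat_lit 32) (nat_lit 0xd689a91200000000dd6649c900000000e46a000000000000000456e7)
(.cons (nat_lit 64) (nat_lit 0x86242b012f5749920000000000000000000000000002018d)
(.cons (nat_lit 128) (nat_lit 0xb6bceca1404c19df4109137e7f90edb6)
(.cons (nat_lit 256) (nat_lit 0x7ffff)
(.cons (nat_lit 128) (nat_lit 0x359b6)
(.cons (nat_lit 64) (nat_lit 0x1d61d0786839dff90000000000000000f80c60a631f30bbc)
(.cons (nat_lit 32) (nat_lit 0xaf7d1cda000000007ef2fe970000000012e823e7000000001df53179)
(.cons (nat_lit 16) (nat_lit 0x500009ea400001d1e0000138e0000421a000037000000e44a000038ca0000b8a5)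
(.cons (nat_lit 8) (nat_lit 0x3c005a001b002d002b003e0027001c001a0041007b00c400f400360013009300e2)
(.cons (nat_lit 4) (nat_lit 0xa0f0e0b010f090a070e090800070f0f040f060c03090009020208060c030a0e0f08)
(.cons (nat_lit 2) (nat_lit 0x100320030223303211130032321203233230132231220202233100202233333130023)
(.cons (nat_lit 1) (nat_lit 0x101504041455040001044445141405011000000011011005410401151014454451)
.nil)))))))))))))))))
theorem n19_ok : Net.ok 275 n19 = true := by decide +kernel
noncomputable def nets : List Net := [H14.McLc.n0, H14.McLc.n1, n2, n3, n4, n5, n6, n7, n8, n9, n10, n11, n12, n13, n14, n15, n16, n17, n18, n19]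
theorem nets_ok : netsOk 275 nets = true := List.all_eq_true.2 (fa_cons H14.McLc.n0_ok (fa_cons H14.McLc.n1_ok (fa_cons n2_ok (fa_cons n3_ok (fa_cons n4_ok (fa_cons n5_ok (fa_cons n6_ok (fa_cons n7_ok (fa_cons n8_ok (fa_cons n9_ok (fa_cons n10_ok (fa_cons n11_ok (fa_cons n12_ok (fa_cons n13_ok (fa_cons n14_ok (fa_cons n15_ok (fa_cons n16_ok (fa_cons n17_ok (fa_cons n18_ok (fa_cons n19_ok (fa_nil)))))))))))))))))))))
noncomputable def F : Nat → Nat → Nat := ptF (nat_lit 64) (nat_lit 9) nets
instance instF : PtF 275 nets F := ptF_ok nets_ok (by decide +kernel)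
noncomputable def defs : List Word := [dw (nat_lit 0x01040101040404010302030301030204040101030101030103010301), dw (nat_lit 0x03020402030101040103030303020302030301040203010301040401010402), dw (nat_lit 0x02040103010402030101030104020302040103010404020204040103010303030302030204), dw (nat_lit 0x0809080a060a050a05), dw (nat_lit 0x07070a07070a05080a), dw (nat_lit 0x0c0e0e0e0c0e0e0b0b0e0b), dw (nat_lit 0x0c0d0c0e0c0d0c0d0d0c0c), dw (nat_lit 0x0f0f11111010120f111011)
, dw (nat_lit 0x10120f12), dw (nat_lit 0x1613151315), dw (nat_lit 0x15151513161416), dw (nat_lit 0x1a181918), dw (nat_lit 0x060a0608080a08), dw (nat_lit 0x1d081e081e071d071d1d081e), dw (nat_lit 0x1f1f1f1f0820202007200707), dw (nat_lit 0x082121)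
, dw (nat_lit 0x0824), dw (nat_lit 0x0a0a)]
noncomputable def npi : Net := (.cons (nat_lit 1) (nat_lit 0x55551451104041400154144545455514541000155551041011055005540114444000)
(.cons (nat_lit 2) (nat_lit 0x23033121301013023232011001023000021133123212030111112213223222110200)
(.cons (nat_lit 4) (nat_lit 0x4000006080c0d05090b00020e0304080d08090b0b05060e0f0f0b050d0200030401)
(.cons (nat_lit 8) (nat_lit 0x1b0075005c00010041001c00bb00ed00d50088004000e70032000a00c400c10004)
(.cons (nat_lit 16) (nat_lit 0x6000034ad000076c8000070680000aa56000030480000466c0000eca200002318)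
(.cons (nat_lit 32) (nat_lit 0x6fb24b6b000000001a18800a00000000020025850000000000022370)
(.cons (nat_lit 64) (nat_lit 0x4a9a00a49d96a12200000000000000000000000000040710)
(.cons (nat_lit 128) (nat_lit 0xe63d118cfbe67bb208c6632b4455c089)
(.cons (nat_lit 256) (nat_lit 0x7efff)
(.cons (nat_lit 128) (nat_lit 0x58849)
(.cons (nat_lit 64) (nat_lit 0x2888b3c7de6abf1600000000000000005a40d37461710711)
(.cons (nat_lit 32) (nat_lit 0xc0e21142000000001a5a81a800000000a5387d41000000003001ed6b)
(.cons (nat_lit 16) (nat_lit 0x400005c3300002caf0000a6db0000e90c0000fa2a000053cf0000a6e100008312)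
(.cons (nat_lit 8) (nat_lit 0x7b009400560089000500ec001b00f1000500c100b80026009e00b3009d00b500e4)
(.cons (nat_lit 4) (nat_lit 0x408050f0f0a04090c0b00030f06040d09010c030b08030b0b0f020c0c030b0f0c08)
(.cons (nat_lit 2) (nat_lit 0x23032001011312133233311113130011233122033013131103022213123223130330)
(.cons (nat_lit 1) (nat_lit 0x55541451104041000154144545455514551000155551041411055005540514444000)
.nil)))))))))))))))))
theorem npi_ok : Net.ok 275 npi = true := by decide +kernel
theorem nets_ok' : netsOk 275 (nets ++ [npi]) = true :=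
  List.all_append.trans (by rw [show nets.all _ = true from nets_ok, List.all_cons, npi_ok]; rfl)
noncomputable def wa : Word := [nat_lit 4]
noncomputable def wu : Word := [nat_lit 6]
noncomputable def wb : Word := [nat_lit 8]
noncomputable def cha5 : Lv := .cons (nat_lit 148) [dw (nat_lit 0x1b)] [dw (nat_lit 0x01)] .nil
noncomputable def cha4 : Lv := .cons (nat_lit 133) [dw (nat_lit 0x17), dw (nat_lit 0x19)] [dw (nat_lit 0x01), dw (nat_lit 0x03), dw (nat_lit 0x03)] cha5
noncomputable def cha3 : Lv := .cons (nat_lit 259) [dw (nat_lit 0x13), dw (nat_lit 0x15)] [dw (nat_lit 0x01), dw (nat_lit 0x03), dw (nat_lit 0x01), dw (nat_lit 0x05), dw (nat_lit 0x03), dw (nat_lit 0x01), dw (nat_lit 0x01)] cha4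
noncomputable def cha2 : Lv := .cons (nat_lit 164) [dw (nat_lit 0x0f), dw (nat_lit 0x11)] [dw (nat_lit 0x01), dw (nat_lit 0x03), dw (nat_lit 0x01), dw (nat_lit 0x05), dw (nat_lit 0x03), dw (nat_lit 0x07), dw (nat_lit 0x01), dw (nat_lit 0x05)
, dw (nat_lit 0x01)] cha3
noncomputable def cha1 : Lv := .cons (nat_lit 47) [dw (nat_lit 0x0b), dw (nat_lit 0x0d)] [dw (nat_lit 0x01), dw (nat_lit 0x03), dw (nat_lit 0x01), dw (nat_lit 0x05), dw (nat_lit 0x0b), dw (nat_lit 0x09), dw (nat_lit 0x0f), dw (nat_lit 0x03)
, dw (nat_lit 0x01)] cha2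
noncomputable def cha0 : Lv := .cons (nat_lit 0) [dw (nat_lit 0x05), dw (nat_lit 0x07), dw (nat_lit 0x09)] [dw (nat_lit 0x01), dw (nat_lit 0x03), dw (nat_lit 0x05), dw (nat_lit 0x01), dw (nat_lit 0x0b), dw (nat_lit 0x0d), dw (nat_lit 0x01), dw (nat_lit 0x05)
, dw (nat_lit 0x03), dw (nat_lit 0x11), dw (nat_lit 0x01)] cha1
noncomputable def csa : List Word := [dw (nat_lit 0x05)]
noncomputable def dda0_0 : List (Word × CT) := [(dw (nat_lit 0x07), (.step (nat_lit 0) (nat_lit 4) (dw (nat_lit 0x170d)) (.dead (nat_lit 0) (nat_lit 1)))),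
  (dw (nat_lit 0x08), (.dead (nat_lit 0) (nat_lit 4))),
  (dw (nat_lit 0x09), (.dead (nat_lit 0) (nat_lit 4))),
  (dw (nat_lit 0x0a), (.step (nat_lit 0) (nat_lit 4) (dw (nat_lit 0x0d1a0b)) (.dead (nat_lit 0) (nat_lit 1)))),
  (dw (nat_lit 0x0f05), (.dead (nat_lit 0) (nat_lit 4))),
  (dw (nat_lit 0x1005), (.step (nat_lit 0) (nat_lit 4) (dw (nat_lit 0x190c0c)) (.dead (nat_lit 0) (nat_lit 1)))),
  (dw (nat_lit 0x1105), (.dead (nat_lit 0) (nat_lit 4))),
  (dw (nat_lit 0x0b05), (.step (nat_lit 0) (nat_lit 4) (dw (nat_lit 0x14170b)) (.dead (nat_lit 0) (nat_lit 1)))),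
  (dw (nat_lit 0x0c05), (.step (nat_lit 0) (nat_lit 4) (dw (nat_lit 0x0c0f0d)) (.dead (nat_lit 0) (nat_lit 1)))),
  (dw (nat_lit 0x0d05), (.dead (nat_lit 0) (nat_lit 4))),
  (dw (nat_lit 0x0e05), (.dead (nat_lit 0) (nat_lit 4))),
  (dw (nat_lit 0x0905), (.step (nat_lit 0) (nat_lit 4) (dw (nat_lit 0x0c170d)) (.dead (nat_lit 0) (nat_lit 1)))),
  (dw (nat_lit 0x1b06), (.dead (nat_lit 0) (nat_lit 4))),
  (dw (nat_lit 0x1906), (.step (nat_lit 0) (nat_lit 4) (dw (nat_lit 0x0d)) (.step (nat_lit 0) (nat_lit 1) (dw (nat_lit 0x10130f)) (.dead (nat_lit 164) (nat_lit 1))))),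
  (dw (nat_lit 0x1306), (.dead (nat_lit 0) (nat_lit 4))),
  (dw (nat_lit 0x1406), (.step (nat_lit 0) (nat_lit 4) (dw (nat_lit 0x19170b)) (.dead (nat_lit 0) (nat_lit 1)))),
  (dw (nat_lit 0x0d06), (.dead (nat_lit 0) (nat_lit 4))),
  (dw (nat_lit 0x0906), (.dead (nat_lit 0) (nat_lit 4))),
  (dw (nat_lit 0x0a06), (.dead (nat_lit 0) (nat_lit 4))),
  (dw (nat_lit 0x1307), (.dead (nat_lit 0) (nat_lit 4))),
  (dw (nat_lit 0x1207), (.step (nat_lit 0) (nat_lit 4) (dw (nat_lit 0x0c0f0d)) (.dead (nat_lit 0) (nat_lit 1)))),
  (dw (nat_lit 0x1508), (.dead (nat_lit 0) (nat_lit 4))),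
  (dw (nat_lit 0x0f09), (.dead (nat_lit 0) (nat_lit 4))),
  (dw (nat_lit 0x0b0a), (.dead (nat_lit 0) (nat_lit 4)))]
noncomputable def dda0 : List (Word × CT) := dda0_0
noncomputable def Ta0 : List Word := [[], dw (nat_lit 0x01), dw (nat_lit 0x0101), dw (nat_lit 0x010101), dw (nat_lit 0x01010101), dw (nat_lit 0x0101010101), dw (nat_lit 0x010101010101), dw (nat_lit 0x01010101010101)
, dw (nat_lit 0x0101010101010101), dw (nat_lit 0x010101010101010101), dw (nat_lit 0x01010101010101010101)]
noncomputable def cwa0 : List Word := [dw (nat_lit 0x01)]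
noncomputable def sca0 : List Word := [dw (nat_lit 0x01), dw (nat_lit 0x0101), dw (nat_lit 0x020202), dw (nat_lit 0x020202), dw (nat_lit 0x01)]
noncomputable def Ea0 : List Word := mulL [[]] (List.map (flat csa) Ta0)
noncomputable def chu5 : Lv := .cons (nat_lit 225) [dw (nat_lit 0x25)] [dw (nat_lit 0x01)] .nil
noncomputable def chu4 : Lv := .cons (nat_lit 2) [dw (nat_lit 0x07), dw (nat_lit 0x23)] [dw (nat_lit 0x01), dw (nat_lit 0x0101), dw (nat_lit 0x01)] chu5
noncomputable def chu3 : Lv := .cons (nat_lit 221) [dw (nat_lit 0x21)] [dw (nat_lit 0x01), dw (nat_lit 0x03), dw (nat_lit 0x05), dw (nat_lit 0x01), dw (nat_lit 0x03), dw (nat_lit 0x05), dw (nat_lit 0x01), dw (nat_lit 0x03)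
, dw (nat_lit 0x01)] chu4
noncomputable def chu2 : Lv := .cons (nat_lit 267) [dw (nat_lit 0x1f)] [dw (nat_lit 0x01), dw (nat_lit 0x0101), dw (nat_lit 0x03), dw (nat_lit 0x05), dw (nat_lit 0x01), dw (nat_lit 0x05), dw (nat_lit 0x01), dw (nat_lit 0x07)
, dw (nat_lit 0x01)] chu3
noncomputable def chu1 : Lv := .cons (nat_lit 50) [dw (nat_lit 0x1d)] [dw (nat_lit 0x01), dw (nat_lit 0x0b01), dw (nat_lit 0x01), dw (nat_lit 0x03), dw (nat_lit 0x05), dw (nat_lit 0x01), dw (nat_lit 0x03), dw (nat_lit 0x01)
, dw (nat_lit 0x03), dw (nat_lit 0x0b), dw (nat_lit 0x01), dw (nat_lit 0x01)] chu2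
noncomputable def chu0 : Lv := .cons (nat_lit 141) [dw (nat_lit 0x05), dw (nat_lit 0x09)] [dw (nat_lit 0x01), dw (nat_lit 0x03), dw (nat_lit 0x01), dw (nat_lit 0x05), dw (nat_lit 0x07), dw (nat_lit 0x09), dw (nat_lit 0x01), dw (nat_lit 0x05)
, dw (nat_lit 0x0b), dw (nat_lit 0x03), dw (nat_lit 0x05), dw (nat_lit 0x01)] chu1
noncomputable def csu : List Word := [dw (nat_lit 0x07), dw (nat_lit 0x27)]
noncomputable def ddu0 : List (Word × CT) := []
noncomputable def Tu0 : List Word := [[], dw (nat_lit 0x03), dw (nat_lit 0x04), dw (nat_lit 0x0303), dw (nat_lit 0x0404)]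
noncomputable def cwu0 : List Word := []
noncomputable def scu0 : List Word := []
noncomputable def ddu1_0 : List (Word × CT) := [(dw (nat_lit 0x1d1f071d), (.alt (dw (nat_lit 0x20221f)) (.alt (dw (nat_lit 0x2108212521)) (.alt [] (.dead (nat_lit 2) (nat_lit 1)) (.alt (dw (nat_lit 0x07)) (.dead (nat_lit 2) (nat_lit 1)) (.alt (dw (nat_lit 0x08)) (.dead (nat_lit 2) (nat_lit 1)) (.alt (dw (nat_lit 0x0707)) (.dead (nat_lit 2) (nat_lit 1)) (.alt (dw (nat_lit 0x0808)) (.dead (nat_lit 2) (nat_lit 1)) (.nil (nat_lit 0))))))) (.nil (nat_lit 1))) (.nil (nat_lit 1))))]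
noncomputable def ddu1 : List (Word × CT) := ddu1_0
noncomputable def Tu1 : List Word := [[]]
noncomputable def cwu1 : List Word := [dw (nat_lit 0x01)]
noncomputable def scu1 : List Word := []
noncomputable def ddu2 : List (Word × CT) := []
noncomputable def Tu2 : List Word := [[]]
noncomputable def cwu2 : List Word := []
noncomputable def scu2 : List Word := []
noncomputable def ddu3 : List (Word × CT) := []
noncomputable def Tu3 : List Word := [[]]
noncomputable def cwu3 : List Word := []
noncomputable def scu3 : List Word := []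
noncomputable def ddu4 : List (Word × CT) := []
noncomputable def Tu4 : List Word := [[], dw (nat_lit 0x01), dw (nat_lit 0x02), dw (nat_lit 0x0101), dw (nat_lit 0x0202)]
noncomputable def cwu4 : List Word := []
noncomputable def scu4 : List Word := []
noncomputable def Eu4 : List Word := mulL [[]] (List.map (flat csu) Tu4)
noncomputable def Eu3 : List Word := mulL Eu4 (List.map (flat csu) Tu3)
noncomputable def Eu2 : List Word := mulL Eu3 (List.map (flat csu) Tu2)
noncomputable def Eu1 : List Word := mulL Eu2 (List.map (flat csu) Tu1)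
noncomputable def Eu0 : List Word := mulL Eu1 (List.map (flat csu) Tu0)
noncomputable def Rs : List (Word × Nat) := [(dw (nat_lit 0x05010501050105010501050105010501), nat_lit 88), (dw (nat_lit 0x05030205010503020501050302050105030205010503020501), nat_lit 232)]
noncomputable def ks : List Nat := [nat_lit 1, nat_lit 2]
noncomputable def wc : Word := dw (nat_lit 0x27)
theorem chca : band (Nat.ble 1 898128000) (Nat.ble 898128000 (cha0.val 275 nets)) = true := by decide +kernel
theorem cca_0 : relsPt F (bas cha0) (commRels wa csa) = true := by decide +kernel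
theorem dka0_0 : deadChk 275 nets F wa cha0 [] dda0_0 = true := by decide +kernel
theorem lka0 : lvlChk 275 nets F wa cha0 [] (List.map (flat csa) Ta0) (List.map (flat csa) cwa0) sca0 dda0 0 = true := by decide +kernel
theorem dta1 : detChk F wa cha1 [nat_lit 0] 0 4 = true := by decide +kernel
theorem dta2 : detChk F wa cha2 [nat_lit 47, nat_lit 0] 0 1 = true := by decide +kernel
theorem dta3 : detChk F wa cha3 [nat_lit 164, nat_lit 47, nat_lit 0] 164 1 = true := by decide +kernel
theorem dta4 : detChk F wa cha4 [nat_lit 259, nat_lit 164, nat_lit 47, nat_lit 0] 47 1 = true := by decide +kernel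
theorem dta5 : detChk F wa cha5 [nat_lit 133, nat_lit 259, nat_lit 164, nat_lit 47, nat_lit 0] 259 1 = true := by decide +kernel
theorem chcu : band (Nat.ble 1 898128000) (Nat.ble 898128000 (chu0.val 275 nets)) = true := by decide +kernel
theorem ccu_0 : relsPt F (bas cha0) (commRels (powW wu 1) csu) = true := by decide +kernel
theorem lku0 : lvlChk 275 nets F (powW wu 1) chu0 [] (List.map (flat csu) Tu0) (List.map (flat csu) cwu0) scu0 ddu0 1 = true := by decide +kernel
theorem dku1_0 : deadChk 275 nets F (powW wu 1) chu1 [nat_lit 141] ddu1_0 = true := by decide +kernel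
theorem lku1 : lvlChk 275 nets F (powW wu 1) chu1 [nat_lit 141] (List.map (flat csu) Tu1) (List.map (flat csu) cwu1) scu1 ddu1 1 = true := by decide +kernel
theorem lku2 : lvlChk 275 nets F (powW wu 1) chu2 [nat_lit 50, nat_lit 141] (List.map (flat csu) Tu2) (List.map (flat csu) cwu2) scu2 ddu2 1 = true := by decide +kernel
theorem lku3 : lvlChk 275 nets F (powW wu 1) chu3 [nat_lit 267, nat_lit 50, nat_lit 141] (List.map (flat csu) Tu3) (List.map (flat csu) cwu3) scu3 ddu3 1 = true := by decide +kernel
theorem lku4 : lvlChk 275 nets F (powW wu 1) chu4 [nat_lit 221, nat_lit 267, nat_lit 50, nat_lit 141] (List.map (flat csu) Tu4) (List.map (flat csu) cwu4) scu4 ddu4 0 = true := by decide +kernel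
theorem dtu5 : detChk F (powW wu 1) chu5 [nat_lit 2, nat_lit 221, nat_lit 267, nat_lit 50, nat_lit 141] 2 1 = true := by decide +kernel
theorem nf_0 : relsPt F (bas cha0) (nfRels wa wu wb 11 3 1 4 Rs) = true := by decide +kernel
theorem lf_0 : allL (lfChk 275 F wa wu wb ks Rs [((1 : ℕ), ([] : Word)), (1, wc)]) Eu0 = true := by decide +kernel
theorem ari : ariChk 898128000 11 3 5 ks = true := by decide +kernel
theorem mva : band (Nat.ble (Nat.succ 0) 275) (bnot (Nat.beq (apW F wa 0) 0)) = true := by decide +kernel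
theorem pwa : pwChk wa 11 Ea0 = true := by decide +kernel
theorem dc : relsChk 275 nets 9 (idArr 275 9 9 0) (defRels defs 2) = true := by decide +kernel
theorem pic : relsChk 275 (nets ++ [npi]) 9 (idArr 275 9 9 0) (piRels 40 [wa, wu, wb] [powW wa 1, wu, wc ++ wb]) = true := by decide +kernel
theorem ni_0 : allL (niChk 275 F wa wb 1 wc [nat_lit 6]) Eu0 = true := by decide +kernel
section
variable {G : Type u} {Ω : Type*} [Group G] [MulAction G Ω] [FaithfulSMul G Ω] (M : PM G Ω 275 nets)

theorem Rdefs : Rels M.gen (defRels defs 2) := (M.rels_of_idArr (by decide) dc)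
variable (hN : Nat.card G = 898128000)
include hN
theorem RCa : Rels M.gen (commRels wa csa) := (rels_of_pt hN chca cca_0)
theorem cpa6 : CP M wa .nil [nat_lit 148, nat_lit 133, nat_lit 259, nat_lit 164, nat_lit 47, nat_lit 0] [[]] := cp_nil _ _
theorem cpa5 : CP M wa cha5 [nat_lit 133, nat_lit 259, nat_lit 164, nat_lit 47, nat_lit 0] [[]] := cp_det _ _ dta5 (cpa6 M hN)
theorem cpa4 : CP M wa cha4 [nat_lit 259, nat_lit 164, nat_lit 47, nat_lit 0] [[]] := cp_det _ _ dta4 (cpa5 M hN)
theorem cpa3 : CP M wa cha3 [nat_lit 164, nat_lit 47, nat_lit 0] [[]] := cp_det _ _ dta3 (cpa4 M hN)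
theorem cpa2 : CP M wa cha2 [nat_lit 47, nat_lit 0] [[]] := cp_det _ _ dta2 (cpa3 M hN)
theorem cpa1 : CP M wa cha1 [nat_lit 0] [[]] := cp_det _ _ dta1 (cpa2 M hN)
theorem cpa0 : CP M wa cha0 [] Ea0 := cp_lvl (RCa M hN) lka0 dka0_0 (cpa1 M hN)
theorem cena (g : G) (hg : g * ev M.gen wa = ev M.gen wa * g) : ∃ t ∈ Ea0, g = ev M.gen t := cp_top (cpa0 M hN) hN chca g hg
theorem RCu : Rels M.gen (commRels (powW wu 1) csu) := (rels_of_pt hN chca ccu_0)
theorem cpu6 : CP M (powW wu 1) .nil [nat_lit 225, nat_lit 2, nat_lit 221, nat_lit 267, nat_lit 50, nat_lit 141] [[]] := cp_nil _ _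
theorem cpu5 : CP M (powW wu 1) chu5 [nat_lit 2, nat_lit 221, nat_lit 267, nat_lit 50, nat_lit 141] [[]] := cp_det _ _ dtu5 (cpu6 M hN)
theorem cpu4 : CP M (powW wu 1) chu4 [nat_lit 221, nat_lit 267, nat_lit 50, nat_lit 141] Eu4 := cp_lvl (RCu M hN) lku4 rfl (cpu5 M hN)
theorem cpu3 : CP M (powW wu 1) chu3 [nat_lit 267, nat_lit 50, nat_lit 141] Eu3 := cp_lvl (RCu M hN) lku3 rfl (cpu4 M hN)
theorem cpu2 : CP M (powW wu 1) chu2 [nat_lit 50, nat_lit 141] Eu2 := cp_lvl (RCu M hN) lku2 rfl (cpu3 M hN)
theorem cpu1 : CP M (powW wu 1) chu1 [nat_lit 141] Eu1 := cp_lvl (RCu M hN) lku1 dku1_0 (cpu2 M hN)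
theorem cpu0 : CP M (powW wu 1) chu0 [] Eu0 := cp_lvl (RCu M hN) lku0 rfl (cpu1 M hN)
theorem cenu (g : G) (hg : g * ev M.gen (powW wu 1) = ev M.gen (powW wu 1) * g) : ∃ t ∈ Eu0, g = ev M.gen t := cp_top (cpu0 M hN) hN chcu g hg
theorem top : sub M.gen [wa, wu, wb] = ⊤ := top_of_defs (lo := 2) (j := 3) hN chca (Rdefs M) (by decide +kernel)
theorem upper (α : MulAut G) : ∃ g : G, ∃ q ∈ [((1 : ℕ), ([] : Word)), (1, wc)],
    Maps M.gen (MulAut.conj g * α) [wa, wu, wb] [powW wa q.1, wu, q.2 ++ wb] :=
  out_upper hN (by decide +kernel) (by norm_num) ari (rels_of_pt hN chca nf_0) mva (cena M hN) pwa (cenu M hN) lf_0 α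
theorem outer : ∃ ν, Maps M.gen ν [wa, wu, wb] [powW wa 1, wu, wc ++ wb] :=
  haveI := fin_of_card hN (by decide +kernel)
  aut_of_perm (permPM 275 _ (by decide) (by decide) nets_ok') (by decide +kernel)
    ((permPM 275 _ (by decide) (by decide) nets_ok').rels_of_idArr (by decide) pic) rfl (top M hN)
include M in
theorem out : Nat.card (Out G) = 2 := out_two (top M hN) (upper M hN) (outer M hN) (cenu M hN) ni_0
end

section
variable {G : Type u} {Ω : Type*} [Group G] [MulAction G Ω]

noncomputable def mach (E : Enc Ω 275) (hr : ∀ l < 2, ∃ g : G, E.Real (getL Net.nil nets l) g) : PM G Ω 275 nets :=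
  PM.ofReal G E (by decide) nets_ok (real_of_slp E (by decide) (by decide) nets_ok hr (ds := defs) (by decide +kernel) (by decide +kernel)
    (Rdefs (permPM 275 nets (by decide) (by decide) nets_ok)))
theorem out' [FaithfulSMul G Ω] (E : Enc Ω 275) (hr : ∀ l < 2, ∃ g : G, E.Real (getL Net.nil nets l) g) (hN : Nat.card G = 898128000) : Nat.card (Out G) = 2 := out (mach E hr) hN
end

end L.OMcL
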