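import Cfsg.Agent.L.OONC0

/-! Generated certificate (toolsL) for the group OON of degree 122760 and order 460815505920. -/
set_option autoImplicit false
set_option maxRecDepth 100000
set_option maxHeartbeats 0
set_option linter.unusedSectionVars false

namespace L.OON
open H14 Cfsg

universe u

section
variable {G : Type u} {Ω : Type*} [Group G] [MulAction G Ω] [FaithfulSMul G Ω] (M : PM G Ω 122760 nets)

theorem Rdefs : Rels M.gen (defRels defs 7) := (Rels.take_drop 1 (M.rels_of_idArr (by decide) dc_0) (Rels.take_drop 1 (M.rels_of_idArr (by decide) dc_1) (Rels.take_drop 1 (M.rels_of_idArr (by decide) dc_2) (Rels.take_drop 1 (M.rels_of_idArr (by decide) dc_3) (Rels.take_drop 1 (M.rels_of_idArr (by decide) dc_4) (Rels.take_drop 2 (M.rels_of_idArr (by decide) dc_5) (Rels.take_drop 1 (M.rels_of_idArr (by decide) dc_6) (Rels.take_drop 1 (M.rels_of_idArr (by decide) dc_7) (Rels.take_drop 1 (M.rels_of_idArr (by decide) dc_8) (Rels.take_drop 3 (M.rels_of_idArr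 (by decide) dc_9) (Rels.take_drop 1 (M.rels_of_idArr (by decide) dc_10) (M.rels_of_idArr (by decide) dc_11))))))))))))
variable (hN : Nat.card G = 460815505920)
include hN
theorem RCa : Rels M.gen (commRels wa csa) := (rels_of_pt hN chca cca_0)
theorem cpa4 : CP M wa .nil [nat_lit 38177, nat_lit 28903, nat_lit 57, nat_lit 61129] [[]] := cp_nil _ _
theorem cpa3 : CP M wa cha3 [nat_lit 28903, nat_lit 57, nat_lit 61129] [[]] := cp_det _ _ dta3 (cpa4 M hN)
theorem cpa2 : CP M wa cha2 [nat_lit 57, nat_lit 61129] [[]] := cp_det _ _ dta2 (cpa3 M hN)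
theorem cpa1 : CP M wa cha1 [nat_lit 61129] Ea1 := cp_lvl (RCa M hN) lka1 dka1_0 (cpa2 M hN)
theorem cpa0 : CP M wa cha0 [] Ea0 := cp_lvl (RCa M hN) lka0 rfl (cpa1 M hN)
theorem cena (g : G) (hg : g * ev M.gen wa = ev M.gen wa * g) : ∃ t ∈ Ea0, g = ev M.gen t := cp_top (cpa0 M hN) hN chca g hg
theorem RCu : Rels M.gen (commRels (powW wu 1) csu) := (rels_of_pt hN chca ccu_0)
theorem cpu6 : CP M (powW wu 1) .nil [nat_lit 0, nat_lit 2641, nat_lit 1819, nat_lit 10709, nat_lit 66113, nat_lit 7314] [[]] := cp_nil _ _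
theorem cpu5 : CP M (powW wu 1) chu5 [nat_lit 2641, nat_lit 1819, nat_lit 10709, nat_lit 66113, nat_lit 7314] Eu5 := cp_lvl (RCu M hN) lku5 rfl (cpu6 M hN)
theorem cpu4 : CP M (powW wu 1) chu4 [nat_lit 1819, nat_lit 10709, nat_lit 66113, nat_lit 7314] Eu4 := cp_lvl (RCu M hN) lku4 dku4_0 (cpu5 M hN)
theorem cpu3 : CP M (powW wu 1) chu3 [nat_lit 10709, nat_lit 66113, nat_lit 7314] Eu3 := cp_lvl (RCu M hN) lku3 rfl (cpu4 M hN)
theorem cpu2 : CP M (powW wu 1) chu2 [nat_lit 66113, nat_lit 7314] Eu2 := cp_lvl (RCu M hN) lku2 rfl (cpu3 M hN)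
theorem cpu1 : CP M (powW wu 1) chu1 [nat_lit 7314] Eu1 := cp_lvl (RCu M hN) lku1 dku1_0 (cpu2 M hN)
theorem cpu0 : CP M (powW wu 1) chu0 [] Eu0 := cp_lvl (RCu M hN) lku0 dku0_0 (cpu1 M hN)
theorem cenu (g : G) (hg : g * ev M.gen (powW wu 1) = ev M.gen (powW wu 1) * g) : ∃ t ∈ Eu0, g = ev M.gen t := cp_top (cpu0 M hN) hN chcu g hg
theorem top : sub M.gen [wa, wu, wb] = ⊤ := top_of_defs (lo := 7) (j := 3) hN chca (Rdefs M) (by decide +kernel)
theorem upper (α : MulAut G) : ∃ g : G, ∃ q ∈ [((1 : ℕ), ([] : Word)), (1, wc)],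
    Maps M.gen (MulAut.conj g * α) [wa, wu, wb] [powW wa q.1, wu, q.2 ++ wb] :=
  out_upper hN (by decide +kernel) (by norm_num) ari (rels_of_pt hN chca nf_0) mva (cena M hN) pwa (cenu M hN) lf_0 α
theorem outer [IsSimpleGroup G]
    (hφ : ∀ P : ℕ → G, Rels P pres → ∃ φ : G →* G, ∀ l < 7, φ (M.gen l) = P l) :
    ∃ ν, Maps M.gen ν [wa, wu, wb] [powW wa 1, wu, wc ++ wb] :=
  haveI := fin_of_card hN (by decide +kernel)
  (hφ _ (rels_loc (rels_of_pt hN chca pr_0))).elim fun _ h => aut_of_hom (x := 0) h (by decide +kernel) (rels_of_pt hN chca nr_0) (by decide +kernel)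
include M in
theorem out [IsSimpleGroup G]
    (hφ : ∀ P : ℕ → G, Rels P pres → ∃ φ : G →* G, ∀ l < 7, φ (M.gen l) = P l) : Nat.card (Out G) = 2 := out_two (top M hN) (upper M hN) (outer M hN hφ) (cenu M hN) ni_0
end

section
variable {G : Type u} {Ω : Type*} [Group G] [MulAction G Ω]

noncomputable def mach (E : Enc Ω 122760) (hr : ∀ l < 7, ∃ g : G, E.Real (getL Net.nil nets l) g) : PM G Ω 122760 nets :=
  PM.ofReal G E (by decide) nets_ok (real_of_slp E (by decide) (by decide) nets_ok hr (ds := defs) (by decide +kernel) (by decide +kernel)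
    (Rdefs (permPM 122760 nets (by decide) (by decide) nets_ok)))
end

end L.OON
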