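import Cfsg.Agent.L.OOND3

/-! Generated certificate (toolsL) for the group OON of degree 122760 and order 460815505920. -/
set_option Elab.async false
set_option autoImplicit false
set_option maxRecDepth 100000
set_option maxHeartbeats 0
set_option linter.unusedSectionVars false

namespace L.OON
open H14 Cfsg

universe u

theorem chca : band (Nat.ble 1 460815505920) (Nat.ble 460815505920 (cha0.val 122760 nets)) = true := by decide +kernel
theorem cca_0 : relsPt F (bas cha0) (commRels wa csa) = true := by decide +kernel
theorem lka0 : lvlChk 122760 nets F wa cha0 [] (List.map (flat csa) Ta0) (List.map (flat csa) cwa0) sca0 dda0 1 = true := by decide +kernel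
theorem dka1_0 : deadChk 122760 nets F wa cha1 [nat_lit 61129] dda1_0 = true := by decide +kernel
theorem lka1 : lvlChk 122760 nets F wa cha1 [nat_lit 61129] (List.map (flat csa) Ta1) (List.map (flat csa) cwa1) sca1 dda1 0 = true := by decide +kernel
theorem dta2 : detChk F wa cha2 [nat_lit 57, nat_lit 61129] 57 3 = true := by decide +kernel
theorem dta3 : detChk F wa cha3 [nat_lit 28903, nat_lit 57, nat_lit 61129] 57 1 = true := by decide +kernel
theorem chcu : band (Nat.ble 1 460815505920) (Nat.ble 460815505920 (chu0.val 122760 nets)) = true := by decide +kernel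
theorem ccu_0 : relsPt F (bas cha0) (commRels (powW wu 1) csu) = true := by decide +kernel
theorem dku0_0 : deadChk 122760 nets F (powW wu 1) chu0 [] ddu0_0 = true := by decide +kernel
theorem lku0 : lvlChk 122760 nets F (powW wu 1) chu0 [] (List.map (flat csu) Tu0) (List.map (flat csu) cwu0) scu0 ddu0 1 = true := by decide +kernel
theorem dku1_0 : deadChk 122760 nets F (powW wu 1) chu1 [nat_lit 7314] ddu1_0 = true := by decide +kernel
theorem lku1 : lvlChk 122760 nets F (powW wu 1) chu1 [nat_lit 7314] (List.map (flat csu) Tu1) (List.map (flat csu) cwu1) scu1 ddu1 1 = true := by decide +kernel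
theorem lku2 : lvlChk 122760 nets F (powW wu 1) chu2 [nat_lit 66113, nat_lit 7314] (List.map (flat csu) Tu2) (List.map (flat csu) cwu2) scu2 ddu2 3 = true := by decide +kernel
theorem lku3 : lvlChk 122760 nets F (powW wu 1) chu3 [nat_lit 10709, nat_lit 66113, nat_lit 7314] (List.map (flat csu) Tu3) (List.map (flat csu) cwu3) scu3 ddu3 0 = true := by decide +kernel
theorem dku4_0 : deadChk 122760 nets F (powW wu 1) chu4 [nat_lit 1819, nat_lit 10709, nat_lit 66113, nat_lit 7314] ddu4_0 = true := by decide +kernel
theorem lku4 : lvlChk 122760 nets F (powW wu 1) chu4 [nat_lit 1819, nat_lit 10709, nat_lit 66113, nat_lit 7314] (List.map (flat csu) Tu4) (List.map (flat csu) cwu4) scu4 ddu4 0 = true := by decide +kernel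
theorem lku5 : lvlChk 122760 nets F (powW wu 1) chu5 [nat_lit 2641, nat_lit 1819, nat_lit 10709, nat_lit 66113, nat_lit 7314] (List.map (flat csu) Tu5) (List.map (flat csu) cwu5) scu5 ddu5 0 = true := by decide +kernel
theorem nf_0 : relsPt F (bas cha0) (nfRels wa wu wb 19 8 1 5 Rs) = true := by decide +kernel
theorem lf_0 : allL (lfChk 122760 F wa wu wb ks Rs [((1 : ℕ), ([] : Word)), (1, wc)]) Eu0 = true := by decide +kernel
theorem ari : ariChk 460815505920 19 8 6 ks = true := by decide +kernel
theorem mva : band (Nat.ble (Nat.succ 0) 122760) (bnot (Nat.beq (apW F wa 0) 0)) = true := by decide +kernel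
theorem pwa : pwChk wa 19 Ea0 = true := by decide +kernel
theorem dc_0 : relsChk 122760 nets 17 (idArr 122760 17 17 0) (List.take 1 (defRels defs 7)) = true := by decide +kernel
theorem dc_1 : relsChk 122760 nets 17 (idArr 122760 17 17 0) (List.take 1 (List.drop 1 (defRels defs 7))) = true := by decide +kernel
theorem dc_2 : relsChk 122760 nets 17 (idArr 122760 17 17 0) (List.take 1 (List.drop 1 (List.drop 1 (defRels defs 7)))) = true := by decide +kernel
theorem dc_3 : relsChk 122760 nets 17 (idArr 122760 17 17 0) (List.take 1 (List.drop 1 (List.drop 1 (List.drop 1 (defRels defs 7))))) = true := by decide +kernel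
theorem dc_4 : relsChk 122760 nets 17 (idArr 122760 17 17 0) (List.take 1 (List.drop 1 (List.drop 1 (List.drop 1 (List.drop 1 (defRels defs 7)))))) = true := by decide +kernel
theorem dc_5 : relsChk 122760 nets 17 (idArr 122760 17 17 0) (List.take 2 (List.drop 1 (List.drop 1 (List.drop 1 (List.drop 1 (List.drop 1 (defRels defs 7))))))) = true := by decide +kernel
theorem dc_6 : relsChk 122760 nets 17 (idArr 122760 17 17 0) (List.take 1 (List.drop 2 (List.drop 1 (List.drop 1 (List.drop 1 (List.drop 1 (List.drop 1 (defRels defs 7)))))))) = true := by decide +kernel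
theorem dc_7 : relsChk 122760 nets 17 (idArr 122760 17 17 0) (List.take 1 (List.drop 1 (List.drop 2 (List.drop 1 (List.drop 1 (List.drop 1 (List.drop 1 (List.drop 1 (defRels defs 7))))))))) = true := by decide +kernel
theorem dc_8 : relsChk 122760 nets 17 (idArr 122760 17 17 0) (List.take 1 (List.drop 1 (List.drop 1 (List.drop 2 (List.drop 1 (List.drop 1 (List.drop 1 (List.drop 1 (List.drop 1 (defRels defs 7)))))))))) = true := by decide +kernel
theorem dc_9 : relsChk 122760 nets 17 (idArr 122760 17 17 0) (List.take 3 (List.drop 1 (List.drop 1 (List.drop 1 (List.drop 2 (List.drop 1 (List.drop 1 (List.drop 1 (List.drop 1 (List.drop 1 (defRels defs 7))))))))))) = true := by decide +kernel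
theorem dc_10 : relsChk 122760 nets 17 (idArr 122760 17 17 0) (List.take 1 (List.drop 3 (List.drop 1 (List.drop 1 (List.drop 1 (List.drop 2 (List.drop 1 (List.drop 1 (List.drop 1 (List.drop 1 (List.drop 1 (defRels defs 7)))))))))))) = true := by decide +kernel
theorem dc_11 : relsChk 122760 nets 17 (idArr 122760 17 17 0) (List.drop 1 (List.drop 3 (List.drop 1 (List.drop 1 (List.drop 1 (List.drop 2 (List.drop 1 (List.drop 1 (List.drop 1 (List.drop 1 (List.drop 1 (defRels defs 7)))))))))))) = true := by decide +kernel
theorem pr_0 : relsPt F (bas cha0) (flatR nu pres) = true := by decide +kernel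
theorem nr_0 : relsPt F (bas cha0) [(wa, da), (wu, du), (wb, db), (flat nu da, powW wa 1), (flat nu du, wu), (flat nu db, wc ++ wb)] = true := by decide +kernel
theorem ni_0 : allL (niChk 122760 F wa wb 1 wc [nat_lit 47848]) Eu0 = true := by decide +kernel

end L.OON
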