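import Cfsg.Agent.L.KU
import Cfsg.Agent.L.KS43
import Cfsg.Agent.H15.StdU42

/-! Generated certificate (toolsL/cg.hpp). -/
set_option autoImplicit false
set_option maxRecDepth 200000
set_option Elab.async false
set_option linter.unusedVariables false
set_option linter.unusedSectionVars false

namespace L.QS43
open H14 L.KS43T L.KS43
variable {G Ω : Type*} [Group G] [Finite G] [MulAction G Ω]

noncomputable def w0 : Word := [nat_lit 14, nat_lit 0, nat_lit 3, nat_lit 11, nat_lit 11]
noncomputable def w1 : Word := [nat_lit 17, nat_lit 15, nat_lit 11, nat_lit 15]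
noncomputable def w2 : Word := [nat_lit 16, nat_lit 15]
noncomputable def w3 : Word := [nat_lit 16]
noncomputable def ks : List Word := [w0, w1, w2, w3]
noncomputable def c4 : Chn := [((nat_lit 0), (full (nat_lit 40))), ((nat_lit 1), (nat_lit 0xeb3d26befe)), ((nat_lit 2), (nat_lit 0x200920a00c)), ((nat_lit 4), (nat_lit 0x4100000010))]
noncomputable def d5 : List OD := [⟨[nat_lit 3, nat_lit 1, nat_lit 0], [], (dn (nat_lit 16) (nat_lit 0x06010443080303c203c10903074207030702010208c308c208c104830482048108830643064209830982038305c30183040304020203020207c204c304c204c10783078207810583058205810003))⟩,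
 ⟨[nat_lit 3, nat_lit 1], [], (dn (nat_lit 16) (nat_lit 0x0702030209c209c104820982098102c208c2018201c206810741014206020442044109420542054106c206c103c203c102420042))⟩,
 ⟨[nat_lit 3, nat_lit 2], [], (dn (nat_lit 16) (nat_lit 0x06c100c203420602060105410082))⟩,
 ⟨[nat_lit 3], [], (dn (nat_lit 16) (nat_lit 0x08010101))⟩]
theorem k6 : ocChk (nat_lit 40) H15.StdS43.nets F ks c4 d5 [] = true := by decide +kernel
theorem o7 (M : PM G Ω 40 H15.StdS43.nets) (hN : Nat.card G = 25920) : OC M (sub M.gen ks) [] c4 :=
  oc_of le_rfl k6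
theorem low (M : PM G Ω 40 H15.StdS43.nets) (hN : Nat.card G = 25920) : 25920 ≤ Nat.card (sub M.gen ks) :=
  (OC.le_card' (N := 25920) (o7 M hN) (by decide +kernel))
noncomputable def w8 : Word := [nat_lit 14, nat_lit 17, nat_lit 0, nat_lit 6]
noncomputable def w9 : Word := [nat_lit 12, nat_lit 5, nat_lit 0]
noncomputable def w10 : Word := [nat_lit 17, nat_lit 6, nat_lit 17, nat_lit 8, nat_lit 5]
noncomputable def w11 : Word := [nat_lit 9, nat_lit 0, nat_lit 2, nat_lit 11, nat_lit 4]
noncomputable def w12 : Word := [nat_lit 14, nat_lit 13, nat_lit 8, nat_lit 17]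
noncomputable def w13 : Word := [nat_lit 17, nat_lit 11, nat_lit 7, nat_lit 17, nat_lit 2]
noncomputable def w14 : Word := [nat_lit 10, nat_lit 13, nat_lit 4, nat_lit 3]
noncomputable def w15 : Word := [nat_lit 11, nat_lit 12, nat_lit 4, nat_lit 11, nat_lit 7]
noncomputable def w16 : Word := [nat_lit 9, nat_lit 17, nat_lit 5, nat_lit 6, nat_lit 12]
noncomputable def w17 : Word := [nat_lit 11, nat_lit 13, nat_lit 1, nat_lit 4, nat_lit 10]
noncomputable def ys : List Word := [w8, w9, w10, w11, w12, w13, w14, w15, w16, w17]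
noncomputable def v18 : List Word := [dw (nat_lit 0x080107030306), dw (nat_lit 0x060203030305), dw (nat_lit 0x030801080303060608), dw (nat_lit 0x0302070407), dw (nat_lit 0x0804040607), dw (nat_lit 0x08010303060607), dw (nat_lit 0x0601070407), dw (nat_lit 0x03010406030606)
, dw (nat_lit 0x08010706030608), dw (nat_lit 0x0504010706030608)]
theorem k19 : relK F bs0 (memRels ks ys v18) = true := by decide +kernel
theorem hy (M : PM G Ω 40 H15.StdS43.nets) (hN : Nat.card G = 25920) : (sub M.gen ys) ≤ (sub M.gen ks) :=
  (sub_le_of_memRels (rels_base (base0 M hN) k19))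
noncomputable def v20 : List Word := [[], [], [], [], [], [], [], []
, [], [], [], [], [], [], [], []
, [], [], [], [], [], [], [], []
, [], [], [], [], [], [], [], []
, [], [], [], [], [], [], [], []
, [], [], [], [], [], [], [], []
, [], [], [], [], [], [], [], []
, []]
theorem k21 : relK F bs0 (qR ys [] H15.StdU42.rels v20) = true := by decide +kernel
noncomputable def v22 : Prs := [(dw (nat_lit 0x010f030d12), []),
 (dw (nat_lit 0x0901110e13), []),
 (dw (nat_lit 0x090f051113), []),
 (dw (nat_lit 0x050f1205), [])]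
theorem k23 : relK F bs0 (sR ys [] H15.StdU42.ws0 ks v22) = true := by decide +kernel
theorem qs_ (M : PM G Ω 40 H15.StdS43.nets) (hN : Nat.card G = 25920) : ∀ {X : Type*} [Group X], PresF G X H15.StdU42.rels H15.StdU42.ws0 → QS X (sub M.gen ks) (sub M.gen []) :=
  fun hP _ => quot_surj hP ((sub_le _).2 fa_nil) (hy M hN) le_rfl le_rfl (rels_base (base0 M hN) k21) (rels_base (base0 M hN) k23) (by decide +kernel)

end L.QS43
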