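import Cfsg.Agent.L.SFi22D2

/-! Generated certificate (toolsL) for the group SFi22 of degree 3510 and order 64561751654400. -/
set_option Elab.async false
set_option autoImplicit false
set_option maxRecDepth 100000
set_option maxHeartbeats 0
set_option linter.unusedSectionVars false
set_option linter.unusedVariables false

namespace L.SFi22
open H14 Cfsg

universe u

theorem crC0E_4 : TC0.covRel BC0 (List.take 10 (List.drop 11 (List.drop 11 (List.drop 12 (List.drop 17 lvE))))) = true := by decide +kernel
theorem crC0E_5 : TC0.covRel BC0 (List.take 11 (List.drop 10 (List.drop 11 (List.drop 11 (List.drop 12 (List.drop 17 lvE)))))) = true := by decide +kernel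
theorem crC0E_6 : TC0.covRel BC0 (List.drop 11 (List.drop 10 (List.drop 11 (List.drop 11 (List.drop 12 (List.drop 17 lvE)))))) = true := by decide +kernel
theorem crC0D_0 : TC0.covRel BC0 lvD = true := by decide +kernel
theorem crC0C_0 : TC0.covRel BC0 lvC = true := by decide +kernel
theorem crC0B_0 : TC0.covRel BC0 lvB = true := by decide +kernel
theorem crC0A_0 : TC0.covRel BC0 lvA = true := by decide +kernel
theorem wfC1 : TC1.wf = true := by decide +kernel
theorem crC1E_0 : TC1.covRel BC1 (List.take 1 lvE) = true := by decide +kernel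
theorem crC1E_1 : TC1.covRel BC1 (List.take 1 (List.drop 1 lvE)) = true := by decide +kernel
theorem crC1E_2 : TC1.covRel BC1 (List.take 3 (List.drop 1 (List.drop 1 lvE))) = true := by decide +kernel
theorem crC1E_3 : TC1.covRel BC1 (List.take 5 (List.drop 3 (List.drop 1 (List.drop 1 lvE)))) = true := by decide +kernel
theorem crC1E_4 : TC1.covRel BC1 (List.take 2 (List.drop 5 (List.drop 3 (List.drop 1 (List.drop 1 lvE))))) = true := by decide +kernel
theorem crC1E_5 : TC1.covRel BC1 (List.take 2 (List.drop 2 (List.drop 5 (List.drop 3 (List.drop 1 (List.drop 1 lvE)))))) = true := by decide +kernel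
theorem crC1E_6 : TC1.covRel BC1 (List.take 1 (List.drop 2 (List.drop 2 (List.drop 5 (List.drop 3 (List.drop 1 (List.drop 1 lvE))))))) = true := by decide +kernel
theorem crC1E_7 : TC1.covRel BC1 (List.take 2 (List.drop 1 (List.drop 2 (List.drop 2 (List.drop 5 (List.drop 3 (List.drop 1 (List.drop 1 lvE)))))))) = true := by decide +kernel
theorem crC1E_8 : TC1.covRel BC1 (List.take 2 (List.drop 2 (List.drop 1 (List.drop 2 (List.drop 2 (List.drop 5 (List.drop 3 (List.drop 1 (List.drop 1 lvE))))))))) = true := by decide +kernel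
theorem crC1E_9 : TC1.covRel BC1 (List.take 2 (List.drop 2 (List.drop 2 (List.drop 1 (List.drop 2 (List.drop 2 (List.drop 5 (List.drop 3 (List.drop 1 (List.drop 1 lvE)))))))))) = true := by decide +kernel
theorem crC1E_10 : TC1.covRel BC1 (List.take 2 (List.drop 2 (List.drop 2 (List.drop 2 (List.drop 1 (List.drop 2 (List.drop 2 (List.drop 5 (List.drop 3 (List.drop 1 (List.drop 1 lvE))))))))))) = true := by decide +kernel
theorem crC1E_11 : TC1.covRel BC1 (List.take 2 (List.drop 2 (List.drop 2 (List.drop 2 (List.drop 2 (List.drop 1 (List.drop 2 (List.drop 2 (List.drop 5 (List.drop 3 (List.drop 1 (List.drop 1 lvE)))))))))))) = true := by decide +kernel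
theorem crC1E_12 : TC1.covRel BC1 (List.take 2 (List.drop 2 (List.drop 2 (List.drop 2 (List.drop 2 (List.drop 2 (List.drop 1 (List.drop 2 (List.drop 2 (List.drop 5 (List.drop 3 (List.drop 1 (List.drop 1 lvE))))))))))))) = true := by decide +kernel
theorem crC1E_13 : TC1.covRel BC1 (List.take 1 (List.drop 2 (List.drop 2 (List.drop 2 (List.drop 2 (List.drop 2 (List.drop 2 (List.drop 1 (List.drop 2 (List.drop 2 (List.drop 5 (List.drop 3 (List.drop 1 (List.drop 1 lvE)))))))))))))) = true := by decide +kernel
theorem crC1E_14 : TC1.covRel BC1 (List.take 2 (List.drop 1 (List.drop 2 (List.drop 2 (List.drop 2 (List.drop 2 (List.drop 2 (List.drop 2 (List.drop 1 (List.drop 2 (List.drop 2 (List.drop 5 (List.drop 3 (List.drop 1 (List.drop 1 lvE))))))))))))))) = true := by decide +kernel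
theorem crC1E_15 : TC1.covRel BC1 (List.take 1 (List.drop 2 (List.drop 1 (List.drop 2 (List.drop 2 (List.drop 2 (List.drop 2 (List.drop 2 (List.drop 2 (List.drop 1 (List.drop 2 (List.drop 2 (List.drop 5 (List.drop 3 (List.drop 1 (List.drop 1 lvE)))))))))))))))) = true := by decide +kernel
theorem crC1E_16 : TC1.covRel BC1 (List.take 2 (List.drop 1 (List.drop 2 (List.drop 1 (List.drop 2 (List.drop 2 (List.drop 2 (List.drop 2 (List.drop 2 (List.drop 2 (List.drop 1 (List.drop 2 (List.drop 2 (List.drop 5 (List.drop 3 (List.drop 1 (List.drop 1 lvE))))))))))))))))) = true := by decide +kernel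
theorem crC1E_17 : TC1.covRel BC1 (List.take 1 (List.drop 2 (List.drop 1 (List.drop 2 (List.drop 1 (List.drop 2 (List.drop 2 (List.drop 2 (List.drop 2 (List.drop 2 (List.drop 2 (List.drop 1 (List.drop 2 (List.drop 2 (List.drop 5 (List.drop 3 (List.drop 1 (List.drop 1 lvE)))))))))))))))))) = true := by decide +kernel
theorem crC1E_18 : TC1.covRel BC1 (List.take 1 (List.drop 1 (List.drop 2 (List.drop 1 (List.drop 2 (List.drop 1 (List.drop 2 (List.drop 2 (List.drop 2 (List.drop 2 (List.drop 2 (List.drop 2 (List.drop 1 (List.drop 2 (List.drop 2 (List.drop 5 (List.drop 3 (List.drop 1 (List.drop 1 lvE))))))))))))))))))) = true := by decide +kernel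
theorem crC1E_19 : TC1.covRel BC1 (List.take 1 (List.drop 1 (List.drop 1 (List.drop 2 (List.drop 1 (List.drop 2 (List.drop 1 (List.drop 2 (List.drop 2 (List.drop 2 (List.drop 2 (List.drop 2 (List.drop 2 (List.drop 1 (List.drop 2 (List.drop 2 (List.drop 5 (List.drop 3 (List.drop 1 (List.drop 1 lvE)))))))))))))))))))) = true := by decide +kernel
theorem crC1E_20 : TC1.covRel BC1 (List.take 1 (List.drop 1 (List.drop 1 (List.drop 1 (List.drop 2 (List.drop 1 (List.drop 2 (List.drop 1 (List.drop 2 (List.drop 2 (List.drop 2 (List.drop 2 (List.drop 2 (List.drop 2 (List.drop 1 (List.drop 2 (List.drop 2 (List.drop 5 (List.drop 3 (List.drop 1 (List.drop 1 lvE))))))))))))))))))))) = true := by decide +kernel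
theorem crC1E_21 : TC1.covRel BC1 (List.take 1 (List.drop 1 (List.drop 1 (List.drop 1 (List.drop 1 (List.drop 2 (List.drop 1 (List.drop 2 (List.drop 1 (List.drop 2 (List.drop 2 (List.drop 2 (List.drop 2 (List.drop 2 (List.drop 2 (List.drop 1 (List.drop 2 (List.drop 2 (List.drop 5 (List.drop 3 (List.drop 1 (List.drop 1 lvE)))))))))))))))))))))) = true := by decide +kernel
theorem crC1E_22 : TC1.covRel BC1 (List.take 1 (List.drop 1 (List.drop 1 (List.drop 1 (List.drop 1 (List.drop 1 (List.drop 2 (List.drop 1 (List.drop 2 (List.drop 1 (List.drop 2 (List.drop 2 (List.drop 2 (List.drop 2 (List.drop 2 (List.drop 2 (List.drop 1 (List.drop 2 (List.drop 2 (List.drop 5 (List.drop 3 (List.drop 1 (List.drop 1 lvE))))))))))))))))))))))) = true := by decide +kernel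
theorem crC1E_23 : TC1.covRel BC1 (List.take 1 (List.drop 1 (List.drop 1 (List.drop 1 (List.drop 1 (List.drop 1 (List.drop 1 (List.drop 2 (List.drop 1 (List.drop 2 (List.drop 1 (List.drop 2 (List.drop 2 (List.drop 2 (List.drop 2 (List.drop 2 (List.drop 2 (List.drop 1 (List.drop 2 (List.drop 2 (List.drop 5 (List.drop 3 (List.drop 1 (List.drop 1 lvE)))))))))))))))))))))))) = true := by decide +kernel
theorem crC1E_24 : TC1.covRel BC1 (List.take 1 (List.drop 1 (List.drop 1 (List.drop 1 (List.drop 1 (List.drop 1 (List.drop 1 (List.drop 1 (List.drop 2 (List.drop 1 (List.drop 2 (List.drop 1 (List.drop 2 (List.drop 2 (List.drop 2 (List.drop 2 (List.drop 2 (List.drop 2 (List.drop 1 (List.drop 2 (List.drop 2 (List.drop 5 (List.drop 3 (List.drop 1 (List.drop 1 lvE))))))))))))))))))))))))) = true := by decide +kernel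
theorem crC1E_25 : TC1.covRel BC1 (List.take 1 (List.drop 1 (List.drop 1 (List.drop 1 (List.drop 1 (List.drop 1 (List.drop 1 (List.drop 1 (List.drop 1 (List.drop 2 (List.drop 1 (List.drop 2 (List.drop 1 (List.drop 2 (List.drop 2 (List.drop 2 (List.drop 2 (List.drop 2 (List.drop 2 (List.drop 1 (List.drop 2 (List.drop 2 (List.drop 5 (List.drop 3 (List.drop 1 (List.drop 1 lvE)))))))))))))))))))))))))) = true := by decide +kernel
theorem crC1E_26 : TC1.covRel BC1 (List.take 1 (List.drop 1 (List.drop 1 (List.drop 1 (List.drop 1 (List.drop 1 (List.drop 1 (List.drop 1 (List.drop 1 (List.drop 1 (List.drop 2 (List.drop 1 (List.drop 2 (List.drop 1 (List.drop 2 (List.drop 2 (List.drop 2 (List.drop 2 (List.drop 2 (List.drop 2 (List.drop 1 (List.drop 2 (List.drop 2 (List.drop 5 (List.drop 3 (List.drop 1 (List.drop 1 lvE))))))))))))))))))))))))))) = true := by decide +kernel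
theorem crC1E_27 : TC1.covRel BC1 (List.take 1 (List.drop 1 (List.drop 1 (List.drop 1 (List.drop 1 (List.drop 1 (List.drop 1 (List.drop 1 (List.drop 1 (List.drop 1 (List.drop 1 (List.drop 2 (List.drop 1 (List.drop 2 (List.drop 1 (List.drop 2 (List.drop 2 (List.drop 2 (List.drop 2 (List.drop 2 (List.drop 2 (List.drop 1 (List.drop 2 (List.drop 2 (List.drop 5 (List.drop 3 (List.drop 1 (List.drop 1 lvE)))))))))))))))))))))))))))) = true := by decide +kernel
theorem crC1E_28 : TC1.covRel BC1 (List.take 2 (List.drop 1 (List.drop 1 (List.drop 1 (List.drop 1 (List.drop 1 (List.drop 1 (List.drop 1 (List.drop 1 (List.drop 1 (List.drop 1 (List.drop 1 (List.drop 2 (List.drop 1 (List.drop 2 (List.drop 1 (List.drop 2 (List.drop 2 (List.drop 2 (List.drop 2 (List.drop 2 (List.drop 2 (List.drop 1 (List.drop 2 (List.drop 2 (List.drop 5 (List.drop 3 (List.drop 1 (List.drop 1 lvE))))))))))))))))))))))))))))) = true := by decide +kernel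

end L.SFi22
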