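import Cfsg.Agent.L.SFi22D2

/-! Generated certificate (toolsL) for the group SFi22 of degree 3510 and order 64561751654400. -/
set_option Elab.async false
set_option autoImplicit false
set_option maxRecDepth 100000
set_option maxHeartbeats 0
set_option linter.unusedSectionVars false
set_option linter.unusedVariables false

namespace L.SFi22
open H14 Cfsg

universe u

theorem crC1E_29 : TC1.covRel BC1 (List.take 1 (List.drop 2 (List.drop 1 (List.drop 1 (List.drop 1 (List.drop 1 (List.drop 1 (List.drop 1 (List.drop 1 (List.drop 1 (List.drop 1 (List.drop 1 (List.drop 1 (List.drop 2 (List.drop 1 (List.drop 2 (List.drop 1 (List.drop 2 (List.drop 2 (List.drop 2 (List.drop 2 (List.drop 2 (List.drop 2 (List.drop 1 (List.drop 2 (List.drop 2 (List.drop 5 (List.drop 3 (List.drop 1 (List.drop 1 lvE)))))))))))))))))))))))))))))) = true := by decide +kernel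
theorem crC1E_30 : TC1.covRel BC1 (List.take 1 (List.drop 1 (List.drop 2 (List.drop 1 (List.drop 1 (List.drop 1 (List.drop 1 (List.drop 1 (List.drop 1 (List.drop 1 (List.drop 1 (List.drop 1 (List.drop 1 (List.drop 1 (List.drop 2 (List.drop 1 (List.drop 2 (List.drop 1 (List.drop 2 (List.drop 2 (List.drop 2 (List.drop 2 (List.drop 2 (List.drop 2 (List.drop 1 (List.drop 2 (List.drop 2 (List.drop 5 (List.drop 3 (List.drop 1 (List.drop 1 lvE))))))))))))))))))))))))))))))) = true := by decide +kernel
theorem crC1E_31 : TC1.covRel BC1 (List.take 1 (List.drop 1 (List.drop 1 (List.drop 2 (List.drop 1 (List.drop 1 (List.drop 1 (List.drop 1 (List.drop 1 (List.drop 1 (List.drop 1 (List.drop 1 (List.drop 1 (List.drop 1 (List.drop 1 (List.drop 2 (List.drop 1 (List.drop 2 (List.drop 1 (List.drop 2 (List.drop 2 (List.drop 2 (List.drop 2 (List.drop 2 (List.drop 2 (List.drop 1 (List.drop 2 (List.drop 2 (List.drop 5 (List.drop 3 (List.drop 1 (List.drop 1 lvE)))))))))))))))))))))))))))))))) = true := by decide +kernel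
theorem crC1E_32 : TC1.covRel BC1 (List.take 2 (List.drop 1 (List.drop 1 (List.drop 1 (List.drop 2 (List.drop 1 (List.drop 1 (List.drop 1 (List.drop 1 (List.drop 1 (List.drop 1 (List.drop 1 (List.drop 1 (List.drop 1 (List.drop 1 (List.drop 1 (List.drop 2 (List.drop 1 (List.drop 2 (List.drop 1 (List.drop 2 (List.drop 2 (List.drop 2 (List.drop 2 (List.drop 2 (List.drop 2 (List.drop 1 (List.drop 2 (List.drop 2 (List.drop 5 (List.drop 3 (List.drop 1 (List.drop 1 lvE))))))))))))))))))))))))))))))))) = true := by decide +kernel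
theorem crC1E_33 : TC1.covRel BC1 (List.take 1 (List.drop 2 (List.drop 1 (List.drop 1 (List.drop 1 (List.drop 2 (List.drop 1 (List.drop 1 (List.drop 1 (List.drop 1 (List.drop 1 (List.drop 1 (List.drop 1 (List.drop 1 (List.drop 1 (List.drop 1 (List.drop 1 (List.drop 2 (List.drop 1 (List.drop 2 (List.drop 1 (List.drop 2 (List.drop 2 (List.drop 2 (List.drop 2 (List.drop 2 (List.drop 2 (List.drop 1 (List.drop 2 (List.drop 2 (List.drop 5 (List.drop 3 (List.drop 1 (List.drop 1 lvE)))))))))))))))))))))))))))))))))) = true := by decide +kernel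
theorem crC1E_34 : TC1.covRel BC1 (List.take 1 (List.drop 1 (List.drop 2 (List.drop 1 (List.drop 1 (List.drop 1 (List.drop 2 (List.drop 1 (List.drop 1 (List.drop 1 (List.drop 1 (List.drop 1 (List.drop 1 (List.drop 1 (List.drop 1 (List.drop 1 (List.drop 1 (List.drop 1 (List.drop 2 (List.drop 1 (List.drop 2 (List.drop 1 (List.drop 2 (List.drop 2 (List.drop 2 (List.drop 2 (List.drop 2 (List.drop 2 (List.drop 1 (List.drop 2 (List.drop 2 (List.drop 5 (List.drop 3 (List.drop 1 (List.drop 1 lvE))))))))))))))))))))))))))))))))))) = true := by decide +kernel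
theorem crC1E_35 : TC1.covRel BC1 (List.take 1 (List.drop 1 (List.drop 1 (List.drop 2 (List.drop 1 (List.drop 1 (List.drop 1 (List.drop 2 (List.drop 1 (List.drop 1 (List.drop 1 (List.drop 1 (List.drop 1 (List.drop 1 (List.drop 1 (List.drop 1 (List.drop 1 (List.drop 1 (List.drop 1 (List.drop 2 (List.drop 1 (List.drop 2 (List.drop 1 (List.drop 2 (List.drop 2 (List.drop 2 (List.drop 2 (List.drop 2 (List.drop 2 (List.drop 1 (List.drop 2 (List.drop 2 (List.drop 5 (List.drop 3 (List.drop 1 (List.drop 1 lvE)))))))))))))))))))))))))))))))))))) = true := by decide +kernel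
theorem crC1E_36 : TC1.covRel BC1 (List.take 1 (List.drop 1 (List.drop 1 (List.drop 1 (List.drop 2 (List.drop 1 (List.drop 1 (List.drop 1 (List.drop 2 (List.drop 1 (List.drop 1 (List.drop 1 (List.drop 1 (List.drop 1 (List.drop 1 (List.drop 1 (List.drop 1 (List.drop 1 (List.drop 1 (List.drop 1 (List.drop 2 (List.drop 1 (List.drop 2 (List.drop 1 (List.drop 2 (List.drop 2 (List.drop 2 (List.drop 2 (List.drop 2 (List.drop 2 (List.drop 1 (List.drop 2 (List.drop 2 (List.drop 5 (List.drop 3 (List.drop 1 (List.drop 1 lvE))))))))))))))))))))))))))))))))))))) = true := by decide +kernel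
theorem crC1E_37 : TC1.covRel BC1 (List.take 2 (List.drop 1 (List.drop 1 (List.drop 1 (List.drop 1 (List.drop 2 (List.drop 1 (List.drop 1 (List.drop 1 (List.drop 2 (List.drop 1 (List.drop 1 (List.drop 1 (List.drop 1 (List.drop 1 (List.drop 1 (List.drop 1 (List.drop 1 (List.drop 1 (List.drop 1 (List.drop 1 (List.drop 2 (List.drop 1 (List.drop 2 (List.drop 1 (List.drop 2 (List.drop 2 (List.drop 2 (List.drop 2 (List.drop 2 (List.drop 2 (List.drop 1 (List.drop 2 (List.drop 2 (List.drop 5 (List.drop 3 (List.drop 1 (List.drop 1 lvE)))))))))))))))))))))))))))))))))))))) = true := by decide +kernel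
theorem crC1E_38 : TC1.covRel BC1 (List.take 1 (List.drop 2 (List.drop 1 (List.drop 1 (List.drop 1 (List.drop 1 (List.drop 2 (List.drop 1 (List.drop 1 (List.drop 1 (List.drop 2 (List.drop 1 (List.drop 1 (List.drop 1 (List.drop 1 (List.drop 1 (List.drop 1 (List.drop 1 (List.drop 1 (List.drop 1 (List.drop 1 (List.drop 1 (List.drop 2 (List.drop 1 (List.drop 2 (List.drop 1 (List.drop 2 (List.drop 2 (List.drop 2 (List.drop 2 (List.drop 2 (List.drop 2 (List.drop 1 (List.drop 2 (List.drop 2 (List.drop 5 (List.drop 3 (List.drop 1 (List.drop 1 lvE))))))))))))))))))))))))))))))))))))))) = true := by decide +kernel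
theorem crC1E_39 : TC1.covRel BC1 (List.take 1 (List.drop 1 (List.drop 2 (List.drop 1 (List.drop 1 (List.drop 1 (List.drop 1 (List.drop 2 (List.drop 1 (List.drop 1 (List.drop 1 (List.drop 2 (List.drop 1 (List.drop 1 (List.drop 1 (List.drop 1 (List.drop 1 (List.drop 1 (List.drop 1 (List.drop 1 (List.drop 1 (List.drop 1 (List.drop 1 (List.drop 2 (List.drop 1 (List.drop 2 (List.drop 1 (List.drop 2 (List.drop 2 (List.drop 2 (List.drop 2 (List.drop 2 (List.drop 2 (List.drop 1 (List.drop 2 (List.drop 2 (List.drop 5 (List.drop 3 (List.drop 1 (List.drop 1 lvE)))))))))))))))))))))))))))))))))))))))) = true := by decide +kernel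
theorem crC1E_40 : TC1.covRel BC1 (List.take 1 (List.drop 1 (List.drop 1 (List.drop 2 (List.drop 1 (List.drop 1 (List.drop 1 (List.drop 1 (List.drop 2 (List.drop 1 (List.drop 1 (List.drop 1 (List.drop 2 (List.drop 1 (List.drop 1 (List.drop 1 (List.drop 1 (List.drop 1 (List.drop 1 (List.drop 1 (List.drop 1 (List.drop 1 (List.drop 1 (List.drop 1 (List.drop 2 (List.drop 1 (List.drop 2 (List.drop 1 (List.drop 2 (List.drop 2 (List.drop 2 (List.drop 2 (List.drop 2 (List.drop 2 (List.drop 1 (List.drop 2 (List.drop 2 (List.drop 5 (List.drop 3 (List.drop 1 (List.drop 1 lvE))))))))))))))))))))))))))))))))))))))))) = true := by decide +kernel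
theorem crC1E_41 : TC1.covRel BC1 (List.take 1 (List.drop 1 (List.drop 1 (List.drop 1 (List.drop 2 (List.drop 1 (List.drop 1 (List.drop 1 (List.drop 1 (List.drop 2 (List.drop 1 (List.drop 1 (List.drop 1 (List.drop 2 (List.drop 1 (List.drop 1 (List.drop 1 (List.drop 1 (List.drop 1 (List.drop 1 (List.drop 1 (List.drop 1 (List.drop 1 (List.drop 1 (List.drop 1 (List.drop 2 (List.drop 1 (List.drop 2 (List.drop 1 (List.drop 2 (List.drop 2 (List.drop 2 (List.drop 2 (List.drop 2 (List.drop 2 (List.drop 1 (List.drop 2 (List.drop 2 (List.drop 5 (List.drop 3 (List.drop 1 (List.drop 1 lvE)))))))))))))))))))))))))))))))))))))))))) = true := by decide +kernel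
theorem crC1E_42 : TC1.covRel BC1 (List.take 1 (List.drop 1 (List.drop 1 (List.drop 1 (List.drop 1 (List.drop 2 (List.drop 1 (List.drop 1 (List.drop 1 (List.drop 1 (List.drop 2 (List.drop 1 (List.drop 1 (List.drop 1 (List.drop 2 (List.drop 1 (List.drop 1 (List.drop 1 (List.drop 1 (List.drop 1 (List.drop 1 (List.drop 1 (List.drop 1 (List.drop 1 (List.drop 1 (List.drop 1 (List.drop 2 (List.drop 1 (List.drop 2 (List.drop 1 (List.drop 2 (List.drop 2 (List.drop 2 (List.drop 2 (List.drop 2 (List.drop 2 (List.drop 1 (List.drop 2 (List.drop 2 (List.drop 5 (List.drop 3 (List.drop 1 (List.drop 1 lvE))))))))))))))))))))))))))))))))))))))))))) = true := by decide +kernel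
theorem crC1E_43 : TC1.covRel BC1 (List.take 1 (List.drop 1 (List.drop 1 (List.drop 1 (List.drop 1 (List.drop 1 (List.drop 2 (List.drop 1 (List.drop 1 (List.drop 1 (List.drop 1 (List.drop 2 (List.drop 1 (List.drop 1 (List.drop 1 (List.drop 2 (List.drop 1 (List.drop 1 (List.drop 1 (List.drop 1 (List.drop 1 (List.drop 1 (List.drop 1 (List.drop 1 (List.drop 1 (List.drop 1 (List.drop 1 (List.drop 2 (List.drop 1 (List.drop 2 (List.drop 1 (List.drop 2 (List.drop 2 (List.drop 2 (List.drop 2 (List.drop 2 (List.drop 2 (List.drop 1 (List.drop 2 (List.drop 2 (List.drop 5 (List.drop 3 (List.drop 1 (List.drop 1 lvE)))))))))))))))))))))))))))))))))))))))))))) = true := by decide +kernel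
theorem crC1E_44 : TC1.covRel BC1 (List.take 1 (List.drop 1 (List.drop 1 (List.drop 1 (List.drop 1 (List.drop 1 (List.drop 1 (List.drop 2 (List.drop 1 (List.drop 1 (List.drop 1 (List.drop 1 (List.drop 2 (List.drop 1 (List.drop 1 (List.drop 1 (List.drop 2 (List.drop 1 (List.drop 1 (List.drop 1 (List.drop 1 (List.drop 1 (List.drop 1 (List.drop 1 (List.drop 1 (List.drop 1 (List.drop 1 (List.drop 1 (List.drop 2 (List.drop 1 (List.drop 2 (List.drop 1 (List.drop 2 (List.drop 2 (List.drop 2 (List.drop 2 (List.drop 2 (List.drop 2 (List.drop 1 (List.drop 2 (List.drop 2 (List.drop 5 (List.drop 3 (List.drop 1 (List.drop 1 lvE))))))))))))))))))))))))))))))))))))))))))))) = true := by decide +kernel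
theorem crC1E_45 : TC1.covRel BC1 (List.take 2 (List.drop 1 (List.drop 1 (List.drop 1 (List.drop 1 (List.drop 1 (List.drop 1 (List.drop 1 (List.drop 2 (List.drop 1 (List.drop 1 (List.drop 1 (List.drop 1 (List.drop 2 (List.drop 1 (List.drop 1 (List.drop 1 (List.drop 2 (List.drop 1 (List.drop 1 (List.drop 1 (List.drop 1 (List.drop 1 (List.drop 1 (List.drop 1 (List.drop 1 (List.drop 1 (List.drop 1 (List.drop 1 (List.drop 2 (List.drop 1 (List.drop 2 (List.drop 1 (List.drop 2 (List.drop 2 (List.drop 2 (List.drop 2 (List.drop 2 (List.drop 2 (List.drop 1 (List.drop 2 (List.drop 2 (List.drop 5 (List.drop 3 (List.drop 1 (List.drop 1 lvE)))))))))))))))))))))))))))))))))))))))))))))) = true := by decide +kernel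
theorem crC1E_46 : TC1.covRel BC1 (List.take 1 (List.drop 2 (List.drop 1 (List.drop 1 (List.drop 1 (List.drop 1 (List.drop 1 (List.drop 1 (List.drop 1 (List.drop 2 (List.drop 1 (List.drop 1 (List.drop 1 (List.drop 1 (List.drop 2 (List.drop 1 (List.drop 1 (List.drop 1 (List.drop 2 (List.drop 1 (List.drop 1 (List.drop 1 (List.drop 1 (List.drop 1 (List.drop 1 (List.drop 1 (List.drop 1 (List.drop 1 (List.drop 1 (List.drop 1 (List.drop 2 (List.drop 1 (List.drop 2 (List.drop 1 (List.drop 2 (List.drop 2 (List.drop 2 (List.drop 2 (List.drop 2 (List.drop 2 (List.drop 1 (List.drop 2 (List.drop 2 (List.drop 5 (List.drop 3 (List.drop 1 (List.drop 1 lvE))))))))))))))))))))))))))))))))))))))))))))))) = true := by decide +kernel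
theorem crC1E_47 : TC1.covRel BC1 (List.take 1 (List.drop 1 (List.drop 2 (List.drop 1 (List.drop 1 (List.drop 1 (List.drop 1 (List.drop 1 (List.drop 1 (List.drop 1 (List.drop 2 (List.drop 1 (List.drop 1 (List.drop 1 (List.drop 1 (List.drop 2 (List.drop 1 (List.drop 1 (List.drop 1 (List.drop 2 (List.drop 1 (List.drop 1 (List.drop 1 (List.drop 1 (List.drop 1 (List.drop 1 (List.drop 1 (List.drop 1 (List.drop 1 (List.drop 1 (List.drop 1 (List.drop 2 (List.drop 1 (List.drop 2 (List.drop 1 (List.drop 2 (List.drop 2 (List.drop 2 (List.drop 2 (List.drop 2 (List.drop 2 (List.drop 1 (List.drop 2 (List.drop 2 (List.drop 5 (List.drop 3 (List.drop 1 (List.drop 1 lvE)))))))))))))))))))))))))))))))))))))))))))))))) = true := by decide +kernel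
theorem crC1E_48 : TC1.covRel BC1 (List.take 1 (List.drop 1 (List.drop 1 (List.drop 2 (List.drop 1 (List.drop 1 (List.drop 1 (List.drop 1 (List.drop 1 (List.drop 1 (List.drop 1 (List.drop 2 (List.drop 1 (List.drop 1 (List.drop 1 (List.drop 1 (List.drop 2 (List.drop 1 (List.drop 1 (List.drop 1 (List.drop 2 (List.drop 1 (List.drop 1 (List.drop 1 (List.drop 1 (List.drop 1 (List.drop 1 (List.drop 1 (List.drop 1 (List.drop 1 (List.drop 1 (List.drop 1 (List.drop 2 (List.drop 1 (List.drop 2 (List.drop 1 (List.drop 2 (List.drop 2 (List.drop 2 (List.drop 2 (List.drop 2 (List.drop 2 (List.drop 1 (List.drop 2 (List.drop 2 (List.drop 5 (List.drop 3 (List.drop 1 (List.drop 1 lvE))))))))))))))))))))))))))))))))))))))))))))))))) = true := by decide +kernel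
theorem crC1E_49 : TC1.covRel BC1 (List.take 1 (List.drop 1 (List.drop 1 (List.drop 1 (List.drop 2 (List.drop 1 (List.drop 1 (List.drop 1 (List.drop 1 (List.drop 1 (List.drop 1 (List.drop 1 (List.drop 2 (List.drop 1 (List.drop 1 (List.drop 1 (List.drop 1 (List.drop 2 (List.drop 1 (List.drop 1 (List.drop 1 (List.drop 2 (List.drop 1 (List.drop 1 (List.drop 1 (List.drop 1 (List.drop 1 (List.drop 1 (List.drop 1 (List.drop 1 (List.drop 1 (List.drop 1 (List.drop 1 (List.drop 2 (List.drop 1 (List.drop 2 (List.drop 1 (List.drop 2 (List.drop 2 (List.drop 2 (List.drop 2 (List.drop 2 (List.drop 2 (List.drop 1 (List.drop 2 (List.drop 2 (List.drop 5 (List.drop 3 (List.drop 1 (List.drop 1 lvE)))))))))))))))))))))))))))))))))))))))))))))))))) = true := by decide +kernel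
theorem crC1E_50 : TC1.covRel BC1 (List.take 2 (List.drop 1 (List.drop 1 (List.drop 1 (List.drop 1 (List.drop 2 (List.drop 1 (List.drop 1 (List.drop 1 (List.drop 1 (List.drop 1 (List.drop 1 (List.drop 1 (List.drop 2 (List.drop 1 (List.drop 1 (List.drop 1 (List.drop 1 (List.drop 2 (List.drop 1 (List.drop 1 (List.drop 1 (List.drop 2 (List.drop 1 (List.drop 1 (List.drop 1 (List.drop 1 (List.drop 1 (List.drop 1 (List.drop 1 (List.drop 1 (List.drop 1 (List.drop 1 (List.drop 1 (List.drop 2 (List.drop 1 (List.drop 2 (List.drop 1 (List.drop 2 (List.drop 2 (List.drop 2 (List.drop 2 (List.drop 2 (List.drop 2 (List.drop 1 (List.drop 2 (List.drop 2 (List.drop 5 (List.drop 3 (List.drop 1 (List.drop 1 lvE))))))))))))))))))))))))))))))))))))))))))))))))))) = true := by decide +kernel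
theorem crC1E_51 : TC1.covRel BC1 (List.take 1 (List.drop 2 (List.drop 1 (List.drop 1 (List.drop 1 (List.drop 1 (List.drop 2 (List.drop 1 (List.drop 1 (List.drop 1 (List.drop 1 (List.drop 1 (List.drop 1 (List.drop 1 (List.drop 2 (List.drop 1 (List.drop 1 (List.drop 1 (List.drop 1 (List.drop 2 (List.drop 1 (List.drop 1 (List.drop 1 (List.drop 2 (List.drop 1 (List.drop 1 (List.drop 1 (List.drop 1 (List.drop 1 (List.drop 1 (List.drop 1 (List.drop 1 (List.drop 1 (List.drop 1 (List.drop 1 (List.drop 2 (List.drop 1 (List.drop 2 (List.drop 1 (List.drop 2 (List.drop 2 (List.drop 2 (List.drop 2 (List.drop 2 (List.drop 2 (List.drop 1 (List.drop 2 (List.drop 2 (List.drop 5 (List.drop 3 (List.drop 1 (List.drop 1 lvE)))))))))))))))))))))))))))))))))))))))))))))))))))) = true := by decide +kernel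
theorem crC1E_52 : TC1.covRel BC1 (List.take 1 (List.drop 1 (List.drop 2 (List.drop 1 (List.drop 1 (List.drop 1 (List.drop 1 (List.drop 2 (List.drop 1 (List.drop 1 (List.drop 1 (List.drop 1 (List.drop 1 (List.drop 1 (List.drop 1 (List.drop 2 (List.drop 1 (List.drop 1 (List.drop 1 (List.drop 1 (List.drop 2 (List.drop 1 (List.drop 1 (List.drop 1 (List.drop 2 (List.drop 1 (List.drop 1 (List.drop 1 (List.drop 1 (List.drop 1 (List.drop 1 (List.drop 1 (List.drop 1 (List.drop 1 (List.drop 1 (List.drop 1 (List.drop 2 (List.drop 1 (List.drop 2 (List.drop 1 (List.drop 2 (List.drop 2 (List.drop 2 (List.drop 2 (List.drop 2 (List.drop 2 (List.drop 1 (List.drop 2 (List.drop 2 (List.drop 5 (List.drop 3 (List.drop 1 (List.drop 1 lvE))))))))))))))))))))))))))))))))))))))))))))))))))))) = true := by decide +kernel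
theorem crC1E_53 : TC1.covRel BC1 (List.take 2 (List.drop 1 (List.drop 1 (List.drop 2 (List.drop 1 (List.drop 1 (List.drop 1 (List.drop 1 (List.drop 2 (List.drop 1 (List.drop 1 (List.drop 1 (List.drop 1 (List.drop 1 (List.drop 1 (List.drop 1 (List.drop 2 (List.drop 1 (List.drop 1 (List.drop 1 (List.drop 1 (List.drop 2 (List.drop 1 (List.drop 1 (List.drop 1 (List.drop 2 (List.drop 1 (List.drop 1 (List.drop 1 (List.drop 1 (List.drop 1 (List.drop 1 (List.drop 1 (List.drop 1 (List.drop 1 (List.drop 1 (List.drop 1 (List.drop 2 (List.drop 1 (List.drop 2 (List.drop 1 (List.drop 2 (List.drop 2 (List.drop 2 (List.drop 2 (List.drop 2 (List.drop 2 (List.drop 1 (List.drop 2 (List.drop 2 (List.drop 5 (List.drop 3 (List.drop 1 (List.drop 1 lvE)))))))))))))))))))))))))))))))))))))))))))))))))))))) = true := by decide +kernel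
theorem crC1E_54 : TC1.covRel BC1 (List.take 1 (List.drop 2 (List.drop 1 (List.drop 1 (List.drop 2 (List.drop 1 (List.drop 1 (List.drop 1 (List.drop 1 (List.drop 2 (List.drop 1 (List.drop 1 (List.drop 1 (List.drop 1 (List.drop 1 (List.drop 1 (List.drop 1 (List.drop 2 (List.drop 1 (List.drop 1 (List.drop 1 (List.drop 1 (List.drop 2 (List.drop 1 (List.drop 1 (List.drop 1 (List.drop 2 (List.drop 1 (List.drop 1 (List.drop 1 (List.drop 1 (List.drop 1 (List.drop 1 (List.drop 1 (List.drop 1 (List.drop 1 (List.drop 1 (List.drop 1 (List.drop 2 (List.drop 1 (List.drop 2 (List.drop 1 (List.drop 2 (List.drop 2 (List.drop 2 (List.drop 2 (List.drop 2 (List.drop 2 (List.drop 1 (List.drop 2 (List.drop 2 (List.drop 5 (List.drop 3 (List.drop 1 (List.drop 1 lvE))))))))))))))))))))))))))))))))))))))))))))))))))))))) = true := by decide +kernel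
theorem crC1E_55 : TC1.covRel BC1 (List.drop 1 (List.drop 2 (List.drop 1 (List.drop 1 (List.drop 2 (List.drop 1 (List.drop 1 (List.drop 1 (List.drop 1 (List.drop 2 (List.drop 1 (List.drop 1 (List.drop 1 (List.drop 1 (List.drop 1 (List.drop 1 (List.drop 1 (List.drop 2 (List.drop 1 (List.drop 1 (List.drop 1 (List.drop 1 (List.drop 2 (List.drop 1 (List.drop 1 (List.drop 1 (List.drop 2 (List.drop 1 (List.drop 1 (List.drop 1 (List.drop 1 (List.drop 1 (List.drop 1 (List.drop 1 (List.drop 1 (List.drop 1 (List.drop 1 (List.drop 1 (List.drop 2 (List.drop 1 (List.drop 2 (List.drop 1 (List.drop 2 (List.drop 2 (List.drop 2 (List.drop 2 (List.drop 2 (List.drop 2 (List.drop 1 (List.drop 2 (List.drop 2 (List.drop 5 (List.drop 3 (List.drop 1 (List.drop 1 lvE))))))))))))))))))))))))))))))))))))))))))))))))))))))) = true := by decide +kernel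
theorem crC1D_0 : TC1.covRel BC1 (List.take 2 lvD) = true := by decide +kernel
theorem crC1D_1 : TC1.covRel BC1 (List.take 5 (List.drop 2 lvD)) = true := by decide +kernel
theorem crC1D_2 : TC1.covRel BC1 (List.take 6 (List.drop 5 (List.drop 2 lvD))) = true := by decide +kernel
theorem crC1D_3 : TC1.covRel BC1 (List.take 3 (List.drop 6 (List.drop 5 (List.drop 2 lvD)))) = true := by decide +kernel
theorem crC1D_4 : TC1.covRel BC1 (List.take 4 (List.drop 3 (List.drop 6 (List.drop 5 (List.drop 2 lvD))))) = true := by decide +kernel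
theorem crC1D_5 : TC1.covRel BC1 (List.take 3 (List.drop 4 (List.drop 3 (List.drop 6 (List.drop 5 (List.drop 2 lvD)))))) = true := by decide +kernel
theorem crC1D_6 : TC1.covRel BC1 (List.drop 3 (List.drop 4 (List.drop 3 (List.drop 6 (List.drop 5 (List.drop 2 lvD)))))) = true := by decide +kernel
theorem crC1C_0 : TC1.covRel BC1 (List.take 6 lvC) = true := by decide +kernel
theorem crC1C_1 : TC1.covRel BC1 (List.take 1 (List.drop 6 lvC)) = true := by decide +kernel

end L.SFi22
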