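import Cfsg.Agent.L.SFi22C0
import Cfsg.Agent.L.SFi22C1
import Cfsg.Agent.L.SFi22C2
import Cfsg.Agent.L.SFi22C3
import Cfsg.Agent.L.SFi22C4
import Cfsg.Agent.L.SFi22C5

/-! Generated certificate (toolsL) for the group SFi22 of degree 3510 and order 64561751654400. -/
set_option autoImplicit false
set_option maxRecDepth 100000
set_option maxHeartbeats 0
set_option linter.unusedSectionVars false
set_option linter.unusedVariables false

namespace L.SFi22
open H14 Cfsg

universe u

theorem skelA : TA.Skel 1 0 scA skA := Tbl.skel_of_chk skcA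
theorem skelB : TB.Skel 2 1 scB skB := Tbl.skel_of_chk skcB
theorem skelC : TC.Skel 3 2 scC skC := Tbl.skel_of_chk skcC
theorem skelD : TD.Skel 5 4 scD skD := Tbl.skel_of_chk skcD
theorem skelE : TE.Skel 4 3 scE skE := Tbl.skel_of_parts wfE (Tbl.idChk_append idE_c0 (Tbl.idChk_append idE_c1 (Tbl.idChk_append idE_c2 (Tbl.idChk_append idE_c3 (Tbl.idChk_append idE_c4 (Tbl.idChk_append idE_c5 (Tbl.idChk_append idE_c6 (Tbl.idChk_append idE_c7 (Tbl.idChk_append idE_c8 (Tbl.idChk_append idE_c9 idE_c10)))))))))) cvE (Tbl.Just.append ((Tbl.just_marksL wfE _).sub mkE_c0) (Tbl.Just.append ((Tbl.just_marksL wfE _).sub mkE_c1) (Tbl.Just.append ((Tbl.just_marksL wfE _).sub mkE_c2) (Tbl.Just.append ((Tbl.just_marksL wfE _).sub mkE_c3) (Tbl.Just.append ((Tbl.just_marksL wfE _).sub mkE_c4) (Tbl.Just.append ((Tbl.just_marksL wfE _).sub mkE_c5) (Tbl.Just.append ((Tbl.just_marksL wfE _).sub mkE_c6) (Tbl.Just.append ((Tbl.just_marksL wfE _).sub mkE_c7) (Tbl.Just.append ((Tbl.just_marksL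 wfE _).sub mkE_c8) (Tbl.Just.append ((Tbl.just_marksL wfE _).sub mkE_c9) ((Tbl.just_marksL wfE _).sub mkE_c10)))))))))))
theorem skelPK : TPK.Skel 2 0 scPK skPK := Tbl.skel_of_chk skcPK
theorem skelP : TP.Skel 3 2 scP skP := Tbl.skel_of_chk skcP
theorem bnd : Bnd.{u} Rall wsE 64561751654400 := fun _ _ x h => (finLe_level (N' := 64561751654400) skelE (Rels.left h) (finLe_level (N' := 4585351680) skelD (Rels.left (Rels.right h)) (finLe_level (N' := 4245696) skelC (Rels.left (Rels.right (Rels.right h))) (finLe_level (N' := 5616) skelB (Rels.left (Rels.right (Rels.right (Rels.right h)))) (finLe_level (N' := 13) skelA (Rels.right (Rels.right (Rels.right (Rels.right h)))) (finLe_nil x) (by decide +kernel)) (by decide +kernel)) (by decide +kernel)) (by decide +kernel)) (by decide +kernel))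
theorem wbC0 : BC0.wf = true := by decide +kernel
theorem hzC0 : ∀ j, zC0 j ^ BC0.m = 1 := fun j => by
  show zC0 j ^ 2 = 1
  unfold zC0
  decide
theorem covC0 : Cov (Tbl.gens BC0 wfC0 zC0) (Tbl.tau TC0.n (Multiplicative (ZMod 6))) Rall := Tbl.cov wfC0 wbC0 hzC0 (Tbl.covRel_append (allL_take_drop 17 crC0E_0 (allL_take_drop 12 crC0E_1 (allL_take_drop 11 crC0E_2 (allL_take_drop 11 crC0E_3 (allL_take_drop 10 crC0E_4 (allL_take_drop 11 crC0E_5 crC0E_6)))))) (Tbl.covRel_append crC0D_0 (Tbl.covRel_append crC0C_0 (Tbl.covRel_append crC0B_0 crC0A_0))))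
theorem wbC1 : BC1.wf = true := by decide +kernel
theorem hzC1 : ∀ j, zC1 j ^ BC1.m = 1 := fun j => by
  show zC1 j ^ 3 = 1
  unfold zC1
  decide
theorem covC1 : Cov (Tbl.gens BC1 wfC1 zC1) (Tbl.tau TC1.n (Multiplicative (ZMod 6))) Rall := Tbl.cov wfC1 wbC1 hzC1 (Tbl.covRel_append (allL_take_drop 1 crC1E_0 (allL_take_drop 1 crC1E_1 (allL_take_drop 3 crC1E_2 (allL_take_drop 5 crC1E_3 (allL_take_drop 2 crC1E_4 (allL_take_drop 2 crC1E_5 (allL_take_drop 1 crC1E_6 (allL_take_drop 2 crC1E_7 (allL_take_drop 2 crC1E_8 (allL_take_drop 2 crC1E_9 (allL_take_drop 2 crC1E_10 (allL_take_drop 2 crC1E_11 (allL_take_drop 2 crC1E_12 (allL_take_drop 1 crC1E_13 (allL_take_drop 2 crC1E_14 (allL_take_drop 1 crC1E_15 (allL_take_drop 2 crC1E_16 (allL_take_drop 1 crC1E_17 (allL_take_drop 1 crC1E_18 (allL_take_drop 1 crC1E_19 (allL_take_drop 1 crC1E_20 (allL_take_drop 1 crC1E_21 (allL_take_drop 1 crC1E_22 (allL_take_drop 1 crC1E_23 (allL_take_drop 1 crC1E_24 (allL_take_drop 1 crC1E_25 (allL_take_drop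 1 crC1E_26 (allL_take_drop 1 crC1E_27 (allL_take_drop 2 crC1E_28 (allL_take_drop 1 crC1E_29 (allL_take_drop 1 crC1E_30 (allL_take_drop 1 crC1E_31 (allL_take_drop 2 crC1E_32 (allL_take_drop 1 crC1E_33 (allL_take_drop 1 crC1E_34 (allL_take_drop 1 crC1E_35 (allL_take_drop 1 crC1E_36 (allL_take_drop 2 crC1E_37 (allL_take_drop 1 crC1E_38 (allL_take_drop 1 crC1E_39 (allL_take_drop 1 crC1E_40 (allL_take_drop 1 crC1E_41 (allL_take_drop 1 crC1E_42 (allL_take_drop 1 crC1E_43 (allL_take_drop 1 crC1E_44 (allL_take_drop 2 crC1E_45 (allL_take_drop 1 crC1E_46 (allL_take_drop 1 crC1E_47 (allL_take_drop 1 crC1E_48 (allL_take_drop 1 crC1E_49 (allL_take_drop 2 crC1E_50 (allL_take_drop 1 crC1E_51 (allL_take_drop 1 crC1E_52 (allL_take_drop 2 crC1E_53 (allL_take_drop 1 crC1E_54 crC1E_55))))))))))))))))))))))))))))))))))))))))))))))))))))))) (Tbl.covRel_append (allL_take_drop 2 crC1D_0 (allL_take_drop 5 crC1D_1 (allL_take_drop 6 crC1D_2 (allL_take_drop 3 crC1D_3 (allL_take_drop 4 crC1D_4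 (allL_take_drop 3 crC1D_5 crC1D_6)))))) (Tbl.covRel_append (allL_take_drop 6 crC1C_0 (allL_take_drop 1 crC1C_1 (allL_take_drop 2 crC1C_2 (allL_take_drop 1 crC1C_3 crC1C_4)))) (Tbl.covRel_append (allL_take_drop 4 crC1B_0 crC1B_1) crC1A_0))))
section
variable {G : Type u} {Ω : Type*} [Group G] [MulAction G Ω] [FaithfulSMul G Ω] (M : PM G Ω 3510 nets)

theorem RA : Rels M.gen lvA := (M.rels_of_idArr (by decide) rcA)
theorem UA (hN : Nat.card G = 64561751654400) : FinLe (sub M.gen wsA) 13 := finLe_level skelA (RA M) (finLe_nil _) (by decide +kernel)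
theorem RB : Rels M.gen lvB := (M.rels_of_idArr (by decide) rcB)
theorem UB (hN : Nat.card G = 64561751654400) : FinLe (sub M.gen wsB) 5616 := finLe_level skelB (RB M) (UA M hN) (by decide +kernel)
theorem RC : Rels M.gen lvC := (M.rels_of_idArr (by decide) rcC)
theorem UC (hN : Nat.card G = 64561751654400) : FinLe (sub M.gen wsC) 4245696 := finLe_level skelC (RC M) (UB M hN) (by decide +kernel)
theorem RD : Rels M.gen lvD := (M.rels_of_idArr (by decide) rcD)
theorem UD (hN : Nat.card G = 64561751654400) : FinLe (sub M.gen wsD) 4585351680 := finLe_level skelD (RD M) (UC M hN) (by decide +kernel)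
theorem RE : Rels M.gen lvE := (Rels.take_drop 75 (M.rels_of_idArr (by decide) rcE_0) (M.rels_of_idArr (by decide) rcE_1))
theorem UE (hN : Nat.card G = 64561751654400) : FinLe (sub M.gen wsE) 64561751654400 := finLe_level skelE (RE M) (UD M hN) (by decide +kernel)
theorem RPK : Rels M.gen lvPK := (M.rels_of_idArr (by decide) rcPK)
theorem UPK (hN : Nat.card G = 64561751654400) : FinLe (sub M.gen wsPK) 96 := finLe_level skelPK (RPK M) (finLe_nil _) (by decide +kernel)
theorem RP : Rels M.gen lvP := (M.rels_of_idArr (by decide) rcP)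
theorem UP (hN : Nat.card G = 64561751654400) : FinLe (sub M.gen wsP) 2400 := finLe_level skelP (RP M) (UPK M hN) (by decide +kernel)
theorem topE (hN : Nat.card G = 64561751654400) : sub M.gen wsE = ⊤ := top_of_lv M hN chc
theorem LP (hN : Nat.card G = 64561751654400) : 2400 ≤ Nat.card (sub M.gen wsP) := low_of_lv M (UP M hN) chcP
theorem LPK (hN : Nat.card G = 64561751654400) : 96 ≤ Nat.card (sub M.gen wsPK) := le_level skelP (RP M) (UPK M hN) (LP M hN) (by decide +kernel)
theorem LE (hN : Nat.card G = 64561751654400) : 64561751654400 ≤ Nat.card (sub M.gen wsE) := le_card_top (topE M hN) hN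
theorem LD (hN : Nat.card G = 64561751654400) : 4585351680 ≤ Nat.card (sub M.gen wsD) := le_level skelE (RE M) (UD M hN) (LE M hN) (by decide +kernel)
theorem LC (hN : Nat.card G = 64561751654400) : 4245696 ≤ Nat.card (sub M.gen wsC) := le_level skelD (RD M) (UC M hN) (LD M hN) (by decide +kernel)
theorem LB (hN : Nat.card G = 64561751654400) : 5616 ≤ Nat.card (sub M.gen wsB) := le_level skelC (RC M) (UB M hN) (LC M hN) (by decide +kernel)
theorem LA (hN : Nat.card G = 64561751654400) : 13 ≤ Nat.card (sub M.gen wsA) := le_level skelB (RB M) (UA M hN) (LB M hN) (by decide +kernel)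
theorem RCW : Rels M.gen (cRels CW) := (M.rels_of_idArr (by decide) cwc)
theorem SA_m2 (hN : Nat.card G = 64561751654400) : SecAll M.gen 2 l2 wsA := secAll_bottom (UA M hN) (LA M hN) (by decide +kernel)
theorem SB_m2 (hN : Nat.card G = 64561751654400) : SecAll M.gen 2 l2 wsB :=
  secAll_level (T := TB) (ws := wsB) (wsH := wsA) (k := 1) (sched := scB) (B := BB_m2) (its := itsB_m2) (t := tgB_m2) (vs := vsB) skelB icB_m2_0 lcB_m2 (RB M)
    (UA M hN) (LB M hN) (by decide +kernel) (by decide +kernel) (SA_m2 M hN)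
theorem SC_m2 (hN : Nat.card G = 64561751654400) : SecAll M.gen 2 l2 wsC :=
  secAll_level (T := TC) (ws := wsC) (wsH := wsB) (k := 2) (sched := scC) (B := BC_m2) (its := itsC_m2) (t := tgC_m2) (vs := vsC) skelC icC_m2_0 lcC_m2 (RC M)
    (UB M hN) (LC M hN) (by decide +kernel) (by decide +kernel) (SB_m2 M hN)
theorem SD_m2 (hN : Nat.card G = 64561751654400) : SecAll M.gen 2 l2 wsD :=
  secAll_level (T := TD) (ws := wsD) (wsH := wsC) (k := 4) (sched := scD) (B := BD_m2) (its := itsD_m2) (t := tgD_m2) (vs := vsD) (skelD.append ixD_m2) icD_m2_0 lcD_m2 (lvRels_append (RD M) (M.rels_of_idArr (by decide) rxD_m2))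
    (UC M hN) (LD M hN) (by decide +kernel) (by decide +kernel) (SC_m2 M hN)
theorem SE_m2 (hN : Nat.card G = 64561751654400) : SecAll M.gen 2 l2 wsE :=
  secAll_level (T := TE) (ws := wsE) (wsH := wsD) (k := 3) (sched := scE) (B := BE_m2) (its := itsE_m2) (t := tgE_m2) (vs := vsE) (skelE.append ixE_m2) (allL_append icE_m2_0 (allL_append icE_m2_1 (allL_append icE_m2_2 (allL_append icE_m2_3 (allL_append icE_m2_4 (allL_append icE_m2_5 (allL_append icE_m2_6 (allL_append icE_m2_7 (allL_append icE_m2_8 (allL_append icE_m2_9 (allL_append icE_m2_10 (allL_append icE_m2_11 (allL_append icE_m2_12 (allL_append icE_m2_13 (allL_append icE_m2_14 (allL_append icE_m2_15 (allL_append icE_m2_16 (allL_append icE_m2_17 (allL_append icE_m2_18 (allL_append icE_m2_19 (allL_append icE_m2_20 (allL_append icE_m2_21 (allL_append icE_m2_22 (allL_append icE_m2_23 (allL_append icE_m2_24 (allL_append icE_m2_25 (allL_append icE_m2_26 (allL_append icE_m2_27 (allL_append icE_m2_28 (allL_append icE_m2_29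 (allL_append icE_m2_30 (allL_append icE_m2_31 (allL_append icE_m2_32 (allL_append icE_m2_33 (allL_append icE_m2_34 (allL_append icE_m2_35 (allL_append icE_m2_36 (allL_append icE_m2_37 (allL_append icE_m2_38 (allL_append icE_m2_39 (allL_append icE_m2_40 (allL_append icE_m2_41 (allL_append icE_m2_42 (allL_append icE_m2_43 (allL_append icE_m2_44 (allL_append icE_m2_45 (allL_append icE_m2_46 (allL_append icE_m2_47 (allL_append icE_m2_48 (allL_append icE_m2_49 (allL_append icE_m2_50 (allL_append icE_m2_51 (allL_append icE_m2_52 (allL_append icE_m2_53 (allL_append icE_m2_54 (allL_append icE_m2_55 (allL_append icE_m2_56 (allL_append icE_m2_57 (allL_append icE_m2_58 (allL_append icE_m2_59 (allL_append icE_m2_60 (allL_append icE_m2_61 (allL_append icE_m2_62 (allL_append icE_m2_63 icE_m2_64)))))))))))))))))))))))))))))))))))))))))))))))))))))))))))))))) lcE_m2 (lvRels_append (RE M) (M.rels_of_idArr (by decide) rxE_m2))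
    (UD M hN) (LE M hN) (by decide +kernel) (by decide +kernel) (SD_m2 M hN)
theorem T2_0 (hN : Nat.card G = 64561751654400) : SecTop M.gen 2 l2 := secTop_of_top (topE M hN) (SE_m2 M hN)
theorem T2_1 (hN : Nat.card G = 64561751654400) : SecTop M.gen 2 l2_1 :=
  SecTop.kill (a := ka2_0) (b := kb2_0) (T2_0 M hN) fun _ _ _ h => kill_c (M.rels_of_idArr (by decide) kc2_0) h
theorem T2 (hN : Nat.card G = 64561751654400) : SecTop M.gen 2 (pairs CW) := T2_1 M hN
theorem SA_m3 (hN : Nat.card G = 64561751654400) : SecAll M.gen 3 l3 wsA := secAll_bottom (UA M hN) (LA M hN) (by decide +kernel)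
theorem SB_m3 (hN : Nat.card G = 64561751654400) : SecAll M.gen 3 l3 wsB :=
  secAll_level (T := TB) (ws := wsB) (wsH := wsA) (k := 1) (sched := scB) (B := BB_m3) (its := itsB_m3) (t := tgB_m3) (vs := vsB) skelB icB_m3_0 lcB_m3 (RB M)
    (UA M hN) (LB M hN) (by decide +kernel) (by decide +kernel) (SA_m3 M hN)
theorem SC_m3 (hN : Nat.card G = 64561751654400) : SecAll M.gen 3 l3 wsC :=
  secAll_level (T := TC) (ws := wsC) (wsH := wsB) (k := 2) (sched := scC) (B := BC_m3) (its := itsC_m3) (t := tgC_m3) (vs := vsC) (skelC.append ixC_m3) icC_m3_0 lcC_m3 (lvRels_append (RC M) (M.rels_of_idArr (by decide) rxC_m3))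
    (UB M hN) (LC M hN) (by decide +kernel) (by decide +kernel) (SB_m3 M hN)
theorem SD_m3 (hN : Nat.card G = 64561751654400) : SecAll M.gen 3 l3 wsD :=
  secAll_level (T := TD) (ws := wsD) (wsH := wsC) (k := 4) (sched := scD) (B := BD_m3) (its := itsD_m3) (t := tgD_m3) (vs := vsD) skelD icD_m3_0 lcD_m3 (RD M)
    (UC M hN) (LD M hN) (by decide +kernel) (by decide +kernel) (SC_m3 M hN)
theorem T3_0 (hN : Nat.card G = 64561751654400) : SecTop M.gen 3 l3 := secTop_gas hN (UD M hN) (LD M hN) (by decide +kernel) (SD_m3 M hN)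
theorem T3 (hN : Nat.card G = 64561751654400) : SecTop M.gen 3 (pairs CW) := T3_0 M hN
theorem SPK_m5 (hN : Nat.card G = 64561751654400) : SecAll M.gen 5 l5 wsPK := secAll_bottom (UPK M hN) (LPK M hN) (by decide +kernel)
theorem SP_m5 (hN : Nat.card G = 64561751654400) : SecAll M.gen 5 l5 wsP :=
  secAll_level (T := TP) (ws := wsP) (wsH := wsPK) (k := 2) (sched := scP) (B := BP_m5) (its := itsP_m5) (t := tgP_m5) (vs := vsP) skelP icP_m5_0 lcP_m5 (RP M)
    (UPK M hN) (LP M hN) (by decide +kernel) (by decide +kernel) (SPK_m5 M hN)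
theorem T5_0 (hN : Nat.card G = 64561751654400) : SecTop M.gen 5 l5 := secTop_gas hN (UP M hN) (LP M hN) (by decide +kernel) (SP_m5 M hN)
theorem T5 (hN : Nat.card G = 64561751654400) : SecTop M.gen 5 (pairs CW) := T5_0 M hN
include M in
theorem bound (hN : Nat.card G = 64561751654400) (Γ : Type u) [Group Γ] [Finite Γ] (σ : Γ →* G) (hσ : IsStemExtension σ) :
    Nat.card σ.ker ≤ Nat.card (Multiplicative (ZMod 6)) :=
  haveI := fin_of_card hN (by decide +kernel)
  (kerBound' hN fac (RCW M) (by decide +kernel) (fa_cons (T2 M hN) (fa_cons (T3 M hN) (fa_cons (T5 M hN) fa_nil))) Γ σ hσ).trans (by rw [Nat.card_eq_fintype_card]; decide +kernel)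
include M in
theorem schur (hN : Nat.card G = 64561751654400) : HasSchurMultiplier G (Multiplicative (ZMod 6)) :=
  haveI := fin_of_card hN (by decide +kernel)
  schur_of_cov (topE M hN) (Rels.append (RE M) (Rels.append (RD M) (Rels.append (RC M) (Rels.append (RB M) (RA M))))) bnd hN.ge (Cov.prod covC0 covC1) (MonoidHom.coprod (MonoidHom.id _) (MonoidHom.id _))
    (fun H hH a => span_of_prods (H := H) (l := [(((Multiplicative.ofAdd 3) ^ 1 : Multiplicative (ZMod 6)) * (((Multiplicative.ofAdd 2) ^ 0 : Multiplicative (ZMod 6))), 2), (((Multiplicative.ofAdd 3) ^ 0 : Multiplicative (ZMod 6)) * (((Multiplicative.ofAdd 2) ^ 2 : Multiplicative (ZMod 6))), 3)])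
      (fa_cons (hH lw0a lw0b _ (ev_one_of_rels (M.rels_of_idArr (by decide) lw0r)) (ev_prod_tau (Tbl.ev_tau wfC0 wbC0 hzC0 lw0C0 (c := ((Multiplicative.ofAdd 3) ^ 1 : Multiplicative (ZMod 6))) (by decide +kernel)) (Tbl.ev_tau wfC1 wbC1 hzC1 lw0C1 (c := ((Multiplicative.ofAdd 2) ^ 0 : Multiplicative (ZMod 6))) (by decide +kernel))))
      (fa_cons (hH lw1a lw1b _ (ev_one_of_rels (M.rels_of_idArr (by decide) lw1r)) (ev_prod_tau (Tbl.ev_tau wfC0 wbC0 hzC0 lw1C0 (c := ((Multiplicative.ofAdd 3) ^ 0 : Multiplicative (ZMod 6))) (by decide +kernel)) (Tbl.ev_tau wfC1 wbC1 hzC1 lw1C1 (c := ((Multiplicative.ofAdd 2) ^ 2 : Multiplicative (ZMod 6))) (by decide +kernel))))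
      fa_nil)) a (by revert a; decide +kernel)) (bound M hN)
theorem Rdefs : Rels M.gen (defRels defs 9) := (Rels.take_drop 13 (M.rels_of_idArr (by decide) dc_0) (Rels.take_drop 12 (M.rels_of_idArr (by decide) dc_1) (M.rels_of_idArr (by decide) dc_2)))
end

section
variable {G : Type u} {Ω : Type*} [Group G] [MulAction G Ω]

noncomputable def mach (E : Enc Ω 3510) (hr : ∀ l < 9, ∃ g : G, E.Real (getL Net.nil nets l) g) : PM G Ω 3510 nets :=
  PM.ofReal G E (by decide) nets_ok (real_of_slp E (by decide) (by decide) nets_ok hr (ds := defs) (by decide +kernel) (by decide +kernel)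
    (Rdefs (permPM 3510 nets (by decide) (by decide) nets_ok)))
theorem schur' [FaithfulSMul G Ω] (E : Enc Ω 3510) (hr : ∀ l < 9, ∃ g : G, E.Real (getL Net.nil nets l) g) (hN : Nat.card G = 64561751654400) : HasSchurMultiplier G (Multiplicative (ZMod 6)) := schur (mach E hr) hN
end

end L.SFi22
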