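import Cfsg.Agent.L.SFi22D2

/-! Generated certificate (toolsL) for the group SFi22 of degree 3510 and order 64561751654400. -/
set_option Elab.async false
set_option autoImplicit false
set_option maxRecDepth 100000
set_option maxHeartbeats 0
set_option linter.unusedSectionVars false
set_option linter.unusedVariables false

namespace L.SFi22
open H14 Cfsg

universe u

theorem skcA : TA.skelChk 1 0 scA skA = true := by decide +kernel
theorem rcA : relsChk 3510 nets 12 (idArr 3510 12 12 0) lvA = true := by decide +kernel
theorem skcB : TB.skelChk 2 1 scB skB = true := by decide +kernel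
theorem rcB : relsChk 3510 nets 12 (idArr 3510 12 12 0) lvB = true := by decide +kernel
theorem skcC : TC.skelChk 3 2 scC skC = true := by decide +kernel
theorem rcC : relsChk 3510 nets 12 (idArr 3510 12 12 0) lvC = true := by decide +kernel
theorem skcD : TD.skelChk 5 4 scD skD = true := by decide +kernel
theorem rcD : relsChk 3510 nets 12 (idArr 3510 12 12 0) lvD = true := by decide +kernel
theorem wfE : TE.wf = true := by decide +kernel
theorem idE_c0 : TE.idChk 4 skE_c0 = true := by decide +kernel
theorem mkE_c0 : subB XE_c0 (TE.marksL skE_c0) = true := by decide +kernel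
theorem idE_c1 : TE.idChk 4 skE_c1 = true := by decide +kernel
theorem mkE_c1 : subB XE_c1 (TE.marksL skE_c1) = true := by decide +kernel
theorem idE_c2 : TE.idChk 4 skE_c2 = true := by decide +kernel
theorem mkE_c2 : subB XE_c2 (TE.marksL skE_c2) = true := by decide +kernel
theorem idE_c3 : TE.idChk 4 skE_c3 = true := by decide +kernel
theorem mkE_c3 : subB XE_c3 (TE.marksL skE_c3) = true := by decide +kernel
theorem idE_c4 : TE.idChk 4 skE_c4 = true := by decide +kernel
theorem mkE_c4 : subB XE_c4 (TE.marksL skE_c4) = true := by decide +kernel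
theorem idE_c5 : TE.idChk 4 skE_c5 = true := by decide +kernel
theorem mkE_c5 : subB XE_c5 (TE.marksL skE_c5) = true := by decide +kernel
theorem idE_c6 : TE.idChk 4 skE_c6 = true := by decide +kernel
theorem mkE_c6 : subB XE_c6 (TE.marksL skE_c6) = true := by decide +kernel
theorem idE_c7 : TE.idChk 4 skE_c7 = true := by decide +kernel
theorem mkE_c7 : subB XE_c7 (TE.marksL skE_c7) = true := by decide +kernel
theorem idE_c8 : TE.idChk 4 skE_c8 = true := by decide +kernel
theorem mkE_c8 : subB XE_c8 (TE.marksL skE_c8) = true := by decide +kernel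
theorem idE_c9 : TE.idChk 4 skE_c9 = true := by decide +kernel
theorem mkE_c9 : subB XE_c9 (TE.marksL skE_c9) = true := by decide +kernel
theorem idE_c10 : TE.idChk 4 skE_c10 = true := by decide +kernel
theorem mkE_c10 : subB XE_c10 (TE.marksL skE_c10) = true := by decide +kernel
theorem cvE : TE.covChk 4 3 scE (Nat.lor XE_c0 (Nat.lor XE_c1 (Nat.lor XE_c2 (Nat.lor XE_c3 (Nat.lor XE_c4 (Nat.lor XE_c5 (Nat.lor XE_c6 (Nat.lor XE_c7 (Nat.lor XE_c8 (Nat.lor XE_c9 XE_c10)))))))))) = true := by decide +kernel
theorem rcE_0 : relsChk 3510 nets 12 (idArr 3510 12 12 0) (List.take 75 lvE) = true := by decide +kernel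
theorem rcE_1 : relsChk 3510 nets 12 (idArr 3510 12 12 0) (List.drop 75 lvE) = true := by decide +kernel
theorem skcPK : TPK.skelChk 2 0 scPK skPK = true := by decide +kernel
theorem rcPK : relsChk 3510 nets 12 (idArr 3510 12 12 0) lvPK = true := by decide +kernel
theorem skcP : TP.skelChk 3 2 scP skP = true := by decide +kernel
theorem rcP : relsChk 3510 nets 12 (idArr 3510 12 12 0) lvP = true := by decide +kernel
theorem chc : band (Nat.ble 1 64561751654400) (Nat.ble 64561751654400 ((ch.sbst wsE).val 3510 nets)) = true := by decide +kernel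
theorem chcP : Nat.ble 2400 ((chP.sbst wsP).val 3510 nets) = true := by decide +kernel
theorem cwc : relsChk 3510 nets 12 (idArr 3510 12 12 0) (cRels CW) = true := by decide +kernel
theorem icB_m2_0 : allL (TB.itChk BB_m2) itsB_m2_0 = true := by decide +kernel
theorem lcB_m2 : labChk TB 1 BB_m2 tgB_m2 itsB_m2 = true := by decide +kernel
theorem icC_m2_0 : allL (TC.itChk BC_m2) itsC_m2_0 = true := by decide +kernel
theorem lcC_m2 : labChk TC 2 BC_m2 tgC_m2 itsC_m2 = true := by decide +kernel
theorem icD_m2_0 : allL (TD.itChk BD_m2) itsD_m2_0 = true := by decide +kernel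
theorem lcD_m2 : labChk TD 4 BD_m2 tgD_m2 itsD_m2 = true := by decide +kernel
theorem ixD_m2 : TD.idChk 5 skD_m2 = true := by decide +kernel
theorem rxD_m2 : relsChk 3510 nets 12 (idArr 3510 12 12 0) (relsOf wsD skD_m2) = true := by decide +kernel
theorem icE_m2_0 : allL (TE.itChk BE_m2) itsE_m2_0 = true := by decide +kernel
theorem icE_m2_1 : allL (TE.itChk BE_m2) itsE_m2_1 = true := by decide +kernel
theorem icE_m2_2 : allL (TE.itChk BE_m2) itsE_m2_2 = true := by decide +kernel
theorem icE_m2_3 : allL (TE.itChk BE_m2) itsE_m2_3 = true := by decide +kernel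
theorem icE_m2_4 : allL (TE.itChk BE_m2) itsE_m2_4 = true := by decide +kernel
theorem icE_m2_5 : allL (TE.itChk BE_m2) itsE_m2_5 = true := by decide +kernel
theorem icE_m2_6 : allL (TE.itChk BE_m2) itsE_m2_6 = true := by decide +kernel
theorem icE_m2_7 : allL (TE.itChk BE_m2) itsE_m2_7 = true := by decide +kernel
theorem icE_m2_8 : allL (TE.itChk BE_m2) itsE_m2_8 = true := by decide +kernel
theorem icE_m2_9 : allL (TE.itChk BE_m2) itsE_m2_9 = true := by decide +kernel
theorem icE_m2_10 : allL (TE.itChk BE_m2) itsE_m2_10 = true := by decide +kernel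
theorem icE_m2_11 : allL (TE.itChk BE_m2) itsE_m2_11 = true := by decide +kernel
theorem icE_m2_12 : allL (TE.itChk BE_m2) itsE_m2_12 = true := by decide +kernel
theorem icE_m2_13 : allL (TE.itChk BE_m2) itsE_m2_13 = true := by decide +kernel
theorem icE_m2_14 : allL (TE.itChk BE_m2) itsE_m2_14 = true := by decide +kernel
theorem icE_m2_15 : allL (TE.itChk BE_m2) itsE_m2_15 = true := by decide +kernel

end L.SFi22
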