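import Cfsg.Agent.L.Gas2
import Cfsg.Agent.H15.StdL32

/-! Generated certificate (toolsL) for the group SL32 of degree 7 and order 168. -/
set_option Elab.async false
set_option autoImplicit false
set_option maxRecDepth 100000
set_option maxHeartbeats 0
set_option linter.unusedSectionVars false

namespace L.SL32
open H14 Cfsg

universe u

noncomputable def n4 : Net := (.cons (nat_lit 4) (nat_lit 0x2)
(.cons (nat_lit 2) (nat_lit 0x13)
(.cons (nat_lit 1) (nat_lit 0x14)
.nil)))
theorem n4_ok : Net.ok 7 n4 = true := by decide +kernel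
noncomputable def n5 : Net := (.cons (nat_lit 4) (nat_lit 0x6)
(.cons (nat_lit 2) (nat_lit 0x1)
(.cons (nat_lit 1) (nat_lit 0x10)
.nil)))
theorem n5_ok : Net.ok 7 n5 = true := by decide +kernel
noncomputable def n6 : Net := (.cons (nat_lit 2) (nat_lit 0x10)
(.cons (nat_lit 1) (nat_lit 0x1)
.nil))
theorem n6_ok : Net.ok 7 n6 = true := by decide +kernel
noncomputable def nets : List Net := [H15.StdL32.n0, H15.StdL32.n1, H15.StdL32.n2, H15.StdL32.n3, n4, n5, n6]
theorem nets_ok : netsOk 7 nets = true := List.all_eq_true.2 (fa_cons H15.StdL32.n0_ok (fa_cons H15.StdL32.n1_ok (fa_cons H15.StdL32.n2_ok (fa_cons H15.StdL32.n3_ok (fa_cons n4_ok (fa_cons n5_ok (fa_cons n6_ok (fa_nil))))))))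
noncomputable def defs : List Word := [dw (nat_lit 0x07050104), dw (nat_lit 0x050205030803), dw (nat_lit 0x0503)]
noncomputable def TAn0 : Net := (.cons (nat_lit 1) (nat_lit 0x5001)
(.cons (nat_lit 2) (nat_lit 0x32030)
(.cons (nat_lit 4) (nat_lit 0x702)
(.cons (nat_lit 8) (nat_lit 0xc5)
(.cons (nat_lit 16) (nat_lit 0x17)
(.cons (nat_lit 8) (nat_lit 0x1f)
(.cons (nat_lit 4) (nat_lit 0x1010b)
(.cons (nat_lit 2) (nat_lit 0x21101)
(.cons (nat_lit 1) (nat_lit 0x51150)
.nil)))))))))
noncomputable def TAn1 : Net := (.cons (nat_lit 1) (nat_lit 0x55400)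
(.cons (nat_lit 2) (nat_lit 0x13310)
(.cons (nat_lit 4) (nat_lit 0x806)
(.cons (nat_lit 8) (nat_lit 0x4d)
(.cons (nat_lit 16) (nat_lit 0xf)
(.cons (nat_lit 8) (nat_lit 0xf)
(.cons (nat_lit 4) (nat_lit 0x10e08)
(.cons (nat_lit 2) (nat_lit 0x10133)
(.cons (nat_lit 1) (nat_lit 0x50554)
.nil)))))))))
noncomputable def rkA_0 : Nat := (nat_lit 0x600008400062e00)
noncomputable def rkA_1 : Nat := (nat_lit 0x40173001ee248)
noncomputable def TA : Tbl := ⟨nat_lit 21, nat_lit 5, [TAn0, TAn1], nat_lit 3, [rkA_0, rkA_1]⟩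
noncomputable def MA_0 : Nat := (nat_lit 0x800000700001807)
noncomputable def MA_1 : Nat := (nat_lit 0x808288820c435f)
noncomputable def wsA : List Word := [dw (nat_lit 0x09), dw (nat_lit 0x0b)]
noncomputable def vsA : List Word := []
noncomputable def scA : List Nat := dw (nat_lit 0x020302010402010301)
noncomputable def rA_0 : Word := dw (nat_lit 0x030303)
noncomputable def rA_1 : Word := dw (nat_lit 0x0302040101)
noncomputable def skA : List (List Nat × Nat) := [(rA_0, MA_0), (rA_1, MA_1)]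
noncomputable def lvA : List (Word × Word) := lvRels [] wsA vsA 0 skA
noncomputable def TBn0 : Net := (.cons (nat_lit 1) (nat_lit 0x50)
(.cons (nat_lit 2) (nat_lit 0x10)
(.cons (nat_lit 4) (nat_lit 0x4)
(.cons (nat_lit 2) (nat_lit 0x2)
(.cons (nat_lit 1) (nat_lit 0x4)
.nil)))))
noncomputable def TBn1 : Net := (.cons (nat_lit 1) (nat_lit 0x40)
(.cons (nat_lit 4) (nat_lit 0xa)
(.cons (nat_lit 1) (nat_lit 0x54)
.nil)))
noncomputable def TBn2 : Net := (.cons (nat_lit 2) (nat_lit 0x10)
(.cons (nat_lit 4) (nat_lit 0xc)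
(.cons (nat_lit 2) (nat_lit 0x20)
(.cons (nat_lit 1) (nat_lit 0x55)
.nil))))
noncomputable def rkB_0 : Nat := (nat_lit 0x507030)
noncomputable def rkB_1 : Nat := (nat_lit 0x9c5054)
noncomputable def rkB_2 : Nat := (nat_lit 0xf42e)
noncomputable def TB : Tbl := ⟨nat_lit 8, nat_lit 3, [TBn0, TBn1, TBn2], nat_lit 3, [rkB_0, rkB_1, rkB_2]⟩
noncomputable def MB_0 : Nat := (nat_lit 0xc8c1)
noncomputable def MB_1 : Nat := (nat_lit 0x64c667)
noncomputable def MB_2 : Nat := (nat_lit 0x2c0701)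
noncomputable def wsB : List Word := [dw (nat_lit 0x09), dw (nat_lit 0x0b), dw (nat_lit 0x0d)]
noncomputable def vsB : List Word := [dw (nat_lit 0x01), dw (nat_lit 0x03)]
noncomputable def scB : List Nat := dw (nat_lit 0x04020302010105)
noncomputable def rB_0 : Word := dw (nat_lit 0x0505)
noncomputable def rB_1 : Word := dw (nat_lit 0x06010603050401)
noncomputable def rB_2 : Word := dw (nat_lit 0x0603020503050101)
noncomputable def skB : List (List Nat × Nat) := [(rB_0, MB_0), (rB_1, MB_1), (rB_2, MB_2)]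
noncomputable def lvB : List (Word × Word) := lvRels wsA wsB vsB 2 skB
noncomputable def ch : Lv := (.cons (nat_lit 1) [dw (nat_lit 0x01)] [dw (nat_lit 0x01), dw (nat_lit 0x0101), dw (nat_lit 0x03), dw (nat_lit 0x01)]
(.cons (nat_lit 3) [dw (nat_lit 0x0401)] [dw (nat_lit 0x01), dw (nat_lit 0x01), dw (nat_lit 0x05), dw (nat_lit 0x01)]
(.cons (nat_lit 0) [dw (nat_lit 0x030504), dw (nat_lit 0x03010501)] [dw (nat_lit 0x01), dw (nat_lit 0x03)]
.nil)))
noncomputable def CW : List (Word × Word × Nat) := [((dw (nat_lit 0x0d)), (dw (nat_lit 0x090c0d09)), nat_lit 2)]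
noncomputable def l2 : List (Word × Word) := pairs CW
noncomputable def lbB_m2_0 : Nat := (nat_lit 0x6060)
noncomputable def lbB_m2_1 : Nat := (nat_lit 0xdcdc)
noncomputable def lbB_m2_2 : Nat := (nat_lit 0x6036)
noncomputable def BB_m2 : Lab := ⟨nat_lit 2, nat_lit 2, nat_lit 1, [lbB_m2_0, lbB_m2_1, lbB_m2_2]⟩
noncomputable def xB_m2_3 : Word := dw (nat_lit 0x02060302060104050105)
noncomputable def itsB_m2_0 : List It := [⟨rB_0, MB_0, nat_lit 2, []⟩,
  ⟨rB_1, MB_1, nat_lit 1, []⟩,
  ⟨rB_2, MB_2, nat_lit 3, [(nat_lit 4, [nat_lit 1, nat_lit 0])]⟩,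
  ⟨xB_m2_3, 0, nat_lit 1, [(nat_lit 0, [nat_lit 1, nat_lit 0])]⟩]
noncomputable def itsB_m2 : List It := itsB_m2_0
noncomputable def tgB_m2 : Tg := ⟨[(nat_lit 2, rB_1, nat_lit 1)], [((dw (nat_lit 0x05)), (dw (nat_lit 0x01040501)))], [rB_0, rB_2], [[nat_lit 0, nat_lit 1], [nat_lit 1, nat_lit 1]]⟩
noncomputable def skB_m2 : List (List Nat × Nat) := [(xB_m2_3, 0)]
noncomputable def Rall : List (Word × Word) := (List.append lvB lvA)
noncomputable def lbC0_4 : Nat := (nat_lit 0)
noncomputable def lbC0_5 : Nat := (nat_lit 0)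
noncomputable def lbC0_6 : Nat := (nat_lit 0x56)
noncomputable def TC0 : Tbl := ⟨nat_lit 8, nat_lit 3, [.nil, .nil, .nil, .nil, TBn0, TBn1, TBn2], 0, []⟩
noncomputable def BC0 : Lab := ⟨nat_lit 2, nat_lit 1, nat_lit 1, [0, 0, 0, 0, lbC0_4, lbC0_5, lbC0_6]⟩
def zC0 : Nat → Multiplicative (ZMod 2) := fun _ => Multiplicative.ofAdd 1
noncomputable def lw0a : Word := dw (nat_lit 0x05)
noncomputable def lw0b : Word := dw (nat_lit 0x01040501)
theorem skcA : TA.skelChk 2 0 scA skA = true := by decide +kernel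
theorem rcA : relsChk 7 nets 3 (idArr 7 3 3 0) lvA = true := by decide +kernel
theorem skcB : TB.skelChk 3 2 scB skB = true := by decide +kernel
theorem rcB : relsChk 7 nets 3 (idArr 7 3 3 0) lvB = true := by decide +kernel
theorem chc : band (Nat.ble 1 168) (Nat.ble 168 ((ch.sbst wsB).val 7 nets)) = true := by decide +kernel
theorem cwc : relsChk 7 nets 3 (idArr 7 3 3 0) (cRels CW) = true := by decide +kernel
theorem icB_m2_0 : allL (TB.itChk BB_m2) itsB_m2_0 = true := by decide +kernel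
theorem lcB_m2 : labChk TB 2 BB_m2 tgB_m2 itsB_m2 = true := by decide +kernel
theorem ixB_m2 : TB.idChk 3 skB_m2 = true := by decide +kernel
theorem rxB_m2 : relsChk 7 nets 3 (idArr 7 3 3 0) (relsOf wsB skB_m2) = true := by decide +kernel
theorem fac : facChk 168 [2] 8 21 3 5 = true := by decide +kernel
theorem wfC0 : TC0.wf = true := by decide +kernel
theorem crC0B_0 : TC0.covRel BC0 lvB = true := by decide +kernel
theorem crC0A_0 : TC0.covRel BC0 lvA = true := by decide +kernel
theorem lw0r : relsChk 7 nets 3 (idArr 7 3 3 0) [((flat wsB (commW lw0a lw0b)), [])] = true := by decide +kernel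
theorem lw0C0 : TC0.trChk BC0 (flat wsB (commW lw0a lw0b)) (fun _ => nth 0 [nat_lit 1]) = true := by decide +kernel
theorem dc : relsChk 7 nets 3 (idArr 7 3 3 0) (defRels defs 4) = true := by decide +kernel
theorem skelA : TA.Skel 2 0 scA skA := Tbl.skel_of_chk skcA
theorem skelB : TB.Skel 3 2 scB skB := Tbl.skel_of_chk skcB
theorem bnd : Bnd.{u} Rall wsB 168 := fun _ _ x h => (finLe_level (N' := 168) skelB (Rels.left h) (finLe_level (N' := 21) skelA (Rels.right h) (finLe_nil x) (by decide +kernel)) (by decide +kernel))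
theorem wbC0 : BC0.wf = true := by decide +kernel
theorem hzC0 : ∀ j, zC0 j ^ BC0.m = 1 := fun j => by
  show zC0 j ^ 2 = 1
  unfold zC0
  decide
theorem covC0 : Cov (Tbl.gens BC0 wfC0 zC0) (Tbl.tau TC0.n (Multiplicative (ZMod 2))) Rall := Tbl.cov wfC0 wbC0 hzC0 (Tbl.covRel_append crC0B_0 crC0A_0)
section
variable {G : Type u} {Ω : Type*} [Group G] [MulAction G Ω] [FaithfulSMul G Ω] (M : PM G Ω 7 nets)

theorem RA : Rels M.gen lvA := (M.rels_of_idArr (by decide) rcA)
theorem UA (hN : Nat.card G = 168) : FinLe (sub M.gen wsA) 21 := finLe_level skelA (RA M) (finLe_nil _) (by decide +kernel)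
theorem RB : Rels M.gen lvB := (M.rels_of_idArr (by decide) rcB)
theorem UB (hN : Nat.card G = 168) : FinLe (sub M.gen wsB) 168 := finLe_level skelB (RB M) (UA M hN) (by decide +kernel)
theorem topB (hN : Nat.card G = 168) : sub M.gen wsB = ⊤ := top_of_lv M hN chc
theorem LB (hN : Nat.card G = 168) : 168 ≤ Nat.card (sub M.gen wsB) := le_card_top (topB M hN) hN
theorem LA (hN : Nat.card G = 168) : 21 ≤ Nat.card (sub M.gen wsA) := le_level skelB (RB M) (UA M hN) (LB M hN) (by decide +kernel)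
theorem RCW : Rels M.gen (cRels CW) := (M.rels_of_idArr (by decide) cwc)
theorem SA_m2 (hN : Nat.card G = 168) : SecAll M.gen 2 l2 wsA := secAll_bottom (UA M hN) (LA M hN) (by decide +kernel)
theorem SB_m2 (hN : Nat.card G = 168) : SecAll M.gen 2 l2 wsB :=
  secAll_level (T := TB) (ws := wsB) (wsH := wsA) (k := 2) (sched := scB) (B := BB_m2) (its := itsB_m2) (t := tgB_m2) (vs := vsB) (skelB.append ixB_m2) icB_m2_0 lcB_m2 (lvRels_append (RB M) (M.rels_of_idArr (by decide) rxB_m2))
    (UA M hN) (LB M hN) (by decide +kernel) (by decide +kernel) (SA_m2 M hN)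
theorem T2_0 (hN : Nat.card G = 168) : SecTop M.gen 2 l2 := secTop_of_top (topB M hN) (SB_m2 M hN)
theorem T2 (hN : Nat.card G = 168) : SecTop M.gen 2 (pairs CW) := T2_0 M hN
include M in
theorem bound (hN : Nat.card G = 168) (Γ : Type u) [Group Γ] [Finite Γ] (σ : Γ →* G) (hσ : IsStemExtension σ) :
    Nat.card σ.ker ≤ Nat.card (Multiplicative (ZMod 2)) :=
  haveI := fin_of_card hN (by decide +kernel)
  (kerBound' hN fac (RCW M) (by decide +kernel) (fa_cons (T2 M hN) fa_nil) Γ σ hσ).trans (by rw [Nat.card_eq_fintype_card]; decide +kernel)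
include M in
theorem schur (hN : Nat.card G = 168) : HasSchurMultiplier G (Multiplicative (ZMod 2)) :=
  haveI := fin_of_card hN (by decide +kernel)
  schur_of_cov (topB M hN) (Rels.append (RB M) (RA M)) bnd hN.ge covC0 (MonoidHom.id _)
    (fun H hH a => span_of_prods (H := H) (l := [(((Multiplicative.ofAdd 1) ^ 1 : Multiplicative (ZMod 2)), 2)])
      (fa_cons (hH lw0a lw0b _ (ev_one_of_rels (M.rels_of_idArr (by decide) lw0r)) (Tbl.ev_tau wfC0 wbC0 hzC0 lw0C0 (c := ((Multiplicative.ofAdd 1) ^ 1 : Multiplicative (ZMod 2))) (by decide +kernel)))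
      fa_nil) a (by revert a; decide +kernel)) (bound M hN)
theorem Rdefs : Rels M.gen (defRels defs 4) := (M.rels_of_idArr (by decide) dc)
end

section
variable {G : Type u} {Ω : Type*} [Group G] [MulAction G Ω]

noncomputable def mach (E : Enc Ω 7) (hr : ∀ l < 4, ∃ g : G, E.Real (getL Net.nil nets l) g) : PM G Ω 7 nets :=
  PM.ofReal G E (by decide) nets_ok (real_of_slp E (by decide) (by decide) nets_ok hr (ds := defs) (by decide +kernel) (by decide +kernel)
    (Rdefs (permPM 7 nets (by decide) (by decide) nets_ok)))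
theorem schur' [FaithfulSMul G Ω] (E : Enc Ω 7) (hr : ∀ l < 4, ∃ g : G, E.Real (getL Net.nil nets l) g) (hN : Nat.card G = 168) : HasSchurMultiplier G (Multiplicative (ZMod 2)) := schur (mach E hr) hN
end

end L.SL32
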