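import Cfsg.Agent.L.Top

/-! Generated certificate (toolsL) for the group SM11 of degree 24 and order 7920. -/
set_option Elab.async false
set_option autoImplicit false
set_option maxRecDepth 100000
set_option maxHeartbeats 0
set_option linter.unusedSectionVars false

namespace L.SM11
open H14 Cfsg

universe u

noncomputable def n0 : Net := (.cons (nat_lit 1) (nat_lit 0x15404)
(.cons (nat_lit 2) (nat_lit 0x301010)
(.cons (nat_lit 4) (nat_lit 0x40500)
(.cons (nat_lit 8) (nat_lit 0xc9)
(.cons (nat_lit 16) (nat_lit 0xcf)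
(.cons (nat_lit 8) (nat_lit 0x9d)
(.cons (nat_lit 4) (nat_lit 0x104)
(.cons (nat_lit 2) (nat_lit 0x301010)
(.cons (nat_lit 1) (nat_lit 0x15404)
.nil)))))))))
theorem n0_ok : Net.ok 24 n0 = true := by decide +kernel
noncomputable def n1 : Net := (.cons (nat_lit 1) (nat_lit 0x404000)
(.cons (nat_lit 2) (nat_lit 0x321000)
(.cons (nat_lit 4) (nat_lit 0x30500)
(.cons (nat_lit 8) (nat_lit 0x5)
(.cons (nat_lit 16) (nat_lit 0xa5)
(.cons (nat_lit 8) (nat_lit 0x93)
(.cons (nat_lit 4) (nat_lit 0xb0500)
(.cons (nat_lit 2) (nat_lit 0x201020)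
(.cons (nat_lit 1) (nat_lit 0x5500)
.nil)))))))))
theorem n1_ok : Net.ok 24 n1 = true := by decide +kernel
noncomputable def n2 : Net := (.cons (nat_lit 1) (nat_lit 0x100510)
(.cons (nat_lit 2) (nat_lit 0x203200)
(.cons (nat_lit 4) (nat_lit 0x900)
(.cons (nat_lit 8) (nat_lit 0x21)
(.cons (nat_lit 16) (nat_lit 0x2d)
(.cons (nat_lit 8) (nat_lit 0xb3)
(.cons (nat_lit 4) (nat_lit 0x3070e)
(.cons (nat_lit 2) (nat_lit 0x220310)
(.cons (nat_lit 1) (nat_lit 0x14404)
.nil)))))))))
theorem n2_ok : Net.ok 24 n2 = true := by decide +kernel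
noncomputable def n3 : Net := (.cons (nat_lit 1) (nat_lit 0x400010)
(.cons (nat_lit 2) (nat_lit 0x32120)
(.cons (nat_lit 4) (nat_lit 0x10100)
(.cons (nat_lit 8) (nat_lit 0x30)
(.cons (nat_lit 16) (nat_lit 0x32)
(.cons (nat_lit 8) (nat_lit 0x8e)
(.cons (nat_lit 4) (nat_lit 0x908)
(.cons (nat_lit 2) (nat_lit 0x102300)
(.cons (nat_lit 1) (nat_lit 0x411404)
.nil)))))))))
theorem n3_ok : Net.ok 24 n3 = true := by decide +kernel
noncomputable def n4 : Net := (.cons (nat_lit 1) (nat_lit 0x100010)
(.cons (nat_lit 2) (nat_lit 0x310120)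
(.cons (nat_lit 4) (nat_lit 0x60000)
(.cons (nat_lit 8) (nat_lit 0x11)
(.cons (nat_lit 16) (nat_lit 0x71)
(.cons (nat_lit 8) (nat_lit 0x15)
(.cons (nat_lit 4) (nat_lit 0xf0108)
(.cons (nat_lit 2) (nat_lit 0x310120)
(.cons (nat_lit 1) (nat_lit 0x104010)
.nil)))))))))
theorem n4_ok : Net.ok 24 n4 = true := by decide +kernel
noncomputable def nets : List Net := [n0, n1, n2, n3, n4]
theorem nets_ok : netsOk 24 nets = true := List.all_eq_true.2 (fa_cons n0_ok (fa_cons n1_ok (fa_cons n2_ok (fa_cons n3_ok (fa_cons n4_ok (fa_nil))))))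
noncomputable def defs : List Word := [dw (nat_lit 0x02040103020303010302030103010404), dw (nat_lit 0x0104020404010302030301030104), dw (nat_lit 0x0303010402040103030204020401040104)]
noncomputable def TAn0 : Net := (.cons (nat_lit 1) (nat_lit 0x4001014054544)
(.cons (nat_lit 2) (nat_lit 0x2120003121322)
(.cons (nat_lit 4) (nat_lit 0x50e000d0c0c00)
(.cons (nat_lit 8) (nat_lit 0xf900500000)
(.cons (nat_lit 16) (nat_lit 0x10000d480)
(.cons (nat_lit 32) (nat_lit 0x1fc80)
(.cons (nat_lit 16) (nat_lit 0x730000bf60)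
(.cons (nat_lit 8) (nat_lit 0xbe000f0094)
(.cons (nat_lit 4) (nat_lit 0x10e080a090008)
(.cons (nat_lit 2) (nat_lit 0x1211312031020)
(.cons (nat_lit 1) (nat_lit 0x14010105501545)
.nil)))))))))))
noncomputable def TAn1 : Net := (.cons (nat_lit 1) (nat_lit 0x15040445505500)
(.cons (nat_lit 2) (nat_lit 0x10201000331212)
(.cons (nat_lit 4) (nat_lit 0x50108070a0400)
(.cons (nat_lit 8) (nat_lit 0x81005b0064)
(.cons (nat_lit 16) (nat_lit 0x210000dd00)
(.cons (nat_lit 32) (nat_lit 0x43dd60)
(.cons (nat_lit 16) (nat_lit 0x1e00006434)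
(.cons (nat_lit 8) (nat_lit 0x9c00e00042)
(.cons (nat_lit 4) (nat_lit 0x4030f010a0a0c)
(.cons (nat_lit 2) (nat_lit 0x11233331331113)
(.cons (nat_lit 1) (nat_lit 0x1554110040144)
.nil)))))))))))
noncomputable def rkA_0 : Nat := (nat_lit 0x1c410000000000077497a16e000002e8b31a420c00)
noncomputable def rkA_1 : Nat := (nat_lit 0x18080000000000034d455048000002128a4542e000)
noncomputable def TA : Tbl := ⟨nat_lit 55, nat_lit 6, [TAn0, TAn1], nat_lit 3, [rkA_0, rkA_1]⟩
noncomputable def MA_0 : Nat := (nat_lit 0x4a0000000000004004241000000080080800007)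
noncomputable def MA_1 : Nat := (nat_lit 0x8000000a0400004000810a63679080000054827ad)
noncomputable def MA_2 : Nat := (nat_lit 0x10000000000000021c160d440000140c240915)
noncomputable def wsA : List Word := [dw (nat_lit 0x05), dw (nat_lit 0x07)]
noncomputable def vsA : List Word := []
noncomputable def scA : List Nat := dw (nat_lit 0x0302010403020401030204010301)
noncomputable def rA_0 : Word := dw (nat_lit 0x0303030303)
noncomputable def rA_1 : Word := dw (nat_lit 0x030204010101)
noncomputable def rA_2 : Word := dw (nat_lit 0x04020301010101)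
noncomputable def skA : List (List Nat × Nat) := [(rA_0, MA_0), (rA_1, MA_1), (rA_2, MA_2)]
noncomputable def lvA : List (Word × Word) := lvRels [] wsA vsA 0 skA
noncomputable def TBn0 : Net := (.cons (nat_lit 1) (nat_lit 0x40405455545515005441455410044540140)
(.cons (nat_lit 2) (nat_lit 0x220003002022322012302110220220313000)
(.cons (nat_lit 4) (nat_lit 0xa020608030e0903030f050d030709090500)
(.cons (nat_lit 8) (nat_lit 0x870047008b00d900440021008100f80000)
(.cons (nat_lit 16) (nat_lit 0xfd600007c270000135c0000041a)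
(.cons (nat_lit 32) (nat_lit 0x18420fb0000000000000010)
(.cons (nat_lit 64) (nat_lit 0xcbe02f90100f5db)
(.cons (nat_lit 128) (nat_lit 0xf5db)
(.cons (nat_lit 64) (nat_lit 0xf5db)
(.cons (nat_lit 32) (nat_lit 0xbe9ef13600000000e3459c1a)
(.cons (nat_lit 16) (nat_lit 0x422a0000ede3000026d2000013fa)
(.cons (nat_lit 8) (nat_lit 0xbf00b6003800a5006e005b005a004c0070)
(.cons (nat_lit 4) (nat_lit 0xc06040f05000c0f08000905060f06060604)
(.cons (nat_lit 2) (nat_lit 0x312310301301032001012120201013231102)
(.cons (nat_lit 1) (nat_lit 0x545140505504101001415051050501440114)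
.nil)))))))))))))))
noncomputable def TBn1 : Net := (.cons (nat_lit 1) (nat_lit 0x44145101150004551511554104044441404)
(.cons (nat_lit 2) (nat_lit 0x33313320300110032220110033313022100)
(.cons (nat_lit 4) (nat_lit 0xc060502080d0600080805080b040e040400)
(.cons (nat_lit 8) (nat_lit 0x7f00a20081001100940005000600040000)
(.cons (nat_lit 16) (nat_lit 0x376300008e2000001b2200004000)
(.cons (nat_lit 32) (nat_lit 0xa02156c30000000000000000)
(.cons (nat_lit 64) (nat_lit 0x8d3b525b2084fc83)
(.cons (nat_lit 128) (nat_lit 0xfc83)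
(.cons (nat_lit 64) (nat_lit 0xfc83)
(.cons (nat_lit 32) (nat_lit 0xd269c27f00000000a2e47d00)
(.cons (nat_lit 16) (nat_lit 0x6def0000f4cd000064e700005ed0)
(.cons (nat_lit 8) (nat_lit 0xb600cd00500013006600f7000a00a800c4)
(.cons (nat_lit 4) (nat_lit 0x607040008070e0e07090a000c080b03010e)
(.cons (nat_lit 2) (nat_lit 0x200322321212302211310103303310020000)
(.cons (nat_lit 1) (nat_lit 0x444010141001014001141415510050045410)
.nil)))))))))))))))
noncomputable def TBn2 : Net := (.cons (nat_lit 1) (nat_lit 0x554505151154440504550155411110515000)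
(.cons (nat_lit 2) (nat_lit 0x31233302222101021203033121222033210)
(.cons (nat_lit 4) (nat_lit 0xa0e02040208010008030b06000e010c0700)
(.cons (nat_lit 8) (nat_lit 0xb000a000b2000c009800a3001000110000)
(.cons (nat_lit 16) (nat_lit 0x36f70000fe8600008a8100000001)
(.cons (nat_lit 32) (nat_lit 0x80018baf0000000000000000)
(.cons (nat_lit 64) (nat_lit 0x963d20e47604eb9f)
(.cons (nat_lit 128) (nat_lit 0xeb9f)
(.cons (nat_lit 64) (nat_lit 0xeb9f)
(.cons (nat_lit 32) (nat_lit 0x9c3cafe000000000982d301)
(.cons (nat_lit 16) (nat_lit 0xd7520000ff4e00002f51000081d1)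
(.cons (nat_lit 8) (nat_lit 0x450041005600c8001900070050009100ac)
(.cons (nat_lit 4) (nat_lit 0xf0f0701030d050b09030b01040b010c0b00)
(.cons (nat_lit 2) (nat_lit 0x20222302333001121303133322222233310)
(.cons (nat_lit 1) (nat_lit 0x514105150554154104551111111010510105)
.nil)))))))))))))))
noncomputable def rkB_0 : Nat := (nat_lit 0x8b4ea951cc18c08c70080006040000020000002016000000080200252090800a0821000002201240080808840cc049b02400a4040002006012138038888a38e869f68c02802200000b7e9580d040080800058a160a002627000)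
noncomputable def rkB_1 : Nat := (nat_lit 0x97605c250121d886c3000008200000000000000803504010000000ab28538400600a0000046803144010c0060004044981000204000093685f504031c80041062811240002060000500019b9d131488213a62852a21048250000)
noncomputable def rkB_2 : Nat := (nat_lit 0xfffe963775d7dfff36200009682608004000000169c88a282000c9ddcfe68548f688a488046c5181ba39f0ab8156cfaf84b0a4286008d3a3e03d1f8aed5ac922b784e3f2da57aca8b38940cf4ff3222e76ac1a50d6dfd7b82232)
noncomputable def TB : Tbl := ⟨nat_lit 144, nat_lit 8, [TBn0, TBn1, TBn2], nat_lit 5, [rkB_0, rkB_1, rkB_2]⟩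
noncomputable def MB_0 : Nat := (nat_lit 0x300010000011080000000000000000000000000000000000000000400408000600c000000000000000100000000004080000000000003000000000000800000004080004000000003000000000010000000000000062008020e)
noncomputable def MB_1 : Nat := (nat_lit 0x404044040200020514000000200400000000000029c800280000801100c60100040804880040018c0028000180100086000004280008400020c000280204940020d42104046c0c9840402d000008000180112086210000441dcd)
noncomputable def MB_2 : Nat := (nat_lit 0x1a20c78857645e530d100041100100000000000a00000000000000281b928600299c1100102a4000000040030064000491a10561c8d0222a858013664a0301341b1386a22551c194400b0088d6205d100d4c18f5001d2119166a)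
noncomputable def MB_3 : Nat := (nat_lit 0x6c904030580e05028100b0400627dc000614000100000010203038ad4480980021e1490244110000081004223988c10098236561c55020804010101c20109080c14014027061062a28804030181e2132b0a125c08a04c8e04a47)
noncomputable def MB_4 : Nat := (nat_lit 0x53e18ca0a000643625c00200804440012400000001080220000008080000018020c4820402600108222060220880000002d42000a00053a089208220443609082000035460840e0213808120020000022c800000021000018c01)
noncomputable def wsB : List Word := [dw (nat_lit 0x05), dw (nat_lit 0x07), dw (nat_lit 0x09)]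
noncomputable def vsB : List Word := [dw (nat_lit 0x01), dw (nat_lit 0x03)]
noncomputable def scB : List Nat := dw (nat_lit 0x01040302010403020401020301050302040103020401030105)
noncomputable def rB_0 : Word := dw (nat_lit 0x0303030303)
noncomputable def rB_1 : Word := dw (nat_lit 0x0505)
noncomputable def rB_2 : Word := dw (nat_lit 0x04020301010101)
noncomputable def rB_3 : Word := dw (nat_lit 0x040604060104040501)
noncomputable def rB_4 : Word := dw (nat_lit 0x0604010406030305030101)
noncomputable def skB : List (List Nat × Nat) := [(rB_0, MB_0), (rB_1, MB_1), (rB_2, MB_2), (rB_3, MB_3), (rB_4, MB_4)]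
noncomputable def lvB : List (Word × Word) := lvRels wsA wsB vsB 2 skB
noncomputable def ch : Lv := (.cons (nat_lit 1) [dw (nat_lit 0x01)] [dw (nat_lit 0x01), dw (nat_lit 0x0101), dw (nat_lit 0x05), dw (nat_lit 0x01), dw (nat_lit 0x01)]
(.cons (nat_lit 2) [dw (nat_lit 0x05)] [dw (nat_lit 0x01), dw (nat_lit 0x03), dw (nat_lit 0x01), dw (nat_lit 0x03), dw (nat_lit 0x05), dw (nat_lit 0x01), dw (nat_lit 0x03)]
(.cons (nat_lit 3) [dw (nat_lit 0x030504)] [dw (nat_lit 0x01), dw (nat_lit 0x03), dw (nat_lit 0x01), dw (nat_lit 0x03), dw (nat_lit 0x01), dw (nat_lit 0x05)]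
(.cons (nat_lit 4) [dw (nat_lit 0x06010504050303), dw (nat_lit 0x06010401050204)] [dw (nat_lit 0x01), dw (nat_lit 0x03), dw (nat_lit 0x01), dw (nat_lit 0x01)]
.nil))))
noncomputable def CW : List (Word × Word × Nat) := []
noncomputable def lbB_m2_0 : Nat := (nat_lit 0x802e3b51cc10000820000092840000000000826e33110800008c2000000204000000000)
noncomputable def lbB_m2_1 : Nat := (nat_lit 0x87201e300120480043a208000400400a0000862006304001c00680200008200000000000)
noncomputable def lbB_m2_2 : Nat := (nat_lit 0xe7c08d04e975b770fbbf9d0291c5679a0882cc35509df89bab46ca31d07583387cfe6a2)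
noncomputable def BB_m2 : Lab := ⟨nat_lit 2, nat_lit 2, nat_lit 1, [lbB_m2_0, lbB_m2_1, lbB_m2_2]⟩
noncomputable def itsB_m2_0 : List It := [⟨rB_0, MB_0, nat_lit 0, [(nat_lit 15, [nat_lit 0, nat_lit 1]), (nat_lit 44, [nat_lit 1, nat_lit 1])]⟩,
  ⟨rB_1, MB_1, nat_lit 2, []⟩,
  ⟨rB_2, MB_2, nat_lit 0, []⟩,
  ⟨rB_3, MB_3, nat_lit 1, []⟩,
  ⟨rB_4, MB_4, nat_lit 3, []⟩]
noncomputable def itsB_m2 : List It := itsB_m2_0
noncomputable def tgB_m2 : Tg := ⟨[(nat_lit 2, rB_3, nat_lit 1)], [], [rB_1, rB_4], [[nat_lit 1, nat_lit 1], [nat_lit 1, nat_lit 0]]⟩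
noncomputable def lbB_m3_0 : Nat := (nat_lit 0x3200240801000001c086184a80024040000004081000808000040c008a4040800200000000480104c08008040c00820000800200000830a10414400808c3c006100a8002404000)
noncomputable def lbB_m3_1 : Nat := (nat_lit 0x110000444101108240a0040001000000000004004b01002008040220084004004208000084204f310030c80402000800240042080000932010440101d082c0800408210000000000)
noncomputable def lbB_m3_2 : Nat := (nat_lit 0x494b12660265d2b2070062bc49100010a48004290901309602486040098402881e8808109014e418a91a01015800144180e216c140081a40b0a20800a50603b5c000c132200600a0)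
noncomputable def BB_m3 : Lab := ⟨nat_lit 3, nat_lit 2, nat_lit 2, [lbB_m3_0, lbB_m3_1, lbB_m3_2]⟩
noncomputable def itsB_m3_0 : List It := [⟨rB_0, MB_0, nat_lit 0, [(nat_lit 15, [nat_lit 2, nat_lit 1]), (nat_lit 44, [nat_lit 0, nat_lit 1])]⟩,
  ⟨rB_1, MB_1, nat_lit 1, []⟩,
  ⟨rB_2, MB_2, nat_lit 0, []⟩,
  ⟨rB_3, MB_3, nat_lit 2, []⟩,
  ⟨rB_4, MB_4, nat_lit 3, []⟩]
noncomputable def itsB_m3 : List It := itsB_m3_0
noncomputable def tgB_m3 : Tg := ⟨[(nat_lit 2, rB_1, nat_lit 2)], [], [rB_3, rB_4], [[nat_lit 2, nat_lit 1], [nat_lit 0, nat_lit 1]]⟩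
theorem skcA : TA.skelChk 2 0 scA skA = true := by decide +kernel
theorem rcA : relsChk 24 nets 5 (idArr 24 5 5 0) lvA = true := by decide +kernel
theorem skcB : TB.skelChk 3 2 scB skB = true := by decide +kernel
theorem rcB : relsChk 24 nets 5 (idArr 24 5 5 0) lvB = true := by decide +kernel
theorem chc : band (Nat.ble 1 7920) (Nat.ble 7920 ((ch.sbst wsB).val 24 nets)) = true := by decide +kernel
theorem icB_m2_0 : allL (TB.itChk BB_m2) itsB_m2_0 = true := by decide +kernel
theorem lcB_m2 : labChk TB 2 BB_m2 tgB_m2 itsB_m2 = true := by decide +kernel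
theorem icB_m3_0 : allL (TB.itChk BB_m3) itsB_m3_0 = true := by decide +kernel
theorem lcB_m3 : labChk TB 2 BB_m3 tgB_m3 itsB_m3 = true := by decide +kernel
theorem fac : facChk 7920 [2, 3] 144 55 4 8 = true := by decide +kernel
theorem dc : relsChk 24 nets 5 (idArr 24 5 5 0) (defRels defs 2) = true := by decide +kernel
theorem skelA : TA.Skel 2 0 scA skA := Tbl.skel_of_chk skcA
theorem skelB : TB.Skel 3 2 scB skB := Tbl.skel_of_chk skcB
section
variable {G : Type u} {Ω : Type*} [Group G] [MulAction G Ω] [FaithfulSMul G Ω] (M : PM G Ω 24 nets)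

theorem RA : Rels M.gen lvA := (M.rels_of_idArr (by decide) rcA)
theorem UA : FinLe (sub M.gen wsA) 55 := finLe_level skelA (RA M) (finLe_nil _) (by decide +kernel)
theorem RB : Rels M.gen lvB := (M.rels_of_idArr (by decide) rcB)
theorem UB : FinLe (sub M.gen wsB) 7920 := finLe_level skelB (RB M) (UA M) (by decide +kernel)
theorem topB (hN : Nat.card G = 7920) : sub M.gen wsB = ⊤ := top_of_lv M hN chc
theorem LB (hN : Nat.card G = 7920) : 7920 ≤ Nat.card (sub M.gen wsB) := le_card_top (topB M hN) hN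
theorem LA (hN : Nat.card G = 7920) : 55 ≤ Nat.card (sub M.gen wsA) := le_level skelB (RB M) (UA M) (LB M hN) (by decide +kernel)
theorem SA_m2 (hN : Nat.card G = 7920) : SecAll M.gen 2 (pairs CW) wsA := secAll_bottom (UA M) (LA M hN) (by decide +kernel)
theorem SB_m2 (hN : Nat.card G = 7920) : SecAll M.gen 2 (pairs CW) wsB :=
  secAll_level (T := TB) (ws := wsB) (wsH := wsA) (k := 2) (sched := scB) (B := BB_m2) (its := itsB_m2) (t := tgB_m2) (vs := vsB) skelB icB_m2_0 lcB_m2 (RB M)
    (UA M) (LB M hN) (by decide +kernel) (by decide +kernel) (SA_m2 M hN)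
theorem SA_m3 (hN : Nat.card G = 7920) : SecAll M.gen 3 (pairs CW) wsA := secAll_bottom (UA M) (LA M hN) (by decide +kernel)
theorem SB_m3 (hN : Nat.card G = 7920) : SecAll M.gen 3 (pairs CW) wsB :=
  secAll_level (T := TB) (ws := wsB) (wsH := wsA) (k := 2) (sched := scB) (B := BB_m3) (its := itsB_m3) (t := tgB_m3) (vs := vsB) skelB icB_m3_0 lcB_m3 (RB M)
    (UA M) (LB M hN) (by decide +kernel) (by decide +kernel) (SA_m3 M hN)
include M in
theorem schur (hN : Nat.card G = 7920) : HasCyclicSchurMultiplier G 1 :=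
  haveI := fin_of_card hN (by decide +kernel)
  schur_triv (gen := M.gen) hN fac (fa_cons ⟨_, topB M hN, SB_m2 M hN⟩ (fa_cons ⟨_, topB M hN, SB_m3 M hN⟩ fa_nil))
theorem Rdefs : Rels M.gen (defRels defs 2) := (M.rels_of_idArr (by decide) dc)
end

section
variable {G : Type u} {Ω : Type*} [Group G] [MulAction G Ω]

noncomputable def mach (E : Enc Ω 24) (hr : ∀ l < 2, ∃ g : G, E.Real (getL Net.nil nets l) g) : PM G Ω 24 nets :=
  PM.ofReal G E (by decide) nets_ok (real_of_slp E (by decide) (by decide) nets_ok hr (ds := defs) (by decide +kernel) (by decide +kernel)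
    (Rdefs (permPM 24 nets (by decide) (by decide) nets_ok)))
theorem schur' [FaithfulSMul G Ω] (E : Enc Ω 24) (hr : ∀ l < 2, ∃ g : G, E.Real (getL Net.nil nets l) g) (hN : Nat.card G = 7920) : HasCyclicSchurMultiplier G 1 := schur (mach E hr) hN
end

end L.SM11
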