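import Cfsg.Agent.L.Sh2
import Cfsg.Agent.H3.Suz3

/-! Higman's theorem for an automorphism `ξ` of order `m` with `Ar F m` (port of `H3/Suz3`). -/

set_option autoImplicit false
set_option linter.style.haveILetI false
set_option linter.unusedSectionVars false

namespace L.Sh

open Subgroup H18
open H3 hiding Coord FPF Bil Suz
open scoped commutatorElement

variable {P : Type*} [Group P] {F : Type*} [Field F] [Fintype F] [CharP F 2]

/-- the set-up of a Suzuki 2-group (without the non-commutativity) -/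
structure Suz (ξ : MulAut P) (Z : Subgroup P) (z : P → F) (l : F) : Prop where
  pg : IsPGroup 2 P
  memZ : ∀ x, x ∈ Z ↔ x * x = 1
  cent : ∀ a ∈ Z, ∀ x, x * a = a * x
  co : Coord ξ Z ⊥ z l
  fpf : FPF ξ F
  four : ∃ a : F, a ≠ 0 ∧ a ≠ 1

variable {ξ : MulAut P} {Z A X Y X' Y' W : Subgroup P} {z f : P → F} {l μ : F} {e i j : ℕ} {a b d u x : P}

namespace Suz
variable (S : Suz ξ Z z l)
include S

theorem pow_mem (h : a ^ 2 ^ (j + 1) = 1) : a ^ 2 ^ j ∈ Z := by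
  rw [S.memZ, ← pow_two, ← pow_mul, ← pow_succ, h]

theorem z_eq_zero (h : a ∈ Z) : z a = 0 ↔ a = 1 := S.co.ker a h

theorem z_inj (ha : a ∈ Z) (hb : b ∈ Z) (h : z a = z b) : a = b :=
  mul_inv_eq_one.1 ((S.co.eq_iff ha hb).1 h)

theorem conj_eq (h : a ∈ Z) (x : P) : x * a * x⁻¹ = a := by rw [S.cent a h, mul_inv_cancel_right]

theorem l_ne : l ≠ 0 := S.co.ar.ne0 S.co.gen

theorem abelZ : Abel Z := cent_iff.2 fun a _ b hb => S.cent b hb a

theorem homoZ : Homo ξ Z 0 := ⟨S.co.inv, S.abelZ, fun a ha => by simpa [pow_two] using (S.memZ a).1 ha, by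
  simpa using SetLike.not_le_iff_exists.1 S.co.not_le⟩

theorem lev_add (hA : Abel A) : AddOn (Om A (j + 1)) (lev z j) := fun a ha b hb => by
  obtain ⟨h1, h2⟩ := (mem_Om hA).1 ha
  obtain ⟨h3, h4⟩ := (mem_Om hA).1 hb
  rw [lev, (show Commute a b from comm_of_cent hA h1 h3).mul_pow]
  exact S.co.add _ (S.pow_mem h2) _ (S.pow_mem h4)

theorem lev_conj (hA : Abel A) (h : d ∈ Om A (j + 1)) (x : P) : lev z j (x * d * x⁻¹) = lev z j d := by
  rw [lev, conj_pow, S.conj_eq (S.pow_mem ((mem_Om hA).1 h).2), lev]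

theorem lev_eq_zero (hA : Abel A) (h : d ∈ Om A (j + 1)) : lev z j d = 0 ↔ d ∈ Om A j := by
  obtain ⟨h1, h2⟩ := (mem_Om hA).1 h
  rw [lev, S.z_eq_zero (S.pow_mem h2), mem_Om hA, and_iff_right h1]

theorem lev_xi (hA : Abel A) (h : d ∈ Om A (j + 1)) : lev z j (ξ d) = l * lev z j d := by
  rw [lev, ← map_pow, S.co.conj _ (S.pow_mem ((mem_Om hA).1 h).2), lev]

theorem root_Z (hA : Homo ξ A e) (h : a ∈ Z) : ∃ c ∈ A, c ^ 2 ^ e = a := by
  obtain ⟨c, hc, h2⟩ := hA.ex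
  have h3 : ∀ c ∈ A, c ^ 2 ^ e ∈ Z := fun c hc => S.pow_mem (hA.exp c hc)
  have h4 : z (c ^ 2 ^ e) ≠ 0 := fun e => h2 ((S.z_eq_zero (h3 c hc)).1 e)
  obtain ⟨b, hb, e1⟩ := S.co.ar.span S.co.gen {t | ∃ b ∈ A, z (b ^ 2 ^ e) = t}
    ⟨1, A.one_mem, by rw [one_pow, S.co.add.one]⟩ (by
      rintro _ ⟨u, hu, rfl⟩ _ ⟨v, hv, rfl⟩
      refine ⟨u * v, A.mul_mem hu hv, ?_⟩
      rw [(show Commute u v from comm_of_cent hA.abel hu hv).mul_pow, S.co.add _ (h3 u hu) _ (h3 v hv)]) (by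
      rintro _ ⟨u, hu, rfl⟩
      exact ⟨ξ u, hA.inv u hu, by rw [← map_pow, S.co.conj _ (h3 u hu)]⟩) ⟨c, hc, rfl⟩ h4 (z a)
  exact ⟨b, hb, S.z_inj (h3 b hb) h e1⟩

theorem Z_le (hA : Homo ξ A e) : Z ≤ A := fun a ha => by
  obtain ⟨c, hc, rfl⟩ := S.root_Z hA ha
  exact A.pow_mem hc _

theorem Om_one (hA : Homo ξ A e) : Om A 1 = Z := by
  ext a
  rw [mem_Om hA.abel, S.memZ, pow_one, pow_two]
  exact and_iff_right_of_imp fun h => S.Z_le hA ((S.memZ a).2 h)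

theorem root (hA : Homo ξ A e) (hij : i + j = e + 1) (ha : a ∈ Om A j) : ∃ b ∈ A, b ^ 2 ^ i = a := by
  induction j generalizing i a with
  | zero => exact ⟨1, A.one_mem, by rw [Om_zero hA.abel, mem_bot] at ha; rw [ha, one_pow]⟩
  | succ j ih =>
    obtain ⟨b, hb, e1⟩ := ih (i := i + 1) (by omega) (sq_mem_Om hA.abel ha)
    have hc : Commute (b ^ 2 ^ i)⁻¹ a := comm_of_cent hA.abel (A.inv_mem (A.pow_mem hb _)) (Om_le ha)
    obtain ⟨c, hc', e2⟩ := S.root_Z hA (a := (b ^ 2 ^ i)⁻¹ * a) ((S.memZ _).2 (by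
      rw [← pow_two, hc.mul_pow, inv_pow, ← pow_mul, ← pow_succ, e1, pow_two, inv_mul_cancel]))
    refine ⟨b * c ^ 2 ^ j, A.mul_mem hb (A.pow_mem hc' _), ?_⟩
    rw [(show Commute b (c ^ 2 ^ j) from comm_of_cent hA.abel hb (A.pow_mem hc' _)).mul_pow, ← pow_mul,
      ← pow_add, show j + i = e by omega, e2, mul_inv_cancel_left]

theorem coord_lev (hA : Homo ξ A e) (hj : j ≤ e) : Coord ξ (Om A (j + 1)) (Om A j) (lev z j) l where
  inv := hA.inv.om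
  le := Om_mono j.le_succ
  add := S.lev_add hA.abel
  ker := fun _ h => S.lev_eq_zero hA.abel h
  surj := fun t => by
    obtain ⟨w, hw, rfl⟩ := S.co.surj t
    obtain ⟨b, hb, rfl⟩ := S.root hA (i := j) (j := e + 1 - j) (by omega)
      (Om_mono (by omega) (S.Om_one hA ▸ hw : w ∈ Om A 1))
    exact ⟨b, (mem_Om hA.abel).2 ⟨hb, by rw [pow_succ, pow_mul, pow_two, (S.memZ _).1 hw]⟩, rfl⟩
  conj := fun _ h => S.lev_xi hA.abel h
  gen := S.co.gen
  ar := S.co.ar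

theorem coord_top (hA : Homo ξ A e) : Coord ξ A (Om A e) (lev z e) l := by
  simpa only [hA.top] using S.coord_lev hA le_rfl

theorem le_Om (hA : Homo ξ A e) (hW : XInv ξ W) (h : W < A) : W ≤ Om A e := by
  by_contra hn
  obtain ⟨w, hw, hw1⟩ := SetLike.not_le_iff_exists.1 hn
  have : ∀ j ≤ e + 1, Om A j ≤ W := fun j hj => by
    induction j with
    | zero => rw [Om_zero hA.abel]; exact bot_le
    | succ j ih =>
      obtain ⟨i, rfl⟩ := Nat.exists_eq_add_of_le' (Nat.le_of_succ_le_succ hj)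
      intro a ha
      obtain ⟨w', hw', e1⟩ := (S.coord_lev hA (j := j) (by omega)).exists_mul (hW.inf hA.inv.om)
        inf_le_right (fun hle => hw1 ((mem_Om hA.abel).2 ⟨h.le hw, by
          have := hle (x := w ^ 2 ^ i) ⟨W.pow_mem hw _, (mem_Om hA.abel).2 ⟨A.pow_mem (h.le hw) _, by
            rw [← pow_mul, ← pow_add, ← add_assoc, hA.exp w (h.le hw)]⟩⟩
          rw [pow_add, pow_mul, ((mem_Om hA.abel).1 this).2]⟩)) ha
      simpa using W.mul_mem (ih (by omega) e1) hw'.1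
  exact h.not_ge (hA.top ▸ this _ le_rfl)

theorem comm_Om (hA : Homo ξ A e) (hx : x ∈ N(A)) {s t : ℕ} (h : ∀ a ∈ A, ⁅x, a⁆ ∈ Om A s)
    (hij : i + j = e + 1) (ht : i + t = s) (hd : d ∈ Om A j) : ⁅x, d⁆ ∈ Om A t := by
  obtain ⟨b, hb, rfl⟩ := S.root hA hij hd
  rw [comm_pow_abel hA.abel hx hb]
  obtain ⟨h1, h2⟩ := (mem_Om hA.abel).1 (h b hb)
  exact (mem_Om hA.abel).2 ⟨A.pow_mem h1 _, by rw [← pow_mul, ← pow_add, ht, h2]⟩

theorem lemma2 (hA : Homo ξ A (e + 1)) (hu : u ∈ N(A)) (h1 : u * u ∈ Om A (e + 1))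
    (h2 : ∀ a ∈ A, ⁅u, a⁆ ∈ Om A e) : u ∈ A := by
  have : ∀ i j, i + j = e + 1 → ∃ b ∈ A, b * u * (b * u) ∈ Om A j := fun i => by
    induction i with
    | zero => exact fun j hj => ⟨1, A.one_mem, by simpa [show j = e + 1 by omega] using h1⟩
    | succ i ih =>
      intro j hj
      obtain ⟨b, hb, h3⟩ := ih (j + 1) (by omega)
      obtain ⟨d, hd, h4⟩ := S.root hA (i := 1) (j := e + 1) (by omega) (Om_mono (by omega) h3)
      have hd' : d ∈ Om A (j + 2) := (mem_Om hA.abel).2 ⟨hd, by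
        rw [pow_succ', pow_mul, ← pow_one 2, h4, pow_one, ((mem_Om hA.abel).1 h3).2]⟩
      have h5 := S.comm_Om hA hu h2 (i := i) (t := j) (by omega) (by omega) (inv_mem hd')
      refine ⟨d⁻¹ * b, A.mul_mem (A.inv_mem hd) hb, ?_⟩
      convert h5 using 1
      have c1 := comm_of_cent hA.abel hb (conj_mem_N hu (A.inv_mem hd))
      have c2 := comm_of_cent hA.abel hd (conj_mem_N hu (A.inv_mem hd))
      rw [pow_one, pow_two] at h4
      calc d⁻¹ * b * u * (d⁻¹ * b * u) = d⁻¹ * (b * (u * d⁻¹ * u⁻¹)) * b⁻¹ * (b * u * (b * u)) := by group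
        _ = d⁻¹ * (d * (u * d⁻¹ * u⁻¹)) * d := by rw [c1, c2, ← h4]; simp only [mul_assoc, mul_inv_cancel_left]
        _ = _ := by rw [commutatorElement_def]; group
  obtain ⟨b, hb, h⟩ := this (e + 1) 0 rfl
  rw [Om_zero hA.abel, mem_bot, ← S.memZ] at h
  simpa using A.mul_mem (A.inv_mem hb) (S.Z_le hA h)

theorem bil_comm (hA : Abel A) (nX : X ≤ N(A)) (nX' : X' ≤ N(A))
    (hD : ∀ x ∈ X, ∀ y ∈ X', ⁅x, y⁆ ∈ Om A (j + 1)) (hY : Y ≤ X) (hY' : Y' ≤ X')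
    (v1 : ∀ x ∈ Y, ∀ y ∈ X', ⁅x, y⁆ ∈ Om A j) (v2 : ∀ x ∈ X, ∀ y ∈ Y', ⁅x, y⁆ ∈ Om A j) :
    Bil ξ X Y X' Y' (fun x y => lev z j ⁅x, y⁆) l where
  add1 := fun y hy x hx x' hx' => by
    have : ⁅x * x', y⁆ = x * ⁅x', y⁆ * x⁻¹ * ⁅x, y⁆ := by simp only [commutatorElement_def]; group
    beta_reduce
    rw [this, S.lev_add hA _ (conj_mem (norm_Om nX) hx (hD _ hx' _ hy)) _ (hD _ hx _ hy),
      S.lev_conj hA (hD _ hx' _ hy), add_comm]
  add2 := fun x hx y hy y' hy' => by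
    have : ⁅x, y * y'⁆ = ⁅x, y⁆ * (y * ⁅x, y'⁆ * y⁻¹) := by simp only [commutatorElement_def]; group
    beta_reduce
    rw [this, S.lev_add hA _ (hD _ hx _ hy) _ (conj_mem (norm_Om nX') hy (hD _ hx _ hy')),
      S.lev_conj hA (hD _ hx _ hy')]
  van1 := fun x hx y hy => (S.lev_eq_zero hA (hD _ (hY hx) _ hy)).2 (v1 _ hx _ hy)
  van2 := fun x hx y hy => (S.lev_eq_zero hA (hD _ hx _ (hY' hy))).2 (v2 _ hx _ hy)
  conj := fun x hx y hy => by rw [← map_commutatorElement, S.lev_xi hA (hD _ hx _ hy)]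

theorem lev_sq_mul (hA : Abel A) (nX : X ≤ N(A)) (hsq : ∀ x ∈ X, x * x ∈ Om A (j + 1)) (x : P) (hx : x ∈ X)
    (y : P) (hy : y ∈ X) :
    lev z j (x * y * (x * y)) = lev z j (x * x) + lev z j (y * y) + lev z j ⁅x, y⁆ := by
  have : x * y * (x * y) = ⁅x, y⁆ * (y * (x * x) * y⁻¹ * (y * y)) := by
    simp only [commutatorElement_def]; group
  have h1 := conj_mem (norm_Om nX) hy (hsq x hx)
  rw [this, S.lev_add hA _ (comm_mem_of_sq hsq hx hy) _ (mul_mem h1 (hsq y hy)),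
    S.lev_add hA _ h1 _ (hsq y hy), S.lev_conj hA (hsq x hx), add_comm]

theorem quad (hA : Abel A) (h : Coord ξ X Y f μ) (nX : X ≤ N(A)) (hsq : ∀ x ∈ X, x * x ∈ Om A (j + 1))
    (hY : ∀ y ∈ Y, y * y ∈ Om A j) (v : ∀ x ∈ X, ∀ y ∈ Y, ⁅x, y⁆ ∈ Om A j) (h0 : ∃ x ∈ X, x * x ∉ Om A j) :
    ∃ (c : F) (ρ₁ ρ₂ : F ≃+* F), c ≠ 0 ∧ l = ρ₁ μ * ρ₂ μ ∧
      ∀ x ∈ X, lev z j (x * x) = c * (ρ₁ (f x) * ρ₂ (f x)) :=
  (S.bil_comm hA nX nX (fun _ hx _ hy => comm_mem_of_sq hsq hx hy) h.le h.le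
    (fun x hx y hy => by rw [← commutatorElement_inv]; exact inv_mem (v y hy x hx)) v).quad h S.co.gen
    (S.lev_sq_mul hA nX hsq) (fun y hy => (S.lev_eq_zero hA (hsq y (h.le hy))).2 (hY y hy))
    (fun x hx => by rw [← map_mul, S.lev_xi hA (hsq x hx)])
    (h0.imp fun x hx => ⟨hx.1, fun e => hx.2 ((S.lev_eq_zero hA (hsq x hx.1)).1 e)⟩)

variable [Finite P]

theorem nil : Nil (⊤ : Subgroup P) := nil_top_iff.2 S.pg.isNilpotent

theorem comm_lt (h : X ≤ N(A)) (h1 : A ≠ ⊥) : ⁅X, A⁆ < A := by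
  rw [comm_comm]; exact S.nil.comm_lt le_top le_top h h1

omit [Finite P] in
theorem cover_lt {C : Subgroup P} (hA : Homo ξ A (e + 2)) (h : Coord ξ C A f μ)
    (hsq : ∀ u ∈ C, u * u ∈ Om A (e + 2)) : False := by
  have nA := h.norm
  have hle : ∀ x ∈ C, ∀ a ∈ A, ⁅x, a⁆ ∈ Om A (e + 2) := fun x hx a ha => comm_mem_of_sq hsq hx (h.le ha)
  obtain ⟨B, h1, h2, h3, h4⟩ := (S.bil_comm (j := e + 1) (Y := A) (Y' := Om A (e + 2)) hA.abel nA le_N hle
    h.le Om_le (fun x hx y hy => by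
      rw [commutatorElement_eq_one_iff_mul_comm.2 (comm_of_cent hA.abel hx hy)]; exact one_mem _)
    (fun x hx y hy => S.comm_Om hA (nA hx) (hle x hx) (i := 1) (by omega) (by omega) hy)).transfer h
    (S.coord_top hA)
  obtain ⟨t, ht, h5⟩ := h.ar.idem_zero B h1 h2 h.gen S.co.gen h3 fun t s => by
    obtain ⟨u, hu, rfl⟩ := h.surj t
    obtain ⟨a, ha, rfl⟩ := (S.coord_top hA).surj s
    obtain ⟨b, hb, e1⟩ := S.root hA (i := 1) (by omega) (hle u hu a ha)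
    rw [pow_one, pow_two] at e1
    rw [← h4 u hu a ha, ← e1, lev_sq, ← h4 u hu b hb, ← lev_sq (a := b), ← CharTwo.add_eq_zero,
      ← S.lev_add hA.abel _ (hle u hu b hb) _ (e1 ▸ hle u hu a ha), S.lev_eq_zero hA.abel
        (mul_mem (hle u hu b hb) (e1 ▸ hle u hu a ha))]
    refine Om_mono (i := 1) (by omega) ?_
    rw [S.Om_one hA, S.memZ]
    have c1 := comm_of_cent hA.abel (Om_le (hsq u hu)) ha
    have c2 := comm_of_cent hA.abel hb (comm_mem_of_N (nA hu) hb)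
    have e2 : u * a * u⁻¹ = b * b * a := by rw [e1, commutatorElement_def]; group
    have e3 : u * b * u⁻¹ = ⁅u, b⁆ * b := by rw [commutatorElement_def]; group
    have e4 : a = u * b * u⁻¹ * (u * b * u⁻¹) * (u * a * u⁻¹) :=
      calc a = u * (u * a * u⁻¹) * u⁻¹ := by
            rw [← mul_assoc, ← mul_assoc, c1]; group
        _ = _ := by rw [e2]; nth_rw 2 [← e2]; group
    rw [e2, e3, ← mul_assoc, eq_comm, mul_eq_right] at e4
    rw [← e4]
    simp only [mul_assoc]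
    congr 1
    rw [← mul_assoc b ⁅u, b⁆, c2, ← mul_assoc b ⁅u, b⁆, c2, mul_assoc, mul_assoc, ← mul_assoc b ⁅u, b⁆, c2,
      mul_assoc]
  obtain ⟨u, hu, rfl⟩ := h.surj t
  exact ht (h.zero (S.lemma2 hA (nA hu) (hsq u hu) fun a ha =>
    (S.lev_eq_zero hA.abel (hle u hu a ha)).1 ((h4 u hu a ha).trans (h5 _))))

theorem cover {C : Subgroup P} (hA : Homo ξ A e) (h : Coord ξ C A f μ) (hC : ¬Abel C) :
    (∀ x ∈ C, x * x ∈ Z) ∧ e ≤ 1 := by
  have nA := h.norm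
  have hab : ∀ x ∈ A, ∀ y ∈ A, ⁅x, y⁆ = 1 := fun x hx y hy =>
    commutatorElement_eq_one_iff_mul_comm.2 (comm_of_cent hA.abel hx hy)
  by_cases hsq : ∀ u ∈ C, u * u ∈ Om A e
  · rcases e with _ | _ | e
    · rw [Om_zero hA.abel] at hsq
      exact (hC (cent_iff.2 fun x hx y hy =>
        commutatorElement_eq_one_iff_mul_comm.1 (comm_mem_of_sq hsq hx hy))).elim
    · exact ⟨S.Om_one hA ▸ hsq, le_rfl⟩
    · exact (S.cover_lt hA h hsq).elim
  push Not at hsq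
  have hle : ∀ x ∈ C, ∀ a ∈ A, ⁅x, a⁆ ∈ Om A e := fun x hx a ha =>
    S.le_Om hA (h.inv.comm hA.inv) (S.comm_lt nA hA.ne_bot) (commutator_mem_commutator hx ha)
  have hsq' : ∀ u ∈ C, u * u ∈ Om A (e + 1) := by rw [hA.top]; exact h.sq
  obtain ⟨c, ρ₁, ρ₂, hc, hl, hQ⟩ := S.quad hA.abel h nA hsq'
    (fun y hy => sq_mem_Om hA.abel (hA.top.symm ▸ hy)) hle hsq
  obtain ⟨u, hu, hu1⟩ := h.surj 1
  have hcen : ∀ s t, s + t = e → ∀ x ∈ C, ∀ a ∈ A, ⁅x, a⁆ ∈ Om A t := fun s => by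
    induction s with
    | zero => exact fun t ht => by rw [show t = e by omega]; exact hle
    | succ s ih =>
      intro t ht
      have h1 := ih (t + 1) (by omega)
      rcases (S.bil_comm (j := t) (Y := A) (Y' := Om A e) hA.abel nA le_N h1 h.le Om_le
        (fun x hx y hy => by rw [hab x hx y hy]; exact one_mem _)
        (fun x hx y hy => S.comm_Om hA (nA hx) (h1 x hx) (i := 1) (by omega) (by omega) hy)).mono h
        (S.coord_top hA) (h.ar.a3 _ _ h.gen S.co.gen _ _ hl) with e1 | ⟨b, σ, τ, hb, -, e1⟩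
      · exact fun x hx a ha => (S.lev_eq_zero hA.abel (h1 x hx a ha)).1 (e1 x hx a ha)
      · have := e1 u hu _ (h.sq u hu)
        rw [hQ u hu, hu1, commutatorElement_eq_one_iff_mul_comm.2 (mul_assoc u u u).symm,
          (S.lev_add hA.abel).one] at this
        simp [hb, hc] at this
  have hcen' : ∀ x ∈ C, ∀ a ∈ A, ⁅x, a⁆ = 1 := by simpa only [Om_zero hA.abel, mem_bot] using hcen e 0 rfl
  rcases e with _ | e
  · exact ⟨S.Om_one hA ▸ hsq', Nat.zero_le _⟩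
  have h1 : ∀ x ∈ C, ∀ y ∈ C, ⁅x, y⁆ ∈ Om A 1 := fun x hx y hy => by
    have e1 : ⁅x, y * y⁆ = ⁅x, y⁆ * (⁅y, ⁅x, y⁆⁆ * ⁅x, y⁆) := by simp only [commutatorElement_def]; group
    rw [hcen' x hx _ (h.sq y hy), hcen' y hy _ (h.comm hx hy), one_mul] at e1
    rw [S.Om_one hA, S.memZ, e1]
  have hρ : ρ₁ = ρ₂ := RingEquiv.ext fun t => by
    obtain ⟨x, hx, rfl⟩ := h.surj t
    have := S.lev_sq_mul hA.abel nA hsq' x hx u hu
    rw [(S.lev_eq_zero hA.abel (Om_mono (by omega) (h1 x hx u hu))).2 (Om_mono (by omega) (h1 x hx u hu)),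
      hQ _ (C.mul_mem hx hu), hQ x hx, hQ u hu, h.add x hx u hu, hu1] at this
    simp only [map_add, map_one] at this
    exact CharTwo.add_eq_zero.1 (mul_left_cancel₀ hc (by linear_combination this))
  subst hρ
  have key : ∀ σ τ : F ≃+* F, σ μ * τ μ = l → σ = ρ₁ ∧ τ = ρ₁ := fun σ τ e1 => by
    rcases h.ar.a2 _ _ h.gen S.co.gen σ τ ρ₁ ρ₁ e1.symm hl with e2 | e2 <;> exact e2
  rcases (S.bil_comm (j := 0) (Y := A) (Y' := A) hA.abel nA nA h1 h.le h.le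
    (fun x hx y hy => by rw [← commutatorElement_inv, hcen' y hy x hx]; exact inv_mem (one_mem _))
    (fun x hx y hy => by rw [hcen' x hx y hy]; exact one_mem _)).mono h h
    (fun σ τ σ' τ' e1 e2 => ⟨(key _ _ e1).1.trans (key _ _ e2).1.symm, (key _ _ e1).2.trans (key _ _ e2).2.symm⟩)
    with e1 | ⟨b, σ, τ, hb, -, e1⟩
  · refine (hC (cent_iff.2 fun x hx y hy => commutatorElement_eq_one_iff_mul_comm.1 ?_)).elim
    simpa only [Om_zero hA.abel, mem_bot] using (S.lev_eq_zero hA.abel (h1 x hx y hy)).1 (e1 x hx y hy)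
  · have := e1 u hu u hu
    rw [hu1, commutatorElement_self, (S.lev_add hA.abel).one] at this
    exact (hb (by simpa using this.symm)).elim

theorem cardZ : Nat.card Z = Fintype.card F := by
  rw [S.co.card, card_bot, one_mul, Nat.card_eq_fintype_card (α := F)]

theorem Z_le_of_ne (h : XInv ξ X) (h1 : X ≠ ⊥) : Z ≤ X := by
  obtain ⟨e, h2, a, ha, h3⟩ := exists_exp S.pg h1
  rcases S.co.chief (h.inf S.co.inv) bot_le inf_le_right with e1 | e1
  · exact (h3 (mem_bot.1 (e1 ▸ ⟨X.pow_mem ha _, S.pow_mem (h2 a ha)⟩))).elim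
  · exact e1 ▸ inf_le_left

theorem le_Z_of_card (h : XInv ξ X) (hc : Nat.card X ≤ Fintype.card F) : X ≤ Z := by
  by_cases h1 : X = ⊥
  · rw [h1]; exact bot_le
  · exact (eq_of_le_of_card_ge (S.Z_le_of_ne h h1) (S.cardZ ▸ hc)).ge

theorem card_homo (hA : Homo ξ A e) : Nat.card A = Fintype.card F ^ (e + 1) := by
  have : ∀ j ≤ e + 1, Nat.card (Om A j) = Fintype.card F ^ j := fun j hj => by
    induction j with
    | zero => rw [Om_zero hA.abel, card_bot, pow_zero]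
    | succ j ih => rw [(S.coord_lev hA (by omega)).card, ih (by omega), pow_succ, Nat.card_eq_fintype_card (α := F)]
  rw [← this _ le_rfl, hA.top]

theorem cent_le_Z {G : Subgroup P} (hG : XInv ξ G) (hn : ¬Abel G) (hsq : ∀ x ∈ G, x * x ∈ Z) : Z(G) ≤ Z := by
  by_cases h1 : Z(G) = ⊥
  · rw [h1]; exact bot_le
  obtain ⟨e, hA⟩ := exists_homo S.pg (hG.inf hG.cent) abel_Z h1
  rcases e with _ | e
  · rw [← S.Om_one hA, hA.top]
  refine (hn fun u hu => ?_).elim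
  obtain ⟨d, hd, e1⟩ := S.root hA (i := 1) (j := e + 1) (by omega)
    (Om_mono (by omega) (S.Om_one hA ▸ hsq u hu : u * u ∈ Om _ 1))
  have hc : Commute u d⁻¹ := Commute.inv_right (mem_C.1 hd.2 u hu)
  have : u * d⁻¹ ∈ Z := (S.memZ _).2 (by rw [← pow_two, hc.mul_pow, inv_pow, ← pow_one 2, e1, pow_one, pow_two,
    mul_inv_cancel])
  simpa using (mul_mem (S.Z_le hA this) hd).2

theorem card_le_of_lt (hX : XInv ξ X) (h : X < Y) {k : ℕ} (hc : Nat.card Y ≤ Fintype.card F ^ (k + 1)) :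
    Nat.card X ≤ Fintype.card F ^ k := by
  obtain ⟨m, hm⟩ := S.fpf.card_pow S.pg hX
  have := (lt_of_le_of_ne (card_le_of_le h.le) fun e => h.ne (eq_of_le_of_card_ge h.le e.ge)).trans_le hc
  rw [hm, Nat.pow_lt_pow_iff_right Fintype.one_lt_card] at this
  rw [hm]
  exact Nat.pow_le_pow_right Fintype.card_pos (by omega)

theorem le_cent_Sq {G : Subgroup P} (hG : XInv ξ G) (hX : XInv ξ X) (hn : G ≤ N(X))
    (hc : Nat.card X ≤ Fintype.card F ^ 2) : ⁅G, X⁆ ≤ Z ∧ X ≤ C(Sq G) := by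
  have h1 : ⁅G, X⁆ ≤ Z := by
    by_cases h1 : X = ⊥
    · rw [h1, commutator_bot_right]; exact bot_le
    · exact S.le_Z_of_card (hG.comm hX) (by simpa using S.card_le_of_lt (hG.comm hX) (S.comm_lt hn h1) hc)
  refine ⟨h1, cent_symm (Sq_le_iff.2 fun g hg => mem_C.2 fun x hx => ?_)⟩
  have h2 := h1 (commutator_mem_commutator hg hx)
  have : ⁅g * g, x⁆ = g * ⁅g, x⁆ * g⁻¹ * ⁅g, x⁆ := by simp only [commutatorElement_def]; group
  rw [S.conj_eq h2, (S.memZ _).1 h2] at this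
  exact (commutatorElement_eq_one_iff_mul_comm.1 this).symm

theorem card_le_cube {G : Subgroup P} (hZ : Z ≤ G) (hsq : ∀ x ∈ G, x * x ∈ Z) :
    Nat.card G ≤ Fintype.card F ^ 3 := by
  haveI : (Z.subgroupOf G).Normal := ⟨fun a ha g => by
    rw [mem_subgroupOf] at ha ⊢; simpa [S.conj_eq ha] using ha⟩
  have hO := S.Om_one S.homoZ
  have hN : G ≤ N(Z) := norm_of_sq hsq hZ le_rfl
  have hsq' : ∀ x ∈ G, x * x ∈ Om Z (0 + 1) := by rw [zero_add, hO]; exact hsq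
  have hc : ∀ x, ∀ y ∈ Z, ⁅x, y⁆ ∈ Om Z 0 := fun x y hy => by
    rw [commutatorElement_eq_one_iff_mul_comm.2 (S.cent y hy x)]; exact one_mem _
  have hb := S.bil_comm (j := 0) S.abelZ hN hN (fun _ hx _ hy => comm_mem_of_sq hsq' hx hy) hZ hZ
    (fun x hx y _ => by rw [← commutatorElement_inv]; exact inv_mem (hc y x hx)) (fun x _ => hc x)
  have hq := S.lev_sq_mul S.abelZ hN hsq'
  let s : G ⧸ Z.subgroupOf G → P := fun v => (v.out : G)
  have hs : ∀ v, s v ∈ G := fun v => v.out.2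
  have hm : ∀ v w, ∃ a ∈ Z, s (v * w) = s v * s w * a := fun v w => by
    obtain ⟨a, ha⟩ := QuotientGroup.mk_out_eq_mul (Z.subgroupOf G) (v.out * w.out)
    rw [QuotientGroup.mk_mul, QuotientGroup.out_eq', QuotientGroup.out_eq'] at ha
    exact ⟨_, a.2, congrArg Subtype.val ha⟩
  have := card_le_of_aniso (S.pg.to_subgroup G |>.to_quotient (Z.subgroupOf G)) (fun v => lev z 0 (s v * s v))
    (fun v w => lev z 0 ⁅s v, s w⁆) (fun v w => by
      obtain ⟨a, ha, e1⟩ := hm v w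
      have h1 := G.mul_mem (hs v) (hs w)
      rw [e1, hq _ h1 _ (hZ ha), hb.van2 _ h1 _ ha, (S.memZ a).1 ha, (S.lev_add S.abelZ).one,
        hq _ (hs v) _ (hs w), add_zero, add_zero]) (fun v w u => by
      obtain ⟨a, ha, e1⟩ := hm v w
      have := hb.add1 _ (hs u) _ (G.mul_mem (hs v) (hs w)) _ (hZ ha)
      beta_reduce at this
      rw [e1, this, hb.van1 _ ha _ (hs u), add_zero]
      exact hb.add1 _ (hs u) _ (hs v) _ (hs w)) (fun v => by
      rw [lev_zero, S.z_eq_zero (hsq _ (hs v)), ← S.memZ, ← QuotientGroup.out_eq' v, QuotientGroup.eq_one_iff,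
        mem_subgroupOf, QuotientGroup.out_eq'])
  rw [← (Z.subgroupOf G).card_mul_index, Nat.card_congr (subgroupOfEquivOfLe hZ).toEquiv, S.cardZ, pow_succ']
  exact Nat.mul_le_mul_left _ this

omit [Finite P] in
/-- the squaring map of an invariant subgroup of order `q ^ 2` with squares in `Z` -/
theorem quadZ (h : Coord ξ X Z f μ) : ∃ (c : F) (ρ₁ ρ₂ : F ≃+* F), c ≠ 0 ∧ l = ρ₁ μ * ρ₂ μ ∧
    ∀ x ∈ X, z (x * x) = c * (ρ₁ (f x) * ρ₂ (f x)) := by
  have hO := S.Om_one S.homoZ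
  simpa only [lev_zero] using S.quad (j := 0) S.abelZ h h.norm (by rw [zero_add, hO]; exact h.sq)
    (fun y hy => by rw [(S.memZ y).1 hy]; exact one_mem _)
    (fun x _ y hy => by rw [commutatorElement_eq_one_iff_mul_comm.2 (S.cent y hy x)]; exact one_mem _)
    ((SetLike.not_le_iff_exists.1 h.not_le).imp fun x hx =>
      ⟨hx.1, by rw [Om_zero S.abelZ, mem_bot, ← S.memZ]; exact hx.2⟩)

theorem mono_cover {M : Subgroup P} (hA : Homo ξ A 1) (h : Coord ξ M A f μ) (hn : ¬Abel M)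
    (hsq : ∀ x ∈ M, x * x ∈ Z) : ∃ (b : F) (σ τ : F ≃+* F), b ≠ 0 ∧ σ μ * τ l = l ∧
      ∀ x ∈ M, ∀ a ∈ A, z ⁅x, a⁆ = b * (σ (f x) * τ (lev z 1 a)) := by
  have hO := S.Om_one hA
  have hA' : Coord ξ A Z (lev z 1) l := hO ▸ S.coord_top hA
  obtain ⟨B, -, -, hB, -⟩ := S.fpf.maschke h hA' S.l_ne hsq
  obtain ⟨-, ρ₁, ρ₂, -, hl, -⟩ := S.quadZ hB
  rcases (S.bil_comm (j := 0) (Y := A) (Y' := Z) hA.abel h.norm le_N
    (fun x hx y hy => by rw [zero_add, hO]; exact comm_mem_of_sq hsq hx (h.le hy)) h.le hA'.le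
    (fun x hx y hy => by
      rw [commutatorElement_eq_one_iff_mul_comm.2 (comm_of_cent hA.abel hx hy)]; exact one_mem _)
    (fun x _ y hy => by rw [commutatorElement_eq_one_iff_mul_comm.2 (S.cent y hy x)]; exact one_mem _)).mono
    h hA' (h.ar.a3 _ _ h.gen S.co.gen _ _ hl) with e1 | e1
  · refine (hA'.not_le (le_trans (le_inf h.le fun a ha => mem_C.2 fun x hx => ?_) (S.cent_le_Z h.inv hn hsq))).elim
    have := e1 x hx a ha
    rw [lev_zero, S.z_eq_zero (comm_mem_of_sq hsq hx (h.le ha))] at this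
    exact commutatorElement_eq_one_iff_mul_comm.1 this
  · simpa only [lev_zero] using e1

theorem not_two {G M₁ M₂ : Subgroup P} {g : P → F} {ν : F} (hA : Homo ξ A 1) (h1 : Coord ξ M₁ A f μ)
    (h2 : Coord ξ M₂ A g ν) (n1 : ¬Abel M₁) (n2 : ¬Abel M₂) (s1 : ∀ x ∈ M₁, x * x ∈ Z)
    (s2 : ∀ x ∈ M₂, x * x ∈ Z) (l1 : M₁ ≤ G) (l2 : M₂ ≤ G) (hsq : ∀ x ∈ G, x * x ∈ A) :
    ∀ u ∈ M₁, ∀ v ∈ M₂, ⁅u, v⁆ ∈ Z := by
  intro u hu v₀ hv₀
  by_contra h0
  have hO := S.Om_one hA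
  have hA' : Coord ξ A Z (lev z 1) l := hO ▸ S.coord_top hA
  obtain ⟨b₁, σ₁, τ₁, -, w1, e1⟩ := S.mono_cover hA h1 n1 s1
  obtain ⟨b₂, σ₂, τ₂, hb, -, e2⟩ := S.mono_cover hA h2 n2 s2
  have hc : ∀ v ∈ M₂, ⁅u, v⁆ ∈ A := fun v hv => comm_mem_of_sq hsq (l1 hu) (l2 hv)
  have hz : ∀ {w c : P}, c ∈ A → w ∈ Z → w * (c * c) = 1 → lev z 1 c = z w := fun {w c} hc hw e => by
    rw [← lev_sq, lev_zero, ← inv_eq_iff_mul_eq_one.2 e, S.co.inv_eq hw]
  have k1 : ∀ v ∈ M₂, lev z 1 ⁅u, v⁆ = b₁ * σ₁ (f u) * τ₁ (lev z 1 ⁅u, v⁆) := fun v hv => by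
    have : ⁅u * u, v⁆ = ⁅u, ⁅u, v⁆⁆ * (⁅u, v⁆ * ⁅u, v⁆) := by simp only [commutatorElement_def]; group
    rw [commutatorElement_eq_one_iff_mul_comm.2 (S.cent _ (s1 u hu) v).symm] at this
    rw [mul_assoc, ← e1 u hu _ (hc v hv)]
    exact hz (hc v hv) (comm_mem_of_sq s1 hu (h1.le (hc v hv))) this.symm
  have k2 : ∀ v ∈ M₂, lev z 1 ⁅u, v⁆ = b₂ * (σ₂ (g v) * τ₂ (lev z 1 ⁅u, v⁆)) := fun v hv => by
    have hw := comm_mem_of_sq s2 hv (h2.le (hc v hv))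
    have : ⁅u, v * v⁆ = ⁅u, v⁆ * ⁅v, ⁅u, v⁆⁆ * ⁅u, v⁆ := by simp only [commutatorElement_def]; group
    rw [commutatorElement_eq_one_iff_mul_comm.2 (S.cent _ (s2 v hv) u), S.cent _ hw, mul_assoc] at this
    rw [← e2 v hv _ (hc v hv)]
    exact hz (hc v hv) hw this.symm
  have y0 : lev z 1 ⁅u, v₀⁆ ≠ 0 := fun e => h0 ((hA'.ker _ (hc _ hv₀)).1 e)
  have k3 : ∀ v ∈ M₂, lev z 1 ⁅u, v⁆ ≠ 0 → g v = g v₀ := fun v hv hne => by
    have e3 := h1.ar.eig_unique h1.gen S.co.gen w1 hne y0 (k1 v hv) (k1 v₀ hv₀)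
    have e4 := k2 v hv
    rw [e3] at e4
    exact σ₂.injective (mul_right_cancel₀ ((map_ne_zero τ₂).2 y0)
      (mul_left_cancel₀ hb (e4.symm.trans (k2 v₀ hv₀))))
  have k4 : ∀ t, t = 0 ∨ t = g v₀ := fun t => by
    obtain ⟨v, hv, rfl⟩ := h2.surj t
    by_cases hne : lev z 1 ⁅u, v⁆ = 0
    · have : ⁅u, v * v₀⁆ = ⁅u, v⁆ * (v * ⁅u, v₀⁆ * v⁻¹) := by simp only [commutatorElement_def]; group
      have := k3 _ (M₂.mul_mem hv hv₀) (by
        rw [this, hA'.add _ (hc v hv) _ (conj_mem h2.norm hv (hc _ hv₀)), hne, zero_add,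
          S.lev_conj hA.abel (hA.top.symm ▸ hc _ hv₀)]
        exact y0)
      rw [h2.add v hv v₀ hv₀] at this
      exact Or.inl (add_eq_right.1 this)
    · exact Or.inr (k3 v hv hne)
  obtain ⟨t, t0, t1⟩ := S.four
  exact t1 (((k4 t).resolve_left t0).trans ((k4 1).resolve_left one_ne_zero).symm)

/-- Higman's theorem -/
theorem main {G : Subgroup P} (hG : XInv ξ G) (hn : ¬Abel G) : (∀ x ∈ G, x * x ∈ Z) ∧
    (Nat.card G = Fintype.card F ^ 2 ∨ Nat.card G = Fintype.card F ^ 3) := by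
  induction G using WellFoundedLT.induction with
  | ind G ih =>
  have hq : 1 < Fintype.card F := Fintype.one_lt_card
  have h1 : G ≠ ⊥ := fun h => hn (h ▸ abel_bot)
  obtain ⟨M, f, μ, hM, h⟩ := S.fpf.exists_coord hG hG.sq Sq_le (fun x => sq_mem_Sq) (not_le_Sq S.pg h1)
  by_cases hab : ∃ M f μ, Coord ξ G M f (μ : F) ∧ Abel M
  · obtain ⟨M, f, μ, h, hM⟩ := hab
    obtain ⟨e, hA⟩ := exists_homo S.pg h.inv' hM fun e => hn (cent_iff.2 fun x hx y hy =>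
      commutatorElement_eq_one_iff_mul_comm.1 (mem_bot.1 (e ▸ h.comm hx hy)))
    obtain ⟨h2, h3⟩ := S.cover hA h hn
    refine ⟨h2, ?_⟩
    rw [h.card, S.card_homo hA, Nat.card_eq_fintype_card (α := F), ← pow_succ]
    rcases Nat.le_one_iff_eq_zero_or_eq_one.1 h3 with rfl | rfl
    exacts [Or.inl rfl, Or.inr rfl]
  push Not at hab
  have ih' := fun M f μ (h : Coord ξ G M f (μ : F)) => ih M (lt_of_le_not_ge h.le h.not_le) h.inv' (hab M f μ h)
  have hnM := hab M f μ h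
  obtain ⟨h2, h3⟩ := ih' M f μ h
  have hc := h.card
  rw [Nat.card_eq_fintype_card (α := F)] at hc
  have hZ : Z ≤ Sq G := S.Z_le_of_ne hG.sq fun e => hn (cent_iff.2 fun x hx y hy =>
      commutatorElement_eq_one_iff_mul_comm.1 (mem_bot.1 (e ▸ comm_mem_of_sq (fun x => sq_mem_Sq) hx hy)))
  by_cases hs : Sq G ≤ Z
  · refine ⟨Sq_le_iff.1 hs, ?_⟩
    have := S.card_le_cube (hZ.trans Sq_le) (Sq_le_iff.1 hs)
    rcases h3 with h3 | h3 <;> rw [hc, h3, ← pow_succ] at this ⊢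
    · exact Or.inr rfl
    · rw [Nat.pow_le_pow_iff_right hq] at this; omega
  exfalso
  have hne : Sq G ≠ M := by
    rintro rfl
    rcases h3 with h3 | h3
    · exact hnM (S.le_cent_Sq hG h.inv' h.norm h3.le).2
    · have hi := hG.comm h.inv'
      have hlt := S.comm_lt h.norm fun e => hnM (e ▸ abel_bot)
      have h4 := (S.le_cent_Sq hG hi norm_comm_left (S.card_le_of_lt hi hlt h3.le)).2
      have h5 : ⁅G, Sq G⁆ ≤ Z := (le_inf hlt.le h4).trans (S.cent_le_Z h.inv' hnM h2)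
      refine hnM (cent_symm (Sq_le_iff.2 fun g hg => mem_C.2 fun x hx => ?_))
      have h2 := h5 (commutator_mem_commutator hg hx)
      have : ⁅g * g, x⁆ = g * ⁅g, x⁆ * g⁻¹ * ⁅g, x⁆ := by simp only [commutatorElement_def]; group
      rw [S.conj_eq h2, (S.memZ _).1 h2] at this
      exact (commutatorElement_eq_one_iff_mul_comm.1 this).symm
  have hlt := lt_of_le_of_ne hM hne
  rcases h3 with h3 | h3
  · exact hs (S.le_Z_of_card hG.sq (by simpa using S.card_le_of_lt hG.sq hlt h3.le))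
  have h4 := S.card_le_of_lt hG.sq hlt h3.le
  have hN : G ≤ N(Sq G) := norm_of_sq (fun x => sq_mem_Sq) Sq_le le_rfl
  obtain ⟨e, hA⟩ := exists_homo S.pg hG.sq (S.le_cent_Sq hG hG.sq hN h4).2 fun e => hs (e ▸ bot_le)
  have he := S.card_homo hA
  obtain rfl : e = 1 := by
    rw [he, Nat.pow_le_pow_iff_right hq] at h4
    rcases e with _ | e
    · exact (hs (S.le_Z_of_card hG.sq (by rw [he, zero_add, pow_one]))).elim
    · omega
  obtain ⟨M', f', μ', hM', h'⟩ := S.fpf.exists_coord h.inv' hG.sq hM (fun x hx => sq_mem_Sq (h.le hx)) hlt.not_ge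
  obtain rfl : Sq G = M' := eq_of_le_of_card_ge hM' (by
    have := h'.card
    rw [h3, Nat.card_eq_fintype_card (α := F), pow_succ] at this
    rw [he, ← Nat.eq_of_mul_eq_mul_right Fintype.card_pos this])
  obtain ⟨M₂, π, k1, k2, -, k3⟩ := S.fpf.maschke h h' (h'.ar.ne0 h'.gen) fun x => sq_mem_Sq
  have s2 := (ih' _ _ _ k1).1
  have := S.not_two hA h' k2 hnM (hab _ _ _ k1) h2 s2 h.le k1.le fun x => sq_mem_Sq
  refine hs (Sq_le_iff.2 fun x hx => ?_)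
  obtain ⟨u, hu, v, hv, rfl⟩ := k3 x hx
  have e1 : u * v * (u * v) = ⁅u, v⁆ * (v * (u * u) * v⁻¹ * (v * v)) := by
    simp only [commutatorElement_def]; group
  rw [e1, S.conj_eq (h2 u hu)]
  exact mul_mem (this u hu v hv) (mul_mem (h2 u hu) (s2 v hv))

end Suz
end L.Sh
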