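import Cfsg.Agent.L.KC
import Cfsg.Agent.L.K23

/-! Generated certificate (toolsL/cg.hpp). -/
set_option autoImplicit false
set_option maxRecDepth 200000
set_option Elab.async false
set_option linter.unusedVariables false
set_option linter.unusedSectionVars false

namespace L.V23x2
open H14 L.K23T L.K23
variable {G Ω : Type*} [Group G] [Finite G] [MulAction G Ω]

noncomputable def w0 : Word := [nat_lit 27, nat_lit 36, nat_lit 44, nat_lit 31, nat_lit 45, nat_lit 27, nat_lit 44, nat_lit 27, nat_lit 30, nat_lit 41, nat_lit 23, nat_lit 45, nat_lit 22, nat_lit 32, nat_lit 23, nat_lit 36]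
noncomputable def w1 : Word := [nat_lit 39, nat_lit 37, nat_lit 32, nat_lit 30, nat_lit 2, nat_lit 4, nat_lit 12, nat_lit 36, nat_lit 38, nat_lit 26, nat_lit 20, nat_lit 44, nat_lit 33, nat_lit 21, nat_lit 21, nat_lit 28]
noncomputable def w2 : Word := [nat_lit 21, nat_lit 33, nat_lit 2, nat_lit 16, nat_lit 31, nat_lit 32, nat_lit 29, nat_lit 12, nat_lit 29, nat_lit 26, nat_lit 37, nat_lit 20, nat_lit 44, nat_lit 0, nat_lit 23, nat_lit 30]
noncomputable def w3 : Word := [nat_lit 38, nat_lit 32, nat_lit 43, nat_lit 25, nat_lit 36, nat_lit 30, nat_lit 27, nat_lit 2, nat_lit 20, nat_lit 40, nat_lit 39, nat_lit 23, nat_lit 41, nat_lit 6, nat_lit 34]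
noncomputable def w4 : Word := [nat_lit 10, nat_lit 41, nat_lit 18, nat_lit 34, nat_lit 45, nat_lit 12, nat_lit 32, nat_lit 12, nat_lit 39, nat_lit 36, nat_lit 12]
noncomputable def w5 : Word := [nat_lit 27, nat_lit 2, nat_lit 42, nat_lit 0, nat_lit 12, nat_lit 43, nat_lit 2, nat_lit 26, nat_lit 2]
noncomputable def w6 : Word := [nat_lit 12, nat_lit 41, nat_lit 42, nat_lit 4, nat_lit 30, nat_lit 43, nat_lit 25, nat_lit 12, nat_lit 28, nat_lit 10, nat_lit 23, nat_lit 44, nat_lit 20, nat_lit 23, nat_lit 0]
noncomputable def w7 : Word := [nat_lit 0, nat_lit 24, nat_lit 2, nat_lit 25, nat_lit 0]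
noncomputable def w8 : Word := [nat_lit 41, nat_lit 18, nat_lit 36, nat_lit 38, nat_lit 25, nat_lit 4, nat_lit 38, nat_lit 12, nat_lit 30, nat_lit 39, nat_lit 20, nat_lit 41, nat_lit 27, nat_lit 31, nat_lit 16, nat_lit 23]
noncomputable def w9 : Word := [nat_lit 31, nat_lit 25, nat_lit 6, nat_lit 42, nat_lit 12, nat_lit 43, nat_lit 12, nat_lit 24, nat_lit 30]
noncomputable def w10 : Word := [nat_lit 42, nat_lit 32, nat_lit 38, nat_lit 28, nat_lit 2, nat_lit 38, nat_lit 0, nat_lit 24]
noncomputable def w11 : Word := [nat_lit 4, nat_lit 24, nat_lit 44, nat_lit 36, nat_lit 33, nat_lit 27, nat_lit 32, nat_lit 24, nat_lit 20, nat_lit 37, nat_lit 45, nat_lit 20, nat_lit 20, nat_lit 4, nat_lit 21]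
noncomputable def w12 : Word := [nat_lit 31, nat_lit 27, nat_lit 12, nat_lit 30]
noncomputable def w13 : Word := [nat_lit 44, nat_lit 4, nat_lit 8, nat_lit 18, nat_lit 12, nat_lit 42, nat_lit 12, nat_lit 45]
noncomputable def w14 : Word := [nat_lit 8, nat_lit 38, nat_lit 37, nat_lit 34, nat_lit 38, nat_lit 12, nat_lit 38, nat_lit 12, nat_lit 25, nat_lit 23, nat_lit 44, nat_lit 20, nat_lit 23, nat_lit 16, nat_lit 41]
noncomputable def w15 : Word := [nat_lit 2]
noncomputable def w16 : Word := [nat_lit 0, nat_lit 31, nat_lit 41, nat_lit 27, nat_lit 39, nat_lit 25, nat_lit 12, nat_lit 23, nat_lit 38, nat_lit 26, nat_lit 40, nat_lit 30, nat_lit 0]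
noncomputable def w17 : Word := [nat_lit 40, nat_lit 33, nat_lit 45, nat_lit 0, nat_lit 40, nat_lit 12, nat_lit 30, nat_lit 43, nat_lit 30, nat_lit 20, nat_lit 36, nat_lit 22, nat_lit 35, nat_lit 12, nat_lit 44]
noncomputable def zs : List Word := [w0, w1, w2, w3, w4, w5, w6, w7, w8, w9, w10, w11, w12, w13, w14, w15, w16, w17]
noncomputable def w18 : Word := [nat_lit 12, nat_lit 16, nat_lit 36, nat_lit 10, nat_lit 18, nat_lit 30, nat_lit 44, nat_lit 12, nat_lit 23, nat_lit 31, nat_lit 28, nat_lit 21, nat_lit 16, nat_lit 22]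
noncomputable def w19 : Word := [nat_lit 43, nat_lit 33, nat_lit 40, nat_lit 4, nat_lit 0, nat_lit 33, nat_lit 35, nat_lit 12, nat_lit 29, nat_lit 32, nat_lit 20, nat_lit 39, nat_lit 23, nat_lit 38, nat_lit 16, nat_lit 27]
noncomputable def w20 : Word := [nat_lit 31, nat_lit 39, nat_lit 37, nat_lit 25, nat_lit 39, nat_lit 24, nat_lit 41, nat_lit 12, nat_lit 39, nat_lit 26, nat_lit 24, nat_lit 23, nat_lit 40, nat_lit 0, nat_lit 45]
noncomputable def w21 : Word := [nat_lit 2, nat_lit 6, nat_lit 32, nat_lit 6, nat_lit 34, nat_lit 27, nat_lit 33, nat_lit 27, nat_lit 41, nat_lit 20, nat_lit 30, nat_lit 30, nat_lit 36, nat_lit 0]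
noncomputable def w22 : Word := [nat_lit 30, nat_lit 16, nat_lit 38, nat_lit 45, nat_lit 28, nat_lit 2, nat_lit 16, nat_lit 20, nat_lit 28, nat_lit 37, nat_lit 21, nat_lit 38, nat_lit 27, nat_lit 32]
noncomputable def w23 : Word := [nat_lit 4, nat_lit 37, nat_lit 38, nat_lit 25, nat_lit 4, nat_lit 30, nat_lit 12, nat_lit 31, nat_lit 34, nat_lit 4, nat_lit 20, nat_lit 20, nat_lit 22, nat_lit 32, nat_lit 44, nat_lit 24]
noncomputable def w24 : Word := [nat_lit 37, nat_lit 42, nat_lit 10, nat_lit 44, nat_lit 29, nat_lit 39, nat_lit 33, nat_lit 20, nat_lit 10, nat_lit 43, nat_lit 21, nat_lit 21, nat_lit 41]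
noncomputable def hs : List Word := [w18, w19, w20, w21, w22, w23, w24]
noncomputable def ws : List Word := List.append zs hs
theorem k25 : nrmRow F bs0 ws (nat_lit 18) (nat_lit 0) (nat_lit 1) [[nat_lit 22, nat_lit 4, nat_lit 2],
 [nat_lit 4],
 [nat_lit 34, nat_lit 32, nat_lit 30, nat_lit 28, nat_lit 26, nat_lit 20, nat_lit 16, nat_lit 12, nat_lit 10, nat_lit 8, nat_lit 6],
 [nat_lit 28, nat_lit 24, nat_lit 22, nat_lit 18, nat_lit 12, nat_lit 8],
 [nat_lit 30, nat_lit 20, nat_lit 12, nat_lit 10],
 [nat_lit 22, nat_lit 12],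
 [nat_lit 22, nat_lit 14],
 [nat_lit 34, nat_lit 26, nat_lit 22, nat_lit 20, nat_lit 18, nat_lit 16],
 [nat_lit 32, nat_lit 28, nat_lit 22, nat_lit 18],
 [nat_lit 34, nat_lit 32, nat_lit 22, nat_lit 20],
 [nat_lit 22],
 [nat_lit 32, nat_lit 28, nat_lit 24],
 [nat_lit 34, nat_lit 28, nat_lit 26],
 [nat_lit 28],
 [nat_lit 34, nat_lit 32, nat_lit 30],
 [nat_lit 32],
 [nat_lit 34]] (nat_lit 524287) = true := by decide +kernel
theorem k26 : nrmRow F bs0 ws (nat_lit 18) (nat_lit 1) (nat_lit 2) [[nat_lit 4],
 [nat_lit 34, nat_lit 32, nat_lit 28, nat_lit 26, nat_lit 22, nat_lit 20, nat_lit 12, nat_lit 10, nat_lit 6],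
 [nat_lit 30, nat_lit 20, nat_lit 10, nat_lit 8],
 [nat_lit 34, nat_lit 10],
 [nat_lit 12],
 [nat_lit 22, nat_lit 14],
 [nat_lit 34, nat_lit 30, nat_lit 28, nat_lit 26, nat_lit 22, nat_lit 20, nat_lit 16],
 [nat_lit 34, nat_lit 28, nat_lit 20, nat_lit 18],
 [nat_lit 34, nat_lit 20],
 [nat_lit 22],
 [nat_lit 30, nat_lit 26, nat_lit 24],
 [nat_lit 26],
 [nat_lit 34, nat_lit 28],
 [nat_lit 30],
 [nat_lit 32],
 [nat_lit 34]] (nat_lit 524287) = true := by decide +kernel
theorem k27 : nrmRow F bs0 ws (nat_lit 18) (nat_lit 2) (nat_lit 3) [[nat_lit 34, nat_lit 32, nat_lit 28, nat_lit 26, nat_lit 22, nat_lit 10, nat_lit 6],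
 [nat_lit 12, nat_lit 8],
 [nat_lit 10],
 [nat_lit 12],
 [nat_lit 14],
 [nat_lit 34, nat_lit 32, nat_lit 20, nat_lit 16],
 [nat_lit 32, nat_lit 22, nat_lit 18],
 [nat_lit 20],
 [nat_lit 22],
 [nat_lit 32, nat_lit 28, nat_lit 24],
 [nat_lit 34, nat_lit 26],
 [nat_lit 28],
 [nat_lit 30],
 [nat_lit 32],
 [nat_lit 34]] (nat_lit 524287) = true := by decide +kernel
theorem k28 : nrmRow F bs0 ws (nat_lit 18) (nat_lit 3) (nat_lit 4) [[nat_lit 34, nat_lit 26, nat_lit 24, nat_lit 8],
 [nat_lit 34, nat_lit 26, nat_lit 10],
 [nat_lit 32, nat_lit 26, nat_lit 12],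
 [nat_lit 32, nat_lit 30, nat_lit 28, nat_lit 26, nat_lit 24, nat_lit 16, nat_lit 14],
 [nat_lit 16],
 [nat_lit 34, nat_lit 28, nat_lit 24, nat_lit 18],
 [nat_lit 30, nat_lit 28, nat_lit 20],
 [nat_lit 34, nat_lit 32, nat_lit 28, nat_lit 26, nat_lit 22],
 [nat_lit 24],
 [nat_lit 26],
 [nat_lit 28],
 [nat_lit 30],
 [nat_lit 32],
 [nat_lit 34]] (nat_lit 524287) = true := by decide +kernel
theorem k29 : nrmRow F bs0 ws (nat_lit 18) (nat_lit 4) (nat_lit 5) [[nat_lit 26, nat_lit 10],
 [nat_lit 12],
 [nat_lit 24, nat_lit 18, nat_lit 14],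
 [nat_lit 34, nat_lit 28, nat_lit 24, nat_lit 16],
 [nat_lit 18],
 [nat_lit 26, nat_lit 20],
 [nat_lit 28, nat_lit 22],
 [nat_lit 24],
 [nat_lit 26],
 [nat_lit 28],
 [nat_lit 30],
 [nat_lit 32],
 [nat_lit 34]] (nat_lit 524287) = true := by decide +kernel
theorem k30 : nrmRow F bs0 ws (nat_lit 18) (nat_lit 5) (nat_lit 6) [[nat_lit 34, nat_lit 12],
 [nat_lit 30, nat_lit 20, nat_lit 14],
 [nat_lit 30, nat_lit 28, nat_lit 16],
 [nat_lit 26, nat_lit 18],
 [nat_lit 20],
 [nat_lit 34, nat_lit 22],
 [nat_lit 24],
 [nat_lit 26],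
 [nat_lit 28],
 [nat_lit 30],
 [nat_lit 32],
 [nat_lit 34]] (nat_lit 524287) = true := by decide +kernel
theorem k31 : nrmRow F bs0 ws (nat_lit 18) (nat_lit 6) (nat_lit 7) [[nat_lit 22, nat_lit 14],
 [nat_lit 34, nat_lit 32, nat_lit 28, nat_lit 26, nat_lit 16],
 [nat_lit 28, nat_lit 18],
 [nat_lit 34, nat_lit 20],
 [nat_lit 22],
 [nat_lit 24],
 [nat_lit 26],
 [nat_lit 28],
 [nat_lit 30],
 [nat_lit 32],
 [nat_lit 34]] (nat_lit 524287) = true := by decide +kernel
theorem k32 : nrmRow F bs0 ws (nat_lit 18) (nat_lit 7) (nat_lit 8) [[nat_lit 16],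
 [nat_lit 18],
 [nat_lit 20],
 [nat_lit 22],
 [nat_lit 24],
 [nat_lit 26],
 [nat_lit 28],
 [nat_lit 30],
 [nat_lit 32],
 [nat_lit 34]] (nat_lit 524287) = true := by decide +kernel
theorem k33 : nrmRow F bs0 ws (nat_lit 18) (nat_lit 8) (nat_lit 9) [[nat_lit 18],
 [nat_lit 20],
 [nat_lit 22],
 [nat_lit 24],
 [nat_lit 26],
 [nat_lit 28],
 [nat_lit 30],
 [nat_lit 32],
 [nat_lit 34]] (nat_lit 524287) = true := by decide +kernel
theorem k34 : nrmRow F bs0 ws (nat_lit 18) (nat_lit 9) (nat_lit 10) [[nat_lit 20],
 [nat_lit 22],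
 [nat_lit 24],
 [nat_lit 26],
 [nat_lit 28],
 [nat_lit 30],
 [nat_lit 32],
 [nat_lit 34]] (nat_lit 524287) = true := by decide +kernel
theorem k35 : nrmRow F bs0 ws (nat_lit 18) (nat_lit 10) (nat_lit 11) [[nat_lit 22],
 [nat_lit 24],
 [nat_lit 26],
 [nat_lit 28],
 [nat_lit 30],
 [nat_lit 32],
 [nat_lit 34]] (nat_lit 524287) = true := by decide +kernel
theorem k36 : nrmRow F bs0 ws (nat_lit 18) (nat_lit 11) (nat_lit 12) [[nat_lit 24],
 [nat_lit 26],
 [nat_lit 28],
 [nat_lit 30],
 [nat_lit 32],
 [nat_lit 34]] (nat_lit 524287) = true := by decide +kernel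
theorem k37 : nrmRow F bs0 ws (nat_lit 18) (nat_lit 12) (nat_lit 13) [[nat_lit 26],
 [nat_lit 28],
 [nat_lit 30],
 [nat_lit 32],
 [nat_lit 34]] (nat_lit 524287) = true := by decide +kernel
theorem k38 : nrmRow F bs0 ws (nat_lit 18) (nat_lit 13) (nat_lit 14) [[nat_lit 28],
 [nat_lit 30],
 [nat_lit 32],
 [nat_lit 34]] (nat_lit 524287) = true := by decide +kernel
theorem k39 : nrmRow F bs0 ws (nat_lit 18) (nat_lit 14) (nat_lit 15) [[nat_lit 30],
 [nat_lit 32],
 [nat_lit 34]] (nat_lit 524287) = true := by decide +kernel
theorem k40 : nrmRow F bs0 ws (nat_lit 18) (nat_lit 15) (nat_lit 16) [[nat_lit 32],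
 [nat_lit 34]] (nat_lit 524287) = true := by decide +kernel
theorem k41 : nrmRow F bs0 ws (nat_lit 18) (nat_lit 16) (nat_lit 17) [[nat_lit 34]] (nat_lit 524287) = true := by decide +kernel
theorem k42 : nrmRow F bs0 ws (nat_lit 18) (nat_lit 17) (nat_lit 18) [] (nat_lit 524287) = true := by decide +kernel
theorem k43 : nrmRow F bs0 ws (nat_lit 18) (nat_lit 18) (nat_lit 5) [[nat_lit 30, nat_lit 28, nat_lit 26, nat_lit 22, nat_lit 12],
 [nat_lit 34, nat_lit 32, nat_lit 30, nat_lit 20, nat_lit 10],
 [nat_lit 30, nat_lit 28, nat_lit 24, nat_lit 22, nat_lit 20, nat_lit 16, nat_lit 14],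
 [nat_lit 34, nat_lit 30, nat_lit 28, nat_lit 26, nat_lit 24, nat_lit 20, nat_lit 18],
 [nat_lit 28, nat_lit 22, nat_lit 16],
 [nat_lit 32, nat_lit 30, nat_lit 28, nat_lit 26, nat_lit 22],
 [nat_lit 34, nat_lit 28, nat_lit 20],
 [nat_lit 24],
 [nat_lit 34, nat_lit 32, nat_lit 28, nat_lit 26],
 [nat_lit 34, nat_lit 30, nat_lit 28],
 [nat_lit 30],
 [nat_lit 34, nat_lit 32, nat_lit 30],
 [nat_lit 34]] (nat_lit 456096) = true := by decide +kernel
theorem k44 : nrmRow F bs0 ws (nat_lit 18) (nat_lit 19) (nat_lit 3) [[nat_lit 34, nat_lit 32, nat_lit 30, nat_lit 28, nat_lit 20, nat_lit 16, nat_lit 12, nat_lit 10, nat_lit 8],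
 [nat_lit 34, nat_lit 32, nat_lit 28, nat_lit 26, nat_lit 24, nat_lit 20, nat_lit 18, nat_lit 12, nat_lit 6],
 [nat_lit 34, nat_lit 32, nat_lit 28, nat_lit 20, nat_lit 10],
 [nat_lit 34, nat_lit 30, nat_lit 22, nat_lit 12, nat_lit 10],
 [nat_lit 32, nat_lit 30, nat_lit 26, nat_lit 24, nat_lit 20, nat_lit 16, nat_lit 14],
 [nat_lit 30, nat_lit 28, nat_lit 24, nat_lit 22, nat_lit 20, nat_lit 18],
 [nat_lit 34, nat_lit 32, nat_lit 26, nat_lit 22, nat_lit 16],
 [nat_lit 34, nat_lit 32, nat_lit 30, nat_lit 28, nat_lit 20],
 [nat_lit 34, nat_lit 32, nat_lit 26, nat_lit 22, nat_lit 20],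
 [nat_lit 24],
 [nat_lit 34, nat_lit 30, nat_lit 28],
 [nat_lit 32, nat_lit 30, nat_lit 26],
 [nat_lit 34, nat_lit 32, nat_lit 30],
 [nat_lit 32],
 [nat_lit 34]] (nat_lit 505256) = true := by decide +kernel
theorem k45 : nrmRow F bs0 ws (nat_lit 18) (nat_lit 20) (nat_lit 12) [[nat_lit 34, nat_lit 32, nat_lit 30, nat_lit 28, nat_lit 26, nat_lit 24],
 [nat_lit 34, nat_lit 26],
 [nat_lit 34, nat_lit 28],
 [nat_lit 30],
 [nat_lit 32],
 [nat_lit 34]] (nat_lit 520192) = true := by decide +kernel
theorem k46 : nrmRow F bs0 ws (nat_lit 18) (nat_lit 21) (nat_lit 17) [[nat_lit 34]] (nat_lit 393216) = true := by decide +kernel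
theorem k47 : nrmRow F bs0 ws (nat_lit 18) (nat_lit 22) (nat_lit 3) [[nat_lit 34, nat_lit 32, nat_lit 30, nat_lit 28, nat_lit 26, nat_lit 24, nat_lit 22, nat_lit 18, nat_lit 6],
 [nat_lit 32, nat_lit 28, nat_lit 24, nat_lit 20, nat_lit 12, nat_lit 10, nat_lit 8],
 [nat_lit 34, nat_lit 28, nat_lit 26, nat_lit 18, nat_lit 8],
 [nat_lit 32, nat_lit 28, nat_lit 26, nat_lit 12],
 [nat_lit 24, nat_lit 18, nat_lit 14],
 [nat_lit 34, nat_lit 32, nat_lit 28, nat_lit 26, nat_lit 16],
 [nat_lit 32, nat_lit 28, nat_lit 26, nat_lit 22, nat_lit 20, nat_lit 18],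
 [nat_lit 18],
 [nat_lit 28, nat_lit 22],
 [nat_lit 34, nat_lit 32, nat_lit 30, nat_lit 28, nat_lit 26, nat_lit 24],
 [nat_lit 28, nat_lit 26],
 [nat_lit 34, nat_lit 28],
 [nat_lit 24],
 [nat_lit 32],
 [nat_lit 28]] (nat_lit 269272) = true := by decide +kernel
theorem k48 : nrmRow F bs0 ws (nat_lit 18) (nat_lit 23) (nat_lit 10) [[nat_lit 32, nat_lit 30, nat_lit 28, nat_lit 20],
 [nat_lit 34, nat_lit 32, nat_lit 28, nat_lit 26, nat_lit 22],
 [nat_lit 24],
 [nat_lit 34, nat_lit 30, nat_lit 28],
 [nat_lit 34, nat_lit 32, nat_lit 28, nat_lit 26],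
 [nat_lit 34, nat_lit 32, nat_lit 30],
 [nat_lit 30],
 [nat_lit 34]] (nat_lit 441344) = true := by decide +kernel
theorem k49 : nrmRow F bs0 ws (nat_lit 18) (nat_lit 24) (nat_lit 7) [[nat_lit 34, nat_lit 30, nat_lit 28, nat_lit 26, nat_lit 24, nat_lit 22, nat_lit 20, nat_lit 18, nat_lit 16, nat_lit 14],
 [nat_lit 32, nat_lit 30, nat_lit 26, nat_lit 20, nat_lit 18, nat_lit 16],
 [nat_lit 34, nat_lit 30, nat_lit 26, nat_lit 20, nat_lit 18, nat_lit 14],
 [nat_lit 32, nat_lit 30, nat_lit 26, nat_lit 22],
 [nat_lit 32, nat_lit 28, nat_lit 22, nat_lit 20],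
 [nat_lit 30, nat_lit 20, nat_lit 14],
 [nat_lit 20],
 [nat_lit 34, nat_lit 32, nat_lit 22],
 [nat_lit 30],
 [nat_lit 32],
 [nat_lit 34]] (nat_lit 491648) = true := by decide +kernel
noncomputable def nm : List Nat := [nat_lit 524287, nat_lit 524287, nat_lit 524287, nat_lit 524287, nat_lit 524287, nat_lit 524287, nat_lit 524287, nat_lit 524287, nat_lit 524287, nat_lit 524287, nat_lit 524287, nat_lit 524287, nat_lit 524287, nat_lit 524287, nat_lit 524287, nat_lit 524287, nat_lit 524287, nat_lit 524287, nat_lit 456096, nat_lit 505256, nat_lit 520192, nat_lit 393216, nat_lit 269272, nat_lit 441344, nat_lit 491648]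
theorem hn (M : PM G Ω 31671 H15.Fi23P.nets) (hN : Nat.card G = 4089470473293004800) : NrmL (loc M.gen ws) 18 0 nm :=
  (nrm_cons (base0 M hN) k25 (nrm_cons (base0 M hN) k26 (nrm_cons (base0 M hN) k27 (nrm_cons (base0 M hN) k28 (nrm_cons (base0 M hN) k29 (nrm_cons (base0 M hN) k30 (nrm_cons (base0 M hN) k31 (nrm_cons (base0 M hN) k32 (nrm_cons (base0 M hN) k33 (nrm_cons (base0 M hN) k34 (nrm_cons (base0 M hN) k35 (nrm_cons (base0 M hN) k36 (nrm_cons (base0 M hN) k37 (nrm_cons (base0 M hN) k38 (nrm_cons (base0 M hN) k39 (nrm_cons (base0 M hN) k40 (nrm_cons (base0 M hN) k41 (nrm_cons (base0 M hN) k42 (nrm_cons (base0 M hN) k43 (nrm_cons (base0 M hN) k44 (nrm_cons (base0 M hN) k45 (nrm_cons (base0 M hN) k46 (nrm_cons (base0 M hN) k47 (nrm_cons (base0 M hN) k48 (nrm_cons (base0 M hN) k49 trivial)))))))))))))))))))))))))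
noncomputable def s50 : Nat := (jn (nat_lit 16384) [nat_lit 0x000000008000000000000000000200000000000000000000000000000000000000000000000000020200000000000000000000000000000000000000000040000000000000000000000000000400000100000000000002080000000000000000000000000000000000000000000010000000000000000000000000000000000000000020000000000000000000000000020000000000000000000000000000000000000000600000000000000000000000000000000000000010000000020000000000000000000000010000000000000000000000000020000000000000000000000000000000000000000000000002000400004000000000000000000000100000000000000000000000000000000000000000000000000000000000000000000000000000000000000000000000000000000000001010000000000000000000000000000000000000000000000080000000000000000000000000000000000000000000000000000000000000000800000000000000000000000010000000000000000000000000000000000000000000000000000000000000000000000000000000000000000000000000000000000000000000000000000000000000000000000000000000400000000000000000000040000000000000000000000000000040000000000000000000000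000000000000000000000000000000004000000000080000008000000000000000000044000000000000000000000000400000000000000000000000000000000000000000000000000000000000000000000000000000000000000000000000000000000000000000000000000000000000000000000000000000000000000000000800000200000000000000000000000000000000000000000000000080000000000000000000000000000000000000000000000000000000000000000000000000000000000000000000000000000000000000000000000000000000000000000200000000000000000000000000002000000000000000000000000100000000000000000000000000000000000000000000040000000000000000000000000000000000000000100000000000000000000000000000000000000000000000000000000000000000000000000000000000000000000000000000000000000000000000000000000000000000000000000000000000000000000000000000200000000000000000000000000000000000000000000000000000000000000000000000000000000000000000000000000000000000000000000000000000000000000400001000000000000000000000000000000000000000000000000000000000000020000000000000000000000000000000000002000000000000000000000000000000000000000000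00000000000000000000000000000000000000000000000000000000000000000000000000000000000000000000000000000000000000000000000000000000000000000000000000000000000000000000000000000000000000000000000000000000000000020010000000000000000000000800000000000000000000000200000000008000000000000000000000000000000000000000000000000000000000000000000000000000000400000000000000000000000000000000000000100000000000000000000000020000000000000000000000000000000000000000000000000000000000000000000000000000000000000000000000000000000000000000000000000000000000000002010000000000000000000000000000000000000000000000000000000000010000000080000000000000c000000000000000000000000000000000000000000000000008000000000000000000000000010000000000000000080000000000000000000000000000004000000000000000000000000000100000000010000000000200000040000000000000000000000000000000000000000000000000080000000000000000000000000000000000000000020008000000000000000000000000000000000000000000000000000000000000000000000000000000000000000000080000000000000010000000000000000000000000000000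0000000000000000001000000040800000000020000000000000000000000000004000000000000000000000000000000000000000000000004010000000000000000000000000000000000000000000000000000000000000000001000000000000000000000000800000000000000000000000000000000000000000000000000000000020010000000000000000000000000002000000000000000000000000000000000000000000040000000000000000000000000000000000000000000000400000000000000000000000000000000000000000000000000000000000000000000000004000000002000000000000000000000000000000000000000000000000000000000000000000000000000000040000000000000000000000000000000000000000088000000000000008000000000000000000000000000000000000000000000000000000000000000020000000000000000000000000000020000080000004000000000000000000000000000000000000000000000000000000000000000000000000000000000004000000000000000000000000000000000000000000000000000000000000000000000000000000000000800000000000000000000000000000000000002000000000000000000010000000000000000400000000000000000000000000000000000000000000000,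
nat_lit 0x1000000000000000000000002000000000020000000000000000000000000000000000000000000000000000000000000000000000000000004000000000000000000000000000004000000000000000000000000000000000000000000000000000000000000000000000000000000000000000000000000000000000000000000000000200000000000000000000000000000000000000000000000000000000000000000000000000000000000000000004000000000000000000000000000000000400000000000000000000000000000000000000000000000000000040000000000000000000000000000000000000000000000000001000000000000000000080000000200000000400000000000000000000000000000000000000000000000000000000000000000000000000000000000000000000000000000000000000000000000000000000000000000000000000000200000000000000000000000000000000000000000000880000000000000000000000008000000000000000000000000000000200000000000000000000000000000000000000000000000000000008000000000000000010000000000000100000000000000000000000000080400000000000000000000000000000400000000000000000000000000000000000000000080000000080000000040000000000000002000000000000000200000000004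040000000000000000000000000000000000000400000000000000000000000000000000000000000000000000000000000000000000000000000100400000000000000000000000000000000000080000000000000000000000000000000000000000000000000000000000000000000000001000000004000040080000080000000000000000000000000000000000000000001000000000000000000000000000000000000000000000000200000000000000000000040000000000000000000000000000000000000000000000000000000000000020000000000000000000042000000000000000100000800000020000000000000000000000000000000000000000000000200000000000020008000000000000000000000000000000000000000000000000080000000200000000000080000000000000000000000000000000000000000080000000000000000400006000000000100000000000110000000000000000000200000000000000000000000000000000080000000100008000000000000000000000000000000800000010010000000000001000000000000040200000000000000000000000000000200000000000000000400000000100000000000400400000000000000000000000000000008000000000000000000000000010000100000000004400000004000000000000000000000000000000000000000000000000000040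000000000000000000000000000000000000000000000000200000000000000000010010000000000000000000000000000000000000000000000000000000000004000000000008000000000000000000000000080000000000000000000000000000000000000000000000100002000000800000000000000000800000000000008000000000000000000000000002100000000000400000000000000010080001000000000000000000000000000000000000000000000000000000000000000000000000004000000000000000000000000000000000000000000080000000000200000000000000000000000000000008000000000000000000000000000000000000000000000000000000000000000000000000000000100000000000000000001000000000000400002000000000000000000000000000000000000008000000000000000000000000000000000000000000000000000000000000002000000000800040100000000080008000000000000000000000000000002000000000000c00000000000000000000000000000000001000000000002000000000200008000000000000000000000000000000000000000000000000000000000000000000000000000000000000000000000000800000001200000000000000000000000000000000000000000000000000000000000000008000000200000000000000000000000100000000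0000000000000000000000000000000000000000000c010000000000000000000000000000000000000000000000000000000000000010000100000000000000000000000000000000000000000000000000000000000000000000000000100000000000000000000000000000000000000000000000000000000000000000000100000000010004000000000084000001000000000000000000000000000000000001400000000000000000000000000000000000000000000000000000000000000000000000000020000000000000008000000000018000000000000000000000000000000000100000000000000000000000000000000000000000000000000000000000020000000000000000000000000000000000000000000000000000000000000000000000000000000000000000080000000080000000000000000000000000])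
noncomputable def s51 : Nat := (jn (nat_lit 16384) [nat_lit 0x000000000000000000000000000000000000000000000000000000000000000000000000000000000000000000000000000000000000000000000000000000000000000200000000000000000000000000000000040000000000000000000000000000000000000000000000000000000000000000000000000000000000000000000000000000000000000000000000000000000000000000000000000000000000000000000000000000000000000000000000000000000040000000000000000000000000000000000000000000000000000000000000000000000000000000000000000000000000000000000000000000000002000000000000000000080000000000000000000000000000000000000000000000000000000040000000000000000000000000000000000000000000000000000040000000000000000000000000000000000000000000000000000000000000000000000000000000000000000000000000000000000000000000000000000000000000040000000000000000000000000000000000000000000000000000000000000000000000000000000000000000000000000000000000000000000000000000000000000000000000000000000000000000000000000000000000000000000000000000000000000000000000000000000000000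000000000000000000000000000000000000000000000000000000000000000000000000000000000000000000000000000000000000000000000000000000000000000000000000000000000000000000000000000000000000000000000100000000000000000000000000000000000000000000000000000000000000000000000400000000000000000000000000000000000000000000000000000000000000000000000000000000000000000000000000000000000000000000000000000000000000000000000000000000000000000000000000000000000000000000000000000000000000000000000000000000000000000000008000000000000000000000000000000000000000000000000000000000000000000000000000000000000000000000002010000000000000000000000000000000000000000000000000000000000000000000000000000000000000000000000000000000000000000000000000000000000080000000000000200000000001001000000000000000000000000000000000000000000000000000000000000000000000000000000000000000000000000000000000000000000000000000000000000000000000000000000000000004000000000000000000000000000000000000000000000000000000000000000000000000000000000000000000000000000000000000000000000000000000000000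000000000000000000000000000000004000000000000000000000000040000000000000000000000000000000000000000000000000000000000000000000000000000000000000000000000000000000000000000000000000000000000000000000000000000000000000000000000000000000000000000000000000000000000000000000000000000000000000020000000000000000000000000000000000000000000000000000000000000000000000000000000000000000000000000040000000000000000000000000000000000000000000000000000000000000000000000000000000000000000000000004400000100000000000000000000000000000000000000000000000000000000000000000000000000000000000000000000000000000000000000000000000000000000000000000000000000000000000000100000000000000000080000000000000000000000000000000000000000000000000000040000000000000000020000000000080000000000000000000000000000000000000000000000000000001000000000000000000000000000000000000000000000000000000000000000000000000000000000000000000000000000000010000000000000000000000000000000000000000000000000000000000000000000000000000000000000000000000000000000000000000000010800000000000000200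0000000000000000000000000000000000000000000000000000000000000000000000000000000000000000000000000000000000000000000000000000000000000000000000000000000000000000000000000000000000000000000000000000000000000000400001000000000000000000000000000000000000000000000800000000000000000000000000000000000000000000000000000000000000000000000000000000000000000001000000000000000000000000080000000000000000000000000000000000000000000000000000000000000000800000000000000000000000000000000000000000000000000000000000000000000000000000000000000010000000000000000020000000000000000000000000000000000000000000000000000000000000000080000000000000008000000000000000000000000004000000000000000000000000000000000000000000000000000000000000000000000000000000000000000000000000000000000000000000000000000000000000000000000000000000000000000000000000000000000000000000000000000000000000000000000000000000000002400000000000010000000000000000000000000008000000000000000000000000000000000000040000000000000000000000000000000000000000001,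
nat_lit 0x4000000000000000000000000000000000000000040000000000000000000000000000000000000000000000000000000000000000000000000000000000000000080000000000000000000000000000000000000000000000000000000000000000000000000000000000000000000000000000000000000000000000000000000000000000000000000000000000000000000000000000000000000000000000000000000000000000000000000000000000000000000000000000000000000000000000000000000000000000000000000000000000000000000000000000080000000000000000000000000000000000000000000000000000000000000000000000000000000000000000000000000000000000000000000000000000000000000000000000000000000000000000000000000000400000000000000000000000000000000000000000000000000000000000000000000000000000000000000000000000000000000000000000000000000000000000000000000000000000000000000000000000000000000000000000000000000000000000000000000000000000000000000000000000000000000000000000000000000000000000000000000000000000000000000000000000000000000000000000000000000000000000000000000000000000000000000000000000000000000000000000000000000000000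0000000000000000000000000000000000000000000000000000000000000000000000000000000000000000000000000000000000000000100000000000000000000000000000000000000000000000000000000000000000000000000000000000000000000000000000000200000000000000000000000000000000000000000000000000000000000000000000000000000000000000000000000000000000000000000000000000000000000000000000000000000000000000000000000000000000000000000000000000000000000000000000000000000000000000000000000000000000000000000000000000000000000000000000000000000000000000000000000000000000000000000000000000000000000000000000000000000000000000000000000000000000000000000000000000000000000000000000000000000000000000000000000000000000000000000000000000000000000001000000000000000000000000000000000000000000000000000020000000000000000000000000000000000000000000000000000000000000001000000002080000000000000000])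
noncomputable def s52 : Nat := (bits [nat_lit 5, nat_lit 1031, nat_lit 2872, nat_lit 4047, nat_lit 8669, nat_lit 9987, nat_lit 13634, nat_lit 16598])
noncomputable def c53 : Chn := [((nat_lit 190), s50), ((nat_lit 0), s51), ((nat_lit 5), s52), ((nat_lit 196), (bits [nat_lit 196, nat_lit 2908]))]
noncomputable def d54 : List OD := [⟨[nat_lit 7, nat_lit 3, nat_lit 1], [], (dn (nat_lit 24) (nat_lit 0x0bdd831168020ede43055fc2146f01007ac30e1782181a8311440203d4c31c1f4212aa42121d010e5142125ec11b6202018fc218fa83047bc21019c2139ac213a74305e74305e74219c6c319c6c2085a43085a410a42420eb542136b43136b41026c82172d8311cd03117a820e844317fe021abc820fe4420fe4411218031b81c312f3021d45830924411ac94218a0421b268205a90305a9010c6f831bb94219ce820e6c03167343179cc21ae9831ae98217574318e9011a4803151583173c02019ec2139a831afbc20533c20533c10a29030a29021b70021b7001158303158302199501180b0217920219d7020bc4830bc4820bc481118802118801014e4218158304ee031614c21660020b1943135cc20e8d0117ea4317ea4117754319c0c319c0c10721c30ff7c20d910200cf821ea9431ea9411e3c82194e82194e81033903033902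14bec314bec213d9c317ff0217ff0118e3c318e3c2117e03117e021a20c21eb4431eb4421eb4411964431964411143821cbe43004003041002041001165d03165d02019fc3019fc210dc020c59830c59821bf1c31bf1c21bf1c1186ac3186ac201238301238204dc81066f421a458217778317778102e64202e6411bd8c31bd8c20bf2c21b46c31b46c2107c420592820592810222830222820e2043037e821567031567020f23030f23021ad94104f80201c98301c9820d07020d07010d61c30d61c20898020898010f838202c74215c6420592c30592c20592c110f74310f74210f74113c5c313c5c213c5c10bf9c314494314494117bbc317bbc215bfc312fbc212fbc1159fc3159fc210b90117850206af8306af82116fc2073803073802073801013043013042013041170dc3170dc2170dc109fb8309fb8209fb8116f30316f30213d58313d5820f52430f52420a5f420a5f410219421abe831abe8213e34313e34213e34116da8316da8218154318154214e9c31bf2c31bf2c21bf2c117308317308218dc4318dc4218dc4104a9c304a9c204a9c11022c31022c218f94318f942012ac3012ac218ad4318ad4218ad41002f83002f82))⟩,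
 ⟨[nat_lit 12, nat_lit 4, nat_lit 0, nat_lit 2], [], (dn (nat_lit 24) (nat_lit 0x173d830d91840d91830f56840518c2101b04101b03018ac304e103032084032083092e04094ac2002b84002b830e00c40dc78215a5c415a5c201de0401de0316e3c2093c44093c43176683052444052443105b440277c20e8d840e8d82061e04061e03007b42088f84088f8301cc42015f84015f83015f821090041090030b1f840b1f8307d08407d082056cc20e14440e14430e144214f88414f883053684053683053682101242101241127e44127e43127e42127e41000004000003))⟩,
 ⟨[nat_lit 12, nat_lit 7, nat_lit 4], [], (dn (nat_lit 24) (nat_lit 0x08774302ce0309c0c203f3c20d5083000143000141))⟩,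
 ⟨[nat_lit 7], [], (dn (nat_lit 24) (nat_lit 0x003101))⟩]
theorem k55 : ocChk (nat_lit 31671) H15.Fi23P.nets F zs c53 d54 [] = true := by decide +kernel
theorem o56 (M : PM G Ω 31671 H15.Fi23P.nets) (hN : Nat.card G = 4089470473293004800) : OC M (Nn (loc M.gen ws) 18 0) [] c53 :=
  oc_of (sub_le_Nn M.gen zs hs (m := 18) rfl) k55
theorem k57 : powChk F bs0 ws (nat_lit 2) (nat_lit 18) nm [[nat_lit 22],
 [nat_lit 34],
 [],
 [nat_lit 32, nat_lit 30, nat_lit 28, nat_lit 26, nat_lit 24],
 [],
 [],
 [],
 [],
 [],
 [],
 [],
 [],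
 [],
 [],
 [],
 [],
 [],
 []] = true := by decide +kernel
theorem pc (M : PM G Ω 31671 H15.Fi23P.nets) (hN : Nat.card G = 4089470473293004800) : Pc (loc M.gen ws) 2 18 ∧ ∀ i ≤ 18, Nat.card (Nn (loc M.gen ws) 18 i) = 2 ^ (18 - i) :=
  pc_of (base0 M hN) (by norm_num) (hn M hN) k57 (OC.le_card' (o56 M hN) (by decide +kernel))
noncomputable def ra : Word := tw a0 [nat_lit 23, nat_lit 30, nat_lit 10] -- fix 3511
noncomputable def rb : Word := List.append (tw a0 [nat_lit 23, nat_lit 30, nat_lit 18]) ra -- fix 695
noncomputable def rc : Word := List.append (tw a0 [nat_lit 20, nat_lit 35, nat_lit 27, nat_lit 40]) rb -- fix 183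
noncomputable def reps : List Word := [ra, rb, rc]
noncomputable def cl : List (Word × Nat) := [([], (nat_lit 17)),
 ([nat_lit 32], (nat_lit 17)),
 ([nat_lit 28], (nat_lit 17)),
 ([nat_lit 24], (nat_lit 17)),
 ([nat_lit 32, nat_lit 28], (nat_lit 17)),
 ([nat_lit 32, nat_lit 24], (nat_lit 17)),
 ([nat_lit 28, nat_lit 14], (nat_lit 17)),
 ([nat_lit 24, nat_lit 14], (nat_lit 17)),
 ([nat_lit 20, nat_lit 12], (nat_lit 17)),
 ([nat_lit 32, nat_lit 24, nat_lit 14], (nat_lit 17)),
 ([nat_lit 24, nat_lit 20, nat_lit 12], (nat_lit 17)),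
 ([], (nat_lit 16)),
 ([nat_lit 30], (nat_lit 16)),
 ([nat_lit 28], (nat_lit 16)),
 ([nat_lit 24], (nat_lit 16)),
 ([nat_lit 30, nat_lit 28], (nat_lit 16)),
 ([nat_lit 30, nat_lit 24], (nat_lit 16)),
 ([nat_lit 28, nat_lit 14], (nat_lit 16)),
 ([nat_lit 24, nat_lit 14], (nat_lit 16)),
 ([nat_lit 20, nat_lit 12], (nat_lit 16)),
 ([nat_lit 30, nat_lit 24, nat_lit 14], (nat_lit 16)),
 ([nat_lit 24, nat_lit 20, nat_lit 12], (nat_lit 16)),
 ([], (nat_lit 15)),
 ([nat_lit 28], (nat_lit 15)),
 ([nat_lit 24], (nat_lit 15)),
 ([nat_lit 28, nat_lit 14], (nat_lit 15)),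
 ([nat_lit 24, nat_lit 14], (nat_lit 15)),
 ([nat_lit 20, nat_lit 12], (nat_lit 15)),
 ([nat_lit 24, nat_lit 20, nat_lit 12], (nat_lit 15)),
 ([], (nat_lit 14)),
 ([nat_lit 26], (nat_lit 14)),
 ([nat_lit 24], (nat_lit 14)),
 ([nat_lit 22], (nat_lit 14)),
 ([nat_lit 14], (nat_lit 14)),
 ([nat_lit 26, nat_lit 14], (nat_lit 14)),
 ([nat_lit 24, nat_lit 22], (nat_lit 14)),
 ([nat_lit 24, nat_lit 14], (nat_lit 14)),
 ([nat_lit 20, nat_lit 12], (nat_lit 14)),
 ([nat_lit 24, nat_lit 20, nat_lit 12], (nat_lit 14)),
 ([], (nat_lit 13)),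
 ([nat_lit 24], (nat_lit 13)),
 ([nat_lit 22], (nat_lit 13)),
 ([nat_lit 14], (nat_lit 13)),
 ([nat_lit 24, nat_lit 22], (nat_lit 13)),
 ([nat_lit 24, nat_lit 14], (nat_lit 13)),
 ([nat_lit 20, nat_lit 12], (nat_lit 13)),
 ([nat_lit 24, nat_lit 20, nat_lit 12], (nat_lit 13)),
 ([], (nat_lit 12)),
 ([nat_lit 22], (nat_lit 12)),
 ([nat_lit 14], (nat_lit 12)),
 ([nat_lit 20, nat_lit 12], (nat_lit 12)),
 ([], (nat_lit 11)),
 ([nat_lit 20], (nat_lit 11)),
 ([nat_lit 14], (nat_lit 11)),
 ([nat_lit 12], (nat_lit 11)),
 ([nat_lit 20, nat_lit 12], (nat_lit 11)),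
 ([nat_lit 14, nat_lit 12], (nat_lit 11)),
 ([], (nat_lit 10)),
 ([nat_lit 18], (nat_lit 10)),
 ([nat_lit 14], (nat_lit 10)),
 ([nat_lit 12], (nat_lit 10)),
 ([nat_lit 18, nat_lit 12], (nat_lit 10)),
 ([nat_lit 14, nat_lit 12], (nat_lit 10)),
 ([], (nat_lit 9)),
 ([nat_lit 16], (nat_lit 9)),
 ([nat_lit 14], (nat_lit 9)),
 ([nat_lit 12], (nat_lit 9)),
 ([nat_lit 16, nat_lit 12], (nat_lit 9)),
 ([nat_lit 14, nat_lit 12], (nat_lit 9)),
 ([], (nat_lit 8)),
 ([nat_lit 14], (nat_lit 8)),
 ([nat_lit 12], (nat_lit 8)),
 ([nat_lit 14, nat_lit 12], (nat_lit 8)),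
 ([], (nat_lit 7)),
 ([nat_lit 12], (nat_lit 7)),
 ([], (nat_lit 6)),
 ([nat_lit 10], (nat_lit 6)),
 ([nat_lit 4], (nat_lit 6)),
 ([nat_lit 8, nat_lit 4], (nat_lit 6)),
 ([], (nat_lit 5)),
 ([nat_lit 8], (nat_lit 5)),
 ([nat_lit 4], (nat_lit 5)),
 ([nat_lit 8, nat_lit 4], (nat_lit 5)),
 ([], (nat_lit 4)),
 ([nat_lit 6], (nat_lit 4)),
 ([nat_lit 4], (nat_lit 4)),
 ([nat_lit 6, nat_lit 4], (nat_lit 4)),
 ([], (nat_lit 3)),
 ([nat_lit 4], (nat_lit 3)),
 ([], (nat_lit 2)),
 ([nat_lit 2], (nat_lit 2)),
 ([nat_lit 0], (nat_lit 2)),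
 ([nat_lit 2, nat_lit 0], (nat_lit 2)),
 ([], (nat_lit 1)),
 ([nat_lit 0], (nat_lit 1)),
 ([], (nat_lit 0))]
noncomputable def i58 : List (List Ins) := [[Ins.leaf (nat_lit 1000) [], Ins.leaf (nat_lit 2) [nat_lit 37, nat_lit 40, nat_lit 0, nat_lit 45, nat_lit 31, nat_lit 28, nat_lit 12, nat_lit 37, nat_lit 16, nat_lit 26, nat_lit 20, nat_lit 37, nat_lit 38, nat_lit 22, nat_lit 36, nat_lit 40]],
 [Ins.leaf (nat_lit 0) [nat_lit 40, nat_lit 35, nat_lit 32, nat_lit 24, nat_lit 38, nat_lit 33, nat_lit 27, nat_lit 33, nat_lit 12, nat_lit 40, nat_lit 16, nat_lit 20, nat_lit 28, nat_lit 37, nat_lit 23, nat_lit 43], Ins.leaf (nat_lit 1) [nat_lit 27, nat_lit 10, nat_lit 38, nat_lit 30, nat_lit 34, nat_lit 27, nat_lit 37, nat_lit 34, nat_lit 12, nat_lit 23, nat_lit 32, nat_lit 22, nat_lit 29, nat_lit 43, nat_lit 4]],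
 [Ins.leaf (nat_lit 2) [nat_lit 2, nat_lit 37, nat_lit 38, nat_lit 0, nat_lit 40, nat_lit 24, nat_lit 30, nat_lit 27, nat_lit 44, nat_lit 37, nat_lit 23, nat_lit 44, nat_lit 30, nat_lit 2, nat_lit 4], Ins.leaf (nat_lit 2) [nat_lit 27, nat_lit 40, nat_lit 37, nat_lit 40, nat_lit 6, nat_lit 27, nat_lit 29, nat_lit 0, nat_lit 12, nat_lit 30, nat_lit 20, nat_lit 28, nat_lit 24, nat_lit 18, nat_lit 8]],
 [Ins.leaf (nat_lit 0) [nat_lit 21, nat_lit 37, nat_lit 41, nat_lit 24, nat_lit 33, nat_lit 36, nat_lit 12, nat_lit 25, nat_lit 25, nat_lit 28, nat_lit 23, nat_lit 30, nat_lit 32, nat_lit 36, nat_lit 27], Ins.leaf (nat_lit 2) [nat_lit 40, nat_lit 44, nat_lit 36, nat_lit 12, nat_lit 35, nat_lit 30, nat_lit 27, nat_lit 23, nat_lit 34, nat_lit 21, nat_lit 38, nat_lit 16, nat_lit 12]],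
 [Ins.leaf (nat_lit 1) [nat_lit 22, nat_lit 34, nat_lit 40, nat_lit 28, nat_lit 8, nat_lit 31, nat_lit 38, nat_lit 12, nat_lit 10, nat_lit 20, nat_lit 36, nat_lit 22, nat_lit 18, nat_lit 37, nat_lit 24], Ins.leaf (nat_lit 1) [nat_lit 20, nat_lit 2, nat_lit 33, nat_lit 43, nat_lit 0, nat_lit 29, nat_lit 16, nat_lit 12, nat_lit 39, nat_lit 8, nat_lit 23, nat_lit 38, nat_lit 26, nat_lit 40, nat_lit 18, nat_lit 20]],
 [Ins.leaf (nat_lit 1) [nat_lit 18, nat_lit 37, nat_lit 16, nat_lit 34, nat_lit 6, nat_lit 12, nat_lit 29, nat_lit 8, nat_lit 40, nat_lit 20, nat_lit 42, nat_lit 2, nat_lit 26, nat_lit 36, nat_lit 14], Ins.leaf (nat_lit 2) [nat_lit 4, nat_lit 45, nat_lit 39, nat_lit 28, nat_lit 34, nat_lit 32, nat_lit 12, nat_lit 36, nat_lit 16, nat_lit 27, nat_lit 23, nat_lit 30, nat_lit 20, nat_lit 30, nat_lit 10, nat_lit 26]],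
 [Ins.leaf (nat_lit 2) [nat_lit 22, nat_lit 18, nat_lit 39, nat_lit 34, nat_lit 29, nat_lit 44, nat_lit 28, nat_lit 20, nat_lit 20, nat_lit 33, nat_lit 21, nat_lit 34, nat_lit 45, nat_lit 33], Ins.leaf (nat_lit 2) [nat_lit 20, nat_lit 39, nat_lit 37, nat_lit 6, nat_lit 40, nat_lit 4, nat_lit 12, nat_lit 40, nat_lit 12, nat_lit 16, nat_lit 20, nat_lit 35, nat_lit 12, nat_lit 31, nat_lit 28, nat_lit 33]],
 [Ins.leaf (nat_lit 1) [nat_lit 8, nat_lit 0, nat_lit 2, nat_lit 45, nat_lit 31, nat_lit 12, nat_lit 29, nat_lit 35, nat_lit 20, nat_lit 10, nat_lit 30, nat_lit 38, nat_lit 21, nat_lit 29, nat_lit 36], Ins.leaf (nat_lit 2) [nat_lit 8, nat_lit 36, nat_lit 35, nat_lit 30, nat_lit 10, nat_lit 16, nat_lit 27, nat_lit 39, nat_lit 12, nat_lit 42, nat_lit 23, nat_lit 38, nat_lit 37, nat_lit 23, nat_lit 10, nat_lit 39]],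
 [Ins.ord (nat_lit 17) (nat_lit 1) [], Ins.ord (nat_lit 17) (nat_lit 1) []],
 [Ins.leaf (nat_lit 2) [nat_lit 41, nat_lit 32, nat_lit 32, nat_lit 28, nat_lit 33, nat_lit 10, nat_lit 38, nat_lit 12, nat_lit 41, nat_lit 12, nat_lit 20, nat_lit 38, nat_lit 27, nat_lit 21, nat_lit 0, nat_lit 32], Ins.leaf (nat_lit 2) [nat_lit 12, nat_lit 43, nat_lit 37, nat_lit 39, nat_lit 40, nat_lit 24, nat_lit 34, nat_lit 27, nat_lit 34, nat_lit 32, nat_lit 12, nat_lit 20, nat_lit 28, nat_lit 10, nat_lit 21, nat_lit 0]],
 [Ins.ord (nat_lit 17) (nat_lit 1) [], Ins.ord (nat_lit 17) (nat_lit 1) []],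
 [Ins.ref (nat_lit 0), Ins.ref (nat_lit 1)],
 [Ins.jmp (nat_lit 1) [nat_lit 42] [], Ins.jmp (nat_lit 1) [nat_lit 0, nat_lit 42] [nat_lit 34]],
 [Ins.ref (nat_lit 2), Ins.ref (nat_lit 4)],
 [Ins.ref (nat_lit 3), Ins.ref (nat_lit 5)],
 [Ins.jmp (nat_lit 2) [nat_lit 37] [nat_lit 34], Ins.jmp (nat_lit 2) [nat_lit 0, nat_lit 37] []],
 [Ins.jmp (nat_lit 5) [nat_lit 47] [], Ins.jmp (nat_lit 5) [nat_lit 4, nat_lit 0, nat_lit 47] [nat_lit 34]],
 [Ins.ref (nat_lit 6), Ins.jmp (nat_lit 6) [nat_lit 9, nat_lit 49, nat_lit 1, nat_lit 7] [nat_lit 34]],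
 [Ins.ref (nat_lit 7), Ins.ref (nat_lit 9)],
 [Ins.ref (nat_lit 8), Ins.jmp (nat_lit 8) [nat_lit 0] [nat_lit 34]],
 [Ins.jmp (nat_lit 9) [nat_lit 47, nat_lit 9] [], Ins.jmp (nat_lit 9) [nat_lit 22, nat_lit 12, nat_lit 4, nat_lit 0, nat_lit 47, nat_lit 9] [nat_lit 34]],
 [Ins.ref (nat_lit 10), Ins.jmp (nat_lit 10) [nat_lit 18, nat_lit 4] []],
 [Ins.ref (nat_lit 11), Ins.ref (nat_lit 12)],
 [Ins.ref (nat_lit 13), Ins.ref (nat_lit 15)],
 [Ins.ref (nat_lit 14), Ins.ref (nat_lit 16)],
 [Ins.ref (nat_lit 17), Ins.jmp (nat_lit 17) [nat_lit 6, nat_lit 48, nat_lit 48] []],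
 [Ins.ref (nat_lit 18), Ins.ref (nat_lit 20)],
 [Ins.ref (nat_lit 19), Ins.jmp (nat_lit 19) [nat_lit 16, nat_lit 6] [nat_lit 34]],
 [Ins.ref (nat_lit 21), Ins.jmp (nat_lit 21) [nat_lit 16, nat_lit 6] [nat_lit 34]],
 [Ins.ref (nat_lit 22), Ins.ref (nat_lit 23)],
 [Ins.jmp (nat_lit 23) [nat_lit 39] [nat_lit 34, nat_lit 30], Ins.jmp (nat_lit 23) [nat_lit 0, nat_lit 39] [nat_lit 30]],
 [Ins.ref (nat_lit 24), Ins.jmp (nat_lit 24) [nat_lit 4] [nat_lit 32]],
 [Ins.jmp (nat_lit 23) [nat_lit 49] [nat_lit 34, nat_lit 32], Ins.jmp (nat_lit 23) [nat_lit 8, nat_lit 49] [nat_lit 34, nat_lit 32]],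
 [Ins.jmp (nat_lit 24) [nat_lit 11, nat_lit 49] [], Ins.ref (nat_lit 25)],
 [Ins.jmp (nat_lit 25) [nat_lit 9, nat_lit 46] [nat_lit 34, nat_lit 30], Ins.jmp (nat_lit 25) [nat_lit 22, nat_lit 12, nat_lit 0, nat_lit 9, nat_lit 46] [nat_lit 30]],
 [Ins.jmp (nat_lit 25) [nat_lit 9, nat_lit 48] [nat_lit 34, nat_lit 30], Ins.jmp (nat_lit 25) [nat_lit 48] [nat_lit 34, nat_lit 30]],
 [Ins.ref (nat_lit 26), Ins.jmp (nat_lit 26) [nat_lit 4] [nat_lit 32]],
 [Ins.ref (nat_lit 27), Ins.jmp (nat_lit 27) [nat_lit 18] []],
 [Ins.ref (nat_lit 28), Ins.jmp (nat_lit 28) [nat_lit 18] []],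
 [Ins.ref (nat_lit 29), Ins.ref (nat_lit 30)],
 [Ins.ref (nat_lit 31), Ins.jmp (nat_lit 31) [nat_lit 2] [nat_lit 30]],
 [Ins.ref (nat_lit 32), Ins.jmp (nat_lit 32) [nat_lit 6] [nat_lit 34, nat_lit 32, nat_lit 28]],
 [Ins.ref (nat_lit 33), Ins.ref (nat_lit 34)],
 [Ins.ref (nat_lit 35), Ins.jmp (nat_lit 35) [nat_lit 6] [nat_lit 34, nat_lit 32, nat_lit 28]],
 [Ins.ref (nat_lit 36), Ins.jmp (nat_lit 36) [nat_lit 12, nat_lit 2] [nat_lit 30]],
 [Ins.ref (nat_lit 37), Ins.jmp (nat_lit 37) [nat_lit 16] [nat_lit 34, nat_lit 32, nat_lit 28]],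
 [Ins.ref (nat_lit 38), Ins.jmp (nat_lit 38) [nat_lit 16] [nat_lit 34, nat_lit 32, nat_lit 28]],
 [Ins.ref (nat_lit 39), Ins.ref (nat_lit 40)],
 [Ins.ref (nat_lit 41), Ins.ref (nat_lit 43)],
 [Ins.ref (nat_lit 42), Ins.ref (nat_lit 44)],
 [Ins.ref (nat_lit 45), Ins.ref (nat_lit 46)],
 [Ins.ref (nat_lit 47), Ins.ref (nat_lit 48)],
 [Ins.jmp (nat_lit 48) [nat_lit 37] [nat_lit 30, nat_lit 28], Ins.jmp (nat_lit 48) [nat_lit 0, nat_lit 37] [nat_lit 32, nat_lit 28]],
 [Ins.ref (nat_lit 49), Ins.jmp (nat_lit 49) [nat_lit 12] []],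
 [Ins.jmp (nat_lit 48) [nat_lit 15, nat_lit 41] [nat_lit 26], Ins.jmp (nat_lit 48) [nat_lit 41] [nat_lit 26]],
 [Ins.ref (nat_lit 50), Ins.jmp (nat_lit 50) [nat_lit 14] []],
 [Ins.ord (nat_lit 11) (nat_lit 1) [], Ins.ord (nat_lit 11) (nat_lit 1) []],
 [Ins.ref (nat_lit 51), Ins.ref (nat_lit 52)],
 [Ins.jmp (nat_lit 52) [nat_lit 45] [], Ins.jmp (nat_lit 52) [nat_lit 2, nat_lit 45] [nat_lit 34]],
 [Ins.ref (nat_lit 53), Ins.jmp (nat_lit 53) [nat_lit 10] [nat_lit 30]],
 [Ins.ref (nat_lit 54), Ins.ref (nat_lit 55)],
 [Ins.jmp (nat_lit 55) [nat_lit 45] [nat_lit 32, nat_lit 26], Ins.jmp (nat_lit 55) [nat_lit 2, nat_lit 45] [nat_lit 34, nat_lit 32, nat_lit 26]],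
 [Ins.ref (nat_lit 56), Ins.jmp (nat_lit 56) [nat_lit 10] [nat_lit 34, nat_lit 30]],
 [Ins.ref (nat_lit 57), Ins.ref (nat_lit 58)],
 [Ins.jmp (nat_lit 58) [nat_lit 37] [nat_lit 28, nat_lit 26, nat_lit 20], Ins.jmp (nat_lit 58) [nat_lit 0, nat_lit 37] [nat_lit 30, nat_lit 22, nat_lit 20]],
 [Ins.ref (nat_lit 59), Ins.jmp (nat_lit 59) [nat_lit 8] [nat_lit 24]],
 [Ins.ref (nat_lit 60), Ins.ref (nat_lit 61)],
 [Ins.jmp (nat_lit 61) [nat_lit 47] [nat_lit 32, nat_lit 30, nat_lit 28, nat_lit 22], Ins.jmp (nat_lit 61) [nat_lit 0, nat_lit 47] [nat_lit 28, nat_lit 26, nat_lit 20]],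
 [Ins.ref (nat_lit 62), Ins.jmp (nat_lit 62) [nat_lit 8] [nat_lit 24]],
 [Ins.ref (nat_lit 63), Ins.ref (nat_lit 64)],
 [Ins.ref (nat_lit 65), Ins.jmp (nat_lit 65) [nat_lit 6] [nat_lit 32, nat_lit 30, nat_lit 28, nat_lit 26, nat_lit 24]],
 [Ins.ref (nat_lit 66), Ins.ref (nat_lit 67)],
 [Ins.ref (nat_lit 68), Ins.jmp (nat_lit 68) [nat_lit 6] [nat_lit 30, nat_lit 28, nat_lit 24]],
 [Ins.ref (nat_lit 69), Ins.ref (nat_lit 70)],
 [Ins.ref (nat_lit 71), Ins.ref (nat_lit 72)],
 [Ins.ref (nat_lit 73), Ins.ref (nat_lit 74)],
 [Ins.jmp (nat_lit 74) [nat_lit 37] [nat_lit 32, nat_lit 30, nat_lit 28, nat_lit 22], Ins.jmp (nat_lit 74) [nat_lit 0, nat_lit 37] [nat_lit 32, nat_lit 26, nat_lit 20]],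
 [Ins.jmp (nat_lit 74) [nat_lit 49] [nat_lit 32, nat_lit 28, nat_lit 26], Ins.jmp (nat_lit 74) [nat_lit 8, nat_lit 49] [nat_lit 32, nat_lit 28, nat_lit 26]],
 [Ins.ord (nat_lit 6) (nat_lit 1) [], Ins.ord (nat_lit 6) (nat_lit 1) []],
 [Ins.ref (nat_lit 75), Ins.ref (nat_lit 76)],
 [Ins.jmp (nat_lit 76) [nat_lit 45] [nat_lit 34, nat_lit 28, nat_lit 26, nat_lit 20], Ins.jmp (nat_lit 76) [nat_lit 2, nat_lit 45] [nat_lit 30, nat_lit 28, nat_lit 26, nat_lit 24, nat_lit 22, nat_lit 18]],
 [Ins.ref (nat_lit 77), Ins.jmp (nat_lit 77) [nat_lit 6] [nat_lit 34, nat_lit 22]],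
 [Ins.ref (nat_lit 78), Ins.jmp (nat_lit 78) [nat_lit 6] [nat_lit 28, nat_lit 24, nat_lit 22]],
 [Ins.ref (nat_lit 79), Ins.ref (nat_lit 80)],
 [Ins.jmp (nat_lit 80) [nat_lit 37] [nat_lit 26, nat_lit 24, nat_lit 20, nat_lit 18, nat_lit 16, nat_lit 10], Ins.jmp (nat_lit 80) [nat_lit 0, nat_lit 37] [nat_lit 32, nat_lit 30, nat_lit 26, nat_lit 22, nat_lit 20, nat_lit 12, nat_lit 10]],
 [Ins.ref (nat_lit 81), Ins.ref (nat_lit 82)],
 [Ins.jmp (nat_lit 82) [nat_lit 37] [nat_lit 30, nat_lit 26, nat_lit 24, nat_lit 20, nat_lit 18, nat_lit 16, nat_lit 12, nat_lit 10], Ins.jmp (nat_lit 82) [nat_lit 0, nat_lit 37] [nat_lit 32, nat_lit 26, nat_lit 22, nat_lit 20, nat_lit 10]],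
 [Ins.ref (nat_lit 83), Ins.ref (nat_lit 84)],
 [Ins.ref (nat_lit 85), Ins.ref (nat_lit 86)],
 [Ins.ref (nat_lit 87), Ins.ref (nat_lit 88)],
 [Ins.jmp (nat_lit 88) [nat_lit 39] [nat_lit 34, nat_lit 30, nat_lit 22, nat_lit 10], Ins.jmp (nat_lit 88) [nat_lit 0, nat_lit 39] [nat_lit 34, nat_lit 28, nat_lit 26, nat_lit 20, nat_lit 10]],
 [Ins.jmp (nat_lit 88) [nat_lit 44] [nat_lit 34, nat_lit 32, nat_lit 24, nat_lit 22, nat_lit 20, nat_lit 18, nat_lit 14], Ins.jmp (nat_lit 88) [nat_lit 2, nat_lit 44] [nat_lit 34, nat_lit 32, nat_lit 28, nat_lit 24, nat_lit 20, nat_lit 18, nat_lit 14]],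
 [Ins.ord (nat_lit 2) (nat_lit 1) [nat_lit 34], Ins.ord (nat_lit 2) (nat_lit 1) [nat_lit 34]],
 [Ins.ref (nat_lit 89), Ins.ref (nat_lit 90)],
 [Ins.ref (nat_lit 91), Ins.ref (nat_lit 92)],
 [Ins.ref (nat_lit 93), Ins.ref (nat_lit 94)]]
theorem k59 : cvChk F bs0 ws (nat_lit 2) (nat_lit 18) nm reps cl i58 (nat_lit 0) (nat_lit 96) = true := by decide +kernel
theorem v60 (M : PM G Ω 31671 H15.Fi23P.nets) (hN : Nat.card G = 4089470473293004800) : CvA (loc M.gen ws) (Rp M.gen reps) 2 18 cl 96 :=
  cv_step (base0 M hN) (by norm_num) (hn M hN) (pc M hN).1 (cv_zero _ _ _ _ _) k59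
theorem cover (M : PM G Ω 31671 H15.Fi23P.nets) (hN : Nat.card G = 4089470473293004800) : ∀ g : G, g ^ 2 = 1 → g = 1 ∨ ∃ w ∈ reps, IsConj (ev M.gen w) g :=
  cv_end (k := 95) (by norm_num) (pc M hN).2 hN (v60 M hN) (by decide +kernel)

end L.V23x2
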