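import Cfsg.Agent.L.CU
import Cfsg.Agent.L.KU62
import Cfsg.Agent.H15.StdSym6
import Cfsg.Agent.H15.StdU43
import Cfsg.Agent.H15.StdU43
import Cfsg.Agent.H15.StdU43

/-! Generated certificate (toolsL/cg.hpp). -/
set_option autoImplicit false
set_option maxRecDepth 200000
set_option Elab.async false
set_option linter.unusedVariables false
set_option linter.unusedSectionVars false

namespace L.WU62
open H14 L.KU62T L.KU62
variable {G Ω : Type*} [Group G] [Finite G] [MulAction G Ω]

noncomputable def w0 : Word := [nat_lit 14, nat_lit 26, nat_lit 25, nat_lit 14, nat_lit 24, nat_lit 2, nat_lit 0, nat_lit 31, nat_lit 25]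
noncomputable def w1 : Word := [nat_lit 28, nat_lit 16, nat_lit 24, nat_lit 12, nat_lit 24, nat_lit 24, nat_lit 15]
noncomputable def w2 : Word := [nat_lit 24, nat_lit 24, nat_lit 20, nat_lit 22, nat_lit 12, nat_lit 32, nat_lit 4, nat_lit 6, nat_lit 14]
noncomputable def w3 : Word := [nat_lit 25, nat_lit 20, nat_lit 26, nat_lit 14, nat_lit 18, nat_lit 2, nat_lit 0, nat_lit 23, nat_lit 24, nat_lit 26]
noncomputable def w4 : Word := [nat_lit 6, nat_lit 12, nat_lit 8, nat_lit 6]
noncomputable def w5 : Word := [nat_lit 31, nat_lit 32, nat_lit 23, nat_lit 12, nat_lit 34, nat_lit 0, nat_lit 23, nat_lit 8, nat_lit 26]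
noncomputable def zs : List Word := [w0, w1, w2, w3, w4, w5]
noncomputable def qs : List Word := List.drop 2 zs
noncomputable def ws : List Word := List.append zs []
theorem k6 : nrmRow F bs0 ws (nat_lit 6) (nat_lit 0) (nat_lit 1) [[nat_lit 11, nat_lit 8, nat_lit 2],
 [nat_lit 10, nat_lit 9, nat_lit 6, nat_lit 4],
 [nat_lit 10, nat_lit 6],
 [nat_lit 11, nat_lit 8],
 [nat_lit 10]] (nat_lit 127) = true := by decide +kernel
theorem k7 : nrmRow F bs0 ws (nat_lit 6) (nat_lit 1) (nat_lit 2) [[nat_lit 8, nat_lit 4],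
 [nat_lit 6],
 [nat_lit 10, nat_lit 8],
 [nat_lit 10]] (nat_lit 127) = true := by decide +kernel
theorem k8 : nrmRow F bs0 ws (nat_lit 6) (nat_lit 2) (nat_lit 3) [[nat_lit 6],
 [nat_lit 8],
 [nat_lit 10]] (nat_lit 127) = true := by decide +kernel
theorem k9 : nrmRow F bs0 ws (nat_lit 6) (nat_lit 3) (nat_lit 4) [[nat_lit 8],
 [nat_lit 10]] (nat_lit 127) = true := by decide +kernel
theorem k10 : nrmRow F bs0 ws (nat_lit 6) (nat_lit 4) (nat_lit 5) [[nat_lit 10]] (nat_lit 127) = true := by decide +kernel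
theorem k11 : nrmRow F bs0 ws (nat_lit 6) (nat_lit 5) (nat_lit 6) [] (nat_lit 127) = true := by decide +kernel
noncomputable def nm : List Nat := [nat_lit 127, nat_lit 127, nat_lit 127, nat_lit 127, nat_lit 127, nat_lit 127]
theorem hn (M : PM G Ω 693 H15.StdU62.nets) (hN : Nat.card G = 9196830720) : NrmL (loc M.gen ws) 6 0 nm :=
  (nrm_cons (base0 M hN) k6 (nrm_cons (base0 M hN) k7 (nrm_cons (base0 M hN) k8 (nrm_cons (base0 M hN) k9 (nrm_cons (base0 M hN) k10 (nrm_cons (base0 M hN) k11 trivial))))))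
noncomputable def s12 : Nat := (nat_lit 0x100011000000400000084001180010002000042000004000000000005800018000000000000300000000800008000000000000100000000000000000000004000000000040200000000000000000000000000000000)
noncomputable def s13 : Nat := (nat_lit 0x100000000000000000000000000000000000000000000000000004000000000000000000000000002000000000000000000000000000000000000000000000000000)
noncomputable def s14 : Nat := (nat_lit 0x1000000000000000000000000000000000000000000000000000000000000000000000000000000000000000000000000040000000000000000000000000080000000000000000000000000000000000000000000000)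
noncomputable def s15 : Nat := (nat_lit 0x2000000000000000000000000008000000000000000000000000004000000000000000000000000000000000000000000000000000)
noncomputable def c16 : Chn := [((nat_lit 129), s12), ((nat_lit 205), s13), ((nat_lit 187), s14), ((nat_lit 206), s15)]
noncomputable def d17 : List OD := [⟨[nat_lit 1, nat_lit 0], [], (dn (nat_lit 20) (nat_lit 0x072820728109e8207e82091c10968202d8202d810440206cc206cc10a60208e020720208a4208a4106d0206d0105f0205f0108442097c209302093010204202041))⟩,
 ⟨[nat_lit 4], [], (dn (nat_lit 20) (nat_lit 0x04e8103341))⟩,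
 ⟨[nat_lit 3], [], (dn (nat_lit 20) (nat_lit 0x0498102ec1))⟩,
 ⟨[nat_lit 2], [], (dn (nat_lit 20) (nat_lit 0x0694103381))⟩]
theorem k18 : ocChk (nat_lit 693) H15.StdU62.nets F zs c16 d17 [] = true := by decide +kernel
theorem o19 (M : PM G Ω 693 H15.StdU62.nets) (hN : Nat.card G = 9196830720) : OC M (Nn (loc M.gen ws) 6 0) [] c16 :=
  oc_of (sub_le_Nn M.gen zs [] (m := 6) rfl) k18
theorem k20 : powChk F bs0 ws (nat_lit 3) (nat_lit 6) nm [[nat_lit 10],
 [],
 [],
 [],
 [],
 []] = true := by decide +kernel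
theorem pc (M : PM G Ω 693 H15.StdU62.nets) (hN : Nat.card G = 9196830720) : Pc (loc M.gen ws) 3 6 ∧ ∀ i ≤ 6, Nat.card (Nn (loc M.gen ws) 6 i) = 3 ^ (6 - i) :=
  pc_of (base0 M hN) (by norm_num) (hn M hN) k20 (OC.le_card' (o19 M hN) (by decide +kernel))
theorem qc (M : PM G Ω 693 H15.StdU62.nets) (hN : Nat.card G = 9196830720) : Nat.card (sub M.gen qs) = 3 ^ 4 :=
  Nn_eq_sub M.gen zs [] (m := 6) rfl 2 ▸ (pc M hN).2 2 (by decide)
theorem zc (M : PM G Ω 693 H15.StdU62.nets) (hN : Nat.card G = 9196830720) : Nat.card (sub M.gen zs) = 3 ^ 6 :=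
  Nn_eq_sub M.gen zs [] (m := 6) rfl 0 ▸ (pc M hN).2 0 (by decide)
theorem k21 : relK F bs0 (List.map (fun a => (powW a 3, [])) qs) = true := by decide +kernel
theorem k22 : relK F bs0 (commR qs qs) = true := by decide +kernel
theorem el (M : PM G Ω 693 H15.StdU62.nets) (hN : Nat.card G = 9196830720) : Cfsg.IsElementaryAbelian 3 (sub M.gen qs) :=
  (elem_of (rels_base (base0 M hN) k22) (rels_base (base0 M hN) k21))
noncomputable def j23 : List JE := [⟨(nat_lit 0), (nat_lit 0x1ff), (nat_lit 0x1ffffffffffffffffffff), [], [[nat_lit 1, nat_lit 0, nat_lit 0, nat_lit 0],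
 [nat_lit 0, nat_lit 1, nat_lit 0, nat_lit 0],
 [nat_lit 0, nat_lit 0, nat_lit 1, nat_lit 0],
 [nat_lit 0, nat_lit 0, nat_lit 0, nat_lit 1]]⟩,
 ⟨(nat_lit 1), (nat_lit 0x1ff), (nat_lit 0x1240000248000049), [nat_lit 2], [[nat_lit 1, nat_lit 0, nat_lit 1, nat_lit 0],
 [nat_lit 0, nat_lit 1, nat_lit 0, nat_lit 0],
 [nat_lit 0, nat_lit 0, nat_lit 1, nat_lit 1],
 [nat_lit 0, nat_lit 0, nat_lit 0, nat_lit 1]]⟩,
 ⟨(nat_lit 2), (nat_lit 0x1ff), (nat_lit 0x1240000248000049), [nat_lit 3], [[nat_lit 1, nat_lit 0, nat_lit 2, nat_lit 1],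
 [nat_lit 0, nat_lit 1, nat_lit 0, nat_lit 0],
 [nat_lit 0, nat_lit 0, nat_lit 1, nat_lit 2],
 [nat_lit 0, nat_lit 0, nat_lit 0, nat_lit 1]]⟩,
 ⟨(nat_lit 3), (nat_lit 0x1ff), (nat_lit 0x40040048008009001001), [nat_lit 0], [[nat_lit 1, nat_lit 1, nat_lit 2, nat_lit 1],
 [nat_lit 0, nat_lit 1, nat_lit 0, nat_lit 1],
 [nat_lit 0, nat_lit 0, nat_lit 1, nat_lit 2],
 [nat_lit 0, nat_lit 0, nat_lit 0, nat_lit 1]]⟩,
 ⟨(nat_lit 4), (nat_lit 0x1ff), (nat_lit 0x1008040201008040201), [nat_lit 2, nat_lit 0], [[nat_lit 1, nat_lit 1, nat_lit 0, nat_lit 0],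
 [nat_lit 0, nat_lit 1, nat_lit 0, nat_lit 1],
 [nat_lit 0, nat_lit 0, nat_lit 1, nat_lit 0],
 [nat_lit 0, nat_lit 0, nat_lit 0, nat_lit 1]]⟩,
 ⟨(nat_lit 5), (nat_lit 0x1ff), (nat_lit 0x8200041040008208001), [nat_lit 3, nat_lit 0], [[nat_lit 1, nat_lit 1, nat_lit 1, nat_lit 0],
 [nat_lit 0, nat_lit 1, nat_lit 0, nat_lit 1],
 [nat_lit 0, nat_lit 0, nat_lit 1, nat_lit 1],
 [nat_lit 0, nat_lit 0, nat_lit 0, nat_lit 1]]⟩,
 ⟨(nat_lit 6), (nat_lit 0x1ff), (nat_lit 0x40040048008009001001), [nat_lit 1], [[nat_lit 1, nat_lit 2, nat_lit 1, nat_lit 1],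
 [nat_lit 0, nat_lit 1, nat_lit 0, nat_lit 2],
 [nat_lit 0, nat_lit 0, nat_lit 1, nat_lit 1],
 [nat_lit 0, nat_lit 0, nat_lit 0, nat_lit 1]]⟩,
 ⟨(nat_lit 7), (nat_lit 0x1ff), (nat_lit 0x8200041040008208001), [nat_lit 2, nat_lit 1], [[nat_lit 1, nat_lit 2, nat_lit 2, nat_lit 2],
 [nat_lit 0, nat_lit 1, nat_lit 0, nat_lit 2],
 [nat_lit 0, nat_lit 0, nat_lit 1, nat_lit 2],
 [nat_lit 0, nat_lit 0, nat_lit 0, nat_lit 1]]⟩,
 ⟨(nat_lit 8), (nat_lit 0x1ff), (nat_lit 0x1008040201008040201), [nat_lit 3, nat_lit 1], [[nat_lit 1, nat_lit 2, nat_lit 0, nat_lit 1],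
 [nat_lit 0, nat_lit 1, nat_lit 0, nat_lit 2],
 [nat_lit 0, nat_lit 0, nat_lit 1, nat_lit 0],
 [nat_lit 0, nat_lit 0, nat_lit 0, nat_lit 1]]⟩]
theorem k24 : jm1 3 (List.length qs) j23 j23 = true := by decide +kernel
theorem k25 : jm2 (3 ^ List.length qs) (cosL 3 2) j23 4 = true := by decide +kernel
theorem k26 : relK F bs0 (jR ws qs j23) = true := by decide +kernel
theorem maxEA (M : PM G Ω 693 H15.StdU62.nets) (hN : Nat.card G = 9196830720) : ∀ B ∈ H4.MaxEA 3 (sub M.gen zs), B = (sub M.gen qs) :=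
  maxEA_lin (ws := ws) (by decide) (el M hN) (qc M hN) (sub_drop_le _ _ _)
    (fun g hg => (Nn_eq_sub M.gen zs [] (m := 6) rfl 2) ▸ cosL_cover (by decide) (pc M hN).1 (s := 2) (by decide) g ((Nn_eq_sub M.gen zs [] (m := 6) rfl 0).symm ▸ hg))
    (rels_base (base0 M hN) k26) k24 k25
noncomputable def x : Word := [nat_lit 31, nat_lit 32, nat_lit 23, nat_lit 12, nat_lit 34, nat_lit 0, nat_lit 23, nat_lit 8, nat_lit 26]
theorem k27 : relK F bs0 [(powW x 3, [])] = true := by decide +kernel
theorem r28 (M : PM G Ω 693 H15.StdU62.nets) (hN : Nat.card G = 9196830720) : orderOf (ev M.gen x) = 3 :=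
  order_of_rel (F := F) (b := 0) (by norm_num) (rels_base (base0 M hN) k27) (by decide +kernel)
theorem ord (M : PM G Ω 693 H15.StdU62.nets) (hN : Nat.card G = 9196830720) : orderOf (ev M.gen x) = 3 :=
  (r28 M hN)
noncomputable def v29 : List Word := [dw (nat_lit 0x0b)]
theorem k30 : relK F bs0 (memRels zs [x] v29) = true := by decide +kernel
theorem xz (M : PM G Ω 693 H15.StdU62.nets) (hN : Nat.card G = 9196830720) : sub M.gen [x] ≤ sub M.gen zs :=
  (sub_le_of_memRels (rels_base (base0 M hN) k30))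
theorem k31 : relK F bs0 (commR zs [x]) = true := by decide +kernel
theorem xc (M : PM G Ω 693 H15.StdU62.nets) (hN : Nat.card G = 9196830720) : sub M.gen [x] ≤ (Subgroup.centralizer (sub M.gen zs : Set G)) :=
  (le_cent_of (rels_base (base0 M hN) k31))
noncomputable def w32 : Word := [nat_lit 18]
noncomputable def w33 : Word := [nat_lit 30]
noncomputable def w34 : Word := [nat_lit 0]
theorem k35 : orbChk (nat_lit 693) H15.StdU62.nets F [] (sel [w32, w33, w34] [nat_lit 0, nat_lit 1, nat_lit 2]) [dw (nat_lit 0x01), dw (nat_lit 0x05), dw (nat_lit 0x03), dw (nat_lit 0x01), dw (nat_lit 0x03), dw (nat_lit 0x05), dw (nat_lit 0x03), dw (nat_lit 0x01)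
, dw (nat_lit 0x03), dw (nat_lit 0x05), dw (nat_lit 0x03), dw (nat_lit 0x01), dw (nat_lit 0x03), dw (nat_lit 0x05), dw (nat_lit 0x03), dw (nat_lit 0x01)
, dw (nat_lit 0x03)] (dn (nat_lit 20) (nat_lit 0x011820060205a4103b42052820528100442038430910303cc303c030004309fc305a830564300743)) (bit (nat_lit 182)) (full (nat_lit 693)) = true := by decide +kernel
theorem o36 (M : PM G Ω 693 H15.StdU62.nets) (hN : Nat.card G = 9196830720) : Orb M ⊤ [] (nat_lit 182) (full (nat_lit 693)) :=
  (Orb.ext le_top (orb_bit ⊤ [] (b := (nat_lit 182)) rfl) k35)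
noncomputable def s37 : Nat := (nat_lit 0x1b71f7effebefecbb7bdb77bdfeffbdb77f57f7facfb3f9f057e7a3ffe6e7ff877fff4be1fdfbdbdbecf9b27d1fd75df74fcfaf4ffed1fe775f77f97f1eff7de36196f7ffbf7dfde9babafaebd33ea77ffadbff6fd9bfd)
noncomputable def w38 : Word := [nat_lit 8]
noncomputable def w39 : Word := [nat_lit 14]
noncomputable def w40 : Word := [nat_lit 0, nat_lit 16, nat_lit 0]
noncomputable def w41 : Word := [nat_lit 0, nat_lit 20, nat_lit 0]
theorem k42 : orbChk (nat_lit 693) H15.StdU62.nets F [nat_lit 182] (sel [w38, w39, w40, w41] [nat_lit 0, nat_lit 1, nat_lit 2, nat_lit 3]) [dw (nat_lit 0x03), dw (nat_lit 0x03), dw (nat_lit 0x01), dw (nat_lit 0x07), dw (nat_lit 0x01), dw (nat_lit 0x03), dw (nat_lit 0x03), dw (nat_lit 0x05)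
, dw (nat_lit 0x03), dw (nat_lit 0x03), dw (nat_lit 0x01), dw (nat_lit 0x07), dw (nat_lit 0x03), dw (nat_lit 0x01), dw (nat_lit 0x03), dw (nat_lit 0x05)
, dw (nat_lit 0x03), dw (nat_lit 0x03), dw (nat_lit 0x01)] (dn (nat_lit 20) (nat_lit 0x0820104d02069020728208f82063c4080c4080c301ac40718403f84076c40208407b4408bc404b8400c04)) (bit (nat_lit 272)) s37 = true := by decide +kernel
theorem o43 (M : PM G Ω 693 H15.StdU62.nets) (hN : Nat.card G = 9196830720) : Orb M ⊤ [nat_lit 182] (nat_lit 272) s37 :=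
  (Orb.ext le_top (orb_bit ⊤ [nat_lit 182] (b := (nat_lit 272)) rfl) k42)
noncomputable def s44 : Nat := (nat_lit 0x10100008800201340d00000821c90921200b0800020a160000082854043010100810240011088800088020003000001410c80008200420210218103081200800080a0c30005410010024802c214a104a08130231810c)
noncomputable def w45 : Word := [nat_lit 0, nat_lit 4, nat_lit 0]
noncomputable def w46 : Word := [nat_lit 2, nat_lit 34, nat_lit 2]
noncomputable def w47 : Word := [nat_lit 24, nat_lit 20, nat_lit 25]
noncomputable def w48 : Word := [nat_lit 0, nat_lit 26, nat_lit 16, nat_lit 0]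
theorem k49 : orbChk (nat_lit 693) H15.StdU62.nets F [nat_lit 272, nat_lit 182] (sel [w38, w45, w46, w47, w48] [nat_lit 0, nat_lit 1, nat_lit 2, nat_lit 3, nat_lit 4]) [dw (nat_lit 0x01), dw (nat_lit 0x03), dw (nat_lit 0x01), dw (nat_lit 0x05), dw (nat_lit 0x07), dw (nat_lit 0x01), dw (nat_lit 0x03), dw (nat_lit 0x01)
] (dn (nat_lit 20) (nat_lit 0x03f4503f4309e0509e03088c5088c30268208c02075820574405742090050900309ac409ac2026c5026c3076c4076c209a8509a8307e4202842082420194301942028c3071430714203a4303a42033c4033c309d0500205032050104402084048c40040300f03017c300ac30054300c4308d4508d440050406f04008050080404c8504c84080c40148304b030530300cc5049c5049c3010c303143038c305ec500645044c50090508045094c5)) (bit (nat_lit 436)) s44 = true := by decide +kernel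
theorem o50 (M : PM G Ω 693 H15.StdU62.nets) (hN : Nat.card G = 9196830720) : Orb M ⊤ [nat_lit 272, nat_lit 182] (nat_lit 436) s44 :=
  (Orb.ext le_top (orb_bit ⊤ [nat_lit 272, nat_lit 182] (b := (nat_lit 436)) rfl) k49)
noncomputable def s51 : Nat := (nat_lit 0x8400100000000040000004201000000002800040004000080084000001000000000000200040000100000020028820010004010002800000000020000000210980000000000000001010000000000000000000000000)
noncomputable def w52 : Word := [nat_lit 26, nat_lit 20, nat_lit 26]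
noncomputable def w53 : Word := [nat_lit 0, nat_lit 26, nat_lit 22, nat_lit 8, nat_lit 0, nat_lit 25, nat_lit 28]
noncomputable def w54 : Word := [nat_lit 2, nat_lit 4, nat_lit 20, nat_lit 24, nat_lit 26, nat_lit 30, nat_lit 6, nat_lit 0]
theorem k55 : orbChk (nat_lit 693) H15.StdU62.nets F [nat_lit 436, nat_lit 272, nat_lit 182] (sel [w52, w53, w54] [nat_lit 0, nat_lit 1, nat_lit 2]) [dw (nat_lit 0x01)] (dn (nat_lit 20) (nat_lit 0x046030a70204f43041c20654302f4108a4308a4105243093030930209301089c3089c2042430424202cc302cc202cc10aa830488304882061820954302bc302bc202bc107cc307cc207cc1051c3051c20720307202)) (bit (nat_lit 456)) s51 = true := by decide +kernel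
theorem o56 (M : PM G Ω 693 H15.StdU62.nets) (hN : Nat.card G = 9196830720) : Orb M ⊤ [nat_lit 436, nat_lit 272, nat_lit 182] (nat_lit 456) s51 :=
  (Orb.ext le_top (orb_bit ⊤ [nat_lit 436, nat_lit 272, nat_lit 182] (b := (nat_lit 456)) rfl) k55)
noncomputable def s57 : Nat := (nat_lit 0x1000000000000000000000000100010000000000000000000000000004000000000000000000000000000000000000000040000000000000000000000000080000000000000000000000000000000000000000000000)
noncomputable def w58 : Word := [nat_lit 15, nat_lit 25, nat_lit 2, nat_lit 24, nat_lit 14]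
noncomputable def w59 : Word := [nat_lit 22, nat_lit 30, nat_lit 2, nat_lit 31, nat_lit 23]
theorem k60 : orbChk (nat_lit 693) H15.StdU62.nets F [nat_lit 456, nat_lit 436, nat_lit 272, nat_lit 182] (sel [w58, w59] [nat_lit 0, nat_lit 1]) [] (dn (nat_lit 20) (nat_lit 0x092010498102ec208e0208e01)) (bit (nat_lit 568)) s57 = true := by decide +kernel
theorem o61 (M : PM G Ω 693 H15.StdU62.nets) (hN : Nat.card G = 9196830720) : Orb M ⊤ [nat_lit 456, nat_lit 436, nat_lit 272, nat_lit 182] (nat_lit 568) s57 :=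
  (Orb.ext le_top (orb_bit ⊤ [nat_lit 456, nat_lit 436, nat_lit 272, nat_lit 182] (b := (nat_lit 568)) rfl) k60)
noncomputable def c62 : Chn := [((nat_lit 182), (full (nat_lit 693))), ((nat_lit 272), s37), ((nat_lit 436), s44), ((nat_lit 456), s51), ((nat_lit 568), s57)]
theorem k63 : Nat.ble 9196830720 (cval (nat_lit 693) c62) = true := by decide +kernel
theorem e64 (M : PM G Ω 693 H15.StdU62.nets) (hN : Nat.card G = 9196830720) : EC M ⊤ [] c62 :=
  ec_top (c := c62) ⟨(o36 M hN), ⟨(o43 M hN), ⟨(o50 M hN), ⟨(o56 M hN), ⟨(o61 M hN), trivial⟩⟩⟩⟩⟩ hN k63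
noncomputable def p65 : Prs := [(w0, w0), (w1, w1), (w2, w2), (w3, w3), (w4, w4), (x, x)]
noncomputable def s66 : Nat := (nat_lit 0x1008006000080000000820040008000004001000000400028800200000400400000200110022000002000000005000100040000480001000000004000000080004040000088080240000020000040400000000000041)
theorem k67 : band (Nat.ble (nat_lit 693) (Nat.pow 2 (nat_lit 10))) (fsChk (nat_lit 693) (nat_lit 10) H15.StdU62.nets w1 s66 (full (nat_lit 693)) 0 0 (nat_lit 10)) = true := by decide +kernel
theorem f68 (M : PM G Ω 693 H15.StdU62.nets) (hN : Nat.card G = 9196830720) : IsFix M w1 s66 :=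
  fix_one k67
theorem k69 : relK F bs0 [(w1, flat (fsts p65) [nat_lit 2]), (w1, flat (snds p65) [nat_lit 2])] = true := by decide +kernel
noncomputable def s70 : Nat := (nat_lit 0x11000100000004000000000001000180000000021000000004000001040000000008000002002000000108000000040024400001006001000000004020000c4000010080020a00000208510000000080450000000080)
theorem k71 : band (Nat.ble (nat_lit 693) (Nat.pow 2 (nat_lit 10))) (fsChk (nat_lit 693) (nat_lit 10) H15.StdU62.nets w2 s70 (full (nat_lit 693)) 0 0 (nat_lit 10)) = true := by decide +kernel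
theorem f72 (M : PM G Ω 693 H15.StdU62.nets) (hN : Nat.card G = 9196830720) : IsFix M w2 s70 :=
  fix_one k71
theorem k73 : relK F bs0 [(w2, flat (fsts p65) [nat_lit 4]), (w2, flat (snds p65) [nat_lit 4])] = true := by decide +kernel
noncomputable def s74 : Nat := (nat_lit 0x840411000008040000000c021000004000004002500180010000000000004000102000010000200000000cc000814c000000000000000000000000006801000000000002400308000000000010000000000004000040)
theorem k75 : band (Nat.ble (nat_lit 693) (Nat.pow 2 (nat_lit 10))) (fsChk (nat_lit 693) (nat_lit 10) H15.StdU62.nets w3 s74 (full (nat_lit 693)) 0 0 (nat_lit 10)) = true := by decide +kernel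
theorem f76 (M : PM G Ω 693 H15.StdU62.nets) (hN : Nat.card G = 9196830720) : IsFix M w3 s74 :=
  fix_one k75
theorem k77 : relK F bs0 [(w3, flat (fsts p65) [nat_lit 6]), (w3, flat (snds p65) [nat_lit 6])] = true := by decide +kernel
noncomputable def s78 : Nat := (nat_lit 0x2192001100000300040000200000890000000000800006002010020080000800080020a00c002300400000000000000100240000100000000010000000000c84000000000040200004800000000000000000000000000)
theorem k79 : band (Nat.ble (nat_lit 693) (Nat.pow 2 (nat_lit 10))) (fsChk (nat_lit 693) (nat_lit 10) H15.StdU62.nets w4 s78 (full (nat_lit 693)) 0 0 (nat_lit 10)) = true := by decide +kernel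
theorem f80 (M : PM G Ω 693 H15.StdU62.nets) (hN : Nat.card G = 9196830720) : IsFix M w4 s78 :=
  fix_one k79
theorem k81 : relK F bs0 [(w4, flat (fsts p65) [nat_lit 8]), (w4, flat (snds p65) [nat_lit 8])] = true := by decide +kernel
noncomputable def s82 : Nat := (nat_lit 0x940010000000000000000000000800000000000010000002000020000000000000220000000200000000000000000c100040000000000000000000006000080000000000000000000000000000000000000000000000)
theorem k83 : band (Nat.ble (nat_lit 693) (Nat.pow 2 (nat_lit 10))) (fsChk (nat_lit 693) (nat_lit 10) H15.StdU62.nets x s82 (full (nat_lit 693)) 0 0 (nat_lit 10)) = true := by decide +kernel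
theorem f84 (M : PM G Ω 693 H15.StdU62.nets) (hN : Nat.card G = 9196830720) : IsFix M x s82 :=
  fix_one k83
theorem k85 : relK F bs0 [(x, flat (fsts p65) [nat_lit 10]), (x, flat (snds p65) [nat_lit 10])] = true := by decide +kernel
noncomputable def b86 : List (Nat × Nat) := [(s66, s66), (s70, s70), (s74, s74), (s78, s78), (s82, s82)]
noncomputable def y87 : List Word := []
theorem k88 : relK F bs0 (commR (snds p65) y87) = true := by decide +kernel
theorem x89 (M : PM G Ω 693 H15.StdU62.nets) (hN : Nat.card G = 9196830720) : Cx M (fun g => Pr M g p65) b86 [] p65 y87 :=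
  cx_conj (tb_cons (f68 M hN) (f68 M hN) (rels_base (base0 M hN) k69) (tb_cons (f72 M hN) (f72 M hN) (rels_base (base0 M hN) k73) (tb_cons (f76 M hN) (f76 M hN) (rels_base (base0 M hN) k77) (tb_cons (f80 M hN) (f80 M hN) (rels_base (base0 M hN) k81) (tb_cons (f84 M hN) (f84 M hN) (rels_base (base0 M hN) k85) (fun _ _ => fa_nil)))))) (rels_base (base0 M hN) k88)
noncomputable def s90 : Nat := (nat_lit 0x100000000000000000000000000000000000000000000000000000000000000000000000000000000000000000000000000000100000000000000000000004000000000000000000000000000000000000000000000)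
noncomputable def t91 : KT := KT.nil (SE.and (SE.dif (SE.and (SE.dif (SE.lev (nat_lit 0)) (SE.tab (nat_lit 0))) (SE.tab (nat_lit 1))) (SE.tab (nat_lit 2))) (SE.tab (nat_lit 3))) [] [] []
theorem k92 : ktChk (nat_lit 693) H15.StdU62.nets F c62 b86 [] p65 y87 [] [] (nat_lit 0) (nat_lit 182) s90 0 t91 = true := by decide +kernel
theorem l93 (M : PM G Ω 693 H15.StdU62.nets) (hN : Nat.card G = 9196830720) : Cl M (fun g => Pr M g p65) [] [] (nat_lit 182) s90 :=
  cl_tree (e64 M hN) (x89 M hN) (dd0 _ _ _ _) k92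
noncomputable def t94 : KT := KT.liv (nat_lit 182) [nat_lit 7]
theorem k95 : ktChk (nat_lit 693) H15.StdU62.nets F c62 b86 [] p65 y87 [] [nat_lit 182] (nat_lit 1) (nat_lit 272) (bit (nat_lit 272)) 0 t94 = true := by decide +kernel
theorem l96 (M : PM G Ω 693 H15.StdU62.nets) (hN : Nat.card G = 9196830720) : Cl M (fun g => Pr M g p65) [] [nat_lit 182] (nat_lit 272) (bit (nat_lit 272)) :=
  cl_tree (e64 M hN) (x89 M hN) (dd0 _ _ _ _) k95
noncomputable def t97 : KT := KT.liv (nat_lit 272) [nat_lit 2]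
theorem k98 : ktChk (nat_lit 693) H15.StdU62.nets F c62 b86 [] p65 y87 [] [nat_lit 272, nat_lit 182] (nat_lit 2) (nat_lit 436) (bit (nat_lit 436)) 0 t97 = true := by decide +kernel
theorem l99 (M : PM G Ω 693 H15.StdU62.nets) (hN : Nat.card G = 9196830720) : Cl M (fun g => Pr M g p65) [] [nat_lit 272, nat_lit 182] (nat_lit 436) (bit (nat_lit 436)) :=
  cl_tree (e64 M hN) (x89 M hN) (dd0 _ _ _ _) k98
noncomputable def t100 : KT := KT.liv (nat_lit 182) [nat_lit 1]
theorem k101 : ktChk (nat_lit 693) H15.StdU62.nets F c62 b86 [] p65 y87 [] [nat_lit 436, nat_lit 272, nat_lit 182] (nat_lit 3) (nat_lit 456) (bit (nat_lit 456)) 0 t100 = true := by decide +kernel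
theorem l102 (M : PM G Ω 693 H15.StdU62.nets) (hN : Nat.card G = 9196830720) : Cl M (fun g => Pr M g p65) [] [nat_lit 436, nat_lit 272, nat_lit 182] (nat_lit 456) (bit (nat_lit 456)) :=
  cl_tree (e64 M hN) (x89 M hN) (dd0 _ _ _ _) k101
noncomputable def t103 : KT := KT.liv (nat_lit 182) [nat_lit 3]
theorem k104 : ktChk (nat_lit 693) H15.StdU62.nets F c62 b86 [] p65 y87 [] [nat_lit 456, nat_lit 436, nat_lit 272, nat_lit 182] (nat_lit 4) (nat_lit 568) (bit (nat_lit 568)) 0 t103 = true := by decide +kernel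
theorem l105 (M : PM G Ω 693 H15.StdU62.nets) (hN : Nat.card G = 9196830720) : Cl M (fun g => Pr M g p65) [] [nat_lit 456, nat_lit 436, nat_lit 272, nat_lit 182] (nat_lit 568) (bit (nat_lit 568)) :=
  cl_tree (e64 M hN) (x89 M hN) (dd0 _ _ _ _) k104
noncomputable def c106 : Chn := [((nat_lit 182), s90), ((nat_lit 272), (bit (nat_lit 272))), ((nat_lit 436), (bit (nat_lit 436))), ((nat_lit 456), (bit (nat_lit 456))), ((nat_lit 568), (bit (nat_lit 568)))]
theorem e107 (M : PM G Ω 693 H15.StdU62.nets) (hN : Nat.card G = 9196830720) : SC M (cenP M p65 rfl) [] c106 :=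
  ⟨Cl.lev (l93 M hN), ⟨Cl.lev (l96 M hN), ⟨Cl.lev (l99 M hN), ⟨Cl.lev (l102 M hN), ⟨Cl.lev (l105 M hN), (EC.sc_end (e64 M hN) (by decide +kernel))⟩⟩⟩⟩⟩
theorem cen (M : PM G Ω 693 H15.StdU62.nets) (hN : Nat.card G = 9196830720) : Nat.card (Subgroup.centralizer (sub M.gen zs : Set G)) ≤ 3 :=
  (cenP_eq (M := M) (ps := p65) rfl ▸ SC.card_le' (e107 M hN) (by decide +kernel) : Nat.card (Subgroup.centralizer (sub M.gen (fsts p65) : Set G)) ≤ _)
noncomputable def w108 : Word := [nat_lit 24, nat_lit 16, nat_lit 22, nat_lit 12, nat_lit 8, nat_lit 18, nat_lit 26, nat_lit 14, nat_lit 26]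
noncomputable def y109 : List Word := [x, w108]
noncomputable def y110 : List Word := [[],
 [nat_lit 2, nat_lit 0],
 [nat_lit 4, nat_lit 0]]
noncomputable def j111 : List (List Nat) := [[nat_lit 1],
 [nat_lit 2],
 [nat_lit 0]]
theorem k112 : relK F bs0 (slpRels (List.zip ([] :: y109) y110) [x]) = true := by decide +kernel
theorem k113 : relK F bs0 (enR [x] ([] :: y109) j111) = true := by decide +kernel
theorem n114 (M : PM G Ω 693 H15.StdU62.nets) (hN : Nat.card G = 9196830720) : Enum M.gen (sub M.gen [x]) ([] :: y109) :=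
  enum_of (rels_base (base0 M hN) k112) (rels_base (base0 M hN) k113) (by decide +kernel)
theorem k115 : orbChk (nat_lit 693) H15.StdU62.nets F [] (sel [w32, w33, w34] [nat_lit 0, nat_lit 1, nat_lit 2]) [dw (nat_lit 0x01), dw (nat_lit 0x03), dw (nat_lit 0x01), dw (nat_lit 0x03), dw (nat_lit 0x05), dw (nat_lit 0x03), dw (nat_lit 0x01), dw (nat_lit 0x03)
, dw (nat_lit 0x05), dw (nat_lit 0x03), dw (nat_lit 0x01), dw (nat_lit 0x03), dw (nat_lit 0x05), dw (nat_lit 0x03), dw (nat_lit 0x01), dw (nat_lit 0x03)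
, dw (nat_lit 0x03)] (dn (nat_lit 20) (nat_lit 0x04102011820a5c20090302183068010384305283004c302ec30598300043)) (bit (nat_lit 205)) (full (nat_lit 693)) = true := by decide +kernel
theorem o116 (M : PM G Ω 693 H15.StdU62.nets) (hN : Nat.card G = 9196830720) : Orb M ⊤ [] (nat_lit 205) (full (nat_lit 693)) :=
  (Orb.ext le_top (orb_bit ⊤ [] (b := (nat_lit 205)) rfl) k115)
noncomputable def s117 : Nat := (nat_lit 0x9324060090100881082041d00948c0288c2264260c40a8d87304a2080610532945086d0ca28020e40000043143c8081f09062004070100000e0c0c0040f080c8001410027804000500302c50f42501bc21496041889a2)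
noncomputable def w118 : Word := [nat_lit 2]
noncomputable def w119 : Word := [nat_lit 4]
noncomputable def w120 : Word := [nat_lit 25, nat_lit 14]
theorem k121 : orbChk (nat_lit 693) H15.StdU62.nets F [nat_lit 205] (sel [w118, w119, w120] [nat_lit 0, nat_lit 1, nat_lit 2]) [dw (nat_lit 0x01), dw (nat_lit 0x03), dw (nat_lit 0x05), dw (nat_lit 0x01), dw (nat_lit 0x03), dw (nat_lit 0x05), dw (nat_lit 0x01), dw (nat_lit 0x03)
, dw (nat_lit 0x05), dw (nat_lit 0x03), dw (nat_lit 0x01), dw (nat_lit 0x05), dw (nat_lit 0x01)] (dn (nat_lit 20) (nat_lit 0x057830434300e430aa43069c302dc302982029810988300c4208b81004c20a78206883021830968106783002030a98307001030c3014830634206703067020930309d02003c307e8309bc309bc207c03024430720300e030084209ec30014308cc3012420a403014c205643080c20050300042055030550204b020ac02)) (bit (nat_lit 187)) s117 = true := by decide +kernel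
theorem o122 (M : PM G Ω 693 H15.StdU62.nets) (hN : Nat.card G = 9196830720) : Orb M ⊤ [nat_lit 205] (nat_lit 187) s117 :=
  (Orb.ext le_top (orb_bit ⊤ [nat_lit 205] (b := (nat_lit 187)) rfl) k121)
noncomputable def s123 : Nat := (nat_lit 0x8320020090000800082040d00948c028000264220c40a858710082000600522945086d0ca080204400000030434808030106000004010000060c040040d08048001400026804000400102850342400ac21414041009a0)
noncomputable def w124 : Word := [nat_lit 0, nat_lit 18, nat_lit 0]
noncomputable def w125 : Word := [nat_lit 2, nat_lit 4, nat_lit 2]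
noncomputable def w126 : Word := [nat_lit 2, nat_lit 12, nat_lit 2]
noncomputable def w127 : Word := [nat_lit 15, nat_lit 16, nat_lit 14]
noncomputable def w128 : Word := [nat_lit 4, nat_lit 26, nat_lit 16, nat_lit 4]
theorem k129 : orbChk (nat_lit 693) H15.StdU62.nets F [nat_lit 187, nat_lit 205] (sel [w124, w125, w126, w127, w128] [nat_lit 0, nat_lit 1, nat_lit 2, nat_lit 3, nat_lit 4]) [dw (nat_lit 0x01), dw (nat_lit 0x03), dw (nat_lit 0x05), dw (nat_lit 0x07), dw (nat_lit 0x09)] (dn (nat_lit 20) (nat_lit 0x053440378404b0504b010548505481080c5080c1064c400884082850828108784089430738406dc406b0405d8300a8500a81011850118106884024850248100904016050160100b0407c830398303b440884306c8306c820854306e43083c30864308642069c401d840928303b840184309fc406701065c307c4307c4206f4306f420960103283096c3096c2096c10700107083070820530305302051c3051c2051c10604107fc3065830a4030a402017c301a0301a0207c0307e0407e0307e0209bc409bc1014440144104d0404d0304d020aa440acc40ab0408dc4098840a7440804308042090c107e8307e8207e81014010014300142001410678306782))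 (bit (nat_lit 294)) s123 = true := by decide +kernel
theorem o130 (M : PM G Ω 693 H15.StdU62.nets) (hN : Nat.card G = 9196830720) : Orb M ⊤ [nat_lit 187, nat_lit 205] (nat_lit 294) s123 :=
  (Orb.ext le_top (orb_bit ⊤ [nat_lit 187, nat_lit 205] (b := (nat_lit 294)) rfl) k129)
noncomputable def s131 : Nat := (nat_lit 0x808c020000240020000005800000200000000210000000000000004000000000040000100000000040000000600000000000000000000000000000400000000100000000100000000020)
noncomputable def w132 : Word := [nat_lit 25, nat_lit 12, nat_lit 24]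
noncomputable def w133 : Word := [nat_lit 31, nat_lit 16, nat_lit 26, nat_lit 24]
noncomputable def w134 : Word := [nat_lit 0, nat_lit 12, nat_lit 28, nat_lit 12, nat_lit 0]
theorem k135 : orbChk (nat_lit 693) H15.StdU62.nets F [nat_lit 294, nat_lit 187, nat_lit 205] (sel [w132, w133, w134] [nat_lit 0, nat_lit 1, nat_lit 2]) [] (dn (nat_lit 20) (nat_lit 0x05d8307dc307dc20140103b4303b42089410908303b8303b8205281090c301d81077430774100b010854308541001430014204d0304d0204d01)) (bit (nat_lit 308)) s131 = true := by decide +kernel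
theorem o136 (M : PM G Ω 693 H15.StdU62.nets) (hN : Nat.card G = 9196830720) : Orb M ⊤ [nat_lit 294, nat_lit 187, nat_lit 205] (nat_lit 308) s131 :=
  (Orb.ext le_top (orb_bit ⊤ [nat_lit 294, nat_lit 187, nat_lit 205] (b := (nat_lit 308)) rfl) k135)
noncomputable def s137 : Nat := (nat_lit 0x200000000000000000000000000000000000000000004000000000000000000000000040000000000000000000000000000000000000000000000000000000000000000000)
noncomputable def w138 : Word := [nat_lit 15, nat_lit 2, nat_lit 30, nat_lit 0, nat_lit 25, nat_lit 22, nat_lit 20, nat_lit 2]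
theorem k139 : orbChk (nat_lit 693) H15.StdU62.nets F [nat_lit 308, nat_lit 294, nat_lit 187, nat_lit 205] (sel [w138] [nat_lit 0]) [] (dn (nat_lit 20) (nat_lit 0x05d8104381)) (bit (nat_lit 270)) s137 = true := by decide +kernel
theorem o140 (M : PM G Ω 693 H15.StdU62.nets) (hN : Nat.card G = 9196830720) : Orb M ⊤ [nat_lit 308, nat_lit 294, nat_lit 187, nat_lit 205] (nat_lit 270) s137 :=
  (Orb.ext le_top (orb_bit ⊤ [nat_lit 308, nat_lit 294, nat_lit 187, nat_lit 205] (b := (nat_lit 270)) rfl) k139)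
noncomputable def s141 : Nat := (nat_lit 0x8000000000000004000000000000000000000000000100000000000000000000000008000000000000000000000000000000000000000000000000000000000000000000000000000000000)
noncomputable def w142 : Word := [nat_lit 22, nat_lit 6, nat_lit 18, nat_lit 30, nat_lit 18, nat_lit 15, nat_lit 6, nat_lit 23]
noncomputable def w143 : Word := [nat_lit 31, nat_lit 4, nat_lit 20, nat_lit 32, nat_lit 0, nat_lit 30, nat_lit 18, nat_lit 25]
theorem k144 : orbChk (nat_lit 693) H15.StdU62.nets F [nat_lit 270, nat_lit 308, nat_lit 294, nat_lit 187, nat_lit 205] (sel [w142, w143] [nat_lit 0, nat_lit 1]) [] (dn (nat_lit 20) (nat_lit 0x096c2051c2051c1)) (bit (nat_lit 327)) s141 = true := by decide +kernel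
theorem o145 (M : PM G Ω 693 H15.StdU62.nets) (hN : Nat.card G = 9196830720) : Orb M ⊤ [nat_lit 270, nat_lit 308, nat_lit 294, nat_lit 187, nat_lit 205] (nat_lit 327) s141 :=
  (Orb.ext le_top (orb_bit ⊤ [nat_lit 270, nat_lit 308, nat_lit 294, nat_lit 187, nat_lit 205] (b := (nat_lit 327)) rfl) k144)
noncomputable def s146 : Nat := (nat_lit 0x100000000000000000000000000000000000000000000000000800000000000000000000000000000000000000000000000000000000000000000000000000000000000)
noncomputable def w147 : Word := [nat_lit 0, nat_lit 26, nat_lit 18, nat_lit 26, nat_lit 0]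
theorem k148 : orbChk (nat_lit 693) H15.StdU62.nets F [nat_lit 327, nat_lit 270, nat_lit 308, nat_lit 294, nat_lit 187, nat_lit 205] (sel [w147] [nat_lit 0]) [] (dn (nat_lit 20) (nat_lit 0x08601)) (bit (nat_lit 536)) s146 = true := by decide +kernel
theorem o149 (M : PM G Ω 693 H15.StdU62.nets) (hN : Nat.card G = 9196830720) : Orb M ⊤ [nat_lit 327, nat_lit 270, nat_lit 308, nat_lit 294, nat_lit 187, nat_lit 205] (nat_lit 536) s146 :=
  (Orb.ext le_top (orb_bit ⊤ [nat_lit 327, nat_lit 270, nat_lit 308, nat_lit 294, nat_lit 187, nat_lit 205] (b := (nat_lit 536)) rfl) k148)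
noncomputable def c150 : Chn := [((nat_lit 205), (full (nat_lit 693))), ((nat_lit 187), s117), ((nat_lit 294), s123), ((nat_lit 308), s131), ((nat_lit 270), s137), ((nat_lit 327), s141), ((nat_lit 536), s146)]
theorem k151 : Nat.ble 9196830720 (cval (nat_lit 693) c150) = true := by decide +kernel
theorem e152 (M : PM G Ω 693 H15.StdU62.nets) (hN : Nat.card G = 9196830720) : EC M ⊤ [] c150 :=
  ec_top (c := c150) ⟨(o116 M hN), ⟨(o122 M hN), ⟨(o130 M hN), ⟨(o136 M hN), ⟨(o140 M hN), ⟨(o145 M hN), ⟨(o149 M hN), trivial⟩⟩⟩⟩⟩⟩⟩ hN k151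
noncomputable def w153 : Word := [nat_lit 30, nat_lit 24, nat_lit 20, nat_lit 34, nat_lit 18, nat_lit 4, nat_lit 18, nat_lit 12, nat_lit 30, nat_lit 20]
noncomputable def w154 : Word := [nat_lit 18, nat_lit 25, nat_lit 28, nat_lit 23, nat_lit 14, nat_lit 8, nat_lit 26, nat_lit 24, nat_lit 20]
noncomputable def y155 : List Word := [w2, w153, w1, w154]
noncomputable def a156 : List (List Prs) := [altE x ([] :: y109)]
noncomputable def v157 : List (List Word) := [[[nat_lit 2]],
 [[nat_lit 2]],
 [[nat_lit 2]],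
 [[nat_lit 2]]]
theorem k158 : relK F bs0 (nrR [x] ([] :: y109) y155 v157) = true := by decide +kernel
theorem x159 (M : PM G Ω 693 H15.StdU62.nets) (hN : Nat.card G = 9196830720) : Cx M (fun g => g ∈ (Subgroup.normalizer (sub M.gen [x] : Set G))) [(s82, s82)] a156 [] y155 :=
  cx_sub (IsFixL.tb (IsFix.fixL (f84 M hN))) (al_cons (n114 M hN) (ev_mem_sub _ (by simp)) (fun _ _ => fa_nil)) (le_normalizer_of (n114 M hN).1 (rels_base (base0 M hN) k158) (by decide +kernel))
noncomputable def t160 : KT := KT.nil (SE.and (SE.lev (nat_lit 0)) (SE.tab (nat_lit 0))) [] [] []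
theorem k161 : ktChk (nat_lit 693) H15.StdU62.nets F c150 [(s82, s82)] a156 [] y155 [] [] (nat_lit 0) (nat_lit 205) s82 0 t160 = true := by decide +kernel
theorem l162 (M : PM G Ω 693 H15.StdU62.nets) (hN : Nat.card G = 9196830720) : Cl M (fun g => g ∈ (Subgroup.normalizer (sub M.gen [x] : Set G))) [] [] (nat_lit 205) s82 :=
  cl_tree (e152 M hN) (x159 M hN) (dd0 _ _ _ _) k161
noncomputable def s163 : Nat := (nat_lit 0x1000000000000000000000000008000000000000000000020000200000000000000200000002000000000000000000100040000000000000000000000000080000000000000000000000000000000000000000000000)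
noncomputable def t164 : KT := KT.nil (SE.and (SE.lev (nat_lit 1)) (SE.tab (nat_lit 0))) [] [] []
theorem k165 : ktChk (nat_lit 693) H15.StdU62.nets F c150 [(s82, s82)] a156 [] y155 [] [nat_lit 205] (nat_lit 1) (nat_lit 187) s163 0 t164 = true := by decide +kernel
theorem l166 (M : PM G Ω 693 H15.StdU62.nets) (hN : Nat.card G = 9196830720) : Cl M (fun g => g ∈ (Subgroup.normalizer (sub M.gen [x] : Set G))) [] [nat_lit 205] (nat_lit 187) s163 :=
  cl_tree (e152 M hN) (x159 M hN) (dd0 _ _ _ _) k165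
noncomputable def s167 : Nat := (nat_lit 0x1000000000000000000000000008000000000000000000020000200000000000000200000002000000000000000000100040000000000000000000000000000000000000000000000000000000000000000000000000)
noncomputable def t168 : KT := KT.nil (SE.and (SE.lev (nat_lit 2)) (SE.tab (nat_lit 0))) [] [] []
theorem k169 : ktChk (nat_lit 693) H15.StdU62.nets F c150 [(s82, s82)] a156 [] y155 [] [nat_lit 187, nat_lit 205] (nat_lit 2) (nat_lit 294) s167 0 t168 = true := by decide +kernel
theorem l170 (M : PM G Ω 693 H15.StdU62.nets) (hN : Nat.card G = 9196830720) : Cl M (fun g => g ∈ (Subgroup.normalizer (sub M.gen [x] : Set G))) [] [nat_lit 187, nat_lit 205] (nat_lit 294) s167 :=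
  cl_tree (e152 M hN) (x159 M hN) (dd0 _ _ _ _) k169
noncomputable def s171 : Nat := (nat_lit 0x8000000000000000000000000200000000000000000000000000000000000000000100000000000000000000000000000000000000000000000000000000000000000000000000000)
noncomputable def t172 : KT := KT.nil (SE.and (SE.lev (nat_lit 3)) (SE.tab (nat_lit 0))) [] [] []
theorem k173 : ktChk (nat_lit 693) H15.StdU62.nets F c150 [(s82, s82)] a156 [] y155 [] [nat_lit 294, nat_lit 187, nat_lit 205] (nat_lit 3) (nat_lit 308) s171 0 t172 = true := by decide +kernel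
theorem l174 (M : PM G Ω 693 H15.StdU62.nets) (hN : Nat.card G = 9196830720) : Cl M (fun g => g ∈ (Subgroup.normalizer (sub M.gen [x] : Set G))) [] [nat_lit 294, nat_lit 187, nat_lit 205] (nat_lit 308) s171 :=
  cl_tree (e152 M hN) (x159 M hN) (dd0 _ _ _ _) k173
noncomputable def t175 : KT := KT.nil (SE.lev (nat_lit 4)) [] [] []
theorem k176 : ktChk (nat_lit 693) H15.StdU62.nets F c150 [(s82, s82)] a156 [] y155 [] [nat_lit 308, nat_lit 294, nat_lit 187, nat_lit 205] (nat_lit 4) (nat_lit 270) s137 0 t175 = true := by decide +kernel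
theorem l177 (M : PM G Ω 693 H15.StdU62.nets) (hN : Nat.card G = 9196830720) : Cl M (fun g => g ∈ (Subgroup.normalizer (sub M.gen [x] : Set G))) [] [nat_lit 308, nat_lit 294, nat_lit 187, nat_lit 205] (nat_lit 270) s137 :=
  cl_tree (e152 M hN) (x159 M hN) (dd0 _ _ _ _) k176
noncomputable def t178 : KT := KT.nil (SE.lev (nat_lit 5)) [] [] []
theorem k179 : ktChk (nat_lit 693) H15.StdU62.nets F c150 [(s82, s82)] a156 [] y155 [] [nat_lit 270, nat_lit 308, nat_lit 294, nat_lit 187, nat_lit 205] (nat_lit 5) (nat_lit 327) s141 0 t178 = true := by decide +kernel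
theorem l180 (M : PM G Ω 693 H15.StdU62.nets) (hN : Nat.card G = 9196830720) : Cl M (fun g => g ∈ (Subgroup.normalizer (sub M.gen [x] : Set G))) [] [nat_lit 270, nat_lit 308, nat_lit 294, nat_lit 187, nat_lit 205] (nat_lit 327) s141 :=
  cl_tree (e152 M hN) (x159 M hN) (dd0 _ _ _ _) k179
noncomputable def t181 : KT := KT.nil (SE.lev (nat_lit 6)) [] [] []
theorem k182 : ktChk (nat_lit 693) H15.StdU62.nets F c150 [(s82, s82)] a156 [] y155 [] [nat_lit 327, nat_lit 270, nat_lit 308, nat_lit 294, nat_lit 187, nat_lit 205] (nat_lit 6) (nat_lit 536) s146 0 t181 = true := by decide +kernel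
theorem l183 (M : PM G Ω 693 H15.StdU62.nets) (hN : Nat.card G = 9196830720) : Cl M (fun g => g ∈ (Subgroup.normalizer (sub M.gen [x] : Set G))) [] [nat_lit 327, nat_lit 270, nat_lit 308, nat_lit 294, nat_lit 187, nat_lit 205] (nat_lit 536) s146 :=
  cl_tree (e152 M hN) (x159 M hN) (dd0 _ _ _ _) k182
noncomputable def c184 : Chn := [((nat_lit 205), s82), ((nat_lit 187), s163), ((nat_lit 294), s167), ((nat_lit 308), s171), ((nat_lit 270), s137), ((nat_lit 327), s141), ((nat_lit 536), s146)]
theorem e185 (M : PM G Ω 693 H15.StdU62.nets) (hN : Nat.card G = 9196830720) : SC M (Subgroup.normalizer (sub M.gen [x] : Set G)) [] c184 :=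
  ⟨Cl.lev (l162 M hN), ⟨Cl.lev (l166 M hN), ⟨Cl.lev (l170 M hN), ⟨Cl.lev (l174 M hN), ⟨Cl.lev (l177 M hN), ⟨Cl.lev (l180 M hN), ⟨Cl.lev (l183 M hN), (EC.sc_end (e152 M hN) (by decide +kernel))⟩⟩⟩⟩⟩⟩⟩
theorem n2 (M : PM G Ω 693 H15.StdU62.nets) (hN : Nat.card G = 9196830720) : Nat.card (Subgroup.normalizer (sub M.gen [x] : Set G)) ≤ 93312 :=
  SC.card_le' (e185 M hN) (by decide +kernel)
noncomputable def y : Word := [nat_lit 8, nat_lit 34, nat_lit 32, nat_lit 28, nat_lit 22, nat_lit 12, nat_lit 16, nat_lit 4, nat_lit 31]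
noncomputable def w186 : Word := [nat_lit 2, nat_lit 34, nat_lit 24, nat_lit 30, nat_lit 22, nat_lit 18, nat_lit 25, nat_lit 0, nat_lit 20]
noncomputable def w187 : Word := [nat_lit 16, nat_lit 25, nat_lit 12, nat_lit 15, nat_lit 26, nat_lit 10, nat_lit 32, nat_lit 24, nat_lit 6]
noncomputable def w188 : Word := [nat_lit 31, nat_lit 15, nat_lit 2, nat_lit 14, nat_lit 30, nat_lit 10]
noncomputable def w189 : Word := [nat_lit 32, nat_lit 24, nat_lit 30, nat_lit 18, nat_lit 0, nat_lit 15, nat_lit 31, nat_lit 25, nat_lit 2]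
noncomputable def w190 : Word := [nat_lit 10, nat_lit 24, nat_lit 15, nat_lit 16, nat_lit 0, nat_lit 18, nat_lit 28, nat_lit 16, nat_lit 8]
noncomputable def w191 : Word := [nat_lit 6, nat_lit 34, nat_lit 25, nat_lit 26, nat_lit 10, nat_lit 26, nat_lit 2, nat_lit 24]
noncomputable def w192 : Word := [nat_lit 31, nat_lit 15, nat_lit 2, nat_lit 14, nat_lit 30]
noncomputable def ks : List Word := [w186, w187, w188, w189, w190, w191, w192]
noncomputable def s193 : Nat := (nat_lit 0x128200ac1203461c3000202461289320bc280122c0138806849857203120600b18052c134801c12dcba02043083001649c39004feded1d3e2330f38002273df0fbbf88b30c568212ff79f100226089f74c40407280)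
noncomputable def s194 : Nat := (nat_lit 0x116a0140dd030138918205dc9cd096820c440241a0c8148c11486a050850849f985044209060055e0e40005219949083ac08220052b0000002c11400041e340080020000230cb001558100040e0d901a020892341c8922)
noncomputable def s195 : Nat := (nat_lit 0x100000000000000000000000000000000000000000000000000000000000000000000000001)
noncomputable def c196 : Chn := [((nat_lit 7), s193), ((nat_lit 1), s194), ((nat_lit 0), s195), ((nat_lit 9), (bit (nat_lit 9))), ((nat_lit 11), (bit (nat_lit 11))), ((nat_lit 10), (bit (nat_lit 10))), ((nat_lit 2), (bit (nat_lit 2)))]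
noncomputable def d197 : List OD := [⟨[nat_lit 6, nat_lit 5, nat_lit 0], [dw (nat_lit 0x05), dw (nat_lit 0x01), dw (nat_lit 0x03), dw (nat_lit 0x05), dw (nat_lit 0x01), dw (nat_lit 0x05), dw (nat_lit 0x03), dw (nat_lit 0x01)
, dw (nat_lit 0x05), dw (nat_lit 0x01)], (dn (nat_lit 20) (nat_lit 0x050c303c0106ac103f4202e4302e42046c201c410424303a4305a8201602089c300cc108ec308b4307002024c302d43025c305dc305a0305a0101883084020290302c820a3c30a3c10a2830488105e0302f4202f4101e420928202b4300583019c30190204b8204b810690302cc203c82048c3063030630207e4205843058420140207e03016c20890201b02086c30990207103071020408307cc203b4303b4206a0306a01077030394303942041430414106a4203703037020340101783017820a3420a3410470304701027430274200a0300a020380303802079c302e820184301842041c3041c2041830418209c4200a4300a420748307482057c302b0307a4307a4200243077c30194301942028c2076c30554207442095430954207583059830918306683015430750302d0302d0202c0304603090030a903040030894200b8302943029420474202b830420202bc201e8301e8206f4306f42068c300f4300f4205b43026420a7c2042c204c0207dc2073420374200f8200c02018020994208182))⟩,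
 ⟨[nat_lit 6, nat_lit 3, nat_lit 4], [dw (nat_lit 0x03), dw (nat_lit 0x01), dw (nat_lit 0x05), dw (nat_lit 0x03), dw (nat_lit 0x05), dw (nat_lit 0x03)], (dn (nat_lit 20) (nat_lit 0x025430838305c4305f8305c8208e4308a8302a43014c309dc2043030aac30168206743009c2093c205282095c206b02012020210306fc205f0305f020578307383082c3082c208b8308b820a0030a002083c3083c201c8209a4309a42095030950209483094820730204ac207fc206082021430a483071c3087830a50306e43022c200e430980206b830348300ec300ec207d02004c3074c3074c106cc306cc200ac306e82032820978204dc208c8308c8204503045020970309702011c207b83004830aa43054c30110301102080830808201a0301a02045830ab830ab820550201e0301e02070820050300502097c3097c200f0300f020228302282090430904207843060030600204e4304e42048430a80302dc307ec307ec2063830638104cc304cc20ad030ad02002c3053020434205cc2043c3043c209682091c20a24204443044420768307682014430650306502038830388200203002020084300842031030310203101021c3021c209383093820ac030ac020070307603076020930307e8306e0306e0106f03088430a5c1))⟩,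
 ⟨[nat_lit 6], [], (dn (nat_lit 20) (nat_lit 0x00001))⟩,
 ⟨[], [], []⟩,
 ⟨[], [], []⟩,
 ⟨[], [], []⟩,
 ⟨[], [], []⟩]
theorem k198 : ocChk (nat_lit 693) H15.StdU62.nets F ks c196 d197 [] = true := by decide +kernel
theorem o199 (M : PM G Ω 693 H15.StdU62.nets) (hN : Nat.card G = 9196830720) : OC M (sub M.gen ks) [] c196 :=
  oc_of le_rfl k198
noncomputable def v200 : List (List Word) := [[dw (nat_lit 0x01)],
 [dw (nat_lit 0x02)],
 [dw (nat_lit 0x01)],
 [dw (nat_lit 0x02)],
 [dw (nat_lit 0x01)],
 [dw (nat_lit 0x01)],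
 [dw (nat_lit 0x01)]]
theorem k201 : relK F bs0 (nrR [x] [x] ks v200) = true := by decide +kernel
theorem eq2 (M : PM G Ω 693 H15.StdU62.nets) (hN : Nat.card G = 9196830720) : (Subgroup.normalizer (sub M.gen [x] : Set G)) = sub M.gen ks ∧ Nat.card (sub M.gen ks) = 93312 :=
  eq_of_cards (le_normalizer_of le_rfl (rels_base (base0 M hN) k201) (by decide +kernel)) (n2 M hN) (OC.le_card' (N := 93312) (o199 M hN) (by decide +kernel))
noncomputable def w : Word := [nat_lit 2, nat_lit 30, nat_lit 30, nat_lit 24, nat_lit 16, nat_lit 23, nat_lit 12, nat_lit 4, nat_lit 26, nat_lit 12]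
noncomputable def s : Word := [nat_lit 22, nat_lit 32, nat_lit 14, nat_lit 28, nat_lit 2, nat_lit 14, nat_lit 31, nat_lit 6, nat_lit 30]
noncomputable def v202 : List Word := [dw (nat_lit 0x0e010d0d02)]
theorem k203 : relK F bs0 (memRels (List.append zs [y]) [w] v202) = true := by decide +kernel
theorem wp (M : PM G Ω 693 H15.StdU62.nets) (hN : Nat.card G = 9196830720) : sub M.gen [w] ≤ (sub M.gen (List.append zs [y])) :=
  (sub_le_of_memRels (rels_base (base0 M hN) k203))
noncomputable def v204 : List (List Word) := [[dw (nat_lit 0x01030607), dw (nat_lit 0x0307), dw (nat_lit 0x0508), dw (nat_lit 0x07)],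
 [dw (nat_lit 0x0105), dw (nat_lit 0x03), dw (nat_lit 0x0507), dw (nat_lit 0x07)],
 [dw (nat_lit 0x01), dw (nat_lit 0x03), dw (nat_lit 0x05), dw (nat_lit 0x07)],
 [dw (nat_lit 0x01), dw (nat_lit 0x03), dw (nat_lit 0x05), dw (nat_lit 0x07)],
 [dw (nat_lit 0x01), dw (nat_lit 0x03), dw (nat_lit 0x05), dw (nat_lit 0x07)],
 [dw (nat_lit 0x01), dw (nat_lit 0x03), dw (nat_lit 0x05), dw (nat_lit 0x07)],
 [dw (nat_lit 0x03), dw (nat_lit 0x0307), dw (nat_lit 0x01), dw (nat_lit 0x020607)],
 [dw (nat_lit 0x010607), dw (nat_lit 0x0407), dw (nat_lit 0x0508), dw (nat_lit 0x07)]]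
theorem k205 : relK F bs0 (nrR qs qs (List.append (List.append zs [y]) [s]) v204) = true := by decide +kernel
theorem nq (M : PM G Ω 693 H15.StdU62.nets) (hN : Nat.card G = 9196830720) : (sub M.gen (List.append (List.append zs [y]) [s])) ≤ (Subgroup.normalizer (sub M.gen qs : Set G)) :=
  (le_normalizer_of le_rfl (rels_base (base0 M hN) k205) (by decide +kernel))
noncomputable def w206 : Word := [nat_lit 23, nat_lit 30, nat_lit 34, nat_lit 12, nat_lit 34, nat_lit 2, nat_lit 30, nat_lit 2, nat_lit 12]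
noncomputable def w207 : Word := [nat_lit 34, nat_lit 25, nat_lit 22, nat_lit 12, nat_lit 24, nat_lit 8, nat_lit 24, nat_lit 22, nat_lit 14]
noncomputable def w208 : Word := [nat_lit 0, nat_lit 26, nat_lit 30, nat_lit 20, nat_lit 26, nat_lit 32, nat_lit 18, nat_lit 24, nat_lit 18, nat_lit 0]
noncomputable def w209 : Word := [nat_lit 0, nat_lit 32, nat_lit 30, nat_lit 30, nat_lit 20, nat_lit 16, nat_lit 14, nat_lit 28, nat_lit 0]
noncomputable def w210 : Word := [nat_lit 34, nat_lit 28, nat_lit 30, nat_lit 2, nat_lit 6, nat_lit 31, nat_lit 34, nat_lit 28]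
noncomputable def as : List Word := [w206, w207, w208, w209, w210]
noncomputable def v211 : List Word := [dw (nat_lit 0x0803010e030e02), dw (nat_lit 0x0d020e0e0703), dw (nat_lit 0x0e0e040d), dw (nat_lit 0x030e040e0306), dw (nat_lit 0x0d040e0e020e02)]
theorem k212 : relK F bs0 (memRels (List.append zs [y]) as v211) = true := by decide +kernel
noncomputable def s213 : Nat := (nat_lit 0x1020000045024800122c010d4000040004100841081040014100002204000000200041040001440028220400900040180000002000010100000004000040400000004000108208000800006024605002000a021820c12)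
noncomputable def s214 : Nat := (nat_lit 0x3680482812506615312a0300539a5000060001004910084008c5022218c02009180d05c20881250dc3a42268084005f4140002634d8524040131800822602490201e08c301420340ada010212250ca2d109004502c)
noncomputable def c215 : Chn := [((nat_lit 1), s213), ((nat_lit 2), s214), ((nat_lit 0), (nat_lit 0x4000001)), ((nat_lit 9), (bit (nat_lit 9))), ((nat_lit 11), (bit (nat_lit 11))), ((nat_lit 10), (bit (nat_lit 10)))]
noncomputable def d216 : List OD := [⟨[nat_lit 4, nat_lit 0], [], (dn (nat_lit 20) (nat_lit 0x02881073820100203782087c10144201441059420608200942083c206c4204e01054020a1420164209702076420764106702099c20998205c42012420124108082080810464209c01057820578105f820688205a410a3820a30207c8107b020128209502095010410201bc203082030810868204dc204dc103f0203f0108f8208f81002c2002c1001010aa4208b8200602050820754200d4200d41021420214101fc2054c2054c1095c108202009c2009c1013820ac020ac0101082010810a082007420074100042))⟩,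
 ⟨[nat_lit 4, nat_lit 3, nat_lit 2], [dw (nat_lit 0x03), dw (nat_lit 0x05), dw (nat_lit 0x01), dw (nat_lit 0x03), dw (nat_lit 0x05), dw (nat_lit 0x01), dw (nat_lit 0x03)], (dn (nat_lit 20) (nat_lit 0x007c10690302f8201c030a2c3018810038107b82078c30150208fc207cc109a0103e030538200dc200dc1020030114204b8105a020374102c8302c82076030490300a010444205c0205c01096c109b0201743027030270108d0308d0108ec30a943050c3050c1094430944103a8309183066c3066c203701043420434109d4209d410180301801056810264302642057c304c8304c82023c3023c2023c10120301201063820638100a830a5830a582080020a103026c20090306f8306f8206f81090020900107783077820778103e8303e8203e8103d4303d42018c205c8305c8204bc209f820408304082080c30554306fc3073430400306a0307f0309c830544302d4308f0304a8300c430104302bc30a3430294304b43))⟩,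
 ⟨[nat_lit 4], [], (dn (nat_lit 20) (nat_lit 0x00001))⟩,
 ⟨[], [], []⟩,
 ⟨[], [], []⟩,
 ⟨[], [], []⟩]
theorem k217 : ocChk (nat_lit 693) H15.StdU62.nets F as c215 d216 [] = true := by decide +kernel
theorem o218 (M : PM G Ω 693 H15.StdU62.nets) (hN : Nat.card G = 9196830720) : OC M (sub M.gen (List.append zs [y])) [] c215 :=
  oc_of (sub_le_of_memRels (rels_base (base0 M hN) k212)) k217
theorem lowas (M : PM G Ω 693 H15.StdU62.nets) (hN : Nat.card G = 9196830720) : 29160 ≤ Nat.card (sub M.gen (List.append zs [y])) :=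
  (OC.le_card' (N := 29160) (o218 M hN) (by decide +kernel))
noncomputable def w219 : Word := [nat_lit 8, nat_lit 26, nat_lit 14, nat_lit 16, nat_lit 25, nat_lit 2, nat_lit 14, nat_lit 28, nat_lit 8]
noncomputable def w220 : Word := [nat_lit 16, nat_lit 28, nat_lit 20, nat_lit 16, nat_lit 32, nat_lit 6, nat_lit 4, nat_lit 22, nat_lit 14]
noncomputable def w221 : Word := [nat_lit 30, nat_lit 16, nat_lit 10, nat_lit 18, nat_lit 16, nat_lit 31]
noncomputable def w222 : Word := [nat_lit 0, nat_lit 31, nat_lit 31, nat_lit 32, nat_lit 25, nat_lit 28, nat_lit 23, nat_lit 18, nat_lit 25, nat_lit 0]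
noncomputable def w223 : Word := [nat_lit 26, nat_lit 15, nat_lit 2, nat_lit 14, nat_lit 26]
noncomputable def bs : List Word := [w219, w220, w221, w222, w223, w210]
noncomputable def v224 : List Word := [dw (nat_lit 0x08020b010805070609), dw (nat_lit 0x01030109080b05), dw (nat_lit 0x0101030105080b05), dw (nat_lit 0x020503080907050b), dw (nat_lit 0x030204080b060709), dw (nat_lit 0x0601030b080809), dw (nat_lit 0x0803010707), dw (nat_lit 0x020b010608080509)
]
theorem k225 : relK F bs0 (memRels bs (List.append (List.append zs [y]) [s]) v224) = true := by decide +kernel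
theorem nb (M : PM G Ω 693 H15.StdU62.nets) (hN : Nat.card G = 9196830720) : (sub M.gen (List.append (List.append zs [y]) [s])) ≤ sub M.gen bs :=
  (sub_le_of_memRels (rels_base (base0 M hN) k225))
noncomputable def v226 : List (List Word) := [[dw (nat_lit 0x0607), dw (nat_lit 0x01), dw (nat_lit 0x0608), dw (nat_lit 0x020407)],
 [dw (nat_lit 0x0206), dw (nat_lit 0x05), dw (nat_lit 0x0308), dw (nat_lit 0x010306)],
 [dw (nat_lit 0x04), dw (nat_lit 0x0407), dw (nat_lit 0x010305), dw (nat_lit 0x020407)],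
 [dw (nat_lit 0x05), dw (nat_lit 0x010407), dw (nat_lit 0x0507), dw (nat_lit 0x020407)],
 [dw (nat_lit 0x010607), dw (nat_lit 0x03), dw (nat_lit 0x0608), dw (nat_lit 0x07)],
 [dw (nat_lit 0x010607), dw (nat_lit 0x0407), dw (nat_lit 0x0608), dw (nat_lit 0x07)]]
theorem k227 : relK F bs0 (nrR qs qs bs v226) = true := by decide +kernel
theorem bq (M : PM G Ω 693 H15.StdU62.nets) (hN : Nat.card G = 9196830720) : sub M.gen bs ≤ (Subgroup.normalizer (sub M.gen qs : Set G)) :=
  (le_normalizer_of le_rfl (rels_base (base0 M hN) k227) (by decide +kernel))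
noncomputable def v228 : List Word := [dw (nat_lit 0x0101030105080b05), dw (nat_lit 0x020503080907050b), dw (nat_lit 0x030204080b060709), dw (nat_lit 0x0601030b080809)]
theorem k229 : relK F bs0 (memRels bs qs v228) = true := by decide +kernel
theorem qb (M : PM G Ω 693 H15.StdU62.nets) (hN : Nat.card G = 9196830720) : sub M.gen qs ≤ sub M.gen bs :=
  (sub_le_of_memRels (rels_base (base0 M hN) k229))
noncomputable def w230 : Word := [nat_lit 16, nat_lit 28, nat_lit 22, nat_lit 14, nat_lit 30, nat_lit 14, nat_lit 6, nat_lit 31, nat_lit 23, nat_lit 32]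
noncomputable def w231 : Word := [nat_lit 8, nat_lit 24, nat_lit 23, nat_lit 8, nat_lit 22, nat_lit 6, nat_lit 25]
noncomputable def w232 : Word := [nat_lit 25, nat_lit 26, nat_lit 23, nat_lit 14, nat_lit 18, nat_lit 0, nat_lit 2, nat_lit 20, nat_lit 31, nat_lit 15]
noncomputable def w233 : Word := [nat_lit 20, nat_lit 31, nat_lit 31, nat_lit 26, nat_lit 6, nat_lit 4, nat_lit 30, nat_lit 6, nat_lit 32]
noncomputable def w234 : Word := [nat_lit 14, nat_lit 25, nat_lit 26, nat_lit 20, nat_lit 28, nat_lit 8, nat_lit 26, nat_lit 18, nat_lit 0]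
noncomputable def jys : List Word := [w230, w231, w232, w233, w234]
noncomputable def v235 : List Word := [dw (nat_lit 0x08020b010706080b), dw (nat_lit 0x050203050806070b), dw (nat_lit 0x08020b01070608), dw (nat_lit 0x070601090806080b), dw (nat_lit 0x0407040107090806)]
theorem k236 : relK F bs0 (memRels bs jys v235) = true := by decide +kernel
theorem jhy (M : PM G Ω 693 H15.StdU62.nets) (hN : Nat.card G = 9196830720) : (sub M.gen jys) ≤ (sub M.gen bs) :=
  (sub_le_of_memRels (rels_base (base0 M hN) k236))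
noncomputable def v237 : List Word := [[], dw (nat_lit 0x010308), dw (nat_lit 0x040507), [], dw (nat_lit 0x020407), dw (nat_lit 0x030608), [], []
, dw (nat_lit 0x010308), dw (nat_lit 0x02040607), dw (nat_lit 0x010308), dw (nat_lit 0x01030508), dw (nat_lit 0x020407), [], [], dw (nat_lit 0x0104)
, [], [], [], [], dw (nat_lit 0x020607), [], [], dw (nat_lit 0x010308)
, [], []]
theorem k238 : relK F bs0 (qR jys qs H15.StdSym6.rels v237) = true := by decide +kernel
noncomputable def v239 : Prs := [(dw (nat_lit 0x0103070507), dw (nat_lit 0x0103)),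
 (dw (nat_lit 0x010705030509), dw (nat_lit 0x010406)),
 (dw (nat_lit 0x09070503010907050309), dw (nat_lit 0x020408)),
 (dw (nat_lit 0x0307050907), dw (nat_lit 0x0206)),
 (dw (nat_lit 0x0301050309), dw (nat_lit 0x0508)),
 (dw (nat_lit 0x0105), [])]
theorem k240 : relK F bs0 (sR jys qs H15.StdSym6.ws0 bs v239) = true := by decide +kernel
theorem jqs_ (M : PM G Ω 693 H15.StdU62.nets) (hN : Nat.card G = 9196830720) : ∀ {X : Type*} [Group X], PresF G X H15.StdSym6.rels H15.StdSym6.ws0 → QS X (sub M.gen bs) (sub M.gen qs) :=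
  fun hP _ => quot_surj hP (qb M hN) (jhy M hN) le_rfl le_rfl (rels_base (base0 M hN) k238) (rels_base (base0 M hN) k240) (by decide +kernel)
noncomputable def m241 : List (List (List Nat)) := [[[nat_lit 1, nat_lit 1, nat_lit 2, nat_lit 1],
 [nat_lit 0, nat_lit 1, nat_lit 0, nat_lit 1],
 [nat_lit 0, nat_lit 0, nat_lit 1, nat_lit 2],
 [nat_lit 0, nat_lit 0, nat_lit 0, nat_lit 1]],
 [[nat_lit 1, nat_lit 0, nat_lit 1, nat_lit 0],
 [nat_lit 0, nat_lit 1, nat_lit 0, nat_lit 0],
 [nat_lit 0, nat_lit 0, nat_lit 1, nat_lit 1],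
 [nat_lit 0, nat_lit 0, nat_lit 0, nat_lit 1]],
 [[nat_lit 1, nat_lit 0, nat_lit 0, nat_lit 0],
 [nat_lit 0, nat_lit 1, nat_lit 0, nat_lit 0],
 [nat_lit 0, nat_lit 0, nat_lit 1, nat_lit 0],
 [nat_lit 0, nat_lit 0, nat_lit 0, nat_lit 1]],
 [[nat_lit 1, nat_lit 0, nat_lit 0, nat_lit 0],
 [nat_lit 0, nat_lit 1, nat_lit 0, nat_lit 0],
 [nat_lit 0, nat_lit 0, nat_lit 1, nat_lit 0],
 [nat_lit 0, nat_lit 0, nat_lit 0, nat_lit 1]],
 [[nat_lit 1, nat_lit 0, nat_lit 0, nat_lit 0],
 [nat_lit 0, nat_lit 1, nat_lit 0, nat_lit 0],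
 [nat_lit 0, nat_lit 0, nat_lit 1, nat_lit 0],
 [nat_lit 0, nat_lit 0, nat_lit 0, nat_lit 1]],
 [[nat_lit 1, nat_lit 0, nat_lit 0, nat_lit 0],
 [nat_lit 0, nat_lit 1, nat_lit 0, nat_lit 0],
 [nat_lit 0, nat_lit 0, nat_lit 1, nat_lit 0],
 [nat_lit 0, nat_lit 0, nat_lit 0, nat_lit 1]],
 [[nat_lit 0, nat_lit 1, nat_lit 0, nat_lit 0],
 [nat_lit 0, nat_lit 1, nat_lit 0, nat_lit 1],
 [nat_lit 1, nat_lit 0, nat_lit 0, nat_lit 0],
 [nat_lit 2, nat_lit 0, nat_lit 2, nat_lit 1]],
 [[nat_lit 1, nat_lit 0, nat_lit 2, nat_lit 1],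
 [nat_lit 0, nat_lit 2, nat_lit 0, nat_lit 1],
 [nat_lit 0, nat_lit 0, nat_lit 1, nat_lit 2],
 [nat_lit 0, nat_lit 0, nat_lit 0, nat_lit 1]]]
noncomputable def r1 : Word := [nat_lit 6, nat_lit 12, nat_lit 8, nat_lit 6]
noncomputable def r2 : Word := [nat_lit 0, nat_lit 34, nat_lit 31, nat_lit 32, nat_lit 20, nat_lit 14, nat_lit 18, nat_lit 6]
theorem k242 : omChk 3 qs (List.append (List.append zs [y]) [s]) [x, r1, r2] m241 [nat_lit 1728, nat_lit 577, nat_lit 2562] (dn (nat_lit 36) (nat_lit 0x003e00607002c01402002001401001500c01004a00988003800647000e01087003200707000c012c7004500a81001800cc20027003c80050007c7003000947002601187001901182004201247001c01242004b01388002a01387003301382000f01307001f01302002500f47004600f42004900f41004e00a07004c00a02003d00a01003c007880039007810022013c20029011c70008011c2004d011c1000600087003b00681000d00b810021000c8001e000c1004f00c47000400c42002b00c41001200b42004800b41001401048004701047000201042001a01041002e00048000300047000a00042003100041002d00907004100fc7000100247002400242003f00241003701008003a010010036001c70010001c2001600d47000501102001100741004300d08001300d07004000d010007002c70017008c70035008c20044008c1001d00bc8003400bc7000b00bc2002300bc1002f006c7))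 = true := by decide +kernel
theorem k243 : relK F bs0 (rpR 3 qs [x, r1, r2] [nat_lit 1728, nat_lit 577, nat_lit 2562]) = true := by decide +kernel
theorem k244 : relK F bs0 (mtR qs (List.append (List.append zs [y]) [s]) m241) = true := by decide +kernel
theorem ocv (M : PM G Ω 693 H15.StdU62.nets) (hN : Nat.card G = 9196830720) : OCv M.gen qs (sub M.gen (List.append (List.append zs [y]) [s])) [x, r1, r2] :=
  ocv_of (by decide) (el M hN) (rels_base (base0 M hN) k244) (rels_base (base0 M hN) k243) k242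
theorem k245 : Nat.beq (pop (nat_lit 693) s82) 18 = true := by decide +kernel
theorem fc0 (M : PM G Ω 693 H15.StdU62.nets) (hN : Nat.card G = 9196830720) : FixC M [x] 18 :=
  ⟨_, IsFix.fixL (f84 M hN), Nat.eq_of_beq_eq_true k245⟩
theorem k246 : band (Nat.ble (nat_lit 693) (Nat.pow 2 (nat_lit 10))) (fsChk (nat_lit 693) (nat_lit 10) H15.StdU62.nets r1 s78 (full (nat_lit 693)) 0 0 (nat_lit 10)) = true := by decide +kernel
theorem f247 (M : PM G Ω 693 H15.StdU62.nets) (hN : Nat.card G = 9196830720) : IsFix M r1 s78 :=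
  fix_one k246
theorem k248 : Nat.beq (pop (nat_lit 693) s78) 45 = true := by decide +kernel
theorem fc1 (M : PM G Ω 693 H15.StdU62.nets) (hN : Nat.card G = 9196830720) : FixC M [r1] 45 :=
  ⟨_, IsFix.fixL (f247 M hN), Nat.eq_of_beq_eq_true k248⟩
noncomputable def s249 : Nat := (nat_lit 0x100010000000000000000020000000004000000002200000002000000000000000008000000000000000000000000004000000000000000000000000000000000000000000000000000)
theorem k250 : band (Nat.ble (nat_lit 693) (Nat.pow 2 (nat_lit 10))) (fsChk (nat_lit 693) (nat_lit 10) H15.StdU62.nets r2 s249 (full (nat_lit 693)) 0 0 (nat_lit 10)) = true := by decide +kernel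
theorem f251 (M : PM G Ω 693 H15.StdU62.nets) (hN : Nat.card G = 9196830720) : IsFix M r2 s249 :=
  fix_one k250
theorem k252 : Nat.beq (pop (nat_lit 693) s249) 9 = true := by decide +kernel
theorem fc2 (M : PM G Ω 693 H15.StdU62.nets) (hN : Nat.card G = 9196830720) : FixC M [r2] 9 :=
  ⟨_, IsFix.fixL (f251 M hN), Nat.eq_of_beq_eq_true k252⟩
noncomputable def v253 : List Word := [dw (nat_lit 0x07)]
theorem k254 : relK F bs0 (memRels qs [x] v253) = true := by decide +kernel
theorem xq (M : PM G Ω 693 H15.StdU62.nets) (hN : Nat.card G = 9196830720) : sub M.gen [x] ≤ sub M.gen qs :=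
  (sub_le_of_memRels (rels_base (base0 M hN) k254))
theorem k255 : relK F bs0 [(powW y 5, [])] = true := by decide +kernel
theorem y5 (M : PM G Ω 693 H15.StdU62.nets) (hN : Nat.card G = 9196830720) : ev M.gen y ^ 5 = 1 :=
  (ev_powW _ _).symm.trans ((rels_base (base0 M hN) k255) _ List.mem_cons_self)
noncomputable def w256 : Word := [nat_lit 4, nat_lit 31, nat_lit 25, nat_lit 28, nat_lit 12, nat_lit 32, nat_lit 0, nat_lit 20, nat_lit 8]
noncomputable def w257 : Word := [nat_lit 31, nat_lit 20, nat_lit 12, nat_lit 16, nat_lit 18, nat_lit 6, nat_lit 32, nat_lit 2, nat_lit 22]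
noncomputable def w258 : Word := [nat_lit 31, nat_lit 24, nat_lit 20, nat_lit 8, nat_lit 18, nat_lit 30, nat_lit 20, nat_lit 0]
noncomputable def w259 : Word := [nat_lit 31, nat_lit 22, nat_lit 12, nat_lit 15, nat_lit 25, nat_lit 6, nat_lit 10, nat_lit 18, nat_lit 31, nat_lit 10]
noncomputable def w260 : Word := [nat_lit 0, nat_lit 32, nat_lit 28, nat_lit 20, nat_lit 14, nat_lit 4, nat_lit 20, nat_lit 23, nat_lit 28, nat_lit 8]
noncomputable def w261 : Word := [nat_lit 15, nat_lit 31, nat_lit 20, nat_lit 26, nat_lit 18, nat_lit 10, nat_lit 22, nat_lit 20, nat_lit 16]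
noncomputable def w262 : Word := [nat_lit 34, nat_lit 30, nat_lit 30, nat_lit 16, nat_lit 12, nat_lit 32, nat_lit 0, nat_lit 15, nat_lit 10, nat_lit 18]
noncomputable def w263 : Word := [nat_lit 31, nat_lit 31, nat_lit 28, nat_lit 14, nat_lit 32, nat_lit 2, nat_lit 8, nat_lit 32, nat_lit 14]
noncomputable def w264 : Word := [nat_lit 14, nat_lit 16, nat_lit 12, nat_lit 31, nat_lit 25, nat_lit 8, nat_lit 32, nat_lit 10, nat_lit 26]
noncomputable def w265 : Word := [nat_lit 6, nat_lit 32, nat_lit 30, nat_lit 15, nat_lit 31, nat_lit 6, nat_lit 31, nat_lit 16]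
noncomputable def w266 : Word := [nat_lit 23, nat_lit 31, nat_lit 16, nat_lit 20, nat_lit 16, nat_lit 14, nat_lit 0, nat_lit 10, nat_lit 15]
noncomputable def w267 : Word := [nat_lit 25, nat_lit 16, nat_lit 12, nat_lit 24, nat_lit 18, nat_lit 4, nat_lit 34, nat_lit 23, nat_lit 26]
noncomputable def w268 : Word := [nat_lit 0, nat_lit 20, nat_lit 28, nat_lit 20, nat_lit 15, nat_lit 8, nat_lit 23, nat_lit 2, nat_lit 22, nat_lit 34]
noncomputable def w269 : Word := [nat_lit 24, nat_lit 30, nat_lit 22, nat_lit 18, nat_lit 26, nat_lit 0, nat_lit 16, nat_lit 30, nat_lit 16, nat_lit 14]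
noncomputable def w270 : Word := [nat_lit 28, nat_lit 12, nat_lit 28, nat_lit 2, nat_lit 0, nat_lit 20, nat_lit 0, nat_lit 2]
noncomputable def w271 : Word := [nat_lit 2, nat_lit 31, nat_lit 28, nat_lit 15, nat_lit 4, nat_lit 10, nat_lit 32, nat_lit 31, nat_lit 8]
noncomputable def w272 : Word := [nat_lit 28, nat_lit 18, nat_lit 28, nat_lit 10, nat_lit 30, nat_lit 2, nat_lit 20, nat_lit 31]
noncomputable def w273 : Word := [nat_lit 32, nat_lit 16, nat_lit 28, nat_lit 14, nat_lit 25, nat_lit 4, nat_lit 10, nat_lit 22, nat_lit 25, nat_lit 8]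
noncomputable def w274 : Word := [nat_lit 22, nat_lit 16, nat_lit 30, nat_lit 15, nat_lit 2, nat_lit 28, nat_lit 2, nat_lit 26, nat_lit 14]
noncomputable def w275 : Word := [nat_lit 8, nat_lit 31, nat_lit 26, nat_lit 12, nat_lit 31, nat_lit 4, nat_lit 18, nat_lit 31, nat_lit 25]
noncomputable def w276 : Word := [nat_lit 20, nat_lit 30, nat_lit 30, nat_lit 16, nat_lit 6, nat_lit 8, nat_lit 30, nat_lit 23, nat_lit 6]
noncomputable def w277 : Word := [nat_lit 32, nat_lit 16, nat_lit 28, nat_lit 30, nat_lit 12, nat_lit 4, nat_lit 30, nat_lit 15, nat_lit 30]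
noncomputable def w278 : Word := [nat_lit 22, nat_lit 32, nat_lit 28, nat_lit 4, nat_lit 18, nat_lit 16, nat_lit 14, nat_lit 10]
noncomputable def w279 : Word := [nat_lit 16, nat_lit 22, nat_lit 12, nat_lit 30, nat_lit 23, nat_lit 6, nat_lit 16, nat_lit 34, nat_lit 10]
noncomputable def w280 : Word := [nat_lit 34, nat_lit 24, nat_lit 16, nat_lit 20, nat_lit 14, nat_lit 2, nat_lit 8, nat_lit 14, nat_lit 10, nat_lit 14]
noncomputable def ts : List Word := [w186, w187, w189, w190, w191, w256, w257, w258, w259, w260, w261, w262, w263, w264, w265, w266, w267, w268, w269, w270, w271, w272, w273, w274, w275, w276, w277, w278, w279, w280]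
noncomputable def j281 : List (List (Nat × Word)) := [[(2, []), (3, []), (0, [nat_lit 0, nat_lit 13, nat_lit 5, nat_lit 13]), (4, []), (5, []), (6, []), (1, [nat_lit 11, nat_lit 12, nat_lit 1, nat_lit 12])],
 [(7, []), (8, []), (1, [nat_lit 12, nat_lit 8, nat_lit 2, nat_lit 12]), (9, []), (6, [nat_lit 4, nat_lit 10, nat_lit 12, nat_lit 1, nat_lit 12]), (5, [nat_lit 12, nat_lit 7, nat_lit 1, nat_lit 12]), (0, [nat_lit 10, nat_lit 13, nat_lit 0, nat_lit 13])],
 [(10, []), (11, []), (2, [nat_lit 0, nat_lit 12, nat_lit 0, nat_lit 12]), (12, []), (9, [nat_lit 0, nat_lit 12, nat_lit 5, nat_lit 0]), (13, []), (7, [nat_lit 3, nat_lit 4, nat_lit 13, nat_lit 0, nat_lit 13])],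
 [(6, [nat_lit 0, nat_lit 11, nat_lit 13, nat_lit 3]), (14, []), (3, [nat_lit 0, nat_lit 12, nat_lit 12, nat_lit 1]), (15, []), (16, []), (17, []), (8, [nat_lit 3, nat_lit 6, nat_lit 0])],
 [(18, []), (19, []), (4, [nat_lit 0, nat_lit 13, nat_lit 5, nat_lit 13]), (17, [nat_lit 9, nat_lit 13, nat_lit 3]), (14, [nat_lit 3, nat_lit 4, nat_lit 7, nat_lit 13]), (19, [nat_lit 0, nat_lit 0, nat_lit 12, nat_lit 1]), (9, [nat_lit 2, nat_lit 5])],
 [(20, []), (2, [nat_lit 6, nat_lit 12, nat_lit 9]), (5, [nat_lit 0, nat_lit 13, nat_lit 5, nat_lit 13]), (20, [nat_lit 1, nat_lit 12, nat_lit 5, nat_lit 9]), (21, []), (0, [nat_lit 0, nat_lit 7, nat_lit 12, nat_lit 12]), (6, [nat_lit 5])],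
 [(22, []), (7, [nat_lit 2, nat_lit 0, nat_lit 7, nat_lit 12]), (6, [nat_lit 0, nat_lit 13, nat_lit 5, nat_lit 13]), (22, [nat_lit 7, nat_lit 13, nat_lit 6, nat_lit 0]), (18, [nat_lit 0, nat_lit 12, nat_lit 7, nat_lit 1]), (1, [nat_lit 2, nat_lit 5]), (5, [nat_lit 4])],
 [(19, [nat_lit 2, nat_lit 12, nat_lit 12]), (16, [nat_lit 3, nat_lit 0, nat_lit 12, nat_lit 12, nat_lit 0]), (7, [nat_lit 3, nat_lit 12, nat_lit 3, nat_lit 9, nat_lit 12]), (23, []), (4, [nat_lit 7, nat_lit 13, nat_lit 4, nat_lit 1]), (24, []), (2, [nat_lit 1, nat_lit 12, nat_lit 4, nat_lit 0, nat_lit 12])],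
 [(5, [nat_lit 11, nat_lit 13, nat_lit 0, nat_lit 5]), (25, []), (8, [nat_lit 1, nat_lit 12, nat_lit 1, nat_lit 12, nat_lit 6]), (26, []), (11, [nat_lit 1, nat_lit 2, nat_lit 12, nat_lit 6, nat_lit 12]), (27, []), (3, [nat_lit 1, nat_lit 2, nat_lit 7])],
 [(21, [nat_lit 4, nat_lit 6, nat_lit 13]), (10, [nat_lit 12, nat_lit 9, nat_lit 12, nat_lit 0]), (9, [nat_lit 12, nat_lit 8, nat_lit 2, nat_lit 12]), (27, [nat_lit 3, nat_lit 11, nat_lit 12, nat_lit 1]), (25, [nat_lit 12, nat_lit 5, nat_lit 0, nat_lit 5]), (10, [nat_lit 1, nat_lit 2, nat_lit 12, nat_lit 4]), (4, [nat_lit 4, nat_lit 3])],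
 [(0, [nat_lit 0, nat_lit 0, nat_lit 5, nat_lit 12, nat_lit 12]), (28, []), (10, [nat_lit 7, nat_lit 9, nat_lit 12, nat_lit 2, nat_lit 12]), (13, [nat_lit 13, nat_lit 8, nat_lit 3]), (23, [nat_lit 3, nat_lit 13, nat_lit 8]), (4, [nat_lit 0, nat_lit 6, nat_lit 12, nat_lit 9]), (19, [nat_lit 7, nat_lit 0, nat_lit 3])],
 [(12, [nat_lit 0, nat_lit 4, nat_lit 1, nat_lit 4]), (17, [nat_lit 0, nat_lit 5, nat_lit 11, nat_lit 13]), (11, [nat_lit 0, nat_lit 12, nat_lit 5, nat_lit 12]), (10, [nat_lit 12, nat_lit 1, nat_lit 12, nat_lit 6]), (29, []), (14, [nat_lit 1, nat_lit 12, nat_lit 4, nat_lit 0]), (16, [nat_lit 6, nat_lit 12, nat_lit 6, nat_lit 12])],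
 [(14, [nat_lit 12, nat_lit 7, nat_lit 9, nat_lit 2]), (26, [nat_lit 1, nat_lit 12, nat_lit 7, nat_lit 1, nat_lit 12]), (12, [nat_lit 0, nat_lit 12, nat_lit 0, nat_lit 12]), (14, [nat_lit 1, nat_lit 3, nat_lit 12, nat_lit 12, nat_lit 9]), (22, [nat_lit 13, nat_lit 8, nat_lit 1, nat_lit 5]), (26, [nat_lit 4, nat_lit 2, nat_lit 1, nat_lit 12]), (23, [nat_lit 0, nat_lit 4, nat_lit 6, nat_lit 0])],
 [(17, [nat_lit 1, nat_lit 13, nat_lit 0, nat_lit 2]), (1, [nat_lit 0, nat_lit 2, nat_lit 12, nat_lit 9]), (13, [nat_lit 0, nat_lit 12, nat_lit 0, nat_lit 12]), (18, [nat_lit 10, nat_lit 13, nat_lit 1, nat_lit 13]), (17, [nat_lit 8, nat_lit 12, nat_lit 2, nat_lit 6]), (7, [nat_lit 0, nat_lit 4, nat_lit 6, nat_lit 0]), (24, [nat_lit 3, nat_lit 4, nat_lit 13, nat_lit 0, nat_lit 13])],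
 [(11, [nat_lit 2, nat_lit 5, nat_lit 12]), (24, [nat_lit 4, nat_lit 13, nat_lit 5, nat_lit 9]), (14, [nat_lit 0, nat_lit 8, nat_lit 12, nat_lit 5, nat_lit 12]), (28, [nat_lit 0, nat_lit 4, nat_lit 1, nat_lit 7]), (2, [nat_lit 2, nat_lit 1]), (16, [nat_lit 3, nat_lit 10, nat_lit 13, nat_lit 0]), (25, [nat_lit 12, nat_lit 7, nat_lit 1, nat_lit 12])],
 [(15, [nat_lit 2, nat_lit 9, nat_lit 12, nat_lit 0, nat_lit 12]), (30, []), (15, [nat_lit 0, nat_lit 12, nat_lit 12, nat_lit 1]), (6, [nat_lit 13, nat_lit 2, nat_lit 6]), (24, [nat_lit 12, nat_lit 3, nat_lit 6, nat_lit 12]), (12, [nat_lit 0, nat_lit 4, nat_lit 3, nat_lit 1, nat_lit 13]), (26, [nat_lit 2, nat_lit 0, nat_lit 7, nat_lit 12, nat_lit 12])],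
 [(23, [nat_lit 3, nat_lit 4, nat_lit 10, nat_lit 12, nat_lit 12]), (27, [nat_lit 5, nat_lit 13, nat_lit 8, nat_lit 2]), (16, [nat_lit 0, nat_lit 12, nat_lit 12, nat_lit 1]), (19, [nat_lit 1, nat_lit 12, nat_lit 12, nat_lit 9]), (28, [nat_lit 5, nat_lit 1, nat_lit 6]), (25, [nat_lit 7, nat_lit 9, nat_lit 12, nat_lit 1]), (11, [nat_lit 6, nat_lit 12, nat_lit 6, nat_lit 12])],
 [(30, [nat_lit 5, nat_lit 2, nat_lit 13, nat_lit 8, nat_lit 13]), (5, [nat_lit 1, nat_lit 12, nat_lit 3, nat_lit 12, nat_lit 9]), (17, [nat_lit 0, nat_lit 12, nat_lit 12, nat_lit 1]), (30, [nat_lit 1, nat_lit 12, nat_lit 4, nat_lit 8]), (15, [nat_lit 0, nat_lit 13, nat_lit 1]), (8, [nat_lit 2, nat_lit 0, nat_lit 7, nat_lit 12, nat_lit 12]), (27, [nat_lit 3, nat_lit 6, nat_lit 0])],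
 [(28, [nat_lit 2, nat_lit 0, nat_lit 7]), (23, [nat_lit 1, nat_lit 2, nat_lit 8, nat_lit 12]), (18, [nat_lit 1, nat_lit 13, nat_lit 1, nat_lit 13]), (11, [nat_lit 9, nat_lit 2, nat_lit 13]), (0, [nat_lit 2, nat_lit 13, nat_lit 9]), (31, []), (21, [nat_lit 2, nat_lit 13, nat_lit 9])],
 [(1, [nat_lit 2, nat_lit 9, nat_lit 2]), (29, [nat_lit 1, nat_lit 3, nat_lit 11]), (19, [nat_lit 0, nat_lit 7, nat_lit 12, nat_lit 12, nat_lit 1]), (24, [nat_lit 1, nat_lit 13, nat_lit 5, nat_lit 9]), (12, [nat_lit 3, nat_lit 13, nat_lit 9]), (9, [nat_lit 5, nat_lit 0, nat_lit 3, nat_lit 12]), (10, [nat_lit 2, nat_lit 1, nat_lit 6])],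
 [(8, [nat_lit 3, nat_lit 13, nat_lit 4]), (4, [nat_lit 5, nat_lit 3, nat_lit 1]), (20, [nat_lit 6, nat_lit 12, nat_lit 12]), (8, [nat_lit 12, nat_lit 4, nat_lit 12, nat_lit 3]), (19, [nat_lit 13, nat_lit 2, nat_lit 1, nat_lit 13]), (28, [nat_lit 4, nat_lit 12, nat_lit 0, nat_lit 8]), (22, [nat_lit 8, nat_lit 2, nat_lit 5])],
 [(29, [nat_lit 1, nat_lit 3, nat_lit 13, nat_lit 2]), (12, [nat_lit 6, nat_lit 9, nat_lit 10]), (21, [nat_lit 0, nat_lit 13, nat_lit 5, nat_lit 13]), (16, [nat_lit 0, nat_lit 4, nat_lit 6]), (1, [nat_lit 11, nat_lit 12, nat_lit 1, nat_lit 12]), (30, [nat_lit 0, nat_lit 5, nat_lit 13]), (18, [nat_lit 8, nat_lit 12, nat_lit 3])],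
 [(3, [nat_lit 0, nat_lit 8, nat_lit 13, nat_lit 7]), (9, [nat_lit 2, nat_lit 13, nat_lit 9, nat_lit 13]), (22, [nat_lit 2, nat_lit 12, nat_lit 12]), (3, [nat_lit 1, nat_lit 8, nat_lit 3]), (10, [nat_lit 5, nat_lit 13, nat_lit 1, nat_lit 13]), (29, [nat_lit 10, nat_lit 13, nat_lit 3]), (20, [nat_lit 4, nat_lit 3, nat_lit 9])],
 [(25, [nat_lit 0, nat_lit 0, nat_lit 4, nat_lit 13]), (15, [nat_lit 0, nat_lit 12, nat_lit 2, nat_lit 12, nat_lit 7]), (23, [nat_lit 3, nat_lit 12, nat_lit 3, nat_lit 9, nat_lit 12]), (25, [nat_lit 0, nat_lit 12, nat_lit 0, nat_lit 12, nat_lit 4]), (20, [nat_lit 5, nat_lit 13, nat_lit 0]), (15, [nat_lit 13, nat_lit 4]), (12, [nat_lit 0, nat_lit 5, nat_lit 9, nat_lit 11])],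
 [(27, [nat_lit 5, nat_lit 3, nat_lit 12, nat_lit 4]), (0, [nat_lit 4, nat_lit 13, nat_lit 9, nat_lit 0]), (24, [nat_lit 3, nat_lit 12, nat_lit 3, nat_lit 9, nat_lit 12]), (21, [nat_lit 12, nat_lit 7]), (27, [nat_lit 1, nat_lit 4, nat_lit 13, nat_lit 8]), (2, [nat_lit 0, nat_lit 5, nat_lit 9, nat_lit 11]), (13, [nat_lit 1, nat_lit 12, nat_lit 4, nat_lit 0, nat_lit 12])],
 [(16, [nat_lit 4, nat_lit 0, nat_lit 10, nat_lit 12]), (13, [nat_lit 5, nat_lit 9, nat_lit 12]), (25, [nat_lit 6, nat_lit 12, nat_lit 2, nat_lit 12, nat_lit 8]), (29, [nat_lit 9, nat_lit 12, nat_lit 1, nat_lit 12]), (7, [nat_lit 5, nat_lit 0, nat_lit 11]), (11, [nat_lit 5, nat_lit 2, nat_lit 7, nat_lit 13]), (14, [nat_lit 13, nat_lit 0, nat_lit 6, nat_lit 13])],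
 [(26, [nat_lit 2, nat_lit 12, nat_lit 12, nat_lit 4]), (31, [nat_lit 4, nat_lit 13, nat_lit 0, nat_lit 13]), (26, [nat_lit 1, nat_lit 12, nat_lit 1, nat_lit 12, nat_lit 6]), (5, [nat_lit 4, nat_lit 0, nat_lit 13, nat_lit 8]), (13, [nat_lit 1, nat_lit 12, nat_lit 12, nat_lit 1]), (23, [nat_lit 1, nat_lit 2, nat_lit 12, nat_lit 4]), (15, [nat_lit 3, nat_lit 13, nat_lit 6, nat_lit 0, nat_lit 13])],
 [(31, [nat_lit 3, nat_lit 5, nat_lit 0]), (6, [nat_lit 2, nat_lit 1, nat_lit 4, nat_lit 0]), (27, [nat_lit 1, nat_lit 12, nat_lit 1, nat_lit 12, nat_lit 6]), (31, [nat_lit 8, nat_lit 12, nat_lit 9]), (26, [nat_lit 2, nat_lit 12, nat_lit 3, nat_lit 7]), (3, [nat_lit 3, nat_lit 13, nat_lit 6, nat_lit 0, nat_lit 13]), (17, [nat_lit 1, nat_lit 2, nat_lit 7])],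
 [(4, [nat_lit 1, nat_lit 11, nat_lit 12, nat_lit 12]), (22, [nat_lit 12, nat_lit 2, nat_lit 12, nat_lit 4]), (28, [nat_lit 0, nat_lit 12, nat_lit 9, nat_lit 12, nat_lit 4]), (2, [nat_lit 0, nat_lit 2, nat_lit 7, nat_lit 0]), (8, [nat_lit 4, nat_lit 1, nat_lit 3, nat_lit 7]), (22, [nat_lit 1, nat_lit 3, nat_lit 12, nat_lit 1]), (29, [nat_lit 0, nat_lit 4, nat_lit 12, nat_lit 12, nat_lit 9])],
 [(9, [nat_lit 0, nat_lit 4, nat_lit 7, nat_lit 10]), (20, [nat_lit 0, nat_lit 3, nat_lit 12, nat_lit 9, nat_lit 12]), (29, [nat_lit 0, nat_lit 12, nat_lit 5, nat_lit 12]), (7, [nat_lit 3, nat_lit 13, nat_lit 9, nat_lit 13]), (3, [nat_lit 6, nat_lit 12, nat_lit 6, nat_lit 12]), (20, [nat_lit 3, nat_lit 13, nat_lit 1]), (28, [nat_lit 0, nat_lit 4, nat_lit 12, nat_lit 12, nat_lit 9])],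
 [(13, [nat_lit 0, nat_lit 4, nat_lit 7, nat_lit 9, nat_lit 12]), (18, [nat_lit 5, nat_lit 2, nat_lit 13, nat_lit 9]), (30, [nat_lit 2, nat_lit 12, nat_lit 2, nat_lit 12]), (0, [nat_lit 1, nat_lit 6, nat_lit 13, nat_lit 1, nat_lit 13]), (31, [nat_lit 0, nat_lit 12, nat_lit 6, nat_lit 12]), (18, [nat_lit 3, nat_lit 4, nat_lit 9]), (31, [nat_lit 12, nat_lit 7, nat_lit 12, nat_lit 1])],
 [(24, [nat_lit 2, nat_lit 12, nat_lit 3, nat_lit 7]), (21, [nat_lit 2, nat_lit 12, nat_lit 0, nat_lit 12]), (31, [nat_lit 1, nat_lit 13, nat_lit 1, nat_lit 13]), (1, [nat_lit 4, nat_lit 7, nat_lit 11]), (30, [nat_lit 0, nat_lit 12, nat_lit 12, nat_lit 4]), (21, [nat_lit 5, nat_lit 0, nat_lit 5, nat_lit 12]), (30, [nat_lit 0, nat_lit 12, nat_lit 7, nat_lit 12])]]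
theorem k282 : relK F bs0 (covR ks (List.append zs [w]) ([] :: s :: ts) j281) = true := by decide +kernel
theorem cov (M : PM G Ω 693 H15.StdU62.nets) (hN : Nat.card G = 9196830720) : ∀ g ∈ sub M.gen ks, ∃ t ∈ [] :: s :: ts, ∃ k ∈ (sub M.gen (List.append zs [w])), g = ev M.gen t * k :=
  cov_of (rels_base (base0 M hN) k282) (by decide +kernel)
noncomputable def ua : Word := w186
noncomputable def ub : Word := w257
noncomputable def uc : Word := w272
noncomputable def j283 : List (Nat × Word) := [(0, [nat_lit 0]),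
 (1, [nat_lit 0, nat_lit 7, nat_lit 14, nat_lit 8, nat_lit 1]),
 (0, [nat_lit 0, nat_lit 0, nat_lit 2, nat_lit 7, nat_lit 4, nat_lit 14, nat_lit 1]),
 (0, [nat_lit 1, nat_lit 14, nat_lit 0, nat_lit 8, nat_lit 15, nat_lit 7]),
 (0, [nat_lit 0, nat_lit 4, nat_lit 15, nat_lit 3, nat_lit 1, nat_lit 6, nat_lit 14]),
 (0, [nat_lit 1, nat_lit 3, nat_lit 14, nat_lit 1, nat_lit 14]),
 (1, [nat_lit 0]),
 (0, [nat_lit 0, nat_lit 9, nat_lit 0, nat_lit 15, nat_lit 1, nat_lit 7]),
 (0, [nat_lit 6, nat_lit 0, nat_lit 8, nat_lit 3]),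
 (0, [nat_lit 14, nat_lit 1, nat_lit 15, nat_lit 2, nat_lit 0, nat_lit 2]),
 (2, [nat_lit 14, nat_lit 0, nat_lit 2, nat_lit 1, nat_lit 5]),
 (1, [nat_lit 0, nat_lit 2, nat_lit 4, nat_lit 6, nat_lit 14]),
 (1, [nat_lit 0, nat_lit 15, nat_lit 2, nat_lit 0, nat_lit 10]),
 (0, [nat_lit 7, nat_lit 0, nat_lit 7, nat_lit 9]),
 (0, [nat_lit 1, nat_lit 3, nat_lit 1, nat_lit 15, nat_lit 10, nat_lit 0]),
 (2, [nat_lit 0, nat_lit 6, nat_lit 12, nat_lit 14, nat_lit 1]),
 (0, [nat_lit 0, nat_lit 6, nat_lit 12, nat_lit 14, nat_lit 0, nat_lit 0]),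
 (0, [nat_lit 7, nat_lit 0, nat_lit 2, nat_lit 1, nat_lit 5]),
 (0, [nat_lit 2, nat_lit 7, nat_lit 1, nat_lit 14, nat_lit 0, nat_lit 14]),
 (0, [nat_lit 0, nat_lit 10, nat_lit 15, nat_lit 1, nat_lit 3, nat_lit 15]),
 (0, [nat_lit 0, nat_lit 2, nat_lit 6, nat_lit 14, nat_lit 1, nat_lit 6, nat_lit 14]),
 (2, [nat_lit 0]),
 (1, [nat_lit 1, nat_lit 15, nat_lit 1, nat_lit 3, nat_lit 6]),
 (1, [nat_lit 0, nat_lit 7, nat_lit 14, nat_lit 8, nat_lit 1]),
 (0, [nat_lit 7, nat_lit 0, nat_lit 0, nat_lit 10]),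
 (2, [nat_lit 0, nat_lit 0, nat_lit 5, nat_lit 1, nat_lit 2]),
 (2, [nat_lit 14, nat_lit 7, nat_lit 0, nat_lit 15]),
 (2, [nat_lit 0, nat_lit 0, nat_lit 14, nat_lit 8, nat_lit 3]),
 (0, [nat_lit 0, nat_lit 0, nat_lit 2, nat_lit 2, nat_lit 5, nat_lit 14, nat_lit 0]),
 (0, [nat_lit 15, nat_lit 1, nat_lit 14, nat_lit 0, nat_lit 7, nat_lit 9])]
theorem k284 : relK F bs0 (tuR (List.append zs [w]) [ua, ub, uc] ts j283) = true := by decide +kernel
theorem tu (M : PM G Ω 693 H15.StdU62.nets) (hN : Nat.card G = 9196830720) : ∀ t ∈ ts, ∃ u ∈ [ua, ub, uc], ev M.gen u ∈ sub M.gen (t :: (List.append zs [w])) :=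
  tu_of (rels_base (base0 M hN) k284) (by decide +kernel)
noncomputable def w285 : Word := [nat_lit 26, nat_lit 28, nat_lit 20, nat_lit 22, nat_lit 30, nat_lit 8, nat_lit 31, nat_lit 22]
noncomputable def w286 : Word := [nat_lit 24, nat_lit 14, nat_lit 16, nat_lit 0, nat_lit 6, nat_lit 8, nat_lit 14, nat_lit 26]
noncomputable def w287 : Word := [nat_lit 4, nat_lit 26, nat_lit 0, nat_lit 18, nat_lit 14, nat_lit 16]
noncomputable def w288 : Word := [nat_lit 8, nat_lit 25, nat_lit 26, nat_lit 15, nat_lit 28, nat_lit 0, nat_lit 32, nat_lit 8, nat_lit 31]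
noncomputable def w289 : Word := [nat_lit 4, nat_lit 31, nat_lit 26, nat_lit 30, nat_lit 4, nat_lit 16, nat_lit 12]
noncomputable def w290 : Word := [nat_lit 2, nat_lit 34, nat_lit 18, nat_lit 30, nat_lit 0, nat_lit 31, nat_lit 34, nat_lit 2]
noncomputable def w291 : Word := [nat_lit 4, nat_lit 16, nat_lit 30, nat_lit 14, nat_lit 0, nat_lit 25, nat_lit 25, nat_lit 4, nat_lit 14]
noncomputable def w292 : Word := [nat_lit 0, nat_lit 23, nat_lit 0, nat_lit 10, nat_lit 22, nat_lit 0]
noncomputable def ha : List Word := [w285, w286, w287, w288, w289, w290, w291, w292]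
noncomputable def w293 : Word := [nat_lit 32, nat_lit 26, nat_lit 20, nat_lit 24, nat_lit 14, nat_lit 16, nat_lit 23]
noncomputable def w294 : Word := [nat_lit 24, nat_lit 30, nat_lit 22, nat_lit 24, nat_lit 18, nat_lit 34, nat_lit 12]
noncomputable def w295 : Word := [nat_lit 23, nat_lit 28, nat_lit 31, nat_lit 12, nat_lit 16, nat_lit 26, nat_lit 15]
noncomputable def w296 : Word := [nat_lit 31, nat_lit 32, nat_lit 26, nat_lit 23, nat_lit 25]
noncomputable def w297 : Word := [nat_lit 26, nat_lit 20, nat_lit 23, nat_lit 20, nat_lit 22, nat_lit 26]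
noncomputable def w298 : Word := [nat_lit 30, nat_lit 32, nat_lit 31, nat_lit 28, nat_lit 23]
noncomputable def w299 : Word := [nat_lit 34, nat_lit 25, nat_lit 26]
noncomputable def z300 : Prs := [(w293, dw (nat_lit 0x071006100c0f050f)),
 (w294, dw (nat_lit 0x0d020c0412080a01110d)),
 (w295, dw (nat_lit 0x0e1204130f050b14)),
 (w296, dw (nat_lit 0x121616010a131612140e0b05)),
 (w297, dw (nat_lit 0x070d140d0814)),
 (w298, dw (nat_lit 0x041518150910110e02050c1a0f1a)),
 (w299, dw (nat_lit 0x1a1c1a1316160615080d101c101506))]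
theorem k301 : relK F bs0 (slpRels z300 (List.append (List.append zs [y]) [ua])) = true := by decide +kernel
noncomputable def v302 : List Word := [dw (nat_lit 0x1e061315031e1917), dw (nat_lit 0x1605011e1119171e), dw (nat_lit 0x1c011e031d191e), dw (nat_lit 0x0916051611191b1d), dw (nat_lit 0x0c0e13161d19171e), dw (nat_lit 0x0f0601041d031917), dw (nat_lit 0x0f06151514191c), dw (nat_lit 0x1d131d19)
]
theorem k303 : relK F bs0 (memRels (List.append (List.append (List.append zs [y]) [ua]) (List.map Prod.fst z300)) ha v302) = true := by decide +kernel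
noncomputable def v304 : List Word := [dw (nat_lit 0x0a05010d07050f0a0a), dw (nat_lit 0x0d07030e08050e0f), dw (nat_lit 0x0b04010707070d0d090f), dw (nat_lit 0x050504080909090f), dw (nat_lit 0x0d07030a060d0d0f), dw (nat_lit 0x04080a05050e0a0b0f), dw (nat_lit 0x080904060707050b0e09090f), dw (nat_lit 0x0401050a050e0f0a)
]
theorem k305 : relK F bs0 (memRels ha (List.append (List.append zs [y]) [ua]) v304) = true := by decide +kernel
theorem eqa (M : PM G Ω 693 H15.StdU62.nets) (hN : Nat.card G = 9196830720) : (sub M.gen ha) = (sub M.gen (List.append (List.append zs [y]) [ua])) :=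
  le_antisymm ((sub_le_of_memRels (rels_base (base0 M hN) k303)).trans (sub_app_le le_rfl (sub_le_of_slp (rels_base (base0 M hN) k301)))) (sub_le_of_memRels (rels_base (base0 M hN) k305))
noncomputable def s306 : Nat := (nat_lit 0x14b58879b303c10c88800e850011880508064012461830042208312000158600182023c0020c83320000001a1000e08c18084340c1000000008080060c601818c202000000040220040400000000000000000000000000)
noncomputable def s307 : Nat := (nat_lit 0x20044024000101100314020400801080500228120410030844004411500000181800409000340482424400500411800c113840608180449540024080000200120049c3148c03058e210604480244248b2410604115248)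
noncomputable def s308 : Nat := (nat_lit 0x94a028408d4280011040000000000008200110080208000009000100000000000010020016004000000880000000000000028010000100289000020100101e40000014a2400040110ea1001381820024ca848a9422897)
noncomputable def c309 : Chn := [((nat_lit 106), s306), ((nat_lit 3), s307), ((nat_lit 0), s308), ((nat_lit 1), (nat_lit 0x800000000000000000002)), ((nat_lit 9), (bit (nat_lit 9))), ((nat_lit 11), (bit (nat_lit 11))), ((nat_lit 10), (bit (nat_lit 10))), ((nat_lit 2), (bit (nat_lit 2)))]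
noncomputable def d310 : List OD := [⟨[nat_lit 2, nat_lit 7, nat_lit 0], [dw (nat_lit 0x05)], (dn (nat_lit 20) (nat_lit 0x07d410a7430478204d020a181062c3072030ab430ab42092020348104803056c3056c2056c10968306b420ad020680104ac304cc304cc205f02087030a1c10484306cc108a8309bc20790203381045c3045c20864208641064430644205503055020848207ac307ac2061c1084430844207c4307c4207c4102a41071c2039c10aa830aa8103bc303bc101f430ac830ac820ac8103643036410abc10628306282062810310301c8301c8204e82070830708106d0306d020a2430a2410440304401081430814107e8307e81067c3067c2067c1083030830208301045830458109302093010a9c30a9c1085830a0030a0020a001077430774207741034c3034c1056430564205641090c3090c2090c10960302c41070430204302042020410a603082c10600308cc108e0308e0208e0104fc304fc204fc1))⟩,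
 ⟨[nat_lit 2, nat_lit 7, nat_lit 4], [dw (nat_lit 0x01), dw (nat_lit 0x01), dw (nat_lit 0x05), dw (nat_lit 0x01), dw (nat_lit 0x03), dw (nat_lit 0x05), dw (nat_lit 0x01)], (dn (nat_lit 20) (nat_lit 0x087c10084304301028c200dc305f8307b83006820068103d0301c4302d43038830388203881036c3095830958100b8300b8200b810194301941078830788207881013430760301ec200301042c3066c300403097430974109b4101f0301f0104d8302703092c3092c2092c105ec305ec100c430a88103f81051030238100241010410a10308ec105c8305c8202143021420214106181048820488103d8303d82062020620103ec303ec20290204b0304b0204b010778307f4307f4207f4108c8208c8101dc301dc2012830128201b010088204a030038302883059830598206dc209b03025830468304682))⟩,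
 ⟨[nat_lit 7, nat_lit 4, nat_lit 5], [dw (nat_lit 0x03), dw (nat_lit 0x05), dw (nat_lit 0x01), dw (nat_lit 0x03)], (dn (nat_lit 20) (nat_lit 0x00b430a283002c2008c3049430374303cc300e43030030a4c30130300bc201b42048c302f8302f82016030a142000420890308802026c3026c201a4201e0301903019020a382014c203dc2067430608300602006010ac02012c207703058c3058c201ac20460209c03005830114208343083420a303015420154107b02081c3081c102643026420ab8207bc307bc10044300442001020010100983064020a8420a3c102f4302f4202f4100083000820008100c830a0c30a0c20a0c101503015020150101b8301b8202fc3059c308c43))⟩,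
 ⟨[nat_lit 7], [], (dn (nat_lit 20) (nat_lit 0x00041))⟩,
 ⟨[], [], []⟩,
 ⟨[], [], []⟩,
 ⟨[], [], []⟩,
 ⟨[], [], []⟩]
theorem k311 : ocChk (nat_lit 693) H15.StdU62.nets F ha c309 d310 [] = true := by decide +kernel
theorem o312 (M : PM G Ω 693 H15.StdU62.nets) (hN : Nat.card G = 9196830720) : OC M (sub M.gen ha) [] c309 :=
  oc_of le_rfl k311
theorem lowa (M : PM G Ω 693 H15.StdU62.nets) (hN : Nat.card G = 9196830720) : 3265920 ≤ Nat.card (sub M.gen ha) :=
  (OC.le_card' (N := 3265920) (o312 M hN) (by decide +kernel))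
noncomputable def v313 : List (List Word) := [[dw (nat_lit 0x09040107070e0a0d09), dw (nat_lit 0x010801060707090b09), dw (nat_lit 0x040606080a0d0d0f), dw (nat_lit 0x09010608050b0e0f), dw (nat_lit 0x08030d050f0909), dw (nat_lit 0x060109070b0e090e0a0f), dw (nat_lit 0x09010d07070b0e0909), dw (nat_lit 0x040b010d07060f0d09)
]]
theorem k314 : relK F bs0 (nrR ha ha [s] v313) = true := by decide +kernel
theorem nsa (M : PM G Ω 693 H15.StdU62.nets) (hN : Nat.card G = 9196830720) : sub M.gen [s] ≤ (Subgroup.normalizer (sub M.gen ha : Set G)) :=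
  (le_normalizer_of le_rfl (rels_base (base0 M hN) k314) (by decide +kernel))
noncomputable def w315 : Word := [nat_lit 34, nat_lit 24, nat_lit 12, nat_lit 32, nat_lit 34, nat_lit 2, nat_lit 22, nat_lit 4, nat_lit 25]
noncomputable def w316 : Word := [nat_lit 2, nat_lit 31, nat_lit 16, nat_lit 12, nat_lit 22, nat_lit 28, nat_lit 0, nat_lit 20, nat_lit 16, nat_lit 2]
noncomputable def w317 : Word := [nat_lit 2, nat_lit 31, nat_lit 31, nat_lit 12, nat_lit 16, nat_lit 28, nat_lit 4, nat_lit 34, nat_lit 20]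
noncomputable def w318 : Word := [nat_lit 18, nat_lit 34, nat_lit 28, nat_lit 15, nat_lit 31, nat_lit 4, nat_lit 32, nat_lit 2, nat_lit 15]
noncomputable def w319 : Word := [nat_lit 32, nat_lit 23, nat_lit 12, nat_lit 26, nat_lit 10, nat_lit 30, nat_lit 2, nat_lit 22, nat_lit 30]
noncomputable def w320 : Word := [nat_lit 16, nat_lit 24, nat_lit 15, nat_lit 31, nat_lit 8, nat_lit 26, nat_lit 10, nat_lit 22]
noncomputable def w321 : Word := [nat_lit 8, nat_lit 25, nat_lit 12, nat_lit 16, nat_lit 6, nat_lit 25, nat_lit 8, nat_lit 26, nat_lit 15]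
noncomputable def w322 : Word := [nat_lit 6, nat_lit 24, nat_lit 30, nat_lit 20, nat_lit 2, nat_lit 0, nat_lit 22, nat_lit 24, nat_lit 34]
noncomputable def w323 : Word := [nat_lit 34, nat_lit 16, nat_lit 30, nat_lit 20, nat_lit 24, nat_lit 10, nat_lit 24, nat_lit 4, nat_lit 12, nat_lit 34]
noncomputable def w324 : Word := [nat_lit 34, nat_lit 20, nat_lit 24, nat_lit 12, nat_lit 14, nat_lit 31, nat_lit 0, nat_lit 23, nat_lit 24, nat_lit 16]
noncomputable def iays : List Word := [w315, w316, w317, w318, w319, w320, w321, w322, w323, w324]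
noncomputable def v325 : List Word := [dw (nat_lit 0x050203050e070e0f), dw (nat_lit 0x06030a050e0a0d), dw (nat_lit 0x0706080a0b0e0a0f), dw (nat_lit 0x0301010908060b0e090e), dw (nat_lit 0x07070b0a0b), dw (nat_lit 0x05040908060e090e09), dw (nat_lit 0x070101050705050d0d0a0d), dw (nat_lit 0x0d02070e080e0f)
, dw (nat_lit 0x020502060d050b0e09), dw (nat_lit 0x0401010907050b0e0a0b09)]
theorem k326 : relK F bs0 (memRels ha iays v325) = true := by decide +kernel
theorem iahy (M : PM G Ω 693 H15.StdU62.nets) (hN : Nat.card G = 9196830720) : (sub M.gen iays) ≤ (sub M.gen ha) :=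
  (sub_le_of_memRels (rels_base (base0 M hN) k326))
noncomputable def v327 : List Word := [[], [], [], [], [], [], [], []
, [], [], [], [], [], [], [], []
, [], [], [], [], [], [], [], []
, [], [], [], [], [], [], [], []
, [], [], [], [], [], [], [], []
, [], [], [], [], [], [], [], []
, [], [], [], [], [], [], [], []
, [], [], [], [], [], [], [], []
, [], [], [], [], [], [], [], []
, [], [], [], [], [], [], [], []
, [], [], [], [], [], [], [], []
, [], [], [], [], [], [], [], []
, [], [], [], [], [], [], [], []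
, [], [], [], [], []]
theorem k328 : relK F bs0 (qR iays [] H15.StdU43.rels v327) = true := by decide +kernel
noncomputable def v329 : Prs := [(dw (nat_lit 0x0d090d031412), []),
 (dw (nat_lit 0x040d12020d050b), []),
 (dw (nat_lit 0x020f0512010805), []),
 (dw (nat_lit 0x0a1003090513), []),
 (dw (nat_lit 0x0a0f1401080f), []),
 (dw (nat_lit 0x0b10040b0410), []),
 (dw (nat_lit 0x020d05030610), []),
 (dw (nat_lit 0x0a1406010c11), [])]
theorem k330 : relK F bs0 (sR iays [] H15.StdU43.ws0 ha v329) = true := by decide +kernel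
theorem iaqs_ (M : PM G Ω 693 H15.StdU62.nets) (hN : Nat.card G = 9196830720) : ∀ {X : Type*} [Group X], PresF G X H15.StdU43.rels H15.StdU43.ws0 → QS X (sub M.gen ha) (sub M.gen []) :=
  fun hP _ => quot_surj hP ((sub_le _).2 fa_nil) (iahy M hN) le_rfl le_rfl (rels_base (base0 M hN) k328) (rels_base (base0 M hN) k330) (by decide +kernel)
noncomputable def w331 : Word := [nat_lit 18, nat_lit 30, nat_lit 32, nat_lit 15, nat_lit 31, nat_lit 22, nat_lit 2, nat_lit 12, nat_lit 10]
noncomputable def w332 : Word := [nat_lit 34, nat_lit 24, nat_lit 16, nat_lit 22, nat_lit 12, nat_lit 34, nat_lit 4, nat_lit 24, nat_lit 0, nat_lit 15]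
noncomputable def w333 : Word := [nat_lit 0, nat_lit 34, nat_lit 31, nat_lit 16, nat_lit 20, nat_lit 34, nat_lit 12, nat_lit 15, nat_lit 30, nat_lit 0]
noncomputable def w334 : Word := [nat_lit 0, nat_lit 30, nat_lit 32, nat_lit 16, nat_lit 20, nat_lit 32, nat_lit 18, nat_lit 25, nat_lit 0]
noncomputable def w335 : Word := [nat_lit 0, nat_lit 16, nat_lit 28, nat_lit 15, nat_lit 32, nat_lit 0, nat_lit 14, nat_lit 10, nat_lit 15]
noncomputable def w336 : Word := [nat_lit 16, nat_lit 28, nat_lit 0, nat_lit 24, nat_lit 24, nat_lit 24, nat_lit 15]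
noncomputable def w337 : Word := [nat_lit 10, nat_lit 31, nat_lit 32, nat_lit 24, nat_lit 14, nat_lit 10]
noncomputable def w338 : Word := [nat_lit 10, nat_lit 30, nat_lit 34, nat_lit 28, nat_lit 31, nat_lit 10]
noncomputable def hb : List Word := [w331, w332, w333, w334, w335, w336, w337, w338]
noncomputable def w339 : Word := [nat_lit 25, nat_lit 16, nat_lit 20, nat_lit 34, nat_lit 12, nat_lit 31, nat_lit 12, nat_lit 26]
noncomputable def w340 : Word := [nat_lit 14, nat_lit 26, nat_lit 30, nat_lit 20, nat_lit 22, nat_lit 16, nat_lit 24]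
noncomputable def w341 : Word := [nat_lit 31, nat_lit 20, nat_lit 22, nat_lit 34, nat_lit 28]
noncomputable def w342 : Word := [nat_lit 22, nat_lit 28, nat_lit 31, nat_lit 28]
noncomputable def w343 : Word := [nat_lit 34, nat_lit 31, nat_lit 34, nat_lit 24]
noncomputable def w344 : Word := [nat_lit 32]
noncomputable def w345 : Word := [nat_lit 22, nat_lit 34, nat_lit 28, nat_lit 23]
noncomputable def w346 : Word := [nat_lit 32, nat_lit 31, nat_lit 31, nat_lit 16, nat_lit 25]
noncomputable def z347 : Prs := [(w339, dw (nat_lit 0x0508080b051005)),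
 (w340, dw (nat_lit 0x020d03110e1104)),
 (w341, dw (nat_lit 0x111308141008060610130f)),
 (w342, dw (nat_lit 0x04140302101205130712150b)),
 (w343, dw (nat_lit 0x1616180316020b070202)),
 (w344, dw (nat_lit 0x1a15041a03051015110f030711)),
 (w345, dw (nat_lit 0x151c031210100a16)),
 (w346, dw (nat_lit 0x16170413051a1213160e04))]
theorem k348 : relK F bs0 (slpRels z347 (List.append (List.append zs [y]) [ub])) = true := by decide +kernel
noncomputable def v349 : List Word := [dw (nat_lit 0x130401031318151f1d1b), dw (nat_lit 0x0211041715151f1d), dw (nat_lit 0x04011f0317151d191b), dw (nat_lit 0x1110071904161f1d), dw (nat_lit 0x0413020315151d1b), dw (nat_lit 0x190e0515031f151f19), dw (nat_lit 0x150205190415), dw (nat_lit 0x0217011b031715151f1d1b)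
]
theorem k350 : relK F bs0 (memRels (List.append (List.append (List.append zs [y]) [ub]) (List.map Prod.fst z347)) hb v349) = true := by decide +kernel
noncomputable def v351 : List Word := [dw (nat_lit 0x05030c070c0f0b0f), dw (nat_lit 0x090208060a0c09), dw (nat_lit 0x0a0801050f050b0a), dw (nat_lit 0x060c0206070e090c090f), dw (nat_lit 0x0c01090e050c090f), dw (nat_lit 0x080e01080c070c0f0d0f), dw (nat_lit 0x0607020609060f0b0a0f), dw (nat_lit 0x03030a060a0c090f)
]
theorem k352 : relK F bs0 (memRels hb (List.append (List.append zs [y]) [ub]) v351) = true := by decide +kernel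
theorem eqb (M : PM G Ω 693 H15.StdU62.nets) (hN : Nat.card G = 9196830720) : (sub M.gen hb) = (sub M.gen (List.append (List.append zs [y]) [ub])) :=
  le_antisymm ((sub_le_of_memRels (rels_base (base0 M hN) k350)).trans (sub_app_le le_rfl (sub_le_of_slp (rels_base (base0 M hN) k348)))) (sub_le_of_memRels (rels_base (base0 M hN) k352))
noncomputable def s353 : Nat := (nat_lit 0x1970011145024840122c094d4118841004300845291040416100022204580001a00261040001670028220480900840d9000400201001010000000400064040840000400010c228000800006024605002000a021820c12)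
noncomputable def s354 : Nat := (nat_lit 0x8484600010002104802002040002405241000286082c101a48110998004228000c0628820400080001c024017212000000a2c380c0020193a400431104900002e0b810010d810101a1040e80008a001500f40190040)
noncomputable def s355 : Nat := (nat_lit 0x800020041008000424400a02000a800008320000191828001088000a080800140800220300024028408180881a000708008002320408004400010c8110020800002090000022a00106001100804904200010048004)
noncomputable def s356 : Nat := (nat_lit 0x2000000000000000000000000000000000000000000000000000000000000000000000000000000000000000000000000000000000000000000000000000000000000000000000000000000000000000000000001)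
noncomputable def c357 : Chn := [((nat_lit 1), s353), ((nat_lit 6), s354), ((nat_lit 2), s355), ((nat_lit 0), s356), ((nat_lit 9), (bit (nat_lit 9))), ((nat_lit 11), (bit (nat_lit 11))), ((nat_lit 10), (bit (nat_lit 10)))]
noncomputable def d358 : List OD := [⟨[nat_lit 6, nat_lit 7, nat_lit 0], [dw (nat_lit 0x05), dw (nat_lit 0x01), dw (nat_lit 0x03)], (dn (nat_lit 20) (nat_lit 0x0334207642004430aa020aa01002c3002c206841094810a70101fc10540205c410608107c4307c4207c81056c2010010a14309fc2012810594305bc3095c2099c3099c10728201083010810ab01044030440206c4306c42087c3097c3097c1050820508108e010164208083080820858209582095810ac030ac0105f8205f8100743007420a3030a30107383009430094209982099810920209201072030720104e8304e8204e8102142022c2022c10950309501071c209c0308f810a5030a50103383033810aa83093030930209301057830578104d0304d0204d01075430754108a0308a0208a01016830464304642030830308108b8308b8208b8101443014420144104983049810a6030a60206cc306cc206cc102281091c3091c2091c1005c3005c10a48309a4309a4100283))⟩,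
 ⟨[nat_lit 6, nat_lit 7, nat_lit 3], [dw (nat_lit 0x05), dw (nat_lit 0x01), dw (nat_lit 0x03), dw (nat_lit 0x01), dw (nat_lit 0x05), dw (nat_lit 0x01), dw (nat_lit 0x03)], (dn (nat_lit 20) (nat_lit 0x0050107bc201b03042c20750307c03004030500105303083830708307082070810a7830a782069c308e8308e8100c0104743008030080102b4202b410a8c30a8c20a8c108903036830674301d0201d01046820468103002030010634306342075c3027c3027c107f8207f810514307fc307fc207fc10938309382021c3021c10318102a8302a8206182080430078103ac307e0307e0109e4100fc10528305281084c3084c102ac304843064c102a4302a410aac30aac1004c3004c109b8309b81046c3044c108c0300f4300b0300b0103b0303b01095430954103f4304f430340306783008430330308f4300883))⟩,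
 ⟨[nat_lit 6, nat_lit 5], [dw (nat_lit 0x01), dw (nat_lit 0x03), dw (nat_lit 0x01)], (dn (nat_lit 20) (nat_lit 0x0a282097810a9c2068c20a54204ac108dc1081020810105b4103601050420504100ec209a82055c2055c10a1010644101f410624205982072c2072c10348202cc1025c2070c2070c102742027410424203102034c2034c10048100c8200c810620206201087020870109ec101e4106b0206b0107ec207ec1077c105d8205d810790107d4207d4107f0207f0102e4202e41076c2076c105602052c2052c100b4200b4103a8203a8103ec203ec1098820988105ac208642086410444204441018420184103b820924106a81011c2011c1003c2003c107242072410140204342))⟩,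
 ⟨[nat_lit 7], [], (dn (nat_lit 20) (nat_lit 0x00001))⟩,
 ⟨[], [], []⟩,
 ⟨[], [], []⟩,
 ⟨[], [], []⟩]
theorem k359 : ocChk (nat_lit 693) H15.StdU62.nets F hb c357 d358 [] = true := by decide +kernel
theorem o360 (M : PM G Ω 693 H15.StdU62.nets) (hN : Nat.card G = 9196830720) : OC M (sub M.gen hb) [] c357 :=
  oc_of le_rfl k359
theorem lowb (M : PM G Ω 693 H15.StdU62.nets) (hN : Nat.card G = 9196830720) : 3265920 ≤ Nat.card (sub M.gen hb) :=
  (OC.le_card' (N := 3265920) (o360 M hN) (by decide +kernel))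
noncomputable def v361 : List (List Word) := [[dw (nat_lit 0x0503070f0c090f), dw (nat_lit 0x040801070e070b0d09), dw (nat_lit 0x04040f080c0909), dw (nat_lit 0x0c010806070b0e090f), dw (nat_lit 0x0504020809050c0a), dw (nat_lit 0x020f08050c0e0a0f), dw (nat_lit 0x0b08010608050a0b0f), dw (nat_lit 0x0b03080b090f)
]]
theorem k362 : relK F bs0 (nrR hb hb [s] v361) = true := by decide +kernel
theorem nsb (M : PM G Ω 693 H15.StdU62.nets) (hN : Nat.card G = 9196830720) : sub M.gen [s] ≤ (Subgroup.normalizer (sub M.gen hb : Set G)) :=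
  (le_normalizer_of le_rfl (rels_base (base0 M hN) k362) (by decide +kernel))
noncomputable def w363 : Word := [nat_lit 24, nat_lit 20, nat_lit 16, nat_lit 14, nat_lit 0, nat_lit 24, nat_lit 2, nat_lit 31, nat_lit 0]
noncomputable def w364 : Word := [nat_lit 18, nat_lit 25, nat_lit 14, nat_lit 23, nat_lit 4, nat_lit 25, nat_lit 22, nat_lit 28, nat_lit 26]
noncomputable def w365 : Word := [nat_lit 31, nat_lit 32, nat_lit 20, nat_lit 25, nat_lit 15, nat_lit 32, nat_lit 2, nat_lit 8]
noncomputable def w366 : Word := [nat_lit 30, nat_lit 18, nat_lit 34, nat_lit 4, nat_lit 24, nat_lit 0, nat_lit 30, nat_lit 28]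
noncomputable def w367 : Word := [nat_lit 30, nat_lit 34, nat_lit 18, nat_lit 22, nat_lit 0, nat_lit 6, nat_lit 14, nat_lit 28, nat_lit 18, nat_lit 26]
noncomputable def w368 : Word := [nat_lit 10, nat_lit 31, nat_lit 34, nat_lit 18, nat_lit 0, nat_lit 23, nat_lit 30, nat_lit 34, nat_lit 4]
noncomputable def w369 : Word := [nat_lit 0, nat_lit 30, nat_lit 14, nat_lit 30, nat_lit 20, nat_lit 0, nat_lit 16, nat_lit 23, nat_lit 20, nat_lit 16]
noncomputable def w370 : Word := [nat_lit 10, nat_lit 34, nat_lit 30, nat_lit 18, nat_lit 0, nat_lit 15, nat_lit 25, nat_lit 6, nat_lit 15]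
noncomputable def w371 : Word := [nat_lit 0, nat_lit 32, nat_lit 18, nat_lit 24, nat_lit 0, nat_lit 8, nat_lit 16, nat_lit 10, nat_lit 25]
noncomputable def w372 : Word := [nat_lit 30, nat_lit 34, nat_lit 20, nat_lit 23, nat_lit 12, nat_lit 30, nat_lit 22, nat_lit 4, nat_lit 10, nat_lit 2]
noncomputable def ibys : List Word := [w363, w364, w365, w366, w367, w368, w369, w370, w371, w372]
noncomputable def v373 : List Word := [dw (nat_lit 0x0408010b0607050c0e0f), dw (nat_lit 0x0607020a050e0b0f), dw (nat_lit 0x010702060d080f090c), dw (nat_lit 0x060902050a050f0b0a0f), dw (nat_lit 0x010101080e050f0b), dw (nat_lit 0x0f0801070f060d0c0e), dw (nat_lit 0x0b040f08050d0a0b), dw (nat_lit 0x0f0105070e090d0f)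
, dw (nat_lit 0x0407010b0d050c0e0f), dw (nat_lit 0x02050e0f0e0f)]
theorem k374 : relK F bs0 (memRels hb ibys v373) = true := by decide +kernel
theorem ibhy (M : PM G Ω 693 H15.StdU62.nets) (hN : Nat.card G = 9196830720) : (sub M.gen ibys) ≤ (sub M.gen hb) :=
  (sub_le_of_memRels (rels_base (base0 M hN) k374))
noncomputable def v375 : List Word := [[], [], [], [], [], [], [], []
, [], [], [], [], [], [], [], []
, [], [], [], [], [], [], [], []
, [], [], [], [], [], [], [], []
, [], [], [], [], [], [], [], []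
, [], [], [], [], [], [], [], []
, [], [], [], [], [], [], [], []
, [], [], [], [], [], [], [], []
, [], [], [], [], [], [], [], []
, [], [], [], [], [], [], [], []
, [], [], [], [], [], [], [], []
, [], [], [], [], [], [], [], []
, [], [], [], [], [], [], [], []
, [], [], [], [], []]
theorem k376 : relK F bs0 (qR ibys [] H15.StdU43.rels v375) = true := by decide +kernel
noncomputable def v377 : Prs := [(dw (nat_lit 0x01050103070b14), []),
 (dw (nat_lit 0x050401070d05), []),
 (dw (nat_lit 0x1207020301), []),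
 (dw (nat_lit 0x0311030e05), []),
 (dw (nat_lit 0x0c0f011105), []),
 (dw (nat_lit 0x100c0413), []),
 (dw (nat_lit 0x090104110911), []),
 (dw (nat_lit 0x0814040f), [])]
theorem k378 : relK F bs0 (sR ibys [] H15.StdU43.ws0 hb v377) = true := by decide +kernel
theorem ibqs_ (M : PM G Ω 693 H15.StdU62.nets) (hN : Nat.card G = 9196830720) : ∀ {X : Type*} [Group X], PresF G X H15.StdU43.rels H15.StdU43.ws0 → QS X (sub M.gen hb) (sub M.gen []) :=
  fun hP _ => quot_surj hP ((sub_le _).2 fa_nil) (ibhy M hN) le_rfl le_rfl (rels_base (base0 M hN) k376) (rels_base (base0 M hN) k378) (by decide +kernel)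
noncomputable def w379 : Word := [nat_lit 31, nat_lit 31, nat_lit 20, nat_lit 28, nat_lit 2, nat_lit 28, nat_lit 2, nat_lit 34, nat_lit 18]
noncomputable def w380 : Word := [nat_lit 16, nat_lit 12, nat_lit 30, nat_lit 4, nat_lit 25, nat_lit 0, nat_lit 2, nat_lit 0]
noncomputable def w381 : Word := [nat_lit 10, nat_lit 16, nat_lit 31, nat_lit 20, nat_lit 14, nat_lit 28, nat_lit 2, nat_lit 32, nat_lit 26]
noncomputable def w382 : Word := [nat_lit 34, nat_lit 24, nat_lit 23, nat_lit 15, nat_lit 10, nat_lit 16, nat_lit 30, nat_lit 30]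
noncomputable def w383 : Word := [nat_lit 32, nat_lit 22, nat_lit 14, nat_lit 16, nat_lit 8, nat_lit 24, nat_lit 31, nat_lit 31, nat_lit 8]
noncomputable def w384 : Word := [nat_lit 4, nat_lit 16, nat_lit 18, nat_lit 14, nat_lit 0, nat_lit 8, nat_lit 18, nat_lit 28, nat_lit 18]
noncomputable def w385 : Word := [nat_lit 0, nat_lit 28, nat_lit 22, nat_lit 14, nat_lit 32, nat_lit 23, nat_lit 18, nat_lit 0]
noncomputable def w386 : Word := [nat_lit 12, nat_lit 26, nat_lit 20, nat_lit 31, nat_lit 0, nat_lit 30, nat_lit 26, nat_lit 12]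
noncomputable def hc : List Word := [w379, w380, w381, w382, w383, w384, w385, w386]
noncomputable def w387 : Word := [nat_lit 26, nat_lit 20, nat_lit 26, nat_lit 31, nat_lit 18, nat_lit 24, nat_lit 20, nat_lit 14]
noncomputable def w388 : Word := [nat_lit 32, nat_lit 16, nat_lit 24, nat_lit 20, nat_lit 24, nat_lit 34, nat_lit 32, nat_lit 20]
noncomputable def w389 : Word := [nat_lit 34, nat_lit 32, nat_lit 22, nat_lit 24]
noncomputable def w390 : Word := [nat_lit 25, nat_lit 26, nat_lit 31]
noncomputable def z391 : Prs := [(w387, dw (nat_lit 0x0e030f0d080c060a0710)),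
 (w388, dw (nat_lit 0x1104110412031101060b0e0f11081208)),
 (w389, dw (nat_lit 0x121304021010020a020f0e10)),
 (w390, dw (nat_lit 0x15130313120a16140b08060402))]
theorem k392 : relK F bs0 (slpRels z391 (List.append (List.append zs [y]) [uc])) = true := by decide +kernel
noncomputable def v393 : List Word := [dw (nat_lit 0x150f12171303141617), dw (nat_lit 0x15071115031617), dw (nat_lit 0x140806160313151318), dw (nat_lit 0x03120715140416), dw (nat_lit 0x140f0218110415), dw (nat_lit 0x10031303111613), dw (nat_lit 0x10091613031518), dw (nat_lit 0x03150a03111317)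
]
theorem k394 : relK F bs0 (memRels (List.append (List.append (List.append zs [y]) [uc]) (List.map Prod.fst z391)) hc v393) = true := by decide +kernel
noncomputable def v395 : List Word := [dw (nat_lit 0x0d0207050a0b0a), dw (nat_lit 0x0e0802050907090c), dw (nat_lit 0x09020709080c0d0a0f), dw (nat_lit 0x0d06010606060a), dw (nat_lit 0x0b010806060b0e0b0a0f), dw (nat_lit 0x0b04010507070b090c), dw (nat_lit 0x0b04010b080805090b0a), dw (nat_lit 0x02030d0608060d0b0b0f)
]
theorem k396 : relK F bs0 (memRels hc (List.append (List.append zs [y]) [uc]) v395) = true := by decide +kernel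
theorem eqc (M : PM G Ω 693 H15.StdU62.nets) (hN : Nat.card G = 9196830720) : (sub M.gen hc) = (sub M.gen (List.append (List.append zs [y]) [uc])) :=
  le_antisymm ((sub_le_of_memRels (rels_base (base0 M hN) k394)).trans (sub_app_le le_rfl (sub_le_of_slp (rels_base (base0 M hN) k392)))) (sub_le_of_memRels (rels_base (base0 M hN) k396))
noncomputable def s397 : Nat := (nat_lit 0x8d5011110000004000000c4001b8801001a0001c214000c42004220008dc00d9d40e20080202234105014090480920e3200608025900202c20040080072c0084005004044040201382100000008100e14000008080000)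
noncomputable def s398 : Nat := (nat_lit 0x100404002b161a01400300000000058000009002148438305620441c4403ee24082084408108001212501020014084004220200000080052020300102840cd00f100138006040420202c4681804000000928613b60006)
noncomputable def s399 : Nat := (nat_lit 0x1000848840088001c20009220b0013000200400804020020080130080010000000211100218409000408421402004010084c840100004d0804010b10880012010040800018030420840400000021004000010080003208)
noncomputable def s400 : Nat := (nat_lit 0x20000000000000000000000000000000000000000000000000000000000000000000000000000000000000000000000000000000000000000000001)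
noncomputable def c401 : Chn := [((nat_lit 19), s397), ((nat_lit 1), s398), ((nat_lit 3), s399), ((nat_lit 0), s400), ((nat_lit 9), (bit (nat_lit 9))), ((nat_lit 11), (bit (nat_lit 11))), ((nat_lit 10), (bit (nat_lit 10))), ((nat_lit 2), (bit (nat_lit 2)))]
noncomputable def d402 : List OD := [⟨[nat_lit 1, nat_lit 3, nat_lit 6], [dw (nat_lit 0x01)], (dn (nat_lit 20) (nat_lit 0x06b820694101a0307d820614207e81071c200c8300c8107843091c2091c1090c205f01071820718101b4208b030978205f4306d030494301cc201cc1047c205e8209241036c3036c2036c102d8302d8100d0300d010930306e8206e81086030ab030ab020ab0100e8300e81077420798304403044020440105d0308ac1096830968105b03031830318104983049820498106cc306cc2022830aa830aa8102481065c2043c3043c20404104e4204e4106ec206ec104e8204e810720307202056c106981025830258202581092c3092c2092c1082830828208281084430844106c0306c0104c4304c4204c41043030430101d4301d4201d4107c4307c4207c41006c3006c2006c1045420590305902059010a5030a5020a50103383033820338106e0306e0206e01058830588205881051030510205101))⟩,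
 ⟨[nat_lit 3, nat_lit 6, nat_lit 7], [dw (nat_lit 0x01)], (dn (nat_lit 20) (nat_lit 0x01e4105a8106782005c307141027410174105d410a3c1033c3014c3014c2014c1009c100481026c107b430994107e4207e410a3410484304842048410800202c81030c3030c10150301502006420064109d0106f8209c81066820128104a4204a4103082030810a443068c2068c107a41070c2070c106f410218302182021810838207c8207c8102f8302f8107042070410008102c4302c410a9830a981023820238107b8307b82099020990102f0202f0104b4103e8303e8203e8107103071020a1830a181039020390109f4309f4209f4102fc104f8304f8204f8103282082c3082c10ac030ac020ac010a0020a00101f8301f8201f8103603036020360101c4301c4201c410758307581073830738105b4100543005420054107783077820778108f0208f0106fc306fc206fc10a781041c2041c10a3030a3020a301050c3050c2050c102cc302cc202cc1))⟩,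
 ⟨[nat_lit 6, nat_lit 7, nat_lit 4], [dw (nat_lit 0x01), dw (nat_lit 0x05)], (dn (nat_lit 20) (nat_lit 0x00f8307943003030640300343056830370307f4303c83063c10a1c305ac10570305701060010a7c100a0102e030a2c101dc1059830898300241012030120209743040c10304304f0304f020408304a8304a8109e0309e020a58208c4208c410628301c8201c81031020310106a030488204881038c3038c1090430904104cc307cc307cc10250106b4306b410a8830a882049c3049c1034c3034c2034c10584207903029c3029c2029c10208302082035c102243038410400304002040010a9c30a9c101a8201a81076c3076c109d8309d8108483084820848109803098020980109c4209c41))⟩,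
 ⟨[nat_lit 7], [], (dn (nat_lit 20) (nat_lit 0x00001))⟩,
 ⟨[], [], []⟩,
 ⟨[], [], []⟩,
 ⟨[], [], []⟩,
 ⟨[], [], []⟩]
theorem k403 : ocChk (nat_lit 693) H15.StdU62.nets F hc c401 d402 [] = true := by decide +kernel
theorem o404 (M : PM G Ω 693 H15.StdU62.nets) (hN : Nat.card G = 9196830720) : OC M (sub M.gen hc) [] c401 :=
  oc_of le_rfl k403
theorem lowc (M : PM G Ω 693 H15.StdU62.nets) (hN : Nat.card G = 9196830720) : 3265920 ≤ Nat.card (sub M.gen hc) :=
  (OC.le_card' (N := 3265920) (o404 M hN) (by decide +kernel))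
noncomputable def v405 : List (List Word) := [[dw (nat_lit 0x01040705050a0d090f), dw (nat_lit 0x040509070f0b0b090f), dw (nat_lit 0x0e030606080f0a), dw (nat_lit 0x0c04010f08060a), dw (nat_lit 0x0c04060705050b0a0b0b0f), dw (nat_lit 0x0b030508050a0c09090f), dw (nat_lit 0x0f0306070f09), dw (nat_lit 0x060306080d0d090f)
]]
theorem k406 : relK F bs0 (nrR hc hc [s] v405) = true := by decide +kernel
theorem nsc (M : PM G Ω 693 H15.StdU62.nets) (hN : Nat.card G = 9196830720) : sub M.gen [s] ≤ (Subgroup.normalizer (sub M.gen hc : Set G)) :=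
  (le_normalizer_of le_rfl (rels_base (base0 M hN) k406) (by decide +kernel))
noncomputable def w407 : Word := [nat_lit 28, nat_lit 22, nat_lit 20, nat_lit 12, nat_lit 26, nat_lit 24, nat_lit 0, nat_lit 23, nat_lit 14, nat_lit 8]
noncomputable def w408 : Word := [nat_lit 32, nat_lit 31, nat_lit 26, nat_lit 18, nat_lit 6, nat_lit 24, nat_lit 8, nat_lit 26, nat_lit 6]
noncomputable def w409 : Word := [nat_lit 2, nat_lit 32, nat_lit 31, nat_lit 31, nat_lit 24, nat_lit 14, nat_lit 8, nat_lit 24, nat_lit 6]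
noncomputable def w410 : Word := [nat_lit 10, nat_lit 20, nat_lit 32, nat_lit 15, nat_lit 0, nat_lit 12, nat_lit 30, nat_lit 24, nat_lit 20]
noncomputable def w411 : Word := [nat_lit 25, nat_lit 31, nat_lit 12, nat_lit 26, nat_lit 24, nat_lit 8, nat_lit 12, nat_lit 25]
noncomputable def w412 : Word := [nat_lit 14, nat_lit 31, nat_lit 26, nat_lit 23, nat_lit 2, nat_lit 8, nat_lit 31, nat_lit 23, nat_lit 18]
noncomputable def w413 : Word := [nat_lit 8, nat_lit 32, nat_lit 28, nat_lit 18, nat_lit 14, nat_lit 10, nat_lit 31, nat_lit 34, nat_lit 26]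
noncomputable def w414 : Word := [nat_lit 31, nat_lit 28, nat_lit 20, nat_lit 18, nat_lit 26, nat_lit 0, nat_lit 31, nat_lit 32, nat_lit 14]
noncomputable def w415 : Word := [nat_lit 23, nat_lit 25, nat_lit 14, nat_lit 30, nat_lit 0, nat_lit 12, nat_lit 32, nat_lit 2]
noncomputable def w416 : Word := [nat_lit 16, nat_lit 20, nat_lit 16, nat_lit 24, nat_lit 20, nat_lit 2, nat_lit 10, nat_lit 14, nat_lit 34, nat_lit 6]
noncomputable def icys : List Word := [w407, w408, w409, w410, w411, w412, w413, w414, w415, w416]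
noncomputable def v417 : List Word := [dw (nat_lit 0x0a06070a0d0f), dw (nat_lit 0x06010c0805090f0a), dw (nat_lit 0x0f05070a0f09), dw (nat_lit 0x0c020b0606090f), dw (nat_lit 0x0c08060b0f), dw (nat_lit 0x0606030b0508050a0f09), dw (nat_lit 0x030601080d050a0b09), dw (nat_lit 0x0701080b08050e0c0f)
, dw (nat_lit 0x0105020909070b0e0b), dw (nat_lit 0x0e020607060b0a0f)]
theorem k418 : relK F bs0 (memRels hc icys v417) = true := by decide +kernel
theorem ichy (M : PM G Ω 693 H15.StdU62.nets) (hN : Nat.card G = 9196830720) : (sub M.gen icys) ≤ (sub M.gen hc) :=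
  (sub_le_of_memRels (rels_base (base0 M hN) k418))
noncomputable def v419 : List Word := [[], [], [], [], [], [], [], []
, [], [], [], [], [], [], [], []
, [], [], [], [], [], [], [], []
, [], [], [], [], [], [], [], []
, [], [], [], [], [], [], [], []
, [], [], [], [], [], [], [], []
, [], [], [], [], [], [], [], []
, [], [], [], [], [], [], [], []
, [], [], [], [], [], [], [], []
, [], [], [], [], [], [], [], []
, [], [], [], [], [], [], [], []
, [], [], [], [], [], [], [], []
, [], [], [], [], [], [], [], []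
, [], [], [], [], []]
theorem k420 : relK F bs0 (qR icys [] H15.StdU43.rels v419) = true := by decide +kernel
noncomputable def v421 : Prs := [(dw (nat_lit 0x0c08010d0601), []),
 (dw (nat_lit 0x0d080d10010b), []),
 (dw (nat_lit 0x0b0713020511), []),
 (dw (nat_lit 0x01080502050c), []),
 (dw (nat_lit 0x140f021212), []),
 (dw (nat_lit 0x030609020914), []),
 (dw (nat_lit 0x100b010c1311), []),
 (dw (nat_lit 0x0d0c030c1302), [])]
theorem k422 : relK F bs0 (sR icys [] H15.StdU43.ws0 hc v421) = true := by decide +kernel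
theorem icqs_ (M : PM G Ω 693 H15.StdU62.nets) (hN : Nat.card G = 9196830720) : ∀ {X : Type*} [Group X], PresF G X H15.StdU43.rels H15.StdU43.ws0 → QS X (sub M.gen hc) (sub M.gen []) :=
  fun hP _ => quot_surj hP ((sub_le _).2 fa_nil) (ichy M hN) le_rfl le_rfl (rels_base (base0 M hN) k420) (rels_base (base0 M hN) k422) (by decide +kernel)
theorem k423 : invChk 693 H15.StdU62.nets F ha s306 ub 106 = true := by decide +kernel
theorem nmab (M : PM G Ω 693 H15.StdU62.nets) (hN : Nat.card G = 9196830720) : ev M.gen ub ∉ (sub M.gen ha) :=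
  not_mem_of_inv (z := 106) k423
theorem k424 : invChk 693 H15.StdU62.nets F ha s306 uc 106 = true := by decide +kernel
theorem nmac (M : PM G Ω 693 H15.StdU62.nets) (hN : Nat.card G = 9196830720) : ev M.gen uc ∉ (sub M.gen ha) :=
  not_mem_of_inv (z := 106) k424
theorem k425 : invChk 693 H15.StdU62.nets F hb s353 uc 1 = true := by decide +kernel
theorem nmbc (M : PM G Ω 693 H15.StdU62.nets) (hN : Nat.card G = 9196830720) : ev M.gen uc ∉ (sub M.gen hb) :=
  not_mem_of_inv (z := 1) k425
theorem nnua (M : PM G Ω 693 H15.StdU62.nets) (hN : Nat.card G = 9196830720) : ev M.gen ua ∉ (Subgroup.normalizer (sub M.gen qs : Set G)) :=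
  nnorm_of (el M hN) 2 2 (ncomm_base (F := F) (base0 M hN) _ _ (by decide +kernel))
theorem nnub (M : PM G Ω 693 H15.StdU62.nets) (hN : Nat.card G = 9196830720) : ev M.gen ub ∉ (Subgroup.normalizer (sub M.gen qs : Set G)) :=
  nnorm_of (el M hN) 2 1 (ncomm_base (F := F) (base0 M hN) _ _ (by decide +kernel))
theorem nnuc (M : PM G Ω 693 H15.StdU62.nets) (hN : Nat.card G = 9196830720) : ev M.gen uc ∉ (Subgroup.normalizer (sub M.gen qs : Set G)) :=
  nnorm_of (el M hN) 2 1 (ncomm_base (F := F) (base0 M hN) _ _ (by decide +kernel))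
noncomputable def v426 : List (List Word) := [[dw (nat_lit 0x01)]]
theorem k427 : relK F bs0 (nrR [x] [x] [ua] v426) = true := by decide +kernel
theorem ux (M : PM G Ω 693 H15.StdU62.nets) (hN : Nat.card G = 9196830720) : sub M.gen [ua] ≤ (Subgroup.normalizer (sub M.gen [x] : Set G)) :=
  (le_normalizer_of le_rfl (rels_base (base0 M hN) k427) (by decide +kernel))

end L.WU62
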