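import Cfsg.Agent.L.KE
import Cfsg.Agent.L.I22
import Cfsg.Agent.L.K22
import Cfsg.Agent.H15.StdGO6m2
import Cfsg.Agent.H15.StdU42

/-! Generated certificate (toolsL/cg.hpp). -/
set_option autoImplicit false
set_option maxRecDepth 200000
set_option Elab.async false
set_option linter.unusedVariables false
set_option linter.unusedSectionVars false

namespace L.Z22b
open H14 L.K22T L.K22
variable {G Ω : Type*} [Group G] [Finite G] [MulAction G Ω]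

noncomputable def s0 : Nat := (nat_lit 0x1f7e7ffffffffe7f5fe3c7bbfff3f67fffdffdf3e8fdb7afeb7ffffbffffffde5fb7ffffffefefe7ffe7fffe37fbdcbdeefdc73ffef3bffffffbdff7fffffaff7ffff7fffef77fdf78fff7efeff3cf5e1d8ff371ffe3e1cfffb9efefff51d7beffb65f4f7f7f7f9ffdfffff77fdfffe7a7b9bfbffd38fd9ee7b1ecf87de1e8e6f7f3f9faffbeffdf76dfefd4fe9efbaf7bfbffff3f7ff3effaceed7fefed3f1e7b0e3a0ea3c323e5ffc9affdfbbf3ff97cff33fffe7fedfff73fffee6e3bfff7abefffe51c1e64fdde9a1c85302c3081cbbfeaef37f9bfddf8af7fffff2dffcf3ddfebffeffefbb0ff7e7dfcdeb0a0949937b7f1b830204021009ff7fffed67fa6efdda2abfffff76ce9eafdfffffb1fefd54a104408b76de1d30c00000037f7d7e497efbbaf7effeff9addfffc7f75f000000174fa8d3fa018000003bf6669f7bfcfed9ffdacf7fffe3fefc00b060802beda077efc004000001fffbfe0f3f6dcfcffdf5fffff0fdf680670155811000eae3980026df5c00000000eff3d05ad57dccf2f55fdfff0dfed00c205308ae920000b233a70038cb6e0000001bbb4a9399d2f4dbf4f7040480bfe0080155802b006d5b580ec06a)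
noncomputable def w1 : Word := [nat_lit 12]
noncomputable def w2 : Word := [nat_lit 22, nat_lit 4]
noncomputable def w3 : Word := [nat_lit 26, nat_lit 4]
noncomputable def w4 : Word := [nat_lit 29, nat_lit 4]
noncomputable def w5 : Word := [nat_lit 45, nat_lit 45]
theorem k6 : orbChk (nat_lit 3510) H15.Fi22P.nets F [nat_lit 7, nat_lit 0] (sel [w1, w2, w3, w4, w5] [nat_lit 0, nat_lit 1, nat_lit 2, nat_lit 3, nat_lit 4]) [dw (nat_lit 0x07), dw (nat_lit 0x03), dw (nat_lit 0x05), dw (nat_lit 0x09), dw (nat_lit 0x01), dw (nat_lit 0x07), dw (nat_lit 0x05), dw (nat_lit 0x09)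
, dw (nat_lit 0x01), dw (nat_lit 0x07), dw (nat_lit 0x03), dw (nat_lit 0x05), dw (nat_lit 0x09), dw (nat_lit 0x07), dw (nat_lit 0x01), dw (nat_lit 0x05)
, dw (nat_lit 0x09), dw (nat_lit 0x03), dw (nat_lit 0x07), dw (nat_lit 0x01), dw (nat_lit 0x09), dw (nat_lit 0x01), dw (nat_lit 0x05), dw (nat_lit 0x09)
, dw (nat_lit 0x01)] (dn (nat_lit 20) (nat_lit 0x0d744282c433c052e2053168331682046030460211b821cfc22d7842efc40e2c217c0216b840cac42a0042bc441ef4423444121041244419944194441c3440f044106821bbc234142016c200f4223202)) (bit (nat_lit 1)) s0 = true := by decide +kernel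
theorem o7 (M : PM G Ω 3510 H15.Fi22P.nets) (hN : Nat.card G = 64561751654400) : Orb M ⊤ [nat_lit 7, nat_lit 0] (nat_lit 1) s0 :=
  (Orb.ext le_top (orb_bit ⊤ [nat_lit 7, nat_lit 0] (b := (nat_lit 1)) rfl) k6)
noncomputable def s8 : Nat := (nat_lit 0x1f3c7ffffc3f10371a834492f7b2227fff8ff8a3c0100101c028bc495fac63165f22defe9da4e0c5bc222e1800000010007000038a72aad6f4929cf6ffbea8ba72f5d2ed26102c9f58089146018004000000800006000000cba0cf2f9451d5284212574f2a7b2d0d29586f331900dca280189c8c00201000000020000400000001e0f9cac62e11964642a554349a51265a7371c30e72900e7208200100800000000000000000000060c80cb93a12228924910205124c8825c703a38e42003a00884410000000001554000000000000000019a8a120a99401000e498492240a4211052050e8503a10050440800000000000022561100000000000006200028432a021018008a05640204000480288280204000000000004050082000000002020816410829283100200000001010000080000000008000208000000001052029012840e008000000000000000000000000000000020000000000104216805000c048400000000000004000000000000000000000000000000000000080280100000808000000000000000000000000000000000000000000000000000000000000000000000000000000000000000000000000000000000)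
noncomputable def w9 : Word := [nat_lit 6, nat_lit 14, nat_lit 6]
theorem k10 : orbChk (nat_lit 3510) H15.Fi22P.nets F [nat_lit 1, nat_lit 7, nat_lit 0] (sel [w1, w2, w3, w5, w9] [nat_lit 0, nat_lit 1, nat_lit 2, nat_lit 3, nat_lit 4]) [dw (nat_lit 0x01), dw (nat_lit 0x03), dw (nat_lit 0x05), dw (nat_lit 0x07), dw (nat_lit 0x01), dw (nat_lit 0x03), dw (nat_lit 0x05), dw (nat_lit 0x07)
, dw (nat_lit 0x01), dw (nat_lit 0x09), dw (nat_lit 0x07), dw (nat_lit 0x01), dw (nat_lit 0x05), dw (nat_lit 0x07), dw (nat_lit 0x01)] (dn (nat_lit 20) (nat_lit 0x2d905323c31de0214c822b3052448535cc524f422a9852ac4524b4529d422f9c23564535a4525c42201c22b1c224c4516045241022bdc229ac51a705)) (bit (nat_lit 423)) s8 = true := by decide +kernel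
theorem o11 (M : PM G Ω 3510 H15.Fi22P.nets) (hN : Nat.card G = 64561751654400) : Orb M ⊤ [nat_lit 1, nat_lit 7, nat_lit 0] (nat_lit 423) s8 :=
  (Orb.ext le_top (orb_bit ⊤ [nat_lit 1, nat_lit 7, nat_lit 0] (b := (nat_lit 423)) rfl) k10)
noncomputable def s12 : Nat := (nat_lit 0x800000000000000000000000000000000000000000000000000000000000000000000000000000000000000000000000040000000000000000800000000000000000000000000000000000000080000000000000000000000000000000000000000000000000008000000000040000000000000000000000000000200000000000000000000002000040000000000000000000000020404000000000040000000000000000000000011010000000000000000000000000000000000000000000000000000000000000000000000000000000000000000000)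
noncomputable def w13 : Word := [nat_lit 12, nat_lit 46, nat_lit 12]
noncomputable def w14 : Word := [nat_lit 12, nat_lit 32, nat_lit 39, nat_lit 49, nat_lit 36]
noncomputable def w15 : Word := [nat_lit 14, nat_lit 38, nat_lit 32, nat_lit 16, nat_lit 10, nat_lit 12]
theorem k16 : orbChk (nat_lit 3510) H15.Fi22P.nets F [nat_lit 423, nat_lit 1, nat_lit 7, nat_lit 0] (sel [w13, w14, w15] [nat_lit 0, nat_lit 1, nat_lit 2]) [] (dn (nat_lit 20) (nat_lit 0x14e8314e821afc31afc205d0209d8309d82115c20a2430a242076830768205b0305b0205b01)) (bit (nat_lit 364)) s12 = true := by decide +kernel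
theorem o17 (M : PM G Ω 3510 H15.Fi22P.nets) (hN : Nat.card G = 64561751654400) : Orb M ⊤ [nat_lit 423, nat_lit 1, nat_lit 7, nat_lit 0] (nat_lit 364) s12 :=
  (Orb.ext le_top (orb_bit ⊤ [nat_lit 423, nat_lit 1, nat_lit 7, nat_lit 0] (b := (nat_lit 364)) rfl) k16)
noncomputable def c18 : Chn := [((nat_lit 0), (full (nat_lit 3510))), ((nat_lit 7), L.K22.s32), ((nat_lit 1), s0), ((nat_lit 423), s8), ((nat_lit 364), s12)]
theorem k19 : Nat.ble 64561751654400 (cval (nat_lit 3510) c18) = true := by decide +kernel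
theorem e20 (M : PM G Ω 3510 H15.Fi22P.nets) (hN : Nat.card G = 64561751654400) : EC M ⊤ [] c18 :=
  ec_top (c := c18) ⟨(L.K22.o9 M hN), ⟨(L.K22.o42 M hN), ⟨(o7 M hN), ⟨(o11 M hN), ⟨(o17 M hN), trivial⟩⟩⟩⟩⟩ hN k19
noncomputable def p21 : Prs := [(I22.u2, I22.u2)]
noncomputable def s22 : Nat := (nat_lit 0x2400000000000000000000000000000000000000000000000020000000000000000000000000000000000000000000000000000000000000c2001001000040000142000000000000000000000000000000000000000000000000000000000000000000000020000140000000000000000000000000000000000000000000000000800000002000000400100800500000400080000000000000000000080000000000000000000000000000000000000001000000001500880464200000000800000000000000000000000000000000000000800000000000a08010000080c000201208c28400000000000000000000000000000000000000000400000004510060000060000080821000000000000000000000002000000200000000110402011000004228d44400080000000000000000000000000008804154000000a000000210800dc0000000000000000000000000300005c00500028004000004138c000022603002900000000000000000080000010000301800080006437080040008e8100008b48082000000000000100000040a0400004054a000c0012000004800a81)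
theorem k23 : band (Nat.ble (nat_lit 3510) (Nat.pow 2 (nat_lit 12))) (fsChk (nat_lit 3510) (nat_lit 12) H15.Fi22P.nets I22.u2 s22 (full (nat_lit 3510)) 0 0 (nat_lit 12)) = true := by decide +kernel
theorem f24 (M : PM G Ω 3510 H15.Fi22P.nets) (hN : Nat.card G = 64561751654400) : IsFix M I22.u2 s22 :=
  fix_one k23
theorem k25 : relK F bs0 [(I22.u2, flat (fsts p21) [nat_lit 0]), (I22.u2, flat (snds p21) [nat_lit 0])] = true := by decide +kernel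
noncomputable def b26 : List (Nat × Nat) := [(s22, s22)]
noncomputable def w27 : Word := [nat_lit 35, nat_lit 10, nat_lit 36, nat_lit 29, nat_lit 46, nat_lit 29, nat_lit 46, nat_lit 32]
noncomputable def w28 : Word := [nat_lit 42, nat_lit 37, nat_lit 44, nat_lit 6, nat_lit 45, nat_lit 10]
noncomputable def w29 : Word := [nat_lit 40, nat_lit 49, nat_lit 6, nat_lit 24, nat_lit 29, nat_lit 42, nat_lit 4, nat_lit 39]
noncomputable def w30 : Word := [nat_lit 8, nat_lit 16, nat_lit 39, nat_lit 24, nat_lit 29, nat_lit 32, nat_lit 43, nat_lit 4]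
noncomputable def w31 : Word := [nat_lit 48, nat_lit 40, nat_lit 38, nat_lit 8, nat_lit 31, nat_lit 38, nat_lit 31, nat_lit 40, nat_lit 0]
noncomputable def w32 : Word := [nat_lit 42, nat_lit 49, nat_lit 37, nat_lit 32, nat_lit 27, nat_lit 49, nat_lit 42, nat_lit 32]
noncomputable def w33 : Word := [nat_lit 46, nat_lit 32, nat_lit 4, nat_lit 24, nat_lit 16, nat_lit 27, nat_lit 30]
noncomputable def w34 : Word := [nat_lit 4, nat_lit 14, nat_lit 39, nat_lit 40, nat_lit 12, nat_lit 39, nat_lit 4, nat_lit 46]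
noncomputable def w35 : Word := [nat_lit 36, nat_lit 38, nat_lit 16, nat_lit 32, nat_lit 4, nat_lit 34, nat_lit 30, nat_lit 24]
noncomputable def w36 : Word := [nat_lit 22, nat_lit 49, nat_lit 39, nat_lit 49, nat_lit 34, nat_lit 48, nat_lit 8, nat_lit 26]
noncomputable def w37 : Word := [nat_lit 22, nat_lit 38, nat_lit 49, nat_lit 6, nat_lit 35, nat_lit 42, nat_lit 4]
noncomputable def w38 : Word := [nat_lit 46, nat_lit 12, nat_lit 4, nat_lit 36, nat_lit 38, nat_lit 46, nat_lit 22]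
noncomputable def w39 : Word := [nat_lit 44, nat_lit 4, nat_lit 28, nat_lit 45]
noncomputable def w40 : Word := [nat_lit 10, nat_lit 27, nat_lit 14, nat_lit 26, nat_lit 10]
noncomputable def w41 : Word := [nat_lit 12, nat_lit 4, nat_lit 36, nat_lit 38, nat_lit 22]
noncomputable def w42 : Word := [nat_lit 37, nat_lit 32, nat_lit 36, nat_lit 12, nat_lit 4, nat_lit 44, nat_lit 39, nat_lit 4]
noncomputable def w43 : Word := [nat_lit 19, nat_lit 16, nat_lit 18]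
noncomputable def w44 : Word := [nat_lit 36, nat_lit 39, nat_lit 12, nat_lit 29, nat_lit 31, nat_lit 40, nat_lit 32, nat_lit 16]
noncomputable def w45 : Word := [nat_lit 48, nat_lit 34, nat_lit 39, nat_lit 32, nat_lit 28, nat_lit 40, nat_lit 37, nat_lit 46, nat_lit 6]
noncomputable def w46 : Word := [nat_lit 8, nat_lit 48, nat_lit 32, nat_lit 4, nat_lit 24, nat_lit 10, nat_lit 8, nat_lit 36]
noncomputable def w47 : Word := [nat_lit 46, nat_lit 37, nat_lit 48, nat_lit 38, nat_lit 32, nat_lit 37, nat_lit 28, nat_lit 48, nat_lit 38]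
noncomputable def w48 : Word := [nat_lit 4, nat_lit 14, nat_lit 34, nat_lit 37, nat_lit 44, nat_lit 31, nat_lit 8, nat_lit 30, nat_lit 30]
noncomputable def w49 : Word := [nat_lit 45, nat_lit 46, nat_lit 38, nat_lit 49, nat_lit 16, nat_lit 24, nat_lit 49, nat_lit 16, nat_lit 30]
noncomputable def w50 : Word := [nat_lit 42, nat_lit 37, nat_lit 12, nat_lit 4, nat_lit 39, nat_lit 28, nat_lit 27]
noncomputable def w51 : Word := [nat_lit 46, nat_lit 39, nat_lit 24, nat_lit 38, nat_lit 46]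
noncomputable def w52 : Word := [nat_lit 29, nat_lit 22, nat_lit 29, nat_lit 4]
noncomputable def w53 : Word := [nat_lit 38, nat_lit 4, nat_lit 24, nat_lit 39]
noncomputable def w54 : Word := [nat_lit 32, nat_lit 10, nat_lit 49, nat_lit 28, nat_lit 39, nat_lit 31, nat_lit 37]
noncomputable def w55 : Word := [nat_lit 27, nat_lit 49, nat_lit 37, nat_lit 32, nat_lit 31, nat_lit 39, nat_lit 6, nat_lit 26]
noncomputable def w56 : Word := [nat_lit 48, nat_lit 34, nat_lit 37, nat_lit 12, nat_lit 24, nat_lit 28, nat_lit 30, nat_lit 26, nat_lit 12]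
noncomputable def w57 : Word := [nat_lit 48, nat_lit 14, nat_lit 38, nat_lit 8, nat_lit 28, nat_lit 22, nat_lit 34, nat_lit 31]
noncomputable def w58 : Word := [nat_lit 42, nat_lit 6, nat_lit 43, nat_lit 44, nat_lit 29, nat_lit 45, nat_lit 22, nat_lit 4]
noncomputable def w59 : Word := [nat_lit 26, nat_lit 44, nat_lit 48, nat_lit 42, nat_lit 6, nat_lit 32, nat_lit 8, nat_lit 27]
noncomputable def w60 : Word := [nat_lit 43, nat_lit 16, nat_lit 34, nat_lit 14, nat_lit 30, nat_lit 36, nat_lit 16, nat_lit 6]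
noncomputable def w61 : Word := [nat_lit 44, nat_lit 12, nat_lit 35, nat_lit 42, nat_lit 24, nat_lit 44, nat_lit 34, nat_lit 26, nat_lit 31]
noncomputable def w62 : Word := [nat_lit 12, nat_lit 44, nat_lit 37, nat_lit 0, nat_lit 27, nat_lit 30, nat_lit 32, nat_lit 48]
noncomputable def w63 : Word := [nat_lit 37, nat_lit 46, nat_lit 10, nat_lit 37, nat_lit 24, nat_lit 26, nat_lit 44, nat_lit 36, nat_lit 22]
noncomputable def w64 : Word := [nat_lit 42, nat_lit 6, nat_lit 12, nat_lit 10, nat_lit 29, nat_lit 46, nat_lit 27, nat_lit 4]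
noncomputable def w65 : Word := [nat_lit 43, nat_lit 34, nat_lit 37, nat_lit 28, nat_lit 35, nat_lit 30, nat_lit 4, nat_lit 38]
noncomputable def w66 : Word := [nat_lit 22, nat_lit 46, nat_lit 14, nat_lit 44, nat_lit 42, nat_lit 6, nat_lit 38, nat_lit 4]
noncomputable def w67 : Word := [nat_lit 29, nat_lit 43, nat_lit 12, nat_lit 42, nat_lit 28]
noncomputable def w68 : Word := [nat_lit 24, nat_lit 49, nat_lit 38, nat_lit 32, nat_lit 24, nat_lit 8, nat_lit 26, nat_lit 46]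
noncomputable def w69 : Word := [nat_lit 44, nat_lit 32, nat_lit 36, nat_lit 29, nat_lit 45, nat_lit 39, nat_lit 6, nat_lit 32]
noncomputable def w70 : Word := [nat_lit 42, nat_lit 46, nat_lit 34, nat_lit 14, nat_lit 49, nat_lit 24, nat_lit 44, nat_lit 32, nat_lit 6]
noncomputable def w71 : Word := [nat_lit 22, nat_lit 44, nat_lit 16, nat_lit 43, nat_lit 34, nat_lit 24, nat_lit 12, nat_lit 27]
noncomputable def y72 : List Word := [w27, w28, w29, w30, w31, w32, w33, w34, w35, w36, w37, w38, w39, w40, w41, w42, w43, w44, w45, w46, w47, w48, w49, w50, w51, w52, w53, w54, w55, w56, w57, w58, w59, w60, w61, w62, w63, w64, w65, w66, w67, w68, w69, w70, w71]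
theorem k73 : relK F bs0 (commR (snds p21) y72) = true := by decide +kernel
theorem x74 (M : PM G Ω 3510 H15.Fi22P.nets) (hN : Nat.card G = 64561751654400) : Cx M (fun g => Pr M g p21) b26 [] p21 y72 :=
  cx_conj (tb_cons (f24 M hN) (f24 M hN) (rels_base (base0 M hN) k25) (fun _ _ => fa_nil)) (rels_base (base0 M hN) k73)
noncomputable def t75 : KT := KT.alt (dw (nat_lit 0x1614)) (KT.cnt (SE.and (SE.lev (nat_lit 1)) (SE.tab (nat_lit 0))))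
 (KT.nil (SE.and (SE.lev (nat_lit 0)) (SE.tab (nat_lit 0))) [nat_lit 0, nat_lit 1] [dw (nat_lit 0x03), dw (nat_lit 0x01), dw (nat_lit 0x03)] (dn (nat_lit 20) (nat_lit 0x078c1145012c1012384122882053c11d7811d782015811d0811d3c20d10204c4113c4113c420d5c10d5c217cc117cc21d4c10f68204d4201d820ba810ba82240c20f8c20bac10bac21020119ec119ec209b8111a4111a420fa410fa4214f8204282042c1042c20d2822d2c2342412c68110901109020970207f410bec205a021c5c11d1810bb02005c10880104c020144101442105412ce02188c1188c2341820870218e010780107802085810858218681089810898211342035410354222e0122e020218203ac103ac21d8010d0010d002028010280210a0110a0209ac109ac217f4117f42057c221ec121ec22bf4219241192420f7810f7820f582134c208f8108f8200c4100c4209a8109a821798227841278420fc8104d021424204f8209782085c1085c2107811078231042002421030110302047820d4c2192c1192c203a4103a4203bc103bc20c00203a020bb810bb822d1412d1420f9c10f9c217c821e1011e1020f8010f8020bbc107e8107e82186c1186c2132020f88200d0100d021ce411ce42272812728207c4107c420794107942036c1036c21d042039820fb410fb42093420c8410c842065c118241)))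
theorem k76 : ktChk (nat_lit 3510) H15.Fi22P.nets F c18 b26 [] p21 y72 [] [] (nat_lit 0) (nat_lit 0) (nat_lit 0x81) 0 t75 = true := by decide +kernel
theorem l77 (M : PM G Ω 3510 H15.Fi22P.nets) (hN : Nat.card G = 64561751654400) : Cl M (fun g => Pr M g p21) [] [] (nat_lit 0) (nat_lit 0x81) :=
  cl_tree (e20 M hN) (x74 M hN) (dd0 _ _ _ _) k76
noncomputable def t78 : KT := KT.alt (dw (nat_lit 0x2d)) (KT.br (nat_lit 1) (KT.alt (dw (nat_lit 0x2d051b2e2e051e)) (KT.br (nat_lit 423) (KT.alt (dw (nat_lit 0x2f05270926072c25)) (KT.br (nat_lit 364) (KT.alt (dw (nat_lit 0x2f05270926072c25)) (KT.neq (nat_lit 1) [nat_lit 0] (nat_lit 6) [])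
 (KT.nil (SE.lev (nat_lit 4)) [nat_lit 8, nat_lit 9, nat_lit 10] [] (dn (nat_lit 20) (nat_lit 0x1b4420c9c11118217582175811758307441095820958316a8216a8116a830cb820cb810cb83)))))
 (KT.alt (dw (nat_lit 0x050f2d)) (KT.br (nat_lit 364) (KT.alt (dw (nat_lit 0x1b2b240d310f2d2d)) (KT.neq (nat_lit 1) [nat_lit 0] (nat_lit 6) [])
 (KT.alt (dw (nat_lit 0x050f2d0d21273126)) (KT.neq (nat_lit 1) [nat_lit 0] (nat_lit 6) [])
 (KT.alt (dw (nat_lit 0x050f2d)) (KT.neq (nat_lit 1) [nat_lit 0] (nat_lit 6) [])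
 (KT.alt (dw (nat_lit 0x11050923092d26)) (KT.neq (nat_lit 1) [nat_lit 0] (nat_lit 6) [])
 (KT.nil (SE.lev (nat_lit 4)) [nat_lit 11, nat_lit 12] [] (dn (nat_lit 20) (nat_lit 0x089c119c811ff8109dc11a4c11a4c20cc010cc0200841008420004100042))))))))
 (KT.alt (dw (nat_lit 0x2d051b2e2e051e0d)) (KT.br (nat_lit 364) (KT.alt (dw (nat_lit 0x05310d2e25280b)) (KT.neq (nat_lit 1) [nat_lit 0] (nat_lit 6) [])
 (KT.alt (dw (nat_lit 0x17270b072d0f2d)) (KT.neq (nat_lit 1) [nat_lit 0] (nat_lit 6) [])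
 (KT.alt (dw (nat_lit 0x05230d32292d27)) (KT.neq (nat_lit 1) [nat_lit 0] (nat_lit 6) [])
 (KT.alt (dw (nat_lit 0x2d051b2e2e051e0d)) (KT.neq (nat_lit 1) [nat_lit 0] (nat_lit 6) [])
 (KT.nil (SE.lev (nat_lit 4)) [nat_lit 13, nat_lit 14] [] (dn (nat_lit 20) (nat_lit 0x091c2012421ee420744214b4214b410dfc20dfc107182071810084200841))))))))
 (KT.alt (dw (nat_lit 0x052d050d1b)) (KT.br (nat_lit 364) (KT.alt (dw (nat_lit 0x1b2911212e0f32)) (KT.neq (nat_lit 1) [nat_lit 0] (nat_lit 6) [])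
 (KT.alt (dw (nat_lit 0x052d050d1b)) (KT.neq (nat_lit 1) [nat_lit 0] (nat_lit 6) [])
 (KT.alt (dw (nat_lit 0x192607250f2e17)) (KT.neq (nat_lit 1) [nat_lit 0] (nat_lit 6) [])
 (KT.alt (dw (nat_lit 0x0d05242126262e)) (KT.neq (nat_lit 1) [nat_lit 0] (nat_lit 6) [])
 (KT.nil (SE.lev (nat_lit 4)) [nat_lit 13, nat_lit 14] [] (dn (nat_lit 20) (nat_lit 0x0e2422038208c421f1821640216401050820508104542045410414204141))))))))
 (KT.alt (dw (nat_lit 0x2d051b2e2e051e)) (KT.br (nat_lit 364) (KT.alt (dw (nat_lit 0x0905312421072f2b)) (KT.neq (nat_lit 1) [nat_lit 0] (nat_lit 6) [])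
 (KT.alt (dw (nat_lit 0x050d2d26072f2c2f)) (KT.neq (nat_lit 1) [nat_lit 0] (nat_lit 6) [])
 (KT.alt (dw (nat_lit 0x052e2309252b2d)) (KT.neq (nat_lit 1) [nat_lit 0] (nat_lit 6) [])
 (KT.alt (dw (nat_lit 0x1b2f0d23262c2f2e)) (KT.neq (nat_lit 1) [nat_lit 0] (nat_lit 6) [])
 (KT.alt (dw (nat_lit 0x2d051b2e2e051e)) (KT.neq (nat_lit 1) [nat_lit 0] (nat_lit 6) [])
 (KT.alt (dw (nat_lit 0x1b280b072d282e)) (KT.neq (nat_lit 1) [nat_lit 0] (nat_lit 6) [])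
 (KT.alt (dw (nat_lit 0x0905212d11)) (KT.neq (nat_lit 1) [nat_lit 0] (nat_lit 6) [])
 (KT.alt (dw (nat_lit 0x050b31092826)) (KT.neq (nat_lit 1) [nat_lit 0] (nat_lit 6) [])
 (KT.alt (dw (nat_lit 0x0b05242907272b32)) (KT.neq (nat_lit 1) [nat_lit 0] (nat_lit 6) [])
 (KT.alt (dw (nat_lit 0x052d09260b)) (KT.neq (nat_lit 1) [nat_lit 0] (nat_lit 6) [])
 (KT.alt (dw (nat_lit 0x050b2426292b)) (KT.neq (nat_lit 1) [nat_lit 0] (nat_lit 6) [])
 (KT.alt (dw (nat_lit 0x05262124292b25)) (KT.neq (nat_lit 1) [nat_lit 0] (nat_lit 6) [])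
 (KT.alt (dw (nat_lit 0x05092e212d2907)) (KT.neq (nat_lit 1) [nat_lit 0] (nat_lit 6) [])
 (KT.alt (dw (nat_lit 0x172b322332272732)) (KT.neq (nat_lit 1) [nat_lit 0] (nat_lit 6) [])
 (KT.alt (dw (nat_lit 0x110525240b27270f)) (KT.neq (nat_lit 1) [nat_lit 0] (nat_lit 6) [])
 (KT.alt (dw (nat_lit 0x05110d0b2d252d)) (KT.neq (nat_lit 1) [nat_lit 0] (nat_lit 6) [])
 (KT.nil (SE.lev (nat_lit 4)) [] [] []))))))))))))))))))
 (KT.alt (dw (nat_lit 0x0d0507252329)) (KT.br (nat_lit 364) (KT.alt (dw (nat_lit 0x0d0507252329)) (KT.neq (nat_lit 1) [nat_lit 0] (nat_lit 6) [])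
 (KT.nil (SE.lev (nat_lit 4)) [nat_lit 15, nat_lit 16, nat_lit 17] [] (dn (nat_lit 20) (nat_lit 0x0de430de41206c3206c11118107443074411ee411b4431b441060030600109dc309dc109dc2)))))
 (KT.nil (SE.lev (nat_lit 3)) [nat_lit 6, nat_lit 7] [dw (nat_lit 0x01), dw (nat_lit 0x03), dw (nat_lit 0x01), dw (nat_lit 0x03), dw (nat_lit 0x01), dw (nat_lit 0x03), dw (nat_lit 0x01), dw (nat_lit 0x03)
, dw (nat_lit 0x01)] (dn (nat_lit 20) (nat_lit 0x2b8c11de8223202232012840209bc215bc2301021ffc10d741006c2193c20cb420340214702352021f5820d3c22a582238012ad021c1021a6c2291420a9c206fc22bc81218821f3422d38130c4230c4126b0226b0130541307412ee4132a022f0c21bbc21bbc11ef0106c8206c810af8131b81285022850128642189c106cc11930126bc2308823088125282252812c5822c5812ec422ec412c18128881327012ec013618128001306011ce0233c0133b822adc22adc103c82357421d2c12db0222d4234902349012c0022aec22aec1321412bac205bc22950230f422d8022d80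11a9c21a9c1215c22f5822f58127402267c20e5822f182187421ca812a3822a381315023150135b4233702185c1314421dd821dd811b94123a4129442294411a0021ba022b78234a82323c2323c12968211b0211b011e5020ac420ac4116802240422398212342277c22e04226f8206f8225bc225bc12fe421ddc21ddc11bac22df023570234e82315423154121e821c542233820d68130dc223d0229c02128420774234f811c3421c3412c3413358233581317812f9c11c0413284232841319823198128082280812974226802268011a40223fc1174012ff4119d4128fc1106011e94127c4227c41324c2324c116e4125942106821aa412eb8114ec214ec130982309811b0812dd822dd812b9410e0820e0810704232502113c22e6012f8822f881332012f98208102081012310226d410a7820a7812e20233f4233602336011bf821bf812e8822e8812a4022a40123c4223c410cd422efc22b84128c0209d0209d01299012440224401317423174129482294811e7821e7812a0022a00118b4218b4116742126c13434136381337c131d012ff822ff810b5420b541305c2305c12fe022fe0124b0113bc213bc136141262822628134c4234c4120a8220a81347c2347c134c023240233d42226c229f02282c22b082242422860226e822ee822848202b0216ec20b1020ea822604223b8202082364822b88230ec2205c2173022afc205882120c232d822ebc2335c21040211e022d1822b6021624233c4209982236c2358822c9022f7822b7c20ffc225b022fa42))))))))))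
 (KT.alt (dw (nat_lit 0x2d051b051e)) (KT.cnt (SE.and (SE.lev (nat_lit 3)) (SE.img [nat_lit 0] (SE.lev (nat_lit 3)))))
 (KT.alt (dw (nat_lit 0x2d)) (KT.cnt (SE.and (SE.lev (nat_lit 3)) (SE.img [nat_lit 0] (SE.lev (nat_lit 3)))))
 (KT.nil (SE.lev (nat_lit 2)) [nat_lit 2, nat_lit 3, nat_lit 4, nat_lit 5] [dw (nat_lit 0x01), dw (nat_lit 0x03), dw (nat_lit 0x07), dw (nat_lit 0x01), dw (nat_lit 0x05), dw (nat_lit 0x07), dw (nat_lit 0x03), dw (nat_lit 0x01)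
, dw (nat_lit 0x07), dw (nat_lit 0x03), dw (nat_lit 0x05), dw (nat_lit 0x07), dw (nat_lit 0x03)] (dn (nat_lit 20) (nat_lit 0x1610416c840ff84198c334103305832a344165c313f8336b0128e031c34134f83218811b741320010640121843347032df832e1011b4c1337413628134c412dd812c5012b10103e412d3012fd4121cc13330133ac12c8012b4c1)))))))
 (KT.nil (SE.and (SE.lev (nat_lit 1)) (SE.tab (nat_lit 0))) [nat_lit 0, nat_lit 1] [dw (nat_lit 0x03), dw (nat_lit 0x01), dw (nat_lit 0x03), dw (nat_lit 0x01), dw (nat_lit 0x03)] (dn (nat_lit 20) (nat_lit 0x310421e10205a42065c107c010c8c22728207e820bbc1005c22d2c12d2c203a020bb810bb82014c1028010bb0204c0109b0109b02038c20fb410f581240c12288107e4107e4207941192411924207c4107c420d08217f421134205a0100d0100d0201082186812730209782146821d4c11d4c2078c20f8c12280217c8117c820428203a4103a4201d8101d8217b4117b42222810d4c10d4c2002410024213c420970109a820168110a0110a02036c2010c1010c200c4100c4204f8108f810f9c2209c1209c234241136c1136c223842002c11824118242053c208982186c234181014420bac2006822c6812c6820a0021cf810d00204c4101fc1080421c5c20c8410c84203bc2015820cf810cf821ce4203ac103ac20f6810f68209b8109b820a0410a04218001180020f7810858101881087010870205801058020f1c10f1c20d1010d10205f0105f02043c1043c213201132020fa410fa4204d0104d021d182078021d782192c1192c204ac104ac204d410c1410c14210901109022c1012c1020400201f4101f42092c11428104c81)))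
theorem k79 : ktChk (nat_lit 3510) H15.Fi22P.nets F c18 b26 [] p21 y72 [] [nat_lit 0] (nat_lit 1) (nat_lit 7) (bit (nat_lit 7)) 0 t78 = true := by decide +kernel
theorem l80 (M : PM G Ω 3510 H15.Fi22P.nets) (hN : Nat.card G = 64561751654400) : Cl M (fun g => Pr M g p21) [] [nat_lit 0] (nat_lit 7) (bit (nat_lit 7)) :=
  cl_tree (e20 M hN) (x74 M hN) (dd0 _ _ _ _) k79
noncomputable def t81 : KT := KT.nil (SE.lev (nat_lit 2)) [] [] []
theorem k82 : ktChk (nat_lit 3510) H15.Fi22P.nets F c18 b26 [] p21 y72 [] [nat_lit 7, nat_lit 0] (nat_lit 2) (nat_lit 1) s0 0 t81 = true := by decide +kernel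
theorem l83 (M : PM G Ω 3510 H15.Fi22P.nets) (hN : Nat.card G = 64561751654400) : Cl M (fun g => Pr M g p21) [] [nat_lit 7, nat_lit 0] (nat_lit 1) s0 :=
  cl_tree (e20 M hN) (x74 M hN) (dd0 _ _ _ _) k82
noncomputable def t84 : KT := KT.nil (SE.lev (nat_lit 3)) [] [] []
theorem k85 : ktChk (nat_lit 3510) H15.Fi22P.nets F c18 b26 [] p21 y72 [] [nat_lit 1, nat_lit 7, nat_lit 0] (nat_lit 3) (nat_lit 423) s8 0 t84 = true := by decide +kernel
theorem l86 (M : PM G Ω 3510 H15.Fi22P.nets) (hN : Nat.card G = 64561751654400) : Cl M (fun g => Pr M g p21) [] [nat_lit 1, nat_lit 7, nat_lit 0] (nat_lit 423) s8 :=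
  cl_tree (e20 M hN) (x74 M hN) (dd0 _ _ _ _) k85
noncomputable def t87 : KT := KT.nil (SE.lev (nat_lit 4)) [] [] []
theorem k88 : ktChk (nat_lit 3510) H15.Fi22P.nets F c18 b26 [] p21 y72 [] [nat_lit 423, nat_lit 1, nat_lit 7, nat_lit 0] (nat_lit 4) (nat_lit 364) s12 0 t87 = true := by decide +kernel
theorem l89 (M : PM G Ω 3510 H15.Fi22P.nets) (hN : Nat.card G = 64561751654400) : Cl M (fun g => Pr M g p21) [] [nat_lit 423, nat_lit 1, nat_lit 7, nat_lit 0] (nat_lit 364) s12 :=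
  cl_tree (e20 M hN) (x74 M hN) (dd0 _ _ _ _) k88
noncomputable def c90 : Chn := [((nat_lit 0), (nat_lit 0x81)), ((nat_lit 7), (bit (nat_lit 7))), ((nat_lit 1), s0), ((nat_lit 423), s8), ((nat_lit 364), s12)]
theorem e91 (M : PM G Ω 3510 H15.Fi22P.nets) (hN : Nat.card G = 64561751654400) : SC M (cenP M p21 rfl) [] c90 :=
  ⟨Cl.lev (l77 M hN), ⟨Cl.lev (l80 M hN), ⟨Cl.lev (l83 M hN), ⟨Cl.lev (l86 M hN), ⟨Cl.lev (l89 M hN), (EC.sc_end (e20 M hN) (by decide +kernel))⟩⟩⟩⟩⟩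
theorem eqCU (M : PM G Ω 3510 H15.Fi22P.nets) (hN : Nat.card G = 64561751654400) : Nat.card (Subgroup.centralizer (sub M.gen [I22.u2] : Set G)) ≤ 53084160 :=
  (cenP_eq (M := M) (ps := p21) rfl ▸ SC.card_le' (e91 M hN) (by decide +kernel) : Nat.card (Subgroup.centralizer (sub M.gen (fsts p21) : Set G)) ≤ _)
noncomputable def w92 : Word := [nat_lit 36, nat_lit 38, nat_lit 35, nat_lit 27, nat_lit 43, nat_lit 2, nat_lit 29, nat_lit 19, nat_lit 31, nat_lit 29, nat_lit 24]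
noncomputable def w93 : Word := [nat_lit 39, nat_lit 10, nat_lit 35, nat_lit 38, nat_lit 37, nat_lit 28, nat_lit 26, nat_lit 14]
noncomputable def w94 : Word := [nat_lit 42, nat_lit 49, nat_lit 34, nat_lit 36, nat_lit 39, nat_lit 26, nat_lit 6]
noncomputable def w95 : Word := [nat_lit 36, nat_lit 46, nat_lit 12, nat_lit 10, nat_lit 4, nat_lit 18, nat_lit 18, nat_lit 21, nat_lit 6, nat_lit 8]
noncomputable def w96 : Word := [nat_lit 29, nat_lit 37, nat_lit 38, nat_lit 4, nat_lit 42, nat_lit 39, nat_lit 28, nat_lit 44]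
noncomputable def w97 : Word := [nat_lit 26, nat_lit 44, nat_lit 39, nat_lit 34, nat_lit 24, nat_lit 34, nat_lit 8, nat_lit 24]
noncomputable def w98 : Word := [nat_lit 46, nat_lit 36, nat_lit 49, nat_lit 32, nat_lit 31, nat_lit 40, nat_lit 29]
noncomputable def w99 : Word := [nat_lit 28, nat_lit 36, nat_lit 10, nat_lit 37, nat_lit 29]
noncomputable def w100 : Word := [nat_lit 8, nat_lit 36, nat_lit 46, nat_lit 28, nat_lit 8, nat_lit 36, nat_lit 46, nat_lit 28]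
noncomputable def ks : List Word := [w92, w93, w94, w95, w96, w97, w98, w99, w100]
theorem k101 : relK F bs0 (commR [I22.u2] ks) = true := by decide +kernel
theorem eqCL (M : PM G Ω 3510 H15.Fi22P.nets) (hN : Nat.card G = 64561751654400) : (sub M.gen ks) ≤ (Subgroup.centralizer (sub M.gen [I22.u2] : Set G)) :=
  (le_cent_of (rels_base (base0 M hN) k101))
noncomputable def s102 : Nat := (nat_lit 0x2400000000000000000000000000000000000000000000000020000000000000000000000000000000000000000000000000000000000000c2001001000040000142000000000000000000000000000000000000000000000000000000000000000000000020000140000000000000000000000000000000000000000000000000800000002000000400100800500000400080000000000000000000080000000000000000000000000000000000000001000000001500880464200000000800000000000000000000000000000000000000800000000000a08010000080c000201208c28400000000000000000000000000000000000000000400000004510060000060000080821000000000000000000000002000000200000000110402011000004228d44400080000000000000000000000000008804154000000a000000210800dc0000000000000000000000000300005c00500028004000004138c000022603002900000000000000000080000010000301800080006437080040008e8100008b48082000000000000100000040a0400004054a000c0012000004800a00)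
noncomputable def s103 : Nat := (nat_lit 0x208180000000000000003800000c01800000000c000000000480000000000001a000000000000000000000000000000200020000000000000000000000000000000000000000000003000000000000006020000800000a1000000000002c000000018030000000000000000000000018100000000000000010001100020a00000000000000000000000000230000000000040000008004100000000000000000801100110010441000040000000000000000000000000000088000110000000000000000000000000000002243110114000000004000000004000000000000100000000010000404000000000000000004000002000110804202000000000000080000440000000000000000000000a000000000088000000020001400004000001148000040000000000000000800000082a00000062005100830008000104000000004000000000000000002010800000014801024406148200000004000002030000200000000010180840850a400000826c60800a18018a45000000400080233010a200000000128b019003311098000008058314000116011230040000466010a000008a94813000002b00a0300c1102001010000)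
noncomputable def s104 : Nat := (nat_lit 0xa0000000000000000000000000000840100000000000000000000000000000000000000100042100100038c00000000000000000000000000000000000000000040000000000002082400c02001c00000000000000000001000000000000000000000000000000000840000002040041084e00078000171908040000000000000020000000000000000000000000000000000000000000600460c0e05c289802000000000000000000004000000000000040000001c4000004000000006103002061e20884428820200000000000000000000000000000200000000000000003000000000005170020c000000208ce1e109420000001000000000000000000000002000000000000000001a283714010080031a3f78e800000000000000000000000000000100000db1c4ea0000000004a51429200000000000000000000200000100000704a023680004100000288841400000401000000000000080000040000221808200649b60400000000000050600a8000040100000000000000000060000442448c0000004896000800000020001420d440000000000000000200120304001b000400100024800002400400)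
noncomputable def s105 : Nat := (nat_lit 0x1000000000000000000000000000000000000000000000000000000000000000000000000000000000000000000000000000000000000000000000000000000000000000000080000000000000000000000000000000000000000000010000000000000000002)
noncomputable def c106 : Chn := [((nat_lit 9), s102), ((nat_lit 16), s103), ((nat_lit 10), s104), ((nat_lit 1), s105), ((nat_lit 0), (bit (nat_lit 0))), ((nat_lit 35), (bit (nat_lit 35))), ((nat_lit 72), (bit (nat_lit 72)))]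
noncomputable def d107 : List OD := [⟨[nat_lit 7, nat_lit 2, nat_lit 1], [dw (nat_lit 0x05)], (dn (nat_lit 20) (nat_lit 0x1d703086c30d282053c2088030400218e0304e8204e8104c0234243342421334213341190c207e822288322882228811924314f820bb820780205802228032280217b4317b420bec20bec1047830478200c42042430424207e430970209701041c30f8020168322282240c30ba820398303981145022d1432d1422d1410158301582015811d7831d7820d00322e02014c3014c205a0105f01065c3065c21468110543105421d8031d80107c03273032730227301209c3209c209ac309ac209ac12d282272822728104d0304d0204d010160209b8117f4317f4103a4303a421460314602042c3042c2042c101881021820d0830d0820d0811d0831d08203ac203ac100d0300d010c1430c14214283142820bbc2036c2036c10858221ec321ec221ec11d18214243142420804208041005c22c6822c6810a002028030280204c4304c4204c411e1031e1021e101132031320222bc322bc10a0422bf432bf422bf410d5c304f43231832318201d81010830108205a4305a4205a4117c8317c8217c811ce431ce421ce4103bc303bc203bc101f4301f42188c3188c2188c10870308702087011cf831cf821d0431d0421d041057c3057c2057c10bac30bac2))⟩,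
 ⟨[nat_lit 7, nat_lit 2, nat_lit 3], [dw (nat_lit 0x03), dw (nat_lit 0x05), dw (nat_lit 0x01), dw (nat_lit 0x03)], (dn (nat_lit 20) (nat_lit 0x06a4302c830c5031014309383240822cd430fe8313b430510321f022dc4321a8333c8309142144c2015c223f0230a431d6420868308682112c30a6421d742227031cf030434222a0322a02043030430212983066c20f942274430728307282226010654316683087c33468225602059c3059c22b2c102d4302d420b3830b3821d3031d301028c31bc83102831028232e022a7020fd030fd022a9c100943009420ab430ab4233bc12cd8302143021422aa0306b4306b42182012dc030c1830c1822b28304ec304ec110bc210bc125643015030150122082220812a74319e8219e8102e8302e8214f4314f42045832230322302279022790103d0303d02243c3243c130e4230e4100b0300b021c5831c582086430bb430bb4222b0222b0108143081421f7031f701021c2053010ad430ad4209c031f6031f6021f6010fe03033830338203381097c3097c2097c1084c2094c10e6830e68205c031a0831a0821a0810f90306ec306ec206ec105703057020570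1109431094134fc334fc2056c3056c20200302001359033590201f8301f820884328f0328f02044c32b3432b3421864318642257410ef830ef820f1030f1020f10127d03093030930228ec1128c3128c212b0312b0212b011810301c0301c0201c010c7c30798307982012c20364305203052020520105ac31d2031d2020450207fc306c4306c4206c4102d8302d8202d81022c2022c105b4205b410894308942089410d4430d4420c9030c9020c9011d0031d00201d0301d0201d0104e0304e0201ec301ec201ec1090830908208ac2047c201c4205242099c3099c207b4307b420154201541016420164108883087830c88301043))⟩,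
 ⟨[nat_lit 7, nat_lit 6, nat_lit 5], [dw (nat_lit 0x03), dw (nat_lit 0x05), dw (nat_lit 0x01), dw (nat_lit 0x03), dw (nat_lit 0x05), dw (nat_lit 0x01), dw (nat_lit 0x03), dw (nat_lit 0x05)
], (dn (nat_lit 20) (nat_lit 0x1f4031f4020f7c20548215a420fb820358110a8313741229c110cc310cc226a8104a820f84104cc10fd830fd8210d031438322b420fa020c1c2227430fb0308c831f2822c2832c28217d03113031130213502131c31440122b8322b8218443184420ce430ce420ce4113283132821364313642182c3182c2182c122f8322f820db030db0209b4309b4209b411d5c208f4308f4208f41134020fc430fc420fc4133f820990127f8204b0304b0204b010fcc30fcc20bfc30bfc217bc107a4214441309421cf410e1430e14217e4200d4218d430c2430c2421e202135431418118081270432704100bc2220c210ac11d841021020368301e0201e0119203108c3108c207f8104d8204d810d5830d5822708327082270810d243090c3090c2090c1055c30748307482074810d54322583225811360226ec3275c10568327b832ae0308e8308e8217e8317e821d94333d03227820bd03222c105782147c210b020a6c2145c22dc821e3821db831db821818318182039420394113943139422c2c22c2c104bc304bc204bc10c0c30c0c2221c2225020f642227c20cf4219002190011e0021e00118bc1146412710235d422cf422cf4122f4222f41054c11d982059820598105a8205a8122482224810900209001))⟩,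
 ⟨[nat_lit 7, nat_lit 8], [], (dn (nat_lit 20) (nat_lit 0x013020004200041))⟩,
 ⟨[], [], []⟩,
 ⟨[], [], []⟩,
 ⟨[], [], []⟩]
theorem k108 : ocChk (nat_lit 3510) H15.Fi22P.nets F ks c106 d107 [] = true := by decide +kernel
theorem o109 (M : PM G Ω 3510 H15.Fi22P.nets) (hN : Nat.card G = 64561751654400) : OC M (sub M.gen ks) [] c106 :=
  oc_of le_rfl k108
theorem eqC (M : PM G Ω 3510 H15.Fi22P.nets) (hN : Nat.card G = 64561751654400) : (Subgroup.centralizer (sub M.gen [I22.u2] : Set G)) = (sub M.gen ks) ∧ Nat.card (sub M.gen ks) = 53084160 :=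
  eq_of_cards (eqCL M hN) (eqCU M hN) (OC.le_card' (N := 53084160) (o109 M hN) (by decide +kernel))
noncomputable def vs : List Word := [tw a0 I22.t1, tw a0 I22.t0]
noncomputable def s110 : Nat := (nat_lit 0x100000000000000000000000000000000000000000000002001000000000000010008000200000000000000100000000000000000000000000000000000000010000000000000000000040000000000000000000000000000000000000000000000000000000000010000000000000000000000000000000000000000000000000000000000000000000080000000000000000000000000000010000000000000000000000000000000000000000000000000008000000800000000000000000000000000000000000000000000000000000000000000000000000000000008000000000000000000000000000000000000000000000000004000000000000000000000000000000000000000000000000000000000000000000000000000000000000000000000000000000000000000000000000000000000000000000000000000000000000000000000000000000000000000000000000000000000000000000000000000000000000000000000000000000000000000000000000000000000000000000000000000000000000000000000000000000)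
theorem k111 : orbChk (nat_lit 3510) H15.Fi22P.nets F [nat_lit 423, nat_lit 1, nat_lit 7, nat_lit 0] (sel [w13, w14, w15] [nat_lit 0, nat_lit 1, nat_lit 2]) [] (dn (nat_lit 20) (nat_lit 0x171c3171c21c8c31c8c2300422ebc32ebc22ef0232f0332f021c1c31c1c213e8313e8213e81)) (bit (nat_lit 1274)) s110 = true := by decide +kernel
theorem o112 (M : PM G Ω 3510 H15.Fi22P.nets) (hN : Nat.card G = 64561751654400) : Orb M ⊤ [nat_lit 423, nat_lit 1, nat_lit 7, nat_lit 0] (nat_lit 1274) s110 :=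
  (Orb.ext le_top (orb_bit ⊤ [nat_lit 423, nat_lit 1, nat_lit 7, nat_lit 0] (b := (nat_lit 1274)) rfl) k111)
noncomputable def c113 : Chn := [((nat_lit 0), (full (nat_lit 3510))), ((nat_lit 7), L.K22.s32), ((nat_lit 1), s0), ((nat_lit 423), s8), ((nat_lit 1274), s110)]
theorem k114 : Nat.ble 64561751654400 (cval (nat_lit 3510) c113) = true := by decide +kernel
theorem e115 (M : PM G Ω 3510 H15.Fi22P.nets) (hN : Nat.card G = 64561751654400) : EC M ⊤ [] c113 :=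
  ec_top (c := c113) ⟨(L.K22.o9 M hN), ⟨(L.K22.o42 M hN), ⟨(o7 M hN), ⟨(o11 M hN), ⟨(o112 M hN), trivial⟩⟩⟩⟩⟩ hN k114
noncomputable def p116 : Prs := [((tw a0 I22.t1), (tw a0 I22.t1)), (a0, a0)]
noncomputable def w117 : Word := [nat_lit 16, nat_lit 21, nat_lit 19, nat_lit 0, nat_lit 18, nat_lit 20, nat_lit 16]
noncomputable def s118 : Nat := (nat_lit 0x2081800000000000001c3844000c09800020020c170240100000000400000021a048000000101018001800004000024001000000010c40000004200800000500800008000108802083000810100c308160100084000014200046101000ae28400049a0b08080806002000008802000184006404000c30220000012000214000000080605004100208900102b0161045084040000c080080005311280101240810091051100040008003050020440c00683008c000180120008800011900000085010001a22009802010401520890464200401510880600220750800000d20000c22014001001044800818203214a48214008480c404201208c284008000029801910225d540000089310150200000440102ab44510060882162c000808210808201b28104450810010065220002008a000211048b0512c0404228d44440999408403012600251080000001028904954014121a081020230800dc000000f0c0923030020200000b02095c00d28a688041111c633bc120a22783002910082ea52a82330d0aa02000920123019820975064b70845c4588ec710918bc8082444b56c662d0b24090840e0434004f54aaa4dd49212a4a4812a95)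
theorem k119 : band (Nat.ble (nat_lit 3510) (Nat.pow 2 (nat_lit 12))) (fsChk (nat_lit 3510) (nat_lit 12) H15.Fi22P.nets w117 s118 (full (nat_lit 3510)) 0 0 (nat_lit 12)) = true := by decide +kernel
theorem f120 (M : PM G Ω 3510 H15.Fi22P.nets) (hN : Nat.card G = 64561751654400) : IsFix M w117 s118 :=
  fix_one k119
theorem k121 : relK F bs0 [(w117, flat (fsts p116) [nat_lit 0]), (w117, flat (snds p116) [nat_lit 0])] = true := by decide +kernel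
noncomputable def s122 : Nat := (nat_lit 0x180a0000000000000000000000000024840148000000000000000000000000000000000000188042302100238c0000000000000000000000000000000000000000004000000000c202182700c0e001c1e300000000000000001000000000000000000000000000000001840000002040041184e0307801e1719080400000000000000200000000000000000000000000c10000002000000c06184e0c5e05c3cdc1a00060000000000000000c000000000000040000001c4000004000000c1e113002061e378cfc3cf7e34000000c00040000000000000000030000000000000000f00000000000f1f4b26c0080e078fdfbfdeff600000010000400000000000000000060000000000e0000001efbbf740100e00f3ffffffc00008004000000000000002000000380000ffdfffe020170001fe7fffffc00080200000000000002000001c0001fe4f1f7fc0004f80001ff9fffffe0004010000000000000800000700007f987c203e6ffe040045fcd80003fe7fffff00040100000000000080000070000ff3c78ce0016d7fff084800ff812400ff7fffe0000000000001000200fbbb7c001f07fe003e007f800007f01f81)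
theorem k123 : band (Nat.ble (nat_lit 3510) (Nat.pow 2 (nat_lit 12))) (fsChk (nat_lit 3510) (nat_lit 12) H15.Fi22P.nets a0 s122 (full (nat_lit 3510)) 0 0 (nat_lit 12)) = true := by decide +kernel
theorem f124 (M : PM G Ω 3510 H15.Fi22P.nets) (hN : Nat.card G = 64561751654400) : IsFix M a0 s122 :=
  fix_one k123
theorem k125 : relK F bs0 [(a0, flat (fsts p116) [nat_lit 2]), (a0, flat (snds p116) [nat_lit 2])] = true := by decide +kernel
noncomputable def b126 : List (Nat × Nat) := [(s118, s118), (s122, s122)]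
noncomputable def w127 : Word := [nat_lit 38, nat_lit 36, nat_lit 35, nat_lit 42, nat_lit 48, nat_lit 27, nat_lit 46, nat_lit 31, nat_lit 10]
noncomputable def w128 : Word := [nat_lit 27, nat_lit 14, nat_lit 36, nat_lit 48, nat_lit 30, nat_lit 43, nat_lit 30, nat_lit 36]
noncomputable def y129 : List Word := [w127, w128]
theorem k130 : relK F bs0 (commR (snds p116) y129) = true := by decide +kernel
theorem x131 (M : PM G Ω 3510 H15.Fi22P.nets) (hN : Nat.card G = 64561751654400) : Cx M (fun g => Pr M g p116) b126 [] p116 y129 :=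
  cx_conj (tb_cons (f120 M hN) (f120 M hN) (rels_base (base0 M hN) k121) (tb_cons (f124 M hN) (f124 M hN) (rels_base (base0 M hN) k125) (fun _ _ => fa_nil))) (rels_base (base0 M hN) k130)
noncomputable def t132 : KT := KT.alt (dw (nat_lit 0x1614)) (KT.cnt (SE.and (SE.lev (nat_lit 1)) (SE.tab (nat_lit 1))))
 (KT.alt (dw (nat_lit 0x111513)) (KT.cnt (SE.and (SE.lev (nat_lit 1)) (SE.tab (nat_lit 0))))
 (KT.nil (SE.and (SE.and (SE.lev (nat_lit 0)) (SE.tab (nat_lit 0))) (SE.tab (nat_lit 1))) [nat_lit 0, nat_lit 1] [] (dn (nat_lit 20) (nat_lit 0x09b0107942134c23424134242002c21054107c0107c0210201035410d00210901042420a0022ce02093410fa421d78122801228020bac20a041014c217f422bf412bf4204c820870204d4127282097010970222e0101582142811428213c42186811868208801088021d18217c8117dc20d0810d08203a010bb81053c1041c2014421334109a821d80205f0111a4111a421d04201881188c1188c2145021134201f4101f42042820d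1010d1020bbc10bbc2136c200241002423418107e4201fc101fc21e1011e1020c84214781147821c5c2028010280223841238420f8c10c8c10c8c213201097820f9c10f9c2078010780214f8207c4107c4203ac103ac221ec121ec2103011030204c0204d0104d02078c10f1c10f1c20874204ac104ac223181231822228204f8104f82086c1086c21d70103a422c6820858213c8113c82010c1010c20478217981179820ba822c0812c0821d0811d0821d3c117b4117b4200c4100c4205a42057c2186c1186c222bc109b8109b82058010580205a0105a0201d8101d820f7810f7820f5810f582085c1006810068209ac109ac2080410804204e8104e821d4c11d4c2182411824214681146822c1012c1020108101082))))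
theorem k133 : ktChk (nat_lit 3510) H15.Fi22P.nets F c113 b126 [] p116 y129 [] [] (nat_lit 0) (nat_lit 0) (bit (nat_lit 0)) 0 t132 = true := by decide +kernel
theorem l134 (M : PM G Ω 3510 H15.Fi22P.nets) (hN : Nat.card G = 64561751654400) : Cl M (fun g => Pr M g p116) [] [] (nat_lit 0) (bit (nat_lit 0)) :=
  cl_tree (e115 M hN) (x131 M hN) (dd0 _ _ _ _) k133
noncomputable def t135 : KT := KT.alt (dw (nat_lit 0x2d)) (KT.cnt (SE.and (SE.lev (nat_lit 2)) (SE.tab (nat_lit 0))))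
 (KT.nil (SE.and (SE.lev (nat_lit 1)) (SE.tab (nat_lit 0))) [nat_lit 0, nat_lit 1] [dw (nat_lit 0x03), dw (nat_lit 0x01), dw (nat_lit 0x03), dw (nat_lit 0x01), dw (nat_lit 0x03)] (dn (nat_lit 20) (nat_lit 0x17981006812cb0111a411320109ac109ac20bac205a02240c227841018822d2c12d2c20c8421d801089820424104c411d4c2182413104203bc1085810f582273012730217cc117cc203a4103a422280118e0213c410f6810f6820804219ec1079410794203a010fb410fb42134c1134c2040010c0020f9c107801078021478101fc107e810d0810d08204f4104f422c1012c10222e0122e021924205a4105a4214242142811428209b0109b02043c1043c201601016021d0411d042035410354209341093420d002065c201081092c1105411054217ac207c02005c10a0410a042014c2010c1010c2002c2190c1190c22318123182028021078217f4117f421c5c11c5c20024100242341813418207e4107e420fc822bf412bf4210a0110a021d1811d18213341133421ce420970109702041c204c8104c82188c1188c202181272821800118002086c1086c211342087410874204ac104ac2087021450201f4101f4204d4104d4222881136c1136c2042810428221ec121ec20bbc10bbc204c0104c0217b4117b420d1011030104d01)))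
theorem k136 : ktChk (nat_lit 3510) H15.Fi22P.nets F c113 b126 [] p116 y129 [] [nat_lit 0] (nat_lit 1) (nat_lit 7) (bit (nat_lit 7)) 0 t135 = true := by decide +kernel
theorem l137 (M : PM G Ω 3510 H15.Fi22P.nets) (hN : Nat.card G = 64561751654400) : Cl M (fun g => Pr M g p116) [] [nat_lit 0] (nat_lit 7) (bit (nat_lit 7)) :=
  cl_tree (e115 M hN) (x131 M hN) (dd0 _ _ _ _) k136
noncomputable def t138 : KT := KT.nil (SE.lev (nat_lit 2)) [] [] []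
theorem k139 : ktChk (nat_lit 3510) H15.Fi22P.nets F c113 b126 [] p116 y129 [] [nat_lit 7, nat_lit 0] (nat_lit 2) (nat_lit 1) s0 0 t138 = true := by decide +kernel
theorem l140 (M : PM G Ω 3510 H15.Fi22P.nets) (hN : Nat.card G = 64561751654400) : Cl M (fun g => Pr M g p116) [] [nat_lit 7, nat_lit 0] (nat_lit 1) s0 :=
  cl_tree (e115 M hN) (x131 M hN) (dd0 _ _ _ _) k139
noncomputable def t141 : KT := KT.nil (SE.lev (nat_lit 3)) [] [] []
theorem k142 : ktChk (nat_lit 3510) H15.Fi22P.nets F c113 b126 [] p116 y129 [] [nat_lit 1, nat_lit 7, nat_lit 0] (nat_lit 3) (nat_lit 423) s8 0 t141 = true := by decide +kernel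
theorem l143 (M : PM G Ω 3510 H15.Fi22P.nets) (hN : Nat.card G = 64561751654400) : Cl M (fun g => Pr M g p116) [] [nat_lit 1, nat_lit 7, nat_lit 0] (nat_lit 423) s8 :=
  cl_tree (e115 M hN) (x131 M hN) (dd0 _ _ _ _) k142
noncomputable def t144 : KT := KT.nil (SE.lev (nat_lit 4)) [] [] []
theorem k145 : ktChk (nat_lit 3510) H15.Fi22P.nets F c113 b126 [] p116 y129 [] [nat_lit 423, nat_lit 1, nat_lit 7, nat_lit 0] (nat_lit 4) (nat_lit 1274) s110 0 t144 = true := by decide +kernel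
theorem l146 (M : PM G Ω 3510 H15.Fi22P.nets) (hN : Nat.card G = 64561751654400) : Cl M (fun g => Pr M g p116) [] [nat_lit 423, nat_lit 1, nat_lit 7, nat_lit 0] (nat_lit 1274) s110 :=
  cl_tree (e115 M hN) (x131 M hN) (dd0 _ _ _ _) k145
noncomputable def c147 : Chn := [((nat_lit 0), (bit (nat_lit 0))), ((nat_lit 7), (bit (nat_lit 7))), ((nat_lit 1), s0), ((nat_lit 423), s8), ((nat_lit 1274), s110)]
theorem e148 (M : PM G Ω 3510 H15.Fi22P.nets) (hN : Nat.card G = 64561751654400) : SC M (cenP M p116 rfl) [] c147 :=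
  ⟨Cl.lev (l134 M hN), ⟨Cl.lev (l137 M hN), ⟨Cl.lev (l140 M hN), ⟨Cl.lev (l143 M hN), ⟨Cl.lev (l146 M hN), (EC.sc_end (e115 M hN) (by decide +kernel))⟩⟩⟩⟩⟩
theorem eqKU (M : PM G Ω 3510 H15.Fi22P.nets) (hN : Nat.card G = 64561751654400) : Nat.card (Subgroup.centralizer (sub M.gen vs : Set G)) ≤ 26542080 :=
  (cenP_eq (M := M) (ps := p116) rfl ▸ SC.card_le' (e148 M hN) (by decide +kernel) : Nat.card (Subgroup.centralizer (sub M.gen (fsts p116) : Set G)) ≤ _)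
noncomputable def w149 : Word := [nat_lit 48, nat_lit 43, nat_lit 8, nat_lit 29, nat_lit 36, nat_lit 27, nat_lit 39, nat_lit 16]
noncomputable def w150 : Word := [nat_lit 8, nat_lit 6, nat_lit 40, nat_lit 31, nat_lit 49, nat_lit 29, nat_lit 22, nat_lit 0]
noncomputable def w151 : Word := [nat_lit 16, nat_lit 37, nat_lit 35, nat_lit 24, nat_lit 42, nat_lit 8, nat_lit 35]
noncomputable def w152 : Word := [nat_lit 14, nat_lit 42, nat_lit 34, nat_lit 45, nat_lit 28, nat_lit 6, nat_lit 42, nat_lit 24, nat_lit 22]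
noncomputable def w153 : Word := [nat_lit 28, nat_lit 42, nat_lit 48, nat_lit 8, nat_lit 37, nat_lit 30, nat_lit 44, nat_lit 12]
noncomputable def w154 : Word := [nat_lit 42, nat_lit 12, nat_lit 43, nat_lit 29, nat_lit 37, nat_lit 38, nat_lit 27]
noncomputable def js : List Word := [w149, w150, w151, w152, w153, w154, w100, w99]
theorem k155 : relK F bs0 (commR vs js) = true := by decide +kernel
theorem eqKL (M : PM G Ω 3510 H15.Fi22P.nets) (hN : Nat.card G = 64561751654400) : (sub M.gen js) ≤ (Subgroup.centralizer (sub M.gen vs : Set G)) :=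
  (le_cent_of (rels_base (base0 M hN) k155))
noncomputable def s156 : Nat := (nat_lit 0x208180000000000000003800000c01800000000c000000000000000000000001a00000000000000000000000000000000000000000000000000000000000000000000000000000000300000000000000600000000000000000000000002c00000001803000000000000000000000001800000000000000000000100002000000000000000000000000000023000000000004000000800000000000000000000000110011000000000000000000000000000000000000000008800011000000000000000000000000000000020010000000000000000000000400000000000000000000001000040000000000000000000000000000000000000000000000000008000044000000000000000000000000000000000000000000200000000000000011080000400000000000000000000000000000000020040000000000001040000000040000000000000000000000000000100010200000000000000040000020300002000000000100008008408000000822020000a00000000000000400080233010a2000000001200018001310008000008058004000110000000040000466010a000008004003000000000a010080102000010000)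
noncomputable def c157 : Chn := [((nat_lit 9), s102), ((nat_lit 16), s156), ((nat_lit 10), s104), ((nat_lit 1), s105), ((nat_lit 0), (bit (nat_lit 0))), ((nat_lit 35), (bit (nat_lit 35))), ((nat_lit 72), (bit (nat_lit 72)))]
noncomputable def d158 : List OD := [⟨[nat_lit 7, nat_lit 2, nat_lit 0], [dw (nat_lit 0x05)], (dn (nat_lit 20) (nat_lit 0x016030fc83058032c0822d2c314603014c3188c304c430c84213c430c1430c1420f882136c309b82018830858305a42113431d7821d781190c3146830fb4200d030f8c3310432d1431e1031e10107f43085c303a0322e03040030400209b0309b0204e83086c2041c2041c10d5c3057c317c830794317f412ce020f1c30f1c20c8c30cf832d2832d2822d2811d1831d1821d18108043186831478314782147810158301083102030280107c43043c3043c202183021811334313203132020a0030a001036c1065c3065c20880308802088011428308f8308f821cf831cf8111a4311a4200c430bbc30bbc1078c3078c217cc30bb830bb82209c323183038c21798317b4317b4207e8307e810870308702087011030208743087420bac303bc303bc203bc10f80321ec321ec221ec10d2830d2820d28118e03240c3240c1278432cb032cb022c6832c6822c681341830970307e4307e4207e410bb0304f8304f8204f8114f8314f8201f430d08118003039830398122883228822288109a8309783097820d1030d10219ec31d0431d04109ac309ac1134c310903109021090105f0305f01042c317ac317ac20424304d0304d0204c8304c8204c8104783))⟩,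
 ⟨[nat_lit 7, nat_lit 2, nat_lit 5], [dw (nat_lit 0x03)], (dn (nat_lit 20) (nat_lit 0x2744102c8122b010124228ec30e68306643056c31f6021f60116683166821668134fc21d64216cc316cc2346c32b283094c2369c3022c32aa010524302d8304dc304dc20884308842352832b34103d0305c0305c0206a4332dc336d4203c0303c0128f030fe830fe820fe81093830b3830b382033833500212382072830458201f8301f812a7432a742256033594206b4306b411014325642256411bc83257432574236bc336bc20ab430ab4113b432260322602045030450212a0205303066c3066c21fcc31fcc12b2c309c0309c0209c010c50205103028430284202e8302e8202e810418302a0302a0202a0105703057011a5031a5021a501243c32cd41086431d3031d3021d301047c3047c21a0830ad430ad42227032270101c4301c4222a0301c0301c0201c01068030c9030c902128c3128c2128c1091c3))⟩,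
 ⟨[nat_lit 7, nat_lit 5, nat_lit 4], [dw (nat_lit 0x03), dw (nat_lit 0x05), dw (nat_lit 0x01), dw (nat_lit 0x03), dw (nat_lit 0x05), dw (nat_lit 0x01), dw (nat_lit 0x03), dw (nat_lit 0x05)
], (dn (nat_lit 20) (nat_lit 0x0f7c209a4107d42227430d2c1021021380310a8119e4326f0326f02139010fd8103b0203b0119e021418209182091812dc8307ac1037820d3820d3811f4033100305f8310b0210b01090c304bc20cdc21cd4118b8217e420cf030cf01182c2220c318bc313f0110c0203703037011dd430c1c30c1c226e0326e0226e012708108e83180c219203181c3181c2181c103f4305a8327a831e04204d8204d8110743144431444214441054820748107f0307f0230903309023090127643276420b6820b681270410190301902019011d9c32210208c83308c31328300bc300bc207f8214201227c3227c2227c1107c2107c119281147c3147c217bc327a4327a421e3831e3821e38127b811d2420954309541224c3224c10bfc233d0333d021340308f030b4020b401184421844114743147410bc8310dc210dc11d5c31d6c219002190010fb0228282282811d4821d48127f822c2c22c2c1340c21cf4117ec230d0210d8210d8113582229c21904135d42018420184113642136410cf420cf4131602132c222f4222f4122482224812cb822cb81222c2222c127682148021480118082180811d0c11e342))⟩,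
 ⟨[nat_lit 7, nat_lit 6], [], (dn (nat_lit 20) (nat_lit 0x013020004200041))⟩,
 ⟨[], [], []⟩,
 ⟨[], [], []⟩,
 ⟨[], [], []⟩]
theorem k159 : ocChk (nat_lit 3510) H15.Fi22P.nets F js c157 d158 [] = true := by decide +kernel
theorem o160 (M : PM G Ω 3510 H15.Fi22P.nets) (hN : Nat.card G = 64561751654400) : OC M (sub M.gen js) [] c157 :=
  oc_of le_rfl k159
theorem eqK (M : PM G Ω 3510 H15.Fi22P.nets) (hN : Nat.card G = 64561751654400) : (Subgroup.centralizer (sub M.gen vs : Set G)) = (sub M.gen js) ∧ Nat.card (sub M.gen js) = 26542080 :=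
  eq_of_cards (eqKL M hN) (eqKU M hN) (OC.le_card' (N := 26542080) (o160 M hN) (by decide +kernel))
noncomputable def w161 : Word := [nat_lit 49, nat_lit 42, nat_lit 32, nat_lit 35, nat_lit 43, nat_lit 6]
noncomputable def w162 : Word := [nat_lit 49, nat_lit 42, nat_lit 6, nat_lit 45, nat_lit 4, nat_lit 39, nat_lit 48]
noncomputable def w163 : Word := [nat_lit 18, nat_lit 46, nat_lit 37, nat_lit 8, nat_lit 36, nat_lit 24, nat_lit 44, nat_lit 49, nat_lit 21, nat_lit 4]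
noncomputable def w164 : Word := [nat_lit 38, nat_lit 34, nat_lit 14, nat_lit 49, nat_lit 31, nat_lit 43, nat_lit 45, nat_lit 24]
noncomputable def w165 : Word := [nat_lit 28, nat_lit 32, nat_lit 6, nat_lit 10, nat_lit 32, nat_lit 29]
noncomputable def w166 : Word := [nat_lit 43, nat_lit 6, nat_lit 32, nat_lit 10, nat_lit 4, nat_lit 48, nat_lit 43, nat_lit 4]
noncomputable def w167 : Word := [nat_lit 38, nat_lit 4, nat_lit 39]
noncomputable def w168 : Word := [nat_lit 38, nat_lit 48, nat_lit 32, nat_lit 48, nat_lit 35, nat_lit 30, nat_lit 28, nat_lit 48]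
noncomputable def w169 : Word := [nat_lit 8, nat_lit 48, nat_lit 24, nat_lit 26, nat_lit 49, nat_lit 8]
noncomputable def w170 : Word := [nat_lit 42, nat_lit 14, nat_lit 16, nat_lit 32, nat_lit 28, nat_lit 27, nat_lit 43, nat_lit 0]
noncomputable def w171 : Word := [nat_lit 39, nat_lit 36, nat_lit 4, nat_lit 37, nat_lit 38, nat_lit 18, nat_lit 8, nat_lit 19]
noncomputable def w172 : Word := [nat_lit 44, nat_lit 46, nat_lit 36, nat_lit 12, nat_lit 45, nat_lit 36]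
noncomputable def w173 : Word := [nat_lit 48, nat_lit 40, nat_lit 24, nat_lit 40, nat_lit 49, nat_lit 0]
noncomputable def w174 : Word := [nat_lit 20, nat_lit 40, nat_lit 39, nat_lit 16, nat_lit 39, nat_lit 21, nat_lit 16]
noncomputable def w175 : Word := [nat_lit 49, nat_lit 40, nat_lit 39, nat_lit 6, nat_lit 32, nat_lit 4, nat_lit 34, nat_lit 37, nat_lit 6]
noncomputable def w176 : Word := [nat_lit 48, nat_lit 40, nat_lit 24, nat_lit 40, nat_lit 49]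
noncomputable def zs : List Word := [w161, w162, w163, w164, w165, w166, w167, w168, w169, w170, w171, w172, w173, w174, w175, w176, I22.u2]
noncomputable def qs : List Word := List.drop 7 zs
noncomputable def ws : List Word := List.append zs ks
theorem k177 : nrmRow F bs0 ws (nat_lit 17) (nat_lit 0) (nat_lit 1) [[nat_lit 28, nat_lit 26, nat_lit 24, nat_lit 22, nat_lit 20, nat_lit 18, nat_lit 12, nat_lit 6, nat_lit 2],
 [nat_lit 32, nat_lit 30, nat_lit 24, nat_lit 18, nat_lit 12, nat_lit 8, nat_lit 4],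
 [nat_lit 28, nat_lit 6],
 [nat_lit 8],
 [nat_lit 32, nat_lit 12, nat_lit 10],
 [nat_lit 12],
 [nat_lit 32, nat_lit 28, nat_lit 24, nat_lit 22, nat_lit 18, nat_lit 14],
 [nat_lit 24, nat_lit 18, nat_lit 16],
 [nat_lit 18],
 [nat_lit 24, nat_lit 20],
 [nat_lit 22],
 [nat_lit 24],
 [nat_lit 28, nat_lit 26],
 [nat_lit 28],
 [nat_lit 30],
 [nat_lit 32]] (nat_lit 262143) = true := by decide +kernel
theorem k178 : nrmRow F bs0 ws (nat_lit 17) (nat_lit 1) (nat_lit 2) [[nat_lit 26, nat_lit 4],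
 [nat_lit 26, nat_lit 24, nat_lit 20, nat_lit 6],
 [nat_lit 30, nat_lit 10, nat_lit 8],
 [nat_lit 10],
 [nat_lit 30, nat_lit 12],
 [nat_lit 30, nat_lit 28, nat_lit 26, nat_lit 20, nat_lit 14],
 [nat_lit 26, nat_lit 16],
 [nat_lit 32, nat_lit 30, nat_lit 28, nat_lit 20, nat_lit 18],
 [nat_lit 20],
 [nat_lit 26, nat_lit 22],
 [nat_lit 24],
 [nat_lit 26],
 [nat_lit 32, nat_lit 28],
 [nat_lit 30],
 [nat_lit 32]] (nat_lit 262143) = true := by decide +kernel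
theorem k179 : nrmRow F bs0 ws (nat_lit 17) (nat_lit 2) (nat_lit 3) [[nat_lit 32, nat_lit 30, nat_lit 26, nat_lit 24, nat_lit 22, nat_lit 20, nat_lit 12, nat_lit 10, nat_lit 6],
 [nat_lit 22, nat_lit 8],
 [nat_lit 26, nat_lit 10],
 [nat_lit 30, nat_lit 12],
 [nat_lit 30, nat_lit 26, nat_lit 16, nat_lit 14],
 [nat_lit 16],
 [nat_lit 32, nat_lit 30, nat_lit 22, nat_lit 18],
 [nat_lit 32, nat_lit 30, nat_lit 26, nat_lit 20],
 [nat_lit 22],
 [nat_lit 32, nat_lit 24],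
 [nat_lit 26],
 [nat_lit 32, nat_lit 30, nat_lit 28],
 [nat_lit 30],
 [nat_lit 32]] (nat_lit 262143) = true := by decide +kernel
theorem k180 : nrmRow F bs0 ws (nat_lit 17) (nat_lit 3) (nat_lit 4) [[nat_lit 32, nat_lit 30, nat_lit 28, nat_lit 12, nat_lit 8],
 [nat_lit 30, nat_lit 28, nat_lit 10],
 [nat_lit 12],
 [nat_lit 30, nat_lit 26, nat_lit 24, nat_lit 20, nat_lit 14],
 [nat_lit 32, nat_lit 24, nat_lit 20, nat_lit 16],
 [nat_lit 32, nat_lit 24, nat_lit 18],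
 [nat_lit 32, nat_lit 20],
 [nat_lit 28, nat_lit 22],
 [nat_lit 24],
 [nat_lit 26],
 [nat_lit 28],
 [nat_lit 30],
 [nat_lit 32]] (nat_lit 262143) = true := by decide +kernel
theorem k181 : nrmRow F bs0 ws (nat_lit 17) (nat_lit 4) (nat_lit 5) [[nat_lit 30, nat_lit 10],
 [nat_lit 12],
 [nat_lit 32, nat_lit 18, nat_lit 14],
 [nat_lit 22, nat_lit 16],
 [nat_lit 18],
 [nat_lit 30, nat_lit 28, nat_lit 20],
 [nat_lit 22],
 [nat_lit 24],
 [nat_lit 30, nat_lit 26],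
 [nat_lit 28],
 [nat_lit 30],
 [nat_lit 32]] (nat_lit 262143) = true := by decide +kernel
theorem k182 : nrmRow F bs0 ws (nat_lit 17) (nat_lit 5) (nat_lit 6) [[nat_lit 12],
 [nat_lit 28, nat_lit 20, nat_lit 14],
 [nat_lit 26, nat_lit 16],
 [nat_lit 32, nat_lit 30, nat_lit 28, nat_lit 18],
 [nat_lit 32, nat_lit 20],
 [nat_lit 30, nat_lit 22],
 [nat_lit 24],
 [nat_lit 26],
 [nat_lit 28],
 [nat_lit 30],
 [nat_lit 32]] (nat_lit 262143) = true := by decide +kernel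
theorem k183 : nrmRow F bs0 ws (nat_lit 17) (nat_lit 6) (nat_lit 7) [[nat_lit 28, nat_lit 24, nat_lit 14],
 [nat_lit 30, nat_lit 16],
 [nat_lit 18],
 [nat_lit 20],
 [nat_lit 22],
 [nat_lit 24],
 [nat_lit 26],
 [nat_lit 28],
 [nat_lit 30],
 [nat_lit 32]] (nat_lit 262143) = true := by decide +kernel
theorem k184 : nrmRow F bs0 ws (nat_lit 17) (nat_lit 7) (nat_lit 8) [[nat_lit 16],
 [nat_lit 18],
 [nat_lit 32, nat_lit 20],
 [nat_lit 22],
 [nat_lit 32, nat_lit 24],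
 [nat_lit 32, nat_lit 26],
 [nat_lit 32, nat_lit 28],
 [nat_lit 32, nat_lit 30],
 [nat_lit 32]] (nat_lit 262143) = true := by decide +kernel
theorem k185 : nrmRow F bs0 ws (nat_lit 17) (nat_lit 8) (nat_lit 9) [[nat_lit 18],
 [nat_lit 20],
 [nat_lit 22],
 [nat_lit 24],
 [nat_lit 26],
 [nat_lit 32, nat_lit 28],
 [nat_lit 30],
 [nat_lit 32]] (nat_lit 262143) = true := by decide +kernel
theorem k186 : nrmRow F bs0 ws (nat_lit 17) (nat_lit 9) (nat_lit 10) [[nat_lit 20],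
 [nat_lit 22],
 [nat_lit 24],
 [nat_lit 32, nat_lit 26],
 [nat_lit 28],
 [nat_lit 30],
 [nat_lit 32]] (nat_lit 262143) = true := by decide +kernel
theorem k187 : nrmRow F bs0 ws (nat_lit 17) (nat_lit 10) (nat_lit 11) [[nat_lit 32, nat_lit 22],
 [nat_lit 24],
 [nat_lit 26],
 [nat_lit 28],
 [nat_lit 30],
 [nat_lit 32]] (nat_lit 262143) = true := by decide +kernel
theorem k188 : nrmRow F bs0 ws (nat_lit 17) (nat_lit 11) (nat_lit 12) [[nat_lit 24],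
 [nat_lit 26],
 [nat_lit 28],
 [nat_lit 30],
 [nat_lit 32]] (nat_lit 262143) = true := by decide +kernel
theorem k189 : nrmRow F bs0 ws (nat_lit 17) (nat_lit 12) (nat_lit 13) [[nat_lit 26],
 [nat_lit 28],
 [nat_lit 30],
 [nat_lit 32]] (nat_lit 262143) = true := by decide +kernel
theorem k190 : nrmRow F bs0 ws (nat_lit 17) (nat_lit 13) (nat_lit 14) [[nat_lit 28],
 [nat_lit 30],
 [nat_lit 32]] (nat_lit 262143) = true := by decide +kernel
theorem k191 : nrmRow F bs0 ws (nat_lit 17) (nat_lit 14) (nat_lit 15) [[nat_lit 30],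
 [nat_lit 32]] (nat_lit 262143) = true := by decide +kernel
theorem k192 : nrmRow F bs0 ws (nat_lit 17) (nat_lit 15) (nat_lit 16) [[nat_lit 32]] (nat_lit 262143) = true := by decide +kernel
theorem k193 : nrmRow F bs0 ws (nat_lit 17) (nat_lit 16) (nat_lit 17) [] (nat_lit 262143) = true := by decide +kernel
noncomputable def nm : List Nat := [nat_lit 262143, nat_lit 262143, nat_lit 262143, nat_lit 262143, nat_lit 262143, nat_lit 262143, nat_lit 262143, nat_lit 262143, nat_lit 262143, nat_lit 262143, nat_lit 262143, nat_lit 262143, nat_lit 262143, nat_lit 262143, nat_lit 262143, nat_lit 262143, nat_lit 262143]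
theorem hn (M : PM G Ω 3510 H15.Fi22P.nets) (hN : Nat.card G = 64561751654400) : NrmL (loc M.gen ws) 17 0 nm :=
  (nrm_cons (base0 M hN) k177 (nrm_cons (base0 M hN) k178 (nrm_cons (base0 M hN) k179 (nrm_cons (base0 M hN) k180 (nrm_cons (base0 M hN) k181 (nrm_cons (base0 M hN) k182 (nrm_cons (base0 M hN) k183 (nrm_cons (base0 M hN) k184 (nrm_cons (base0 M hN) k185 (nrm_cons (base0 M hN) k186 (nrm_cons (base0 M hN) k187 (nrm_cons (base0 M hN) k188 (nrm_cons (base0 M hN) k189 (nrm_cons (base0 M hN) k190 (nrm_cons (base0 M hN) k191 (nrm_cons (base0 M hN) k192 (nrm_cons (base0 M hN) k193 trivial)))))))))))))))))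
noncomputable def s194 : Nat := (nat_lit 0x2040805100042000020000000101002060005000040070100400028840240000010047400000f001200404400008000c8084000900080080002000209000008022000108004010800000009000000400000100010004001442042080041108004020501000014010020140000001001000801000020001000004000000040008220002020000810104160900010800400406859080100000008200100000202080000000200000400000001800010006005000000290021a1008002200000008004004000004010001008000000000000040800000022000003200028080000000000c0220008000400040800000000000021000010000000000001000000040000000000860000000100c01000210020000000000004040000080000000380100000000200140049080080000480000000000000000002000000000000000402000081800002000240000000000000000000100800000000000002020008000c0800000000009080000000000000000000000006000000000000220000000000000000001019004000000000000000000020010000080800000000000000000040001000010000002000080110002000200008080008)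
noncomputable def s195 : Nat := (nat_lit 0x400000000020000000000000000000000000000000000000000000000000000400000000000000000000000000000000000000000000000000000000000000000000000000000000000000000000000000000000000080000000000000000000880000000000000000000000000000000000000000000000000000004100000000082000000020008000000000000000000000000000000000800080000000004000200)
noncomputable def s196 : Nat := (nat_lit 0x4000000000000000000000000000000000000000000000000010000000000000000000000000000000000000000000000000000010000000002000000000000)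
noncomputable def s197 : Nat := (nat_lit 0x200000000000000000000000000000000000000000000000000000000000000000000000000000000000000000000000000000000000000000000000000000000000000000000000000000000000000000000000000000000000002000000000000000000000000000000000040000000000000000000000000000000000000100000000000000000000080000000000000000000000000000000100000000000000000000000000000000000000000000000000000000000000000000000000000000000000004000000010000000000000000000000000000000000000000000000000000000000)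
noncomputable def c198 : Chn := [((nat_lit 3), s194), ((nat_lit 9), s195), ((nat_lit 49), s196), ((nat_lit 232), s197)]
noncomputable def d199 : List OD := [⟨[nat_lit 0, nat_lit 1, nat_lit 7], [dw (nat_lit 0x01), dw (nat_lit 0x05), dw (nat_lit 0x03), dw (nat_lit 0x01), dw (nat_lit 0x03), dw (nat_lit 0x05), dw (nat_lit 0x01), dw (nat_lit 0x03)
], (dn (nat_lit 20) (nat_lit 0x25b82117c11fc032eb43151412f4031c8c3112811a4431a4411fe031fe01251c11a7831a781130023348333481202c3332413668134c811fd423200332001076421b2c31760220d822bc8236601319822110212d0312d0111c0331d011830220a8222e4322e412a88336a823274233e030ec4328802288011f643215c3224420db8232b0332b0224e8300b4300b4200f4309fc309fc209fc1196c3196c22fa422fa4126c4226c413618216e8316e8230cc2328833288220202157822b84126dc226dc1189431fdc31ba410b6420b6410b44336c421d8c31d8c1163c33178331781335c3335c1257c2257c10ee830ee822b102111c2111c130dc330dc225981244c2340822be020aac20aac11a5420140223ac223ac102b8319c820e0422e0032a1032a102138c11f9c21f9c106002060013510325d03006c2006c128ac328ac228ac112fc12ac81247032470213e8313e81060c3060c22494324942249411408134c4334c4234c4128e0328e023530335302353012e5c20dc4227183271812dec11c0431c0412fec3260c320a0327f030b0c32394332083216030c70325a03348031624314d4325703))⟩,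
 ⟨[nat_lit 6, nat_lit 4, nat_lit 1], [], (dn (nat_lit 20) (nat_lit 0x04e8214682043c2043c104d0304d0204d010068200681010c3036c309ac309ac20024200241))⟩,
 ⟨[nat_lit 1], [], (dn (nat_lit 20) (nat_lit 0x07e8104c0100c41))⟩,
 ⟨[nat_lit 8, nat_lit 11, nat_lit 2], [], (dn (nat_lit 20) (nat_lit 0x09b031d0430bbc30bbc203a0303a0203a01))⟩]
theorem k200 : ocChk (nat_lit 3510) H15.Fi22P.nets F zs c198 d199 [] = true := by decide +kernel
theorem o201 (M : PM G Ω 3510 H15.Fi22P.nets) (hN : Nat.card G = 64561751654400) : OC M (Nn (loc M.gen ws) 17 0) [] c198 :=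
  oc_of (sub_le_Nn M.gen zs ks (m := 17) rfl) k200
theorem k202 : powChk F bs0 ws (nat_lit 2) (nat_lit 17) nm [[],
 [nat_lit 26],
 [],
 [nat_lit 28],
 [],
 [nat_lit 30],
 [],
 [],
 [],
 [],
 [],
 [],
 [],
 [],
 [],
 [],
 []] = true := by decide +kernel
theorem pc (M : PM G Ω 3510 H15.Fi22P.nets) (hN : Nat.card G = 64561751654400) : Pc (loc M.gen ws) 2 17 ∧ ∀ i ≤ 17, Nat.card (Nn (loc M.gen ws) 17 i) = 2 ^ (17 - i) :=
  pc_of (base0 M hN) (by norm_num) (hn M hN) k202 (OC.le_card' (o201 M hN) (by decide +kernel))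
theorem qc (M : PM G Ω 3510 H15.Fi22P.nets) (hN : Nat.card G = 64561751654400) : Nat.card (sub M.gen qs) = 2 ^ 10 :=
  Nn_eq_sub M.gen zs ks (m := 17) rfl 7 ▸ (pc M hN).2 7 (by decide)
noncomputable def v203 : List Word := [dw (nat_lit 0x0503080e09080f0b1109110f), dw (nat_lit 0x0907070c0d090b0f), dw (nat_lit 0x0d0c070c0c0a11), dw (nat_lit 0x0a01030e0f070e090d0b0f), dw (nat_lit 0x020c0108090607110b0d0c0f), dw (nat_lit 0x110c020d080507070d110d110f), dw (nat_lit 0x110e01060e070f0e0c0a110f), dw (nat_lit 0x0303010b080507070b0d0b)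
, dw (nat_lit 0x090806070a0f0d0a), dw (nat_lit 0x030301060e09070d090f0b0a0f), dw (nat_lit 0x07030301080c0805090f0b09), dw (nat_lit 0x0b080607050a0e0b), dw (nat_lit 0x0204041108110b1109110f), dw (nat_lit 0x060809070e0b0911), dw (nat_lit 0x0303010c070f0c0d090f), dw (nat_lit 0x0204040f07090e0e110f)
, dw (nat_lit 0x050d0f0a11)]
theorem k204 : relK F bs0 (memRels ks zs v203) = true := by decide +kernel
theorem zle (M : PM G Ω 3510 H15.Fi22P.nets) (hN : Nat.card G = 64561751654400) : (sub M.gen zs) ≤ (sub M.gen ks) :=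
  (sub_le_of_memRels (rels_base (base0 M hN) k204))
theorem qle (M : PM G Ω 3510 H15.Fi22P.nets) (hN : Nat.card G = 64561751654400) : (sub M.gen qs) ≤ (sub M.gen ks) :=
  (sub_drop_le _ _ _).trans (zle M hN)
noncomputable def v205 : List (List Word) := [[dw (nat_lit 0x01030b0d0f13), dw (nat_lit 0x01070d0f1113), dw (nat_lit 0x0307090d0f11), dw (nat_lit 0x010307090b0d0f), dw (nat_lit 0x05070b1113), dw (nat_lit 0x010307090b0f1113), dw (nat_lit 0x0107090f11), dw (nat_lit 0x030711)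
, dw (nat_lit 0x010307090f), dw (nat_lit 0x13)],
 [dw (nat_lit 0x010305070d0f11), dw (nat_lit 0x01050b0f), dw (nat_lit 0x0b0d11), dw (nat_lit 0x01050d13), dw (nat_lit 0x0103050b0d0f11), dw (nat_lit 0x0105090f11), dw (nat_lit 0x0103090d11), dw (nat_lit 0x0307090f13)
, dw (nat_lit 0x0105090b0f), dw (nat_lit 0x13)],
 [dw (nat_lit 0x010305090b0d0f11), dw (nat_lit 0x010305090d), dw (nat_lit 0x0103050b0f11), dw (nat_lit 0x0305090b), dw (nat_lit 0x0d), dw (nat_lit 0x0307090f13), dw (nat_lit 0x01050d), dw (nat_lit 0x010305070b13)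
, dw (nat_lit 0x0307090b0f1113), dw (nat_lit 0x13)],
 [dw (nat_lit 0x01030d11), dw (nat_lit 0x0103050d), dw (nat_lit 0x01090d11), dw (nat_lit 0x0105071113), dw (nat_lit 0x09), dw (nat_lit 0x03050d0f1113), dw (nat_lit 0x0105), dw (nat_lit 0x01050d0f11)
, dw (nat_lit 0x03050b0d0f), dw (nat_lit 0x13)],
 [dw (nat_lit 0x03070b0d1113), dw (nat_lit 0x0103070b), dw (nat_lit 0x05091113), dw (nat_lit 0x070b0d0f1113), dw (nat_lit 0x050f), dw (nat_lit 0x0f), dw (nat_lit 0x070f1113), dw (nat_lit 0x0f11)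
, dw (nat_lit 0x0b0f11), dw (nat_lit 0x13)],
 [dw (nat_lit 0x01050b0f13), dw (nat_lit 0x0305090b0d0f11), dw (nat_lit 0x030511), dw (nat_lit 0x0307090b0d0f1113), dw (nat_lit 0x0107090d1113), dw (nat_lit 0x010305070d1113), dw (nat_lit 0x070f1113), dw (nat_lit 0x010507090d)
, dw (nat_lit 0x010305070b0d13), dw (nat_lit 0x13)],
 [dw (nat_lit 0x0507090b0d0f11), dw (nat_lit 0x01030b0f1113), dw (nat_lit 0x030713), dw (nat_lit 0x0307090b0f11), dw (nat_lit 0x010305070b0f13), dw (nat_lit 0x0513), dw (nat_lit 0x0103070b13), dw (nat_lit 0x090b0f)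
, dw (nat_lit 0x050b1113), dw (nat_lit 0x13)],
 [dw (nat_lit 0x01), dw (nat_lit 0x01050913), dw (nat_lit 0x01030913), dw (nat_lit 0x0103050709), dw (nat_lit 0x09), dw (nat_lit 0x0305090d0f1113), dw (nat_lit 0x010305090d13), dw (nat_lit 0x010305090f13)
, dw (nat_lit 0x0305090b0d0f13), dw (nat_lit 0x13)],
 [dw (nat_lit 0x0103050b0d0f11), dw (nat_lit 0x090d13), dw (nat_lit 0x090b0f1113), dw (nat_lit 0x0107090b0d0f11), dw (nat_lit 0x09), dw (nat_lit 0x090b13), dw (nat_lit 0x030913), dw (nat_lit 0x05090b1113)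
, dw (nat_lit 0x091113), dw (nat_lit 0x13)]]
theorem k206 : relK F bs0 (nrR qs qs ks v205) = true := by decide +kernel
theorem nq (M : PM G Ω 3510 H15.Fi22P.nets) (hN : Nat.card G = 64561751654400) : (sub M.gen ks) ≤ (Subgroup.normalizer (sub M.gen qs : Set G)) :=
  (le_normalizer_of le_rfl (rels_base (base0 M hN) k206) (by decide +kernel))
noncomputable def o207 : List (Word × Nat × Nat) := [([], 0, 0),
 ([nat_lit 48], 1, 3),
 ([nat_lit 51], 1, 3),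
 ([nat_lit 50], 1, 3),
 ([nat_lit 48], 1, 3),
 ([nat_lit 47, nat_lit 45], 1, 3),
 ([nat_lit 38], 1, 3),
 ([nat_lit 49], 1, 3),
 ([nat_lit 49, nat_lit 41], 1, 3),
 ([nat_lit 50], 1, 5),
 ([nat_lit 45], 1, 3),
 ([nat_lit 48], 1, 3),
 ([nat_lit 46], 1, 5),
 ([nat_lit 51], 1, 5),
 ([nat_lit 51], 1, 5),
 ([nat_lit 47], 1, 5),
 ([nat_lit 46], 1, 3),
 ([nat_lit 43], 1, 3),
 ([nat_lit 50], 1, 3),
 ([nat_lit 46], 1, 3),
 ([nat_lit 42], 1, 3),
 ([nat_lit 36], 1, 3),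
 ([nat_lit 50], 1, 3),
 ([nat_lit 51], 1, 3),
 ([nat_lit 42], 1, 3),
 ([nat_lit 43], 1, 3),
 ([nat_lit 51], 1, 3),
 ([nat_lit 42, nat_lit 49], 1, 5),
 ([nat_lit 37, nat_lit 45], 1, 5),
 ([nat_lit 45, nat_lit 34], 1, 3),
 ([nat_lit 45, nat_lit 45], 1, 3),
 ([nat_lit 49], 2, 3),
 ([nat_lit 48], 1, 3),
 ([nat_lit 50], 1, 3),
 ([nat_lit 49], 1, 3),
 ([nat_lit 50], 1, 3),
 ([nat_lit 50], 1, 5),
 ([nat_lit 38], 2, 3),
 ([nat_lit 51], 1, 5),
 ([nat_lit 41, nat_lit 41], 1, 3),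
 ([nat_lit 43, nat_lit 46], 1, 3),
 ([nat_lit 38], 1, 3),
 ([nat_lit 49], 1, 3),
 ([nat_lit 51], 1, 5),
 ([nat_lit 45], 1, 5),
 ([nat_lit 51], 1, 3),
 ([nat_lit 50], 1, 3),
 ([nat_lit 48], 1, 3),
 ([nat_lit 42], 1, 3),
 ([nat_lit 48], 1, 3),
 ([nat_lit 36, nat_lit 38, nat_lit 38], 1, 3),
 ([nat_lit 43], 1, 3),
 ([nat_lit 45, nat_lit 47], 1, 5),
 ([nat_lit 42], 1, 3),
 ([nat_lit 46], 1, 5),
 ([nat_lit 48], 1, 3),
 ([nat_lit 51], 1, 3),
 ([nat_lit 39, nat_lit 44], 1, 5),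
 ([nat_lit 34, nat_lit 38, nat_lit 48], 1, 3),
 ([nat_lit 50], 1, 3),
 ([nat_lit 34], 1, 3),
 ([nat_lit 36, nat_lit 40], 1, 3),
 ([nat_lit 35, nat_lit 40], 1, 3),
 ([nat_lit 40, nat_lit 43], 1, 3),
 ([nat_lit 48, nat_lit 51], 1, 3),
 ([nat_lit 42, nat_lit 44], 1, 3),
 ([nat_lit 51], 1, 3),
 ([nat_lit 51], 1, 3),
 ([nat_lit 46, nat_lit 37], 1, 3),
 ([nat_lit 48], 1, 3),
 ([nat_lit 51], 1, 3),
 ([nat_lit 51], 1, 3),
 ([nat_lit 50, nat_lit 49], 1, 3),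
 ([nat_lit 48], 1, 3),
 ([nat_lit 51], 1, 5),
 ([nat_lit 47], 1, 3),
 ([nat_lit 37], 1, 3),
 ([nat_lit 46], 1, 5),
 ([nat_lit 48, nat_lit 51], 1, 3),
 ([nat_lit 48], 1, 3),
 ([nat_lit 42, nat_lit 50], 1, 3),
 ([nat_lit 47, nat_lit 45], 1, 3),
 ([nat_lit 35, nat_lit 37], 1, 3),
 ([nat_lit 35, nat_lit 38], 1, 3),
 ([nat_lit 38], 2, 3),
 ([nat_lit 49], 2, 3),
 ([nat_lit 47], 2, 3),
 ([nat_lit 39], 1, 5),
 ([nat_lit 38], 1, 5),
 ([nat_lit 42, nat_lit 40], 1, 3),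
 ([nat_lit 50], 1, 3),
 ([nat_lit 48], 1, 5),
 ([nat_lit 44, nat_lit 34], 1, 3),
 ([nat_lit 46], 1, 3),
 ([nat_lit 34, nat_lit 39], 1, 3),
 ([nat_lit 46, nat_lit 36], 1, 5),
 ([nat_lit 49], 1, 5),
 ([nat_lit 49], 1, 3),
 ([nat_lit 39, nat_lit 39], 1, 5),
 ([nat_lit 45], 1, 5),
 ([nat_lit 48], 1, 3),
 ([nat_lit 38, nat_lit 51], 1, 5),
 ([nat_lit 50, nat_lit 49], 1, 3),
 ([nat_lit 45, nat_lit 42], 1, 3),
 ([nat_lit 48], 1, 3),
 ([nat_lit 48], 1, 5),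
 ([nat_lit 46, nat_lit 41, nat_lit 44], 1, 3),
 ([nat_lit 48, nat_lit 50], 1, 3),
 ([nat_lit 36, nat_lit 36], 1, 5),
 ([nat_lit 42, nat_lit 40], 1, 3),
 ([nat_lit 49], 1, 3),
 ([nat_lit 49], 1, 5),
 ([nat_lit 49], 2, 3),
 ([nat_lit 37, nat_lit 42], 1, 3),
 ([nat_lit 47], 1, 5),
 ([nat_lit 37, nat_lit 44], 1, 3),
 ([nat_lit 49], 1, 5),
 ([nat_lit 41, nat_lit 39], 1, 5),
 ([nat_lit 51], 1, 5),
 ([nat_lit 46, nat_lit 42], 1, 5),
 ([nat_lit 36, nat_lit 34], 1, 5),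
 ([nat_lit 48], 2, 3),
 ([nat_lit 39], 1, 5),
 ([nat_lit 35], 1, 5),
 ([nat_lit 45, nat_lit 51], 1, 5),
 ([nat_lit 51], 1, 5),
 ([nat_lit 49], 1, 5),
 ([nat_lit 44, nat_lit 38], 1, 5)]
theorem k208 : opChk F bs0 ws 2 (cosL 2 7) o207 = true := by decide +kernel
theorem op (M : PM G Ω 3510 H15.Fi22P.nets) (hN : Nat.card G = 64561751654400) : H17.oP 2 (sub M.gen ks) = (sub M.gen qs) :=
  (oP_eq (base0 M hN) (by norm_num) (pc M hN) (by decide) (sub_app_le (zle M hN) le_rfl) ((Nn_eq_sub M.gen zs ks (m := 17) rfl 7).symm ▸ (nq M hN)) (eqC M hN).2 (by norm_num) k208).trans (Nn_eq_sub M.gen zs ks (m := 17) rfl 7)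
noncomputable def w209 : Word := [nat_lit 21, nat_lit 8, nat_lit 24, nat_lit 12, nat_lit 37, nat_lit 2, nat_lit 20, nat_lit 29, nat_lit 43, nat_lit 0]
noncomputable def w210 : Word := [nat_lit 48, nat_lit 34, nat_lit 8, nat_lit 40, nat_lit 4, nat_lit 29, nat_lit 18, nat_lit 18, nat_lit 14, nat_lit 39, nat_lit 4]
noncomputable def w211 : Word := [nat_lit 4, nat_lit 48, nat_lit 34, nat_lit 49, nat_lit 4, nat_lit 6, nat_lit 37, nat_lit 18, nat_lit 18, nat_lit 42, nat_lit 28]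
noncomputable def w212 : Word := [nat_lit 44, nat_lit 42, nat_lit 6, nat_lit 35, nat_lit 30, nat_lit 18, nat_lit 31, nat_lit 20, nat_lit 49, nat_lit 42, nat_lit 29]
noncomputable def w213 : Word := [nat_lit 18, nat_lit 45, nat_lit 8, nat_lit 12, nat_lit 46, nat_lit 4, nat_lit 20, nat_lit 30, nat_lit 6, nat_lit 31, nat_lit 14]
noncomputable def w214 : Word := [nat_lit 44, nat_lit 32, nat_lit 44, nat_lit 28, nat_lit 48, nat_lit 6, nat_lit 18, nat_lit 18, nat_lit 14, nat_lit 4, nat_lit 0]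
noncomputable def w215 : Word := [nat_lit 43, nat_lit 48, nat_lit 38, nat_lit 29, nat_lit 36, nat_lit 10, nat_lit 19, nat_lit 39, nat_lit 18, nat_lit 39, nat_lit 35]
noncomputable def w216 : Word := [nat_lit 8, nat_lit 40, nat_lit 35, nat_lit 32, nat_lit 30, nat_lit 45, nat_lit 2, nat_lit 29, nat_lit 19, nat_lit 22, nat_lit 34]
noncomputable def w217 : Word := [nat_lit 38, nat_lit 36, nat_lit 45, nat_lit 16, nat_lit 34, nat_lit 4, nat_lit 35, nat_lit 49, nat_lit 18, nat_lit 18, nat_lit 14, nat_lit 4]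
noncomputable def w218 : Word := [nat_lit 19, nat_lit 39, nat_lit 36, nat_lit 8, nat_lit 28, nat_lit 22, nat_lit 24, nat_lit 18, nat_lit 31, nat_lit 20, nat_lit 35]
noncomputable def ys : List Word := [w209, w210, w211, w212, w213, w214, w215, w216, w217, w218]
noncomputable def v219 : List Word := [dw (nat_lit 0x0b08050707110a0d0b09), dw (nat_lit 0x030b02110706070a0d0b0a), dw (nat_lit 0x0f07070607110e110f), dw (nat_lit 0x070b07070e09), dw (nat_lit 0x030301080f0607110b110b110f), dw (nat_lit 0x060103070907050e), dw (nat_lit 0x0c0701050c070c0d0f0b11), dw (nat_lit 0x0f0d010f080b070f0d0a)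
, dw (nat_lit 0x0b030a0e080b110a0d11), dw (nat_lit 0x0a020b07070511090e0e110f)]
theorem k220 : relK F bs0 (memRels ks ys v219) = true := by decide +kernel
theorem hy (M : PM G Ω 3510 H15.Fi22P.nets) (hN : Nat.card G = 64561751654400) : (sub M.gen ys) ≤ (sub M.gen ks) :=
  (sub_le_of_memRels (rels_base (base0 M hN) k220))
noncomputable def v221 : List Word := [dw (nat_lit 0x010307090b0d0f13), dw (nat_lit 0x0307090b0d0f), [], dw (nat_lit 0x0305090b0f), dw (nat_lit 0x090b0d0f1113), dw (nat_lit 0x01031113), dw (nat_lit 0x010307090b0d0f13), dw (nat_lit 0x0307090b0d0f)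
, [], [], [], [], [], dw (nat_lit 0x01090b1113), dw (nat_lit 0x0305090b0f), dw (nat_lit 0x050b0d0f1113)
, dw (nat_lit 0x01030b0d0f13), dw (nat_lit 0x03070b0d13), dw (nat_lit 0x0307090f), dw (nat_lit 0x03050b0d0f11), dw (nat_lit 0x010b), dw (nat_lit 0x0103090d1113), dw (nat_lit 0x0103090b0f11), dw (nat_lit 0x01050d)
, dw (nat_lit 0x0103070b0d0f13), dw (nat_lit 0x03070d1113), dw (nat_lit 0x03050b0d0f11), [], [], [], dw (nat_lit 0x03050b), dw (nat_lit 0x010507090d0f)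
, [], dw (nat_lit 0x0105090b0d1113), dw (nat_lit 0x03090b0f13), dw (nat_lit 0x0305), dw (nat_lit 0x0307090d), dw (nat_lit 0x0305090b11), dw (nat_lit 0x01050f1113), dw (nat_lit 0x0305090b11)
, [], [], dw (nat_lit 0x0107090b13), dw (nat_lit 0x0105070b0d), dw (nat_lit 0x05070913), dw (nat_lit 0x0507090b0f1113), dw (nat_lit 0x0305090b0d0f11), []
, [], dw (nat_lit 0x01070d13), dw (nat_lit 0x01030507090b0f1113), dw (nat_lit 0x010305070b0f11), [], []]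
theorem k222 : relK F bs0 (qR ys qs H15.StdGO6m2.rels v221) = true := by decide +kernel
noncomputable def v223 : Prs := [(dw (nat_lit 0x0503080801), dw (nat_lit 0x010307090d1113)),
 (dw (nat_lit 0x080e01120812), dw (nat_lit 0x0507090d0f13)),
 (dw (nat_lit 0x0a08030a), dw (nat_lit 0x01050709)),
 (dw (nat_lit 0x01080901090712), dw (nat_lit 0x0105090f)),
 (dw (nat_lit 0x010d010d), dw (nat_lit 0x0305070d1113)),
 (dw (nat_lit 0x05110905130d), dw (nat_lit 0x0103070913)),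
 (dw (nat_lit 0x010805030812), dw (nat_lit 0x0d0f1113)),
 (dw (nat_lit 0x010809010b0f), dw (nat_lit 0x010d11)),
 (dw (nat_lit 0x0b13050b), dw (nat_lit 0x01090b0d0f11))]
theorem k224 : relK F bs0 (sR ys qs H15.StdGO6m2.ws0 ks v223) = true := by decide +kernel
theorem qs_ (M : PM G Ω 3510 H15.Fi22P.nets) (hN : Nat.card G = 64561751654400) : ∀ {X : Type*} [Group X], PresF G X H15.StdGO6m2.rels H15.StdGO6m2.ws0 → QS X (sub M.gen ks) (sub M.gen qs) :=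
  fun hP _ => quot_surj hP (qle M hN) (hy M hN) le_rfl le_rfl (rels_base (base0 M hN) k222) (rels_base (base0 M hN) k224) (by decide +kernel)
noncomputable def s225 : Nat := (nat_lit 0x2081800000000000001c3844000c09800020020c170000100000000400000021a048000000101018001800004000004001000000010c400000042008000005008000080001088020830008101000108060000080000000000046101000ae28400049a0b08080806002000008802000184006404000c30220000010000200000000080605004100208900102b0161045084040000c080000005311080101200800011001100000000003050020440c00683000c000180120008800011900000085010001a22008802010400020010000000401510080600220750800000d20000c2201400100104400081820321404020400840004040000000000008000029801910225d540000089310150200000400102ab40000000882102c000000000808201b28104450810010045220000008a00020000890402c0400000000040919408403012600251080000001020100800014121008102002000000000000f0c0923030020200000802090000828a408001111c22030120a00180000010082ea52a82330d0a2020008201200018201750008000458458004610910080000444b56c662d0a2409080040034000f000aa41d48012a4a0012014)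
theorem k226 : orbChk (nat_lit 3510) H15.Fi22P.nets F [nat_lit 7, nat_lit 0] (sel [w1, w2, w3, w4, w5] [nat_lit 0, nat_lit 1, nat_lit 2, nat_lit 3, nat_lit 4]) [dw (nat_lit 0x01), dw (nat_lit 0x05), dw (nat_lit 0x07), dw (nat_lit 0x09), dw (nat_lit 0x01), dw (nat_lit 0x05), dw (nat_lit 0x03), dw (nat_lit 0x07)
, dw (nat_lit 0x09), dw (nat_lit 0x03), dw (nat_lit 0x01), dw (nat_lit 0x05), dw (nat_lit 0x09)] (dn (nat_lit 20) (nat_lit 0x18d821e1c2040831e0c52a9443528530f8100e841f5011e54428d812fa852df44257412cfc300f0336a05227052270416584066430554411905094c509c051198411983280451d3051d30402e840afc503dc500085195452dc452dc440530332b85253852538222605226030468534485204052cd452744501b8500b030338307241369c31eb04193840cd030cd020ab020ab01103841038301c43283c4170020284302842028410b1840b18111744117421174109644096411508108842088410d4021dc02169441694206e4205b410f4840f4830f4810f0c21c2441c2422198301c0336bc315b0323503199c20e2030094313fc30d8031494316b0316b01213810f20305c03044c3044c2022c3149c333f041ad84296c404dc4047c42190431b041a88428a8434b4400dc432d442f6c421b041bb84066c403d04028c4263843468430404086041b38419a0420c042820414884))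 (bit (nat_lit 16)) s225 = true := by decide +kernel
theorem o227 (M : PM G Ω 3510 H15.Fi22P.nets) (hN : Nat.card G = 64561751654400) : Orb M ⊤ [nat_lit 7, nat_lit 0] (nat_lit 16) s225 :=
  (Orb.ext le_top (orb_bit ⊤ [nat_lit 7, nat_lit 0] (b := (nat_lit 16)) rfl) k226)
noncomputable def s228 : Nat := (nat_lit 0x1800000000000000038040000000000000000070000000000000000000001a0000000000000000018000000000040000000000000000000000000000000000000000000000020000000000000000060000000000000000040001000ac0000000000000000006002000000000000004006400000000020000000000000000000000200000000208900002301000040000000000000000000000000001000000000000000000000000000000040400002000000000000000000000080000000000000080000080000000000000000000040010000040000024000000080000000000000000000400000000000000000000800000000000000000000000028000000200014000000110010000000000000080000000000001004000000000008000808004400010010001200000000a0000000008000200000000000040000000000000200000000000000000000000004001000000000000000000000408010200002000000000008000000880080001104020100000000000000000800800202000000000000000120001800005000000005805000000080008000004024440004000008000000030000d00022008000002480000004)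
noncomputable def w229 : Word := [nat_lit 4, nat_lit 46, nat_lit 36, nat_lit 4]
theorem k230 : orbChk (nat_lit 3510) H15.Fi22P.nets F [nat_lit 16, nat_lit 7, nat_lit 0] (sel [w2, w9, w13, w229] [nat_lit 0, nat_lit 1, nat_lit 2, nat_lit 3]) [dw (nat_lit 0x05), dw (nat_lit 0x07)] (dn (nat_lit 20) (nat_lit 0x32e043568231ac43440134444094c4094c113d04257442574112484074c4074c317144105c404882359443594114ac41cb841200212ec4170c4033840af0215c04024c2125821c80410f440cc820cc8115904159030f48220c4420c421e6c21f5c425c0425c021b3c429c430480408a8408a82056c1039c31190411903118441184210144254042cd842b3c42b3c225604268442684224f8236a0401c04013420134100fc200883007c4007c20a8440a8420a841030840308327f4427f4332d44358c432dc4211822118134484344821bc4401c41045040450102a8402a8202a8113a8403dc21e0c22b7042b70325641164841c2841c28301784017810e644071c4071c30170104584047c125cc321384213821bb841bb8312ac202f8402f8303142051040510115d0415d0215d01169421694106e4206e410518416504128c4095c4095c20b1c2))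 (bit (nat_lit 37)) s228 = true := by decide +kernel
theorem o231 (M : PM G Ω 3510 H15.Fi22P.nets) (hN : Nat.card G = 64561751654400) : Orb M ⊤ [nat_lit 16, nat_lit 7, nat_lit 0] (nat_lit 37) s228 :=
  (Orb.ext le_top (orb_bit ⊤ [nat_lit 16, nat_lit 7, nat_lit 0] (b := (nat_lit 37)) rfl) k230)
noncomputable def s232 : Nat := (nat_lit 0x10000000000180000000000000000000000000000000000000000000000000000000000000000000000000000000000000000000000000000000000000800000000000000000000000000000000000000010000000000000018000000000000000000000000000000000000000000000000000000000000000000000000000000000000000000000000000000000000000000000000000000000000000000000004000000000020000080000000000000000000000000000000002000000000000000000000000000000000000000000100000000000000000000000000000000000010000000000000000000000000000000000000000000000000000000080000000000000000000200000000000000000000000000000000000000000000000000000000000000000000000000000000000000000000002000000000000000000000000000000000000000000000000000000000000000000000000000000000080000000000008000000000000000000100000000000000000000000020000000020000000800000000000020000000000000010200000000000000040004000200000004000028000000010)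
noncomputable def w233 : Word := [nat_lit 37, nat_lit 4, nat_lit 36]
noncomputable def w234 : Word := [nat_lit 6, nat_lit 28, nat_lit 4, nat_lit 6]
theorem k235 : orbChk (nat_lit 3510) H15.Fi22P.nets F [nat_lit 37, nat_lit 16, nat_lit 7, nat_lit 0] (sel [w2, w9, w233, w234] [nat_lit 0, nat_lit 1, nat_lit 2, nat_lit 3]) [] (dn (nat_lit 20) (nat_lit 0x2aa043500420e430554401b841960315dc202f430010314942208c2208c1009c200f82219822198105e4303102031010404204041077030ea4404dc301f831bb041bb02097c408ac408ac308ac1)) (bit (nat_lit 555)) s232 = true := by decide +kernel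
theorem o236 (M : PM G Ω 3510 H15.Fi22P.nets) (hN : Nat.card G = 64561751654400) : Orb M ⊤ [nat_lit 37, nat_lit 16, nat_lit 7, nat_lit 0] (nat_lit 555) s232 :=
  (Orb.ext le_top (orb_bit ⊤ [nat_lit 37, nat_lit 16, nat_lit 7, nat_lit 0] (b := (nat_lit 555)) rfl) k235)
noncomputable def s237 : Nat := (nat_lit 0x400000000000000000000000000000000000000000000000000000000000000000000000000000000000000000000000000000000000000000000000000000000000000000000000000000000000000000000000000000000000000000000000000000000000000000000000000000000000000000000040000000000000000000080000000000000000000000000000000000000000000000001000000000000000000000000000000000000000000000000000400000000000020000000000000000000000000000000000000000000000000000000000000000000000000000000000000000000000000000000000000000000000000000000000000000000000000000000000000000000000000000000000000000000000000000000000000000000000000000000000000000000000000000000000000000000000000000000000000000)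
noncomputable def w238 : Word := [nat_lit 4, nat_lit 6, nat_lit 46, nat_lit 6, nat_lit 4]
theorem k239 : orbChk (nat_lit 3510) H15.Fi22P.nets F [nat_lit 555, nat_lit 37, nat_lit 16, nat_lit 7, nat_lit 0] (sel [w9, w238] [nat_lit 0, nat_lit 1]) [] (dn (nat_lit 20) (nat_lit 0x28d8112581159021184211841)) (bit (nat_lit 1121)) s237 = true := by decide +kernel
theorem o240 (M : PM G Ω 3510 H15.Fi22P.nets) (hN : Nat.card G = 64561751654400) : Orb M ⊤ [nat_lit 555, nat_lit 37, nat_lit 16, nat_lit 7, nat_lit 0] (nat_lit 1121) s237 :=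
  (Orb.ext le_top (orb_bit ⊤ [nat_lit 555, nat_lit 37, nat_lit 16, nat_lit 7, nat_lit 0] (b := (nat_lit 1121)) rfl) k239)
noncomputable def s241 : Nat := (nat_lit 0x280000000000000000000000000000000000000000000000000000000000000000000000000000000000000000000000000000000000000000000000000000000000000000000000000000000000000000000000000000000000000000000000000000000000000000000000000000000000000000000000000000000000000000000)
noncomputable def w242 : Word := [nat_lit 4, nat_lit 38, nat_lit 40, nat_lit 38, nat_lit 14, nat_lit 4]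
theorem k243 : orbChk (nat_lit 3510) H15.Fi22P.nets F [nat_lit 1121, nat_lit 555, nat_lit 37, nat_lit 16, nat_lit 7, nat_lit 0] (sel [w242] [nat_lit 0]) [] (dn (nat_lit 20) (nat_lit 0x103c1)) (bit (nat_lit 1039)) s241 = true := by decide +kernel
theorem o244 (M : PM G Ω 3510 H15.Fi22P.nets) (hN : Nat.card G = 64561751654400) : Orb M ⊤ [nat_lit 1121, nat_lit 555, nat_lit 37, nat_lit 16, nat_lit 7, nat_lit 0] (nat_lit 1039) s241 :=
  (Orb.ext le_top (orb_bit ⊤ [nat_lit 1121, nat_lit 555, nat_lit 37, nat_lit 16, nat_lit 7, nat_lit 0] (b := (nat_lit 1039)) rfl) k243)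
noncomputable def c245 : Chn := [((nat_lit 0), (full (nat_lit 3510))), ((nat_lit 7), L.K22.s32), ((nat_lit 16), s225), ((nat_lit 37), s228), ((nat_lit 555), s232), ((nat_lit 1121), s237), ((nat_lit 1039), s241)]
theorem k246 : Nat.ble 64561751654400 (cval (nat_lit 3510) c245) = true := by decide +kernel
theorem e247 (M : PM G Ω 3510 H15.Fi22P.nets) (hN : Nat.card G = 64561751654400) : EC M ⊤ [] c245 :=
  ec_top (c := c245) ⟨(L.K22.o9 M hN), ⟨(L.K22.o42 M hN), ⟨(o227 M hN), ⟨(o231 M hN), ⟨(o236 M hN), ⟨(o240 M hN), ⟨(o244 M hN), trivial⟩⟩⟩⟩⟩⟩⟩ hN k246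
noncomputable def p248 : Prs := [(w168, w168), (w169, w169), (w170, w170), (w171, w171), (w172, w172), (w173, w173), (w174, w174), (w175, w175), (w176, w176), (I22.u2, I22.u2)]
noncomputable def b249 : List (Nat × Nat) := []
noncomputable def y250 : List Word := [a0, I22.u2, w43]
theorem k251 : relK F bs0 (commR (snds p248) y250) = true := by decide +kernel
theorem x252 (M : PM G Ω 3510 H15.Fi22P.nets) (hN : Nat.card G = 64561751654400) : Cx M (fun g => Pr M g p248) b249 [] p248 y250 :=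
  cx_conj (fun _ _ => fa_nil) (rels_base (base0 M hN) k251)
noncomputable def t253 : KT := KT.alt (dw (nat_lit 0x1115130b051b2e2e0517051e0d)) (KT.mem (nat_lit 16) [nat_lit 16] (SE.lev (nat_lit 3)))
 (KT.alt (dw (nat_lit 0x1115130b240523)) (KT.mem (nat_lit 16) [nat_lit 2] (SE.lev (nat_lit 3)))
 (KT.alt (dw (nat_lit 0x0d320503171f1c2d2c2703)) (KT.mem (nat_lit 16) [nat_lit 16] (SE.lev (nat_lit 3)))
 (KT.alt (dw (nat_lit 0x1115130b051e05172e2e051e)) (KT.mem (nat_lit 16) [nat_lit 16] (SE.lev (nat_lit 3)))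
 (KT.alt (dw (nat_lit 0x1115130b05170d2e2e051e0d)) (KT.mem (nat_lit 16) [nat_lit 16] (SE.lev (nat_lit 3)))
 (KT.alt (dw (nat_lit 0x1115130b051b0d2e2e051e)) (KT.mem (nat_lit 16) [nat_lit 16] (SE.lev (nat_lit 3)))
 (KT.alt (dw (nat_lit 0x1115130b270528)) (KT.mem (nat_lit 16) [nat_lit 2] (SE.lev (nat_lit 3)))
 (KT.alt (dw (nat_lit 0x0b14141d1f1d0d2b0b07272d)) (KT.mem (nat_lit 16) [nat_lit 8] (SE.lev (nat_lit 3)))
 (KT.alt (dw (nat_lit 0x2b192414031e2b1925210d)) (KT.mem (nat_lit 16) [nat_lit 16] (SE.lev (nat_lit 3)))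
 (KT.alt (dw (nat_lit 0x1115130b051e0d2e2e051b0d)) (KT.mem (nat_lit 16) [nat_lit 16] (SE.lev (nat_lit 3)))
 (KT.alt (dw (nat_lit 0x111513262619212e212f2d29)) (KT.mem (nat_lit 16) [nat_lit 16] (SE.lev (nat_lit 3)))
 (KT.alt (dw (nat_lit 0x1115130b051b2e2e051e051b)) (KT.mem (nat_lit 16) [nat_lit 16] (SE.lev (nat_lit 3)))
 (KT.alt (dw (nat_lit 0x111513290f1c210f292f09)) (KT.mem (nat_lit 16) [nat_lit 16] (SE.lev (nat_lit 3)))
 (KT.alt (dw (nat_lit 0x0d1115131f05110925280f2f)) (KT.mem (nat_lit 16) [nat_lit 8] (SE.lev (nat_lit 3)))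
 (KT.alt (dw (nat_lit 0x1115132e0521090f2b1c)) (KT.mem (nat_lit 16) [nat_lit 10] (SE.lev (nat_lit 3)))
 (KT.alt (dw (nat_lit 0x11151324091c112c11272b07)) (KT.mem (nat_lit 16) [nat_lit 8] (SE.lev (nat_lit 3)))
 (KT.alt (dw (nat_lit 0x111513211e1c2821112f05)) (KT.mem (nat_lit 16) [nat_lit 2] (SE.lev (nat_lit 3)))
 (KT.alt (dw (nat_lit 0x0b14142d251e0731092e282d)) (KT.mem (nat_lit 16) [nat_lit 10] (SE.lev (nat_lit 3)))
 (KT.alt (dw (nat_lit 0x2f1115132b31052d07252831)) (KT.mem (nat_lit 16) [nat_lit 2] (SE.lev (nat_lit 3)))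
 (KT.alt (dw (nat_lit 0x0b1414071f09250731280f)) (KT.mem (nat_lit 16) [nat_lit 16] (SE.lev (nat_lit 3)))
 (KT.alt (dw (nat_lit 0x1115130b051e2e2e051b0d)) (KT.mem (nat_lit 16) [nat_lit 16] (SE.lev (nat_lit 3)))
 (KT.alt (dw (nat_lit 0x1d0f131331202531242528)) (KT.mem (nat_lit 16) [nat_lit 2] (SE.lev (nat_lit 3)))
 (KT.alt (dw (nat_lit 0x111513202e1f26242d2611)) (KT.mem (nat_lit 16) [nat_lit 10] (SE.lev (nat_lit 3)))
 (KT.alt (dw (nat_lit 0x2f111513321d05310b212f)) (KT.mem (nat_lit 16) [nat_lit 2] (SE.lev (nat_lit 3)))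
 (KT.alt (dw (nat_lit 0x1115131c231e2b2109320f)) (KT.mem (nat_lit 16) [nat_lit 16] (SE.lev (nat_lit 3)))
 (KT.alt (dw (nat_lit 0x1115130b051e0d)) (KT.mem (nat_lit 16) [nat_lit 16] (SE.lev (nat_lit 3)))
 (KT.alt (dw (nat_lit 0x1115132b292432252d)) (KT.mem (nat_lit 16) [nat_lit 16] (SE.lev (nat_lit 3)))
 (KT.alt (dw (nat_lit 0x1115130b1d052b090f2c0d)) (KT.mem (nat_lit 16) [nat_lit 2] (SE.lev (nat_lit 3)))
 (KT.nil (SE.lev (nat_lit 2)) [nat_lit 2] [dw (nat_lit 0x01)] []))))))))))))))))))))))))))))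
noncomputable def t254 : KT := KT.alt (dw (nat_lit 0x09161313231d192d230b32)) (KT.mem (nat_lit 16) [nat_lit 2] (SE.lev (nat_lit 3)))
 (KT.alt (dw (nat_lit 0x0b141425281e0b0d072f27)) (KT.mem (nat_lit 16) [nat_lit 10] (SE.lev (nat_lit 3)))
 (KT.alt (dw (nat_lit 0x111513282b052c270b)) (KT.mem (nat_lit 16) [nat_lit 2] (SE.lev (nat_lit 3)))
 (KT.alt (dw (nat_lit 0x0f15152f091e0d)) (KT.mem (nat_lit 16) [nat_lit 2] (SE.lev (nat_lit 3)))
 (KT.alt (dw (nat_lit 0x1115130b2d052e0d2d0f2e)) (KT.mem (nat_lit 16) [nat_lit 16] (SE.lev (nat_lit 3)))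
 (KT.alt (dw (nat_lit 0x111513290f1c2f210f292f09)) (KT.mem (nat_lit 16) [nat_lit 16] (SE.lev (nat_lit 3)))
 (KT.alt (dw (nat_lit 0x1115130b051e2e2e0d)) (KT.mem (nat_lit 16) [nat_lit 16] (SE.lev (nat_lit 3)))
 (KT.alt (dw (nat_lit 0x111513092b092c2f09)) (KT.mem (nat_lit 16) [nat_lit 2] (SE.lev (nat_lit 3)))
 (KT.alt (dw (nat_lit 0x1115132f091d05)) (KT.mem (nat_lit 16) [nat_lit 16] (SE.lev (nat_lit 3)))
 (KT.alt (dw (nat_lit 0x0f1515230920110d07322d)) (KT.mem (nat_lit 16) [nat_lit 16] (SE.lev (nat_lit 3)))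
 (KT.alt (dw (nat_lit 0x1115130b0517051e2e2e)) (KT.mem (nat_lit 16) [nat_lit 2] (SE.lev (nat_lit 3)))
 (KT.alt (dw (nat_lit 0x111513292c192d21290f311f)) (KT.mem (nat_lit 16) [nat_lit 2] (SE.lev (nat_lit 3)))
 (KT.alt (dw (nat_lit 0x0f15152b2619232809292632)) (KT.mem (nat_lit 16) [nat_lit 16] (SE.lev (nat_lit 3)))
 (KT.alt (dw (nat_lit 0x11151305241c2727252e1f)) (KT.mem (nat_lit 16) [nat_lit 16] (SE.lev (nat_lit 3)))
 (KT.alt (dw (nat_lit 0x1115132f091d050d250926)) (KT.mem (nat_lit 16) [nat_lit 2] (SE.lev (nat_lit 3)))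
 (KT.alt (dw (nat_lit 0x0f15152f091e2d2d)) (KT.mem (nat_lit 16) [nat_lit 16] (SE.lev (nat_lit 3)))
 (KT.alt (dw (nat_lit 0x1115130b051e051b2e2e051e0d)) (KT.mem (nat_lit 16) [nat_lit 2] (SE.lev (nat_lit 3)))
 (KT.alt (dw (nat_lit 0x111513292405322126273120)) (KT.mem (nat_lit 16) [nat_lit 16] (SE.lev (nat_lit 3)))
 (KT.alt (dw (nat_lit 0x1115130b0d2e2e051b)) (KT.mem (nat_lit 16) [nat_lit 8] (SE.lev (nat_lit 3)))
 (KT.alt (dw (nat_lit 0x11151321250b312d0f21)) (KT.mem (nat_lit 16) [nat_lit 2] (SE.lev (nat_lit 3)))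
 (KT.alt (dw (nat_lit 0x1115130b05170d2e2e051e)) (KT.mem (nat_lit 16) [nat_lit 2] (SE.lev (nat_lit 3)))
 (KT.alt (dw (nat_lit 0x1115130b051e051b2e2e)) (KT.mem (nat_lit 16) [nat_lit 16] (SE.lev (nat_lit 3)))
 (KT.alt (dw (nat_lit 0x1115130b0d2d0f2d0d)) (KT.mem (nat_lit 16) [nat_lit 2] (SE.lev (nat_lit 3)))
 (KT.alt (dw (nat_lit 0x1115131c231e0d2509252e0d)) (KT.mem (nat_lit 16) [nat_lit 8] (SE.lev (nat_lit 3)))
 (KT.alt (dw (nat_lit 0x1115130b2e2e051e051b)) (KT.mem (nat_lit 16) [nat_lit 16] (SE.lev (nat_lit 3)))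
 (KT.alt (dw (nat_lit 0x261f241403052b1907272426)) (KT.mem (nat_lit 16) [nat_lit 16] (SE.lev (nat_lit 3)))
 (KT.alt (dw (nat_lit 0x1115132c0f312d0b)) (KT.mem (nat_lit 16) [nat_lit 16] (SE.lev (nat_lit 3)))
 (KT.alt (dw (nat_lit 0x141913032823052e21092727)) (KT.mem (nat_lit 16) [nat_lit 10] (SE.lev (nat_lit 3)))
 (KT.alt (dw (nat_lit 0x1115130b051b2e2e051e0d)) (KT.mem (nat_lit 16) [nat_lit 2] (SE.lev (nat_lit 3)))
 (KT.alt (dw (nat_lit 0x03111303201c1f0709210f32)) (KT.mem (nat_lit 16) [nat_lit 16] (SE.lev (nat_lit 3)))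
 (KT.alt (dw (nat_lit 0x1115132f1c0b280d2c25)) (KT.mem (nat_lit 16) [nat_lit 16] (SE.lev (nat_lit 3)))
 t253))))))))))))))))))))))))))))))
noncomputable def t255 : KT := KT.alt (dw (nat_lit 0x1115130b051b2e2e051b)) (KT.mem (nat_lit 16) [nat_lit 16] (SE.lev (nat_lit 3)))
 (KT.alt (dw (nat_lit 0x1115130b051b2e2e051b051e)) (KT.mem (nat_lit 16) [nat_lit 8] (SE.lev (nat_lit 3)))
 (KT.alt (dw (nat_lit 0x1115132f091d052509262f)) (KT.mem (nat_lit 16) [nat_lit 10] (SE.lev (nat_lit 3)))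
 (KT.alt (dw (nat_lit 0x1115130b2e2e051b051e)) (KT.mem (nat_lit 16) [nat_lit 10] (SE.lev (nat_lit 3)))
 (KT.alt (dw (nat_lit 0x1115130b2e2e0517051e2e2e)) (KT.mem (nat_lit 16) [nat_lit 16] (SE.lev (nat_lit 3)))
 (KT.alt (dw (nat_lit 0x111513321d05310b21)) (KT.mem (nat_lit 16) [nat_lit 16] (SE.lev (nat_lit 3)))
 (KT.alt (dw (nat_lit 0x1115130b051b0517051e2e2e)) (KT.mem (nat_lit 16) [nat_lit 2] (SE.lev (nat_lit 3)))
 (KT.alt (dw (nat_lit 0x19150113030d271e0d232d2d)) (KT.mem (nat_lit 16) [nat_lit 2] (SE.lev (nat_lit 3)))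
 (KT.alt (dw (nat_lit 0x14191303281f0b242c2e2531)) (KT.mem (nat_lit 16) [nat_lit 2] (SE.lev (nat_lit 3)))
 (KT.alt (dw (nat_lit 0x111513321d053207)) (KT.mem (nat_lit 16) [nat_lit 10] (SE.lev (nat_lit 3)))
 (KT.alt (dw (nat_lit 0x1115130b0d202509261f)) (KT.mem (nat_lit 16) [nat_lit 16] (SE.lev (nat_lit 3)))
 (KT.alt (dw (nat_lit 0x131714031e281f312b242b2b)) (KT.mem (nat_lit 16) [nat_lit 8] (SE.lev (nat_lit 3)))
 (KT.alt (dw (nat_lit 0x111513241e052d242932252f)) (KT.mem (nat_lit 16) [nat_lit 8] (SE.lev (nat_lit 3)))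
 (KT.alt (dw (nat_lit 0x1c0f1313262d050d272b072f)) (KT.mem (nat_lit 16) [nat_lit 16] (SE.lev (nat_lit 3)))
 (KT.alt (dw (nat_lit 0x0b1414261c1f27232b25)) (KT.mem (nat_lit 16) [nat_lit 10] (SE.lev (nat_lit 3)))
 (KT.alt (dw (nat_lit 0x1115130b051e051b)) (KT.mem (nat_lit 16) [nat_lit 2] (SE.lev (nat_lit 3)))
 (KT.alt (dw (nat_lit 0x0b14142d271e0d0b0f2b)) (KT.mem (nat_lit 16) [nat_lit 16] (SE.lev (nat_lit 3)))
 (KT.alt (dw (nat_lit 0x011115131c07052b2111252c)) (KT.mem (nat_lit 16) [nat_lit 2] (SE.lev (nat_lit 3)))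
 (KT.alt (dw (nat_lit 0x050f13132d1d052f0921322f)) (KT.mem (nat_lit 16) [nat_lit 10] (SE.lev (nat_lit 3)))
 (KT.alt (dw (nat_lit 0x1115130b05172e2e0d)) (KT.mem (nat_lit 16) [nat_lit 2] (SE.lev (nat_lit 3)))
 (KT.alt (dw (nat_lit 0x050f131328241c2e0d0b2e0f31)) (KT.mem (nat_lit 16) [nat_lit 16] (SE.lev (nat_lit 3)))
 (KT.alt (dw (nat_lit 0x031113032e1b190d2529)) (KT.mem (nat_lit 16) [nat_lit 16] (SE.lev (nat_lit 3)))
 (KT.alt (dw (nat_lit 0x1115130b0d2f)) (KT.mem (nat_lit 16) [nat_lit 16] (SE.lev (nat_lit 3)))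
 (KT.alt (dw (nat_lit 0x1115130b2e2e051b051e0d)) (KT.mem (nat_lit 16) [nat_lit 8] (SE.lev (nat_lit 3)))
 (KT.alt (dw (nat_lit 0x111513231f21250926312d05)) (KT.mem (nat_lit 16) [nat_lit 2] (SE.lev (nat_lit 3)))
 (KT.alt (dw (nat_lit 0x1115130b2d05272d21312521)) (KT.mem (nat_lit 16) [nat_lit 16] (SE.lev (nat_lit 3)))
 (KT.alt (dw (nat_lit 0x1d0f13131d2d1c32213229)) (KT.mem (nat_lit 16) [nat_lit 8] (SE.lev (nat_lit 3)))
 (KT.alt (dw (nat_lit 0x1115130b2e2e)) (KT.mem (nat_lit 16) [nat_lit 16] (SE.lev (nat_lit 3)))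
 (KT.alt (dw (nat_lit 0x1115130b051b2e2e)) (KT.mem (nat_lit 16) [nat_lit 16] (SE.lev (nat_lit 3)))
 (KT.alt (dw (nat_lit 0x111513241e052b112911)) (KT.mem (nat_lit 16) [nat_lit 10] (SE.lev (nat_lit 3)))
 (KT.alt (dw (nat_lit 0x1115130b051e05172e2e0d)) (KT.mem (nat_lit 16) [nat_lit 2] (SE.lev (nat_lit 3)))
 t254))))))))))))))))))))))))))))))
noncomputable def t256 : KT := KT.alt (dw (nat_lit 0x0b14142805012f2c210f272d)) (KT.mem (nat_lit 16) [nat_lit 16] (SE.lev (nat_lit 3)))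
 (KT.alt (dw (nat_lit 0x1915011303271c2c2507250f)) (KT.mem (nat_lit 16) [nat_lit 16] (SE.lev (nat_lit 3)))
 (KT.alt (dw (nat_lit 0x1115132c1e2d0923070f291e)) (KT.mem (nat_lit 16) [nat_lit 10] (SE.lev (nat_lit 3)))
 (KT.alt (dw (nat_lit 0x1115130b2e2e051b2e2e051e)) (KT.mem (nat_lit 16) [nat_lit 10] (SE.lev (nat_lit 3)))
 (KT.alt (dw (nat_lit 0x1115132723282f24)) (KT.mem (nat_lit 16) [nat_lit 16] (SE.lev (nat_lit 3)))
 (KT.alt (dw (nat_lit 0x1115130b212d2d)) (KT.mem (nat_lit 16) [nat_lit 2] (SE.lev (nat_lit 3)))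
 (KT.alt (dw (nat_lit 0x2f1115132f091d050d)) (KT.mem (nat_lit 16) [nat_lit 16] (SE.lev (nat_lit 3)))
 (KT.alt (dw (nat_lit 0x20091f140317230532210b0f)) (KT.mem (nat_lit 16) [nat_lit 16] (SE.lev (nat_lit 3)))
 (KT.alt (dw (nat_lit 0x1115130b1c0d2f05)) (KT.mem (nat_lit 16) [nat_lit 16] (SE.lev (nat_lit 3)))
 (KT.alt (dw (nat_lit 0x1115130b2e2e051e2e2e0d)) (KT.mem (nat_lit 16) [nat_lit 16] (SE.lev (nat_lit 3)))
 (KT.alt (dw (nat_lit 0x1f2515152d26192c210725)) (KT.mem (nat_lit 16) [nat_lit 16] (SE.lev (nat_lit 3)))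
 (KT.alt (dw (nat_lit 0x050f13132f1c2811072c0f2e)) (KT.mem (nat_lit 16) [nat_lit 16] (SE.lev (nat_lit 3)))
 (KT.alt (dw (nat_lit 0x1115130b2e2e051b0d)) (KT.mem (nat_lit 16) [nat_lit 16] (SE.lev (nat_lit 3)))
 (KT.alt (dw (nat_lit 0x03111303291c1d2b21110f32)) (KT.mem (nat_lit 16) [nat_lit 2] (SE.lev (nat_lit 3)))
 (KT.alt (dw (nat_lit 0x1115130b051e051b2e2e051b)) (KT.mem (nat_lit 16) [nat_lit 16] (SE.lev (nat_lit 3)))
 (KT.alt (dw (nat_lit 0x2d191714032f201d272b)) (KT.mem (nat_lit 16) [nat_lit 16] (SE.lev (nat_lit 3)))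
 (KT.alt (dw (nat_lit 0x1115130b2405232d2d)) (KT.mem (nat_lit 16) [nat_lit 16] (SE.lev (nat_lit 3)))
 (KT.alt (dw (nat_lit 0x1115132f091d05250926)) (KT.mem (nat_lit 16) [nat_lit 2] (SE.lev (nat_lit 3)))
 (KT.alt (dw (nat_lit 0x0b1414071f212921072b2826)) (KT.mem (nat_lit 16) [nat_lit 16] (SE.lev (nat_lit 3)))
 (KT.alt (dw (nat_lit 0x1115130b051e2e2e)) (KT.mem (nat_lit 16) [nat_lit 16] (SE.lev (nat_lit 3)))
 (KT.alt (dw (nat_lit 0x1d0f1313250d09312c252e)) (KT.mem (nat_lit 16) [nat_lit 16] (SE.lev (nat_lit 3)))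
 (KT.alt (dw (nat_lit 0x1115132523052d0f073126)) (KT.mem (nat_lit 16) [nat_lit 8] (SE.lev (nat_lit 3)))
 (KT.alt (dw (nat_lit 0x0b141409201d3228242d2b0f2d)) (KT.mem (nat_lit 16) [nat_lit 2] (SE.lev (nat_lit 3)))
 (KT.alt (dw (nat_lit 0x111513262d05250b21262b31)) (KT.mem (nat_lit 16) [nat_lit 2] (SE.lev (nat_lit 3)))
 (KT.alt (dw (nat_lit 0x2f1115132f091d050d2d2d)) (KT.mem (nat_lit 16) [nat_lit 2] (SE.lev (nat_lit 3)))
 (KT.alt (dw (nat_lit 0x1d0f131321262d0725270f32)) (KT.mem (nat_lit 16) [nat_lit 8] (SE.lev (nat_lit 3)))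
 (KT.alt (dw (nat_lit 0x1115130b051e2e2e051e0d)) (KT.mem (nat_lit 16) [nat_lit 8] (SE.lev (nat_lit 3)))
 (KT.alt (dw (nat_lit 0x1115130b0517051e)) (KT.mem (nat_lit 16) [nat_lit 8] (SE.lev (nat_lit 3)))
 (KT.alt (dw (nat_lit 0x1115130b0d2e2e051b0d)) (KT.mem (nat_lit 16) [nat_lit 16] (SE.lev (nat_lit 3)))
 (KT.alt (dw (nat_lit 0x111513202e1f250921252e282d)) (KT.mem (nat_lit 16) [nat_lit 16] (SE.lev (nat_lit 3)))
 (KT.alt (dw (nat_lit 0x0b14142b190d320929280f31)) (KT.mem (nat_lit 16) [nat_lit 2] (SE.lev (nat_lit 3)))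
 t255))))))))))))))))))))))))))))))
noncomputable def t257 : KT := KT.alt (dw (nat_lit 0x111513262d05250b21282d27)) (KT.mem (nat_lit 16) [nat_lit 8] (SE.lev (nat_lit 3)))
 (KT.alt (dw (nat_lit 0x11151325091d0d27251b)) (KT.mem (nat_lit 16) [nat_lit 2] (SE.lev (nat_lit 3)))
 (KT.alt (dw (nat_lit 0x0b14142e211f2f29072627322d)) (KT.mem (nat_lit 16) [nat_lit 16] (SE.lev (nat_lit 3)))
 (KT.alt (dw (nat_lit 0x1115130b0d2e2e051b051e0d)) (KT.mem (nat_lit 16) [nat_lit 16] (SE.lev (nat_lit 3)))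
 (KT.alt (dw (nat_lit 0x0f15150b1e250926)) (KT.mem (nat_lit 16) [nat_lit 2] (SE.lev (nat_lit 3)))
 (KT.alt (dw (nat_lit 0x050f13132826230d2f2c2d)) (KT.mem (nat_lit 16) [nat_lit 16] (SE.lev (nat_lit 3)))
 (KT.alt (dw (nat_lit 0x1115130b211d05)) (KT.mem (nat_lit 16) [nat_lit 10] (SE.lev (nat_lit 3)))
 (KT.alt (dw (nat_lit 0x1115132f1e01072d072d2805)) (KT.mem (nat_lit 16) [nat_lit 10] (SE.lev (nat_lit 3)))
 (KT.alt (dw (nat_lit 0x19150113030d271e0d23)) (KT.mem (nat_lit 16) [nat_lit 16] (SE.lev (nat_lit 3)))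
 (KT.alt (dw (nat_lit 0x0f15152f091e0d250926)) (KT.mem (nat_lit 16) [nat_lit 16] (SE.lev (nat_lit 3)))
 (KT.alt (dw (nat_lit 0x1115132f292132280f)) (KT.mem (nat_lit 16) [nat_lit 2] (SE.lev (nat_lit 3)))
 (KT.alt (dw (nat_lit 0x0b1d132e19310d0b2b2b3113)) (KT.mem (nat_lit 16) [nat_lit 16] (SE.lev (nat_lit 3)))
 (KT.alt (dw (nat_lit 0x1115130d071f23230b07272731)) (KT.mem (nat_lit 16) [nat_lit 16] (SE.lev (nat_lit 3)))
 (KT.alt (dw (nat_lit 0x111513262d050f24310f310f)) (KT.mem (nat_lit 16) [nat_lit 16] (SE.lev (nat_lit 3)))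
 (KT.alt (dw (nat_lit 0x1115130b0d)) (KT.mem (nat_lit 16) [nat_lit 16] (SE.lev (nat_lit 3)))
 (KT.alt (dw (nat_lit 0x1115130b0d2e2e0d)) (KT.mem (nat_lit 16) [nat_lit 2] (SE.lev (nat_lit 3)))
 (KT.alt (dw (nat_lit 0x1f2515151e19073207280f32)) (KT.mem (nat_lit 16) [nat_lit 10] (SE.lev (nat_lit 3)))
 (KT.alt (dw (nat_lit 0x09161313091c0125210d2f2d2d)) (KT.mem (nat_lit 16) [nat_lit 16] (SE.lev (nat_lit 3)))
 (KT.alt (dw (nat_lit 0x1115130b1d2c2621270f2e05)) (KT.mem (nat_lit 16) [nat_lit 16] (SE.lev (nat_lit 3)))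
 (KT.alt (dw (nat_lit 0x0f15151e2620072f0f07290f2e)) (KT.mem (nat_lit 16) [nat_lit 8] (SE.lev (nat_lit 3)))
 (KT.alt (dw (nat_lit 0x131714030d1f27230b2b25)) (KT.mem (nat_lit 16) [nat_lit 2] (SE.lev (nat_lit 3)))
 (KT.alt (dw (nat_lit 0x1115130b1d05210d2d0f2e0d)) (KT.mem (nat_lit 16) [nat_lit 16] (SE.lev (nat_lit 3)))
 (KT.alt (dw (nat_lit 0x1115130b051b0d)) (KT.mem (nat_lit 16) [nat_lit 16] (SE.lev (nat_lit 3)))
 (KT.alt (dw (nat_lit 0x1115130b0d2e2e051e0d)) (KT.mem (nat_lit 16) [nat_lit 2] (SE.lev (nat_lit 3)))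
 (KT.alt (dw (nat_lit 0x26211423171d0f24092c2e16)) (KT.mem (nat_lit 16) [nat_lit 2] (SE.lev (nat_lit 3)))
 (KT.alt (dw (nat_lit 0x0b1414322305272107322f2d)) (KT.mem (nat_lit 16) [nat_lit 10] (SE.lev (nat_lit 3)))
 (KT.alt (dw (nat_lit 0x03111303291c1d2b11322d0f2e)) (KT.mem (nat_lit 16) [nat_lit 16] (SE.lev (nat_lit 3)))
 (KT.alt (dw (nat_lit 0x1115130b211d0d2f05)) (KT.mem (nat_lit 16) [nat_lit 2] (SE.lev (nat_lit 3)))
 (KT.alt (dw (nat_lit 0x11151324091c0d2b073121)) (KT.mem (nat_lit 16) [nat_lit 16] (SE.lev (nat_lit 3)))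
 (KT.alt (dw (nat_lit 0x1115130b051b051e)) (KT.mem (nat_lit 16) [nat_lit 10] (SE.lev (nat_lit 3)))
 (KT.alt (dw (nat_lit 0x190f16030732192e070f2e15)) (KT.mem (nat_lit 16) [nat_lit 16] (SE.lev (nat_lit 3)))
 t256))))))))))))))))))))))))))))))
noncomputable def t258 : KT := KT.alt (dw (nat_lit 0x1115132f1c21242b290f11)) (KT.mem (nat_lit 16) [nat_lit 16] (SE.lev (nat_lit 3)))
 (KT.alt (dw (nat_lit 0x1115130b05172e2e)) (KT.mem (nat_lit 16) [nat_lit 2] (SE.lev (nat_lit 3)))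
 (KT.alt (dw (nat_lit 0x1115130b051b2e2e051e)) (KT.mem (nat_lit 16) [nat_lit 2] (SE.lev (nat_lit 3)))
 (KT.alt (dw (nat_lit 0x0f15152125200927072b312f)) (KT.mem (nat_lit 16) [nat_lit 8] (SE.lev (nat_lit 3)))
 (KT.alt (dw (nat_lit 0x111513252305110b0724)) (KT.mem (nat_lit 16) [nat_lit 8] (SE.lev (nat_lit 3)))
 (KT.alt (dw (nat_lit 0x131714030d1f0b2426292f2e)) (KT.mem (nat_lit 16) [nat_lit 8] (SE.lev (nat_lit 3)))
 (KT.alt (dw (nat_lit 0x1115130b051b051e2e2e)) (KT.mem (nat_lit 16) [nat_lit 16] (SE.lev (nat_lit 3)))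
 (KT.alt (dw (nat_lit 0x1115130b1d05250926)) (KT.mem (nat_lit 16) [nat_lit 16] (SE.lev (nat_lit 3)))
 (KT.alt (dw (nat_lit 0x1115130b2e050f2d212d2d)) (KT.mem (nat_lit 16) [nat_lit 16] (SE.lev (nat_lit 3)))
 (KT.alt (dw (nat_lit 0x111513290b19262124271b)) (KT.mem (nat_lit 16) [nat_lit 16] (SE.lev (nat_lit 3)))
 (KT.alt (dw (nat_lit 0x282d20030b2d19212516)) (KT.mem (nat_lit 16) [nat_lit 16] (SE.lev (nat_lit 3)))
 (KT.alt (dw (nat_lit 0x1115130b2e052d212d2d)) (KT.mem (nat_lit 16) [nat_lit 16] (SE.lev (nat_lit 3)))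
 (KT.alt (dw (nat_lit 0x1115130b2e2e0517051e)) (KT.mem (nat_lit 16) [nat_lit 16] (SE.lev (nat_lit 3)))
 (KT.alt (dw (nat_lit 0x142e19073121310f2d2d13)) (KT.mem (nat_lit 16) [nat_lit 16] (SE.lev (nat_lit 3)))
 (KT.alt (dw (nat_lit 0x1115130b24050f24322b)) (KT.mem (nat_lit 16) [nat_lit 16] (SE.lev (nat_lit 3)))
 (KT.alt (dw (nat_lit 0x1115130b0d2e2e051e051b)) (KT.mem (nat_lit 16) [nat_lit 8] (SE.lev (nat_lit 3)))
 (KT.alt (dw (nat_lit 0x0f15150b1e2509262d2d)) (KT.mem (nat_lit 16) [nat_lit 8] (SE.lev (nat_lit 3)))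
 (KT.alt (dw (nat_lit 0x1115130b2b090f2c0d)) (KT.mem (nat_lit 16) [nat_lit 10] (SE.lev (nat_lit 3)))
 (KT.alt (dw (nat_lit 0x0916131324281f070f2129)) (KT.mem (nat_lit 16) [nat_lit 16] (SE.lev (nat_lit 3)))
 (KT.alt (dw (nat_lit 0x2f11151328191f21270b)) (KT.mem (nat_lit 16) [nat_lit 8] (SE.lev (nat_lit 3)))
 (KT.alt (dw (nat_lit 0x0f15152f091e2507262f)) (KT.mem (nat_lit 16) [nat_lit 2] (SE.lev (nat_lit 3)))
 (KT.alt (dw (nat_lit 0x1115133205010b0d2332292d)) (KT.mem (nat_lit 16) [nat_lit 16] (SE.lev (nat_lit 3)))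
 (KT.alt (dw (nat_lit 0x2c131c1f272f2107273215)) (KT.mem (nat_lit 16) [nat_lit 2] (SE.lev (nat_lit 3)))
 (KT.alt (dw (nat_lit 0x1115130b051e2e2e051e)) (KT.mem (nat_lit 16) [nat_lit 2] (SE.lev (nat_lit 3)))
 (KT.alt (dw (nat_lit 0x1c0f13132e211f23230d2729)) (KT.mem (nat_lit 16) [nat_lit 2] (SE.lev (nat_lit 3)))
 (KT.alt (dw (nat_lit 0x1115130b2e2e0d)) (KT.mem (nat_lit 16) [nat_lit 16] (SE.lev (nat_lit 3)))
 (KT.alt (dw (nat_lit 0x1115132d1b192711280f1e)) (KT.mem (nat_lit 16) [nat_lit 16] (SE.lev (nat_lit 3)))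
 (KT.alt (dw (nat_lit 0x2f111513321d05310b21)) (KT.mem (nat_lit 16) [nat_lit 2] (SE.lev (nat_lit 3)))
 (KT.alt (dw (nat_lit 0x1115132f1c0b280d2529312d)) (KT.mem (nat_lit 16) [nat_lit 10] (SE.lev (nat_lit 3)))
 (KT.alt (dw (nat_lit 0x07112903130b291907322532)) (KT.mem (nat_lit 16) [nat_lit 16] (SE.lev (nat_lit 3)))
 (KT.alt (dw (nat_lit 0x1115130b2405232b090f2c)) (KT.mem (nat_lit 16) [nat_lit 16] (SE.lev (nat_lit 3)))
 t257))))))))))))))))))))))))))))))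
noncomputable def t259 : KT := KT.alt (dw (nat_lit 0x1115130b)) (KT.mem (nat_lit 16) [nat_lit 8] (SE.lev (nat_lit 3)))
 (KT.alt (dw (nat_lit 0x1115130b240527210d32252f2e)) (KT.mem (nat_lit 16) [nat_lit 10] (SE.lev (nat_lit 3)))
 (KT.alt (dw (nat_lit 0x1115130b1c1d310d312f1d)) (KT.mem (nat_lit 16) [nat_lit 16] (SE.lev (nat_lit 3)))
 (KT.alt (dw (nat_lit 0x2f1115132f091d05)) (KT.mem (nat_lit 16) [nat_lit 8] (SE.lev (nat_lit 3)))
 (KT.alt (dw (nat_lit 0x1115131c2720092b072f272732)) (KT.mem (nat_lit 16) [nat_lit 2] (SE.lev (nat_lit 3)))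
 (KT.alt (dw (nat_lit 0x1115132f2427252d11)) (KT.mem (nat_lit 16) [nat_lit 16] (SE.lev (nat_lit 3)))
 (KT.alt (dw (nat_lit 0x0f15151b2e052d210b)) (KT.mem (nat_lit 16) [nat_lit 2] (SE.lev (nat_lit 3)))
 (KT.alt (dw (nat_lit 0x1115130b1d1c210d2f17)) (KT.mem (nat_lit 16) [nat_lit 16] (SE.lev (nat_lit 3)))
 (KT.alt (dw (nat_lit 0x1115131b201d113111322831)) (KT.mem (nat_lit 16) [nat_lit 16] (SE.lev (nat_lit 3)))
 (KT.alt (dw (nat_lit 0x1115130b2e2e051b)) (KT.mem (nat_lit 16) [nat_lit 16] (SE.lev (nat_lit 3)))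
 (KT.alt (dw (nat_lit 0x1d0f13132e0d2307262831)) (KT.mem (nat_lit 16) [nat_lit 2] (SE.lev (nat_lit 3)))
 (KT.alt (dw (nat_lit 0x0b141425291e012824092d26)) (KT.mem (nat_lit 16) [nat_lit 16] (SE.lev (nat_lit 3)))
 (KT.alt (dw (nat_lit 0x1115130f212b272f2d2d07)) (KT.mem (nat_lit 16) [nat_lit 16] (SE.lev (nat_lit 3)))
 (KT.alt (dw (nat_lit 0x1115130b2405230d2b090f2c)) (KT.mem (nat_lit 16) [nat_lit 16] (SE.lev (nat_lit 3)))
 (KT.alt (dw (nat_lit 0x1c0f1313251d012821092c26)) (KT.mem (nat_lit 16) [nat_lit 10] (SE.lev (nat_lit 3)))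
 (KT.alt (dw (nat_lit 0x1115130b2e2e051e)) (KT.mem (nat_lit 16) [nat_lit 2] (SE.lev (nat_lit 3)))
 (KT.alt (dw (nat_lit 0x141913032823192e21092727)) (KT.mem (nat_lit 16) [nat_lit 8] (SE.lev (nat_lit 3)))
 (KT.alt (dw (nat_lit 0x1115130b1d2f1e)) (KT.mem (nat_lit 16) [nat_lit 16] (SE.lev (nat_lit 3)))
 (KT.alt (dw (nat_lit 0x050f13132f1c0b280d2c25)) (KT.mem (nat_lit 16) [nat_lit 2] (SE.lev (nat_lit 3)))
 (KT.alt (dw (nat_lit 0x1115130b240527112823)) (KT.mem (nat_lit 16) [nat_lit 2] (SE.lev (nat_lit 3)))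
 (KT.alt (dw (nat_lit 0x0f151527241f2b23292e2632)) (KT.mem (nat_lit 16) [nat_lit 16] (SE.lev (nat_lit 3)))
 (KT.alt (dw (nat_lit 0x142e19073121310f2f2d2d13)) (KT.mem (nat_lit 16) [nat_lit 16] (SE.lev (nat_lit 3)))
 (KT.alt (dw (nat_lit 0x1115132f091d050d)) (KT.mem (nat_lit 16) [nat_lit 16] (SE.lev (nat_lit 3)))
 (KT.alt (dw (nat_lit 0x1115130b2405230d)) (KT.mem (nat_lit 16) [nat_lit 16] (SE.lev (nat_lit 3)))
 (KT.alt (dw (nat_lit 0x1115130b1d0d2f1e)) (KT.mem (nat_lit 16) [nat_lit 2] (SE.lev (nat_lit 3)))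
 (KT.alt (dw (nat_lit 0x1d0f131331232c072f2b32)) (KT.mem (nat_lit 16) [nat_lit 2] (SE.lev (nat_lit 3)))
 (KT.alt (dw (nat_lit 0x0f151523092024320d0f2c32)) (KT.mem (nat_lit 16) [nat_lit 2] (SE.lev (nat_lit 3)))
 (KT.alt (dw (nat_lit 0x111513251c1f092b07253228)) (KT.mem (nat_lit 16) [nat_lit 16] (SE.lev (nat_lit 3)))
 (KT.alt (dw (nat_lit 0x1115131d2d1c262607320f)) (KT.mem (nat_lit 16) [nat_lit 2] (SE.lev (nat_lit 3)))
 (KT.alt (dw (nat_lit 0x0111151320251e072f2e)) (KT.mem (nat_lit 16) [nat_lit 8] (SE.lev (nat_lit 3)))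
 (KT.alt (dw (nat_lit 0x0f15150b1e0d)) (KT.mem (nat_lit 16) [nat_lit 2] (SE.lev (nat_lit 3)))
 t258))))))))))))))))))))))))))))))
noncomputable def t260 : KT := KT.alt (dw (nat_lit 0x23161d0503192e192d240d2f)) (KT.mem (nat_lit 16) [nat_lit 2] (SE.lev (nat_lit 3)))
 (KT.alt (dw (nat_lit 0x1d0f13132f0d092d0f2f2e)) (KT.mem (nat_lit 16) [nat_lit 2] (SE.lev (nat_lit 3)))
 (KT.alt (dw (nat_lit 0x111513271c27232d2623)) (KT.mem (nat_lit 16) [nat_lit 10] (SE.lev (nat_lit 3)))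
 (KT.alt (dw (nat_lit 0x1115132f29212c2e2532)) (KT.mem (nat_lit 16) [nat_lit 16] (SE.lev (nat_lit 3)))
 (KT.alt (dw (nat_lit 0x111513271e1f092c212d2b0f32)) (KT.mem (nat_lit 16) [nat_lit 10] (SE.lev (nat_lit 3)))
 (KT.alt (dw (nat_lit 0x1115130b051b)) (KT.mem (nat_lit 16) [nat_lit 8] (SE.lev (nat_lit 3)))
 (KT.alt (dw (nat_lit 0x1115130b2d052e)) (KT.mem (nat_lit 16) [nat_lit 2] (SE.lev (nat_lit 3)))
 (KT.alt (dw (nat_lit 0x1115130b1d0d1b)) (KT.mem (nat_lit 16) [nat_lit 16] (SE.lev (nat_lit 3)))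
 (KT.alt (dw (nat_lit 0x111513202e1f262707252532)) (KT.mem (nat_lit 16) [nat_lit 10] (SE.lev (nat_lit 3)))
 (KT.alt (dw (nat_lit 0x1115130b051e)) (KT.mem (nat_lit 16) [nat_lit 8] (SE.lev (nat_lit 3)))
 (KT.alt (dw (nat_lit 0x1115130b0517051e0d)) (KT.mem (nat_lit 16) [nat_lit 16] (SE.lev (nat_lit 3)))
 (KT.alt (dw (nat_lit 0x1115130b1d052b2509262c)) (KT.mem (nat_lit 16) [nat_lit 8] (SE.lev (nat_lit 3)))
 (KT.alt (dw (nat_lit 0x1115130b2d050f2d212d2d)) (KT.mem (nat_lit 16) [nat_lit 10] (SE.lev (nat_lit 3)))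
 (KT.alt (dw (nat_lit 0x1115130b1d050d2f)) (KT.mem (nat_lit 16) [nat_lit 16] (SE.lev (nat_lit 3)))
 (KT.alt (dw (nat_lit 0x1115130b0d2e2e051e)) (KT.mem (nat_lit 16) [nat_lit 16] (SE.lev (nat_lit 3)))
 (KT.alt (dw (nat_lit 0x1115131d1f1f32242f2e271f)) (KT.mem (nat_lit 16) [nat_lit 16] (SE.lev (nat_lit 3)))
 (KT.alt (dw (nat_lit 0x23161d050311250509210b2c)) (KT.mem (nat_lit 16) [nat_lit 16] (SE.lev (nat_lit 3)))
 (KT.alt (dw (nat_lit 0x0b1414280501213209270f)) (KT.mem (nat_lit 16) [nat_lit 8] (SE.lev (nat_lit 3)))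
 (KT.alt (dw (nat_lit 0x111d1317201c0f28242c2515)) (KT.mem (nat_lit 16) [nat_lit 16] (SE.lev (nat_lit 3)))
 (KT.alt (dw (nat_lit 0x091613132b1901312b072c32)) (KT.mem (nat_lit 16) [nat_lit 10] (SE.lev (nat_lit 3)))
 (KT.alt (dw (nat_lit 0x111513290f1c0d232c25250b)) (KT.mem (nat_lit 16) [nat_lit 16] (SE.lev (nat_lit 3)))
 (KT.alt (dw (nat_lit 0x111513290b192621242705)) (KT.mem (nat_lit 16) [nat_lit 16] (SE.lev (nat_lit 3)))
 (KT.alt (dw (nat_lit 0x0f151521252024110b28290f)) (KT.mem (nat_lit 16) [nat_lit 10] (SE.lev (nat_lit 3)))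
 (KT.alt (dw (nat_lit 0x0111151301212d112d250f2f2d)) (KT.mem (nat_lit 16) [nat_lit 16] (SE.lev (nat_lit 3)))
 (KT.alt (dw (nat_lit 0x111513230705090721282f25)) (KT.mem (nat_lit 16) [nat_lit 10] (SE.lev (nat_lit 3)))
 (KT.alt (dw (nat_lit 0x0f15150b1e2509262f)) (KT.mem (nat_lit 16) [nat_lit 16] (SE.lev (nat_lit 3)))
 (KT.alt (dw (nat_lit 0x0b14141f2b052f210b2b28312d)) (KT.mem (nat_lit 16) [nat_lit 16] (SE.lev (nat_lit 3)))
 (KT.alt (dw (nat_lit 0x111513252505232831262f)) (KT.mem (nat_lit 16) [nat_lit 16] (SE.lev (nat_lit 3)))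
 (KT.alt (dw (nat_lit 0x1115130b051e05172e2e)) (KT.mem (nat_lit 16) [nat_lit 10] (SE.lev (nat_lit 3)))
 (KT.alt (dw (nat_lit 0x2511141903311f1f26242d26)) (KT.mem (nat_lit 16) [nat_lit 16] (SE.lev (nat_lit 3)))
 (KT.alt (dw (nat_lit 0x0f15150b1e0d250926)) (KT.mem (nat_lit 16) [nat_lit 16] (SE.lev (nat_lit 3)))
 t259))))))))))))))))))))))))))))))
noncomputable def t261 : KT := KT.alt (dw (nat_lit 0x1115132431)) (KT.neq (nat_lit 7) [nat_lit 18] (nat_lit 7) [])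
 (KT.alt (dw (nat_lit 0x1115132c23)) (KT.neq (nat_lit 7) [nat_lit 18] (nat_lit 7) [])
 (KT.alt (dw (nat_lit 0x111513112c)) (KT.neq (nat_lit 7) [nat_lit 18] (nat_lit 7) [])
 (KT.alt (dw (nat_lit 0x1115130b1c)) (KT.neq (nat_lit 7) [nat_lit 18] (nat_lit 7) [])
 (KT.alt (dw (nat_lit 0x111513200f)) (KT.neq (nat_lit 7) [nat_lit 18] (nat_lit 7) [])
 (KT.alt (dw (nat_lit 0x1115130d2709)) (KT.neq (nat_lit 7) [nat_lit 2] (nat_lit 7) [])
 (KT.alt (dw (nat_lit 0x1115132e1d)) (KT.neq (nat_lit 7) [nat_lit 18] (nat_lit 7) [])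
 (KT.alt (dw (nat_lit 0x1115132f24)) (KT.neq (nat_lit 7) [nat_lit 18] (nat_lit 7) [])
 (KT.alt (dw (nat_lit 0x1115133123)) (KT.neq (nat_lit 7) [nat_lit 18] (nat_lit 7) [])
 (KT.alt (dw (nat_lit 0x1115131e28)) (KT.neq (nat_lit 7) [nat_lit 18] (nat_lit 7) [])
 (KT.alt (dw (nat_lit 0x1115132f1d)) (KT.neq (nat_lit 7) [nat_lit 18] (nat_lit 7) [])
 (KT.alt (dw (nat_lit 0x1115132d07)) (KT.neq (nat_lit 7) [nat_lit 0] (nat_lit 7) [])
 (KT.alt (dw (nat_lit 0x111513092d07)) (KT.neq (nat_lit 7) [nat_lit 0] (nat_lit 7) [])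
 (KT.alt (dw (nat_lit 0x1115131f2b05)) (KT.neq (nat_lit 7) [nat_lit 10] (nat_lit 7) [])
 (KT.alt (dw (nat_lit 0x1115131c1f05)) (KT.neq (nat_lit 7) [nat_lit 18] (nat_lit 7) [])
 (KT.alt (dw (nat_lit 0x1115132626)) (KT.neq (nat_lit 7) [nat_lit 18] (nat_lit 7) [])
 (KT.alt (dw (nat_lit 0x11151325)) (KT.neq (nat_lit 7) [nat_lit 18] (nat_lit 7) [])
 (KT.alt (dw (nat_lit 0x11151305270b)) (KT.neq (nat_lit 7) [nat_lit 2] (nat_lit 7) [])
 (KT.alt (dw (nat_lit 0x1115131e2e07)) (KT.neq (nat_lit 7) [nat_lit 2] (nat_lit 7) [])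
 (KT.alt (dw (nat_lit 0x1115133225)) (KT.neq (nat_lit 7) [nat_lit 2] (nat_lit 7) [])
 (KT.alt (dw (nat_lit 0x1115132d20)) (KT.neq (nat_lit 7) [nat_lit 10] (nat_lit 7) [])
 (KT.alt (dw (nat_lit 0x1115132329)) (KT.neq (nat_lit 7) [nat_lit 18] (nat_lit 7) [])
 (KT.alt (dw (nat_lit 0x1115131f28)) (KT.neq (nat_lit 7) [nat_lit 18] (nat_lit 7) [])
 (KT.alt (dw (nat_lit 0x111513261d)) (KT.neq (nat_lit 7) [nat_lit 18] (nat_lit 7) [])
 (KT.alt (dw (nat_lit 0x1115132531)) (KT.neq (nat_lit 7) [nat_lit 18] (nat_lit 7) [])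
 (KT.alt (dw (nat_lit 0x1115131c07)) (KT.neq (nat_lit 7) [nat_lit 18] (nat_lit 7) [])
 (KT.nil (SE.lev (nat_lit 1)) [nat_lit 0, nat_lit 1] [dw (nat_lit 0x01)] []))))))))))))))))))))))))))
noncomputable def t262 : KT := KT.alt (dw (nat_lit 0x1115132619)) (KT.neq (nat_lit 7) [nat_lit 18] (nat_lit 7) [])
 (KT.alt (dw (nat_lit 0x1115130f29)) (KT.neq (nat_lit 7) [nat_lit 18] (nat_lit 7) [])
 (KT.alt (dw (nat_lit 0x1115130f1b0b)) (KT.neq (nat_lit 7) [nat_lit 10] (nat_lit 7) [])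
 (KT.alt (dw (nat_lit 0x1115132031)) (KT.neq (nat_lit 7) [nat_lit 2] (nat_lit 7) [])
 (KT.alt (dw (nat_lit 0x1115131c)) (KT.neq (nat_lit 7) [nat_lit 18] (nat_lit 7) [])
 (KT.alt (dw (nat_lit 0x1115131127)) (KT.neq (nat_lit 7) [nat_lit 2] (nat_lit 7) [])
 (KT.alt (dw (nat_lit 0x1115132609)) (KT.neq (nat_lit 7) [nat_lit 18] (nat_lit 7) [])
 (KT.alt (dw (nat_lit 0x1115132519)) (KT.neq (nat_lit 7) [nat_lit 18] (nat_lit 7) [])
 (KT.alt (dw (nat_lit 0x1115132b0b)) (KT.neq (nat_lit 7) [nat_lit 2] (nat_lit 7) [])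
 (KT.alt (dw (nat_lit 0x111513111f)) (KT.neq (nat_lit 7) [nat_lit 2] (nat_lit 7) [])
 (KT.alt (dw (nat_lit 0x1115130f2307)) (KT.neq (nat_lit 7) [nat_lit 18] (nat_lit 7) [])
 (KT.alt (dw (nat_lit 0x111513241707)) (KT.neq (nat_lit 7) [nat_lit 2] (nat_lit 7) [])
 (KT.alt (dw (nat_lit 0x1115131e31)) (KT.neq (nat_lit 7) [nat_lit 18] (nat_lit 7) [])
 (KT.alt (dw (nat_lit 0x1115132d09)) (KT.neq (nat_lit 7) [nat_lit 18] (nat_lit 7) [])
 (KT.alt (dw (nat_lit 0x111513071907)) (KT.neq (nat_lit 7) [nat_lit 18] (nat_lit 7) [])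
 (KT.alt (dw (nat_lit 0x111513292e07)) (KT.neq (nat_lit 7) [nat_lit 18] (nat_lit 7) [])
 (KT.alt (dw (nat_lit 0x1115132e20)) (KT.neq (nat_lit 7) [nat_lit 0] (nat_lit 7) [])
 (KT.alt (dw (nat_lit 0x1115131f)) (KT.neq (nat_lit 7) [nat_lit 18] (nat_lit 7) [])
 (KT.alt (dw (nat_lit 0x1115132b1b0b)) (KT.neq (nat_lit 7) [nat_lit 18] (nat_lit 7) [])
 (KT.alt (dw (nat_lit 0x1115130f1b07)) (KT.neq (nat_lit 7) [nat_lit 2] (nat_lit 7) [])
 (KT.alt (dw (nat_lit 0x11151305)) (KT.neq (nat_lit 7) [nat_lit 2] (nat_lit 7) [])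
 (KT.alt (dw (nat_lit 0x1115131b2c)) (KT.neq (nat_lit 7) [nat_lit 18] (nat_lit 7) [])
 (KT.alt (dw (nat_lit 0x1115131d1f05)) (KT.neq (nat_lit 7) [nat_lit 2] (nat_lit 7) [])
 (KT.alt (dw (nat_lit 0x111513092007)) (KT.neq (nat_lit 7) [nat_lit 2] (nat_lit 7) [])
 (KT.alt (dw (nat_lit 0x1115132d1c07)) (KT.neq (nat_lit 7) [nat_lit 18] (nat_lit 7) [])
 (KT.alt (dw (nat_lit 0x1115132907)) (KT.neq (nat_lit 7) [nat_lit 18] (nat_lit 7) [])
 (KT.alt (dw (nat_lit 0x1115132420)) (KT.neq (nat_lit 7) [nat_lit 10] (nat_lit 7) [])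
 (KT.alt (dw (nat_lit 0x1115131c11)) (KT.neq (nat_lit 7) [nat_lit 12] (nat_lit 7) [])
 (KT.alt (dw (nat_lit 0x111513240b)) (KT.neq (nat_lit 7) [nat_lit 18] (nat_lit 7) [])
 (KT.alt (dw (nat_lit 0x111513230f)) (KT.neq (nat_lit 7) [nat_lit 18] (nat_lit 7) [])
 (KT.alt (dw (nat_lit 0x1115132b09)) (KT.neq (nat_lit 7) [nat_lit 18] (nat_lit 7) [])
 t261))))))))))))))))))))))))))))))
noncomputable def t263 : KT := KT.alt (dw (nat_lit 0x111513252c07)) (KT.neq (nat_lit 7) [nat_lit 2] (nat_lit 7) [])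
 (KT.alt (dw (nat_lit 0x1115132c0f05)) (KT.neq (nat_lit 7) [nat_lit 18] (nat_lit 7) [])
 (KT.alt (dw (nat_lit 0x1115132327)) (KT.neq (nat_lit 7) [nat_lit 18] (nat_lit 7) [])
 (KT.alt (dw (nat_lit 0x111513212c)) (KT.neq (nat_lit 7) [nat_lit 18] (nat_lit 7) [])
 (KT.alt (dw (nat_lit 0x1115130b1b09)) (KT.neq (nat_lit 7) [nat_lit 18] (nat_lit 7) [])
 (KT.alt (dw (nat_lit 0x1115131f25)) (KT.neq (nat_lit 7) [nat_lit 18] (nat_lit 7) [])
 (KT.alt (dw (nat_lit 0x111513111c)) (KT.neq (nat_lit 7) [nat_lit 2] (nat_lit 7) [])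
 (KT.alt (dw (nat_lit 0x111513210b)) (KT.neq (nat_lit 7) [nat_lit 18] (nat_lit 7) [])
 (KT.alt (dw (nat_lit 0x1115133107)) (KT.neq (nat_lit 7) [nat_lit 18] (nat_lit 7) [])
 (KT.alt (dw (nat_lit 0x11151309)) (KT.neq (nat_lit 7) [nat_lit 18] (nat_lit 7) [])
 (KT.alt (dw (nat_lit 0x1115131b1f)) (KT.neq (nat_lit 7) [nat_lit 18] (nat_lit 7) [])
 (KT.alt (dw (nat_lit 0x1115131924)) (KT.neq (nat_lit 7) [nat_lit 2] (nat_lit 7) [])
 (KT.alt (dw (nat_lit 0x111513240f)) (KT.neq (nat_lit 7) [nat_lit 10] (nat_lit 7) [])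
 (KT.alt (dw (nat_lit 0x111513241107)) (KT.neq (nat_lit 7) [nat_lit 2] (nat_lit 7) [])
 (KT.alt (dw (nat_lit 0x111513212911)) (KT.neq (nat_lit 7) [nat_lit 2] (nat_lit 7) [])
 (KT.alt (dw (nat_lit 0x111513210f)) (KT.neq (nat_lit 7) [nat_lit 18] (nat_lit 7) [])
 (KT.alt (dw (nat_lit 0x1115130b1c0b)) (KT.neq (nat_lit 7) [nat_lit 12] (nat_lit 7) [])
 (KT.alt (dw (nat_lit 0x1115131c0f)) (KT.neq (nat_lit 7) [nat_lit 2] (nat_lit 7) [])
 (KT.alt (dw (nat_lit 0x1115132020)) (KT.neq (nat_lit 7) [nat_lit 18] (nat_lit 7) [])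
 (KT.alt (dw (nat_lit 0x1115131c31)) (KT.neq (nat_lit 7) [nat_lit 2] (nat_lit 7) [])
 (KT.alt (dw (nat_lit 0x1115131d)) (KT.neq (nat_lit 7) [nat_lit 18] (nat_lit 7) [])
 (KT.alt (dw (nat_lit 0x1115131f1c)) (KT.neq (nat_lit 7) [nat_lit 0] (nat_lit 7) [])
 (KT.alt (dw (nat_lit 0x1115132111)) (KT.neq (nat_lit 7) [nat_lit 18] (nat_lit 7) [])
 (KT.alt (dw (nat_lit 0x1115131f29)) (KT.neq (nat_lit 7) [nat_lit 18] (nat_lit 7) [])
 (KT.alt (dw (nat_lit 0x1115131d25)) (KT.neq (nat_lit 7) [nat_lit 10] (nat_lit 7) [])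
 (KT.alt (dw (nat_lit 0x1115130d27)) (KT.neq (nat_lit 7) [nat_lit 18] (nat_lit 7) [])
 (KT.alt (dw (nat_lit 0x1115132419)) (KT.neq (nat_lit 7) [nat_lit 0] (nat_lit 7) [])
 (KT.alt (dw (nat_lit 0x111513202c0f)) (KT.neq (nat_lit 7) [nat_lit 2] (nat_lit 7) [])
 (KT.alt (dw (nat_lit 0x1115132027)) (KT.neq (nat_lit 7) [nat_lit 18] (nat_lit 7) [])
 (KT.alt (dw (nat_lit 0x1115130b1f)) (KT.neq (nat_lit 7) [nat_lit 2] (nat_lit 7) [])
 (KT.alt (dw (nat_lit 0x1115131c2c07)) (KT.neq (nat_lit 7) [nat_lit 4] (nat_lit 7) [])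
 t262))))))))))))))))))))))))))))))
noncomputable def t264 : KT := KT.alt (dw (nat_lit 0x1115130905)) (KT.neq (nat_lit 7) [nat_lit 8] (nat_lit 7) [])
 (KT.alt (dw (nat_lit 0x11151319)) (KT.neq (nat_lit 7) [nat_lit 18] (nat_lit 7) [])
 (KT.alt (dw (nat_lit 0x11151329)) (KT.neq (nat_lit 7) [nat_lit 18] (nat_lit 7) [])
 (KT.alt (dw (nat_lit 0x111513281b0b)) (KT.neq (nat_lit 7) [nat_lit 8] (nat_lit 7) [])
 (KT.alt (dw (nat_lit 0x1115131b2c07)) (KT.neq (nat_lit 7) [nat_lit 2] (nat_lit 7) [])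
 (KT.alt (dw (nat_lit 0x1115131e0b05)) (KT.neq (nat_lit 7) [nat_lit 18] (nat_lit 7) [])
 (KT.alt (dw (nat_lit 0x1115130719)) (KT.neq (nat_lit 7) [nat_lit 18] (nat_lit 7) [])
 (KT.alt (dw (nat_lit 0x1115132719)) (KT.neq (nat_lit 7) [nat_lit 2] (nat_lit 7) [])
 (KT.alt (dw (nat_lit 0x1115131c24)) (KT.neq (nat_lit 7) [nat_lit 8] (nat_lit 7) [])
 (KT.alt (dw (nat_lit 0x1115132d26)) (KT.neq (nat_lit 7) [nat_lit 18] (nat_lit 7) [])
 (KT.alt (dw (nat_lit 0x1115131b31)) (KT.neq (nat_lit 7) [nat_lit 18] (nat_lit 7) [])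
 (KT.alt (dw (nat_lit 0x11151323270f)) (KT.neq (nat_lit 7) [nat_lit 12] (nat_lit 7) [])
 (KT.alt (dw (nat_lit 0x111513291c)) (KT.neq (nat_lit 7) [nat_lit 18] (nat_lit 7) [])
 (KT.alt (dw (nat_lit 0x111513231b0b)) (KT.neq (nat_lit 7) [nat_lit 18] (nat_lit 7) [])
 (KT.alt (dw (nat_lit 0x1115132b1909)) (KT.neq (nat_lit 7) [nat_lit 18] (nat_lit 7) [])
 (KT.alt (dw (nat_lit 0x111513232d)) (KT.neq (nat_lit 7) [nat_lit 18] (nat_lit 7) [])
 (KT.alt (dw (nat_lit 0x111513202c09)) (KT.neq (nat_lit 7) [nat_lit 8] (nat_lit 7) [])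
 (KT.alt (dw (nat_lit 0x1115130f)) (KT.neq (nat_lit 7) [nat_lit 2] (nat_lit 7) [])
 (KT.alt (dw (nat_lit 0x1115133226)) (KT.neq (nat_lit 7) [nat_lit 18] (nat_lit 7) [])
 (KT.alt (dw (nat_lit 0x1115132c)) (KT.neq (nat_lit 7) [nat_lit 18] (nat_lit 7) [])
 (KT.alt (dw (nat_lit 0x1115131e20)) (KT.neq (nat_lit 7) [nat_lit 18] (nat_lit 7) [])
 (KT.alt (dw (nat_lit 0x1115132e240b)) (KT.neq (nat_lit 7) [nat_lit 2] (nat_lit 7) [])
 (KT.alt (dw (nat_lit 0x111513231105)) (KT.neq (nat_lit 7) [nat_lit 18] (nat_lit 7) [])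
 (KT.alt (dw (nat_lit 0x111513312b)) (KT.neq (nat_lit 7) [nat_lit 18] (nat_lit 7) [])
 (KT.alt (dw (nat_lit 0x111513242b)) (KT.neq (nat_lit 7) [nat_lit 2] (nat_lit 7) [])
 (KT.alt (dw (nat_lit 0x1115133119)) (KT.neq (nat_lit 7) [nat_lit 18] (nat_lit 7) [])
 (KT.alt (dw (nat_lit 0x1115132d2028)) (KT.neq (nat_lit 7) [nat_lit 0] (nat_lit 7) [])
 (KT.alt (dw (nat_lit 0x1115132d1f)) (KT.neq (nat_lit 7) [nat_lit 18] (nat_lit 7) [])
 (KT.alt (dw (nat_lit 0x1115131731)) (KT.neq (nat_lit 7) [nat_lit 18] (nat_lit 7) [])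
 (KT.alt (dw (nat_lit 0x1115130923)) (KT.neq (nat_lit 7) [nat_lit 18] (nat_lit 7) [])
 (KT.alt (dw (nat_lit 0x1115131107)) (KT.neq (nat_lit 7) [nat_lit 18] (nat_lit 7) [])
 t263))))))))))))))))))))))))))))))
noncomputable def t265 : KT := KT.alt (dw (nat_lit 0x1115132923)) (KT.neq (nat_lit 7) [nat_lit 18] (nat_lit 7) [])
 (KT.alt (dw (nat_lit 0x1115131923)) (KT.neq (nat_lit 7) [nat_lit 18] (nat_lit 7) [])
 (KT.alt (dw (nat_lit 0x1115132407)) (KT.neq (nat_lit 7) [nat_lit 2] (nat_lit 7) [])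
 (KT.alt (dw (nat_lit 0x1115132019)) (KT.neq (nat_lit 7) [nat_lit 10] (nat_lit 7) [])
 (KT.alt (dw (nat_lit 0x1115132f29)) (KT.neq (nat_lit 7) [nat_lit 10] (nat_lit 7) [])
 (KT.alt (dw (nat_lit 0x1115130b07)) (KT.neq (nat_lit 7) [nat_lit 18] (nat_lit 7) [])
 (KT.alt (dw (nat_lit 0x1115131126)) (KT.neq (nat_lit 7) [nat_lit 18] (nat_lit 7) [])
 (KT.alt (dw (nat_lit 0x111513241105)) (KT.neq (nat_lit 7) [nat_lit 18] (nat_lit 7) [])
 (KT.alt (dw (nat_lit 0x111513)) (KT.neq (nat_lit 7) [nat_lit 18] (nat_lit 7) [])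
 (KT.alt (dw (nat_lit 0x111513251d)) (KT.neq (nat_lit 7) [nat_lit 18] (nat_lit 7) [])
 (KT.alt (dw (nat_lit 0x1115132323)) (KT.neq (nat_lit 7) [nat_lit 12] (nat_lit 7) [])
 (KT.alt (dw (nat_lit 0x11151326)) (KT.neq (nat_lit 7) [nat_lit 18] (nat_lit 7) [])
 (KT.alt (dw (nat_lit 0x111513200b07)) (KT.neq (nat_lit 7) [nat_lit 2] (nat_lit 7) [])
 (KT.alt (dw (nat_lit 0x1115132e26)) (KT.neq (nat_lit 7) [nat_lit 2] (nat_lit 7) [])
 (KT.alt (dw (nat_lit 0x1115132b2405)) (KT.neq (nat_lit 7) [nat_lit 18] (nat_lit 7) [])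
 (KT.alt (dw (nat_lit 0x1115130f31)) (KT.neq (nat_lit 7) [nat_lit 18] (nat_lit 7) [])
 (KT.alt (dw (nat_lit 0x1115132f2b)) (KT.neq (nat_lit 7) [nat_lit 10] (nat_lit 7) [])
 (KT.alt (dw (nat_lit 0x1115131128)) (KT.neq (nat_lit 7) [nat_lit 18] (nat_lit 7) [])
 (KT.alt (dw (nat_lit 0x111513282405)) (KT.neq (nat_lit 7) [nat_lit 18] (nat_lit 7) [])
 (KT.alt (dw (nat_lit 0x1115131f2b)) (KT.neq (nat_lit 7) [nat_lit 18] (nat_lit 7) [])
 (KT.alt (dw (nat_lit 0x1115130b19)) (KT.neq (nat_lit 7) [nat_lit 12] (nat_lit 7) [])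
 (KT.alt (dw (nat_lit 0x1115130f2007)) (KT.neq (nat_lit 7) [nat_lit 18] (nat_lit 7) [])
 (KT.alt (dw (nat_lit 0x111513212d)) (KT.neq (nat_lit 7) [nat_lit 10] (nat_lit 7) [])
 (KT.alt (dw (nat_lit 0x111513290f)) (KT.neq (nat_lit 7) [nat_lit 18] (nat_lit 7) [])
 (KT.alt (dw (nat_lit 0x1115132007)) (KT.neq (nat_lit 7) [nat_lit 8] (nat_lit 7) [])
 (KT.alt (dw (nat_lit 0x111513291b11)) (KT.neq (nat_lit 7) [nat_lit 18] (nat_lit 7) [])
 (KT.alt (dw (nat_lit 0x1115132c20)) (KT.neq (nat_lit 7) [nat_lit 18] (nat_lit 7) [])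
 (KT.alt (dw (nat_lit 0x111513241c07)) (KT.neq (nat_lit 7) [nat_lit 10] (nat_lit 7) [])
 (KT.alt (dw (nat_lit 0x11151320)) (KT.neq (nat_lit 7) [nat_lit 8] (nat_lit 7) [])
 (KT.alt (dw (nat_lit 0x1115130d2507)) (KT.neq (nat_lit 7) [nat_lit 8] (nat_lit 7) [])
 (KT.alt (dw (nat_lit 0x1115131c2c)) (KT.neq (nat_lit 7) [nat_lit 18] (nat_lit 7) [])
 t264))))))))))))))))))))))))))))))
noncomputable def t266 : KT := KT.alt (dw (nat_lit 0x1115131926)) (KT.neq (nat_lit 7) [nat_lit 2] (nat_lit 7) [])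
 (KT.alt (dw (nat_lit 0x111513261b07)) (KT.neq (nat_lit 7) [nat_lit 18] (nat_lit 7) [])
 (KT.alt (dw (nat_lit 0x1115132319)) (KT.neq (nat_lit 7) [nat_lit 2] (nat_lit 7) [])
 (KT.alt (dw (nat_lit 0x1115132f26)) (KT.neq (nat_lit 7) [nat_lit 18] (nat_lit 7) [])
 (KT.alt (dw (nat_lit 0x1115131b28)) (KT.neq (nat_lit 7) [nat_lit 4] (nat_lit 7) [])
 (KT.alt (dw (nat_lit 0x1115130d2c)) (KT.neq (nat_lit 7) [nat_lit 18] (nat_lit 7) [])
 (KT.alt (dw (nat_lit 0x1115132e05)) (KT.neq (nat_lit 7) [nat_lit 10] (nat_lit 7) [])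
 (KT.alt (dw (nat_lit 0x111513202d05)) (KT.neq (nat_lit 7) [nat_lit 8] (nat_lit 7) [])
 (KT.alt (dw (nat_lit 0x1115133229)) (KT.neq (nat_lit 7) [nat_lit 18] (nat_lit 7) [])
 (KT.alt (dw (nat_lit 0x1115130f1c)) (KT.neq (nat_lit 7) [nat_lit 10] (nat_lit 7) [])
 (KT.alt (dw (nat_lit 0x111513281c11)) (KT.neq (nat_lit 7) [nat_lit 18] (nat_lit 7) [])
 (KT.alt (dw (nat_lit 0x1115131f3107)) (KT.neq (nat_lit 7) [nat_lit 0] (nat_lit 7) [])
 (KT.alt (dw (nat_lit 0x1115130d1f05)) (KT.neq (nat_lit 7) [nat_lit 18] (nat_lit 7) [])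
 (KT.alt (dw (nat_lit 0x1115133111)) (KT.neq (nat_lit 7) [nat_lit 18] (nat_lit 7) [])
 (KT.alt (dw (nat_lit 0x11151323)) (KT.neq (nat_lit 7) [nat_lit 18] (nat_lit 7) [])
 (KT.alt (dw (nat_lit 0x1115132331)) (KT.neq (nat_lit 7) [nat_lit 8] (nat_lit 7) [])
 (KT.alt (dw (nat_lit 0x111513291f)) (KT.neq (nat_lit 7) [nat_lit 2] (nat_lit 7) [])
 (KT.alt (dw (nat_lit 0x111513211d)) (KT.neq (nat_lit 7) [nat_lit 18] (nat_lit 7) [])
 (KT.alt (dw (nat_lit 0x111513281c)) (KT.neq (nat_lit 7) [nat_lit 18] (nat_lit 7) [])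
 (KT.alt (dw (nat_lit 0x1115132d2b)) (KT.neq (nat_lit 7) [nat_lit 18] (nat_lit 7) [])
 (KT.alt (dw (nat_lit 0x1115132811)) (KT.neq (nat_lit 7) [nat_lit 18] (nat_lit 7) [])
 (KT.alt (dw (nat_lit 0x1115132028)) (KT.neq (nat_lit 7) [nat_lit 0] (nat_lit 7) [])
 (KT.alt (dw (nat_lit 0x1115130b1b07)) (KT.neq (nat_lit 7) [nat_lit 18] (nat_lit 7) [])
 (KT.alt (dw (nat_lit 0x1115131f2307)) (KT.neq (nat_lit 7) [nat_lit 2] (nat_lit 7) [])
 (KT.alt (dw (nat_lit 0x1115131b0b)) (KT.neq (nat_lit 7) [nat_lit 18] (nat_lit 7) [])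
 (KT.alt (dw (nat_lit 0x1115131f2d)) (KT.neq (nat_lit 7) [nat_lit 18] (nat_lit 7) [])
 (KT.alt (dw (nat_lit 0x111513092e07)) (KT.neq (nat_lit 7) [nat_lit 2] (nat_lit 7) [])
 (KT.alt (dw (nat_lit 0x1115132309)) (KT.neq (nat_lit 7) [nat_lit 18] (nat_lit 7) [])
 (KT.alt (dw (nat_lit 0x1115132d25)) (KT.neq (nat_lit 7) [nat_lit 12] (nat_lit 7) [])
 (KT.alt (dw (nat_lit 0x1115132d05)) (KT.neq (nat_lit 7) [nat_lit 18] (nat_lit 7) [])
 (KT.alt (dw (nat_lit 0x1115131f23)) (KT.neq (nat_lit 7) [nat_lit 18] (nat_lit 7) [])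
 t265))))))))))))))))))))))))))))))
noncomputable def t267 : KT := KT.alt (dw (nat_lit 0x1115131b2007)) (KT.neq (nat_lit 7) [nat_lit 18] (nat_lit 7) [])
 (KT.alt (dw (nat_lit 0x111513251c)) (KT.neq (nat_lit 7) [nat_lit 18] (nat_lit 7) [])
 (KT.alt (dw (nat_lit 0x1115130d2907)) (KT.neq (nat_lit 7) [nat_lit 10] (nat_lit 7) [])
 (KT.alt (dw (nat_lit 0x111513251e09)) (KT.neq (nat_lit 7) [nat_lit 18] (nat_lit 7) [])
 (KT.alt (dw (nat_lit 0x1115132c11)) (KT.neq (nat_lit 7) [nat_lit 2] (nat_lit 7) [])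
 (KT.alt (dw (nat_lit 0x111513192d)) (KT.neq (nat_lit 7) [nat_lit 18] (nat_lit 7) [])
 (KT.alt (dw (nat_lit 0x1115132525)) (KT.neq (nat_lit 7) [nat_lit 0] (nat_lit 7) [])
 (KT.alt (dw (nat_lit 0x111513262e07)) (KT.neq (nat_lit 7) [nat_lit 18] (nat_lit 7) [])
 (KT.alt (dw (nat_lit 0x111513072407)) (KT.neq (nat_lit 7) [nat_lit 18] (nat_lit 7) [])
 (KT.alt (dw (nat_lit 0x1115132d11)) (KT.neq (nat_lit 7) [nat_lit 18] (nat_lit 7) [])
 (KT.alt (dw (nat_lit 0x111513172905)) (KT.neq (nat_lit 7) [nat_lit 12] (nat_lit 7) [])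
 (KT.alt (dw (nat_lit 0x1115132c1f05)) (KT.neq (nat_lit 7) [nat_lit 2] (nat_lit 7) [])
 (KT.alt (dw (nat_lit 0x1115132511)) (KT.neq (nat_lit 7) [nat_lit 2] (nat_lit 7) [])
 (KT.alt (dw (nat_lit 0x111513321c)) (KT.neq (nat_lit 7) [nat_lit 18] (nat_lit 7) [])
 (KT.alt (dw (nat_lit 0x1115132c0905)) (KT.neq (nat_lit 7) [nat_lit 18] (nat_lit 7) [])
 (KT.alt (dw (nat_lit 0x1115130b1d)) (KT.neq (nat_lit 7) [nat_lit 18] (nat_lit 7) [])
 (KT.alt (dw (nat_lit 0x1115132b2609)) (KT.neq (nat_lit 7) [nat_lit 18] (nat_lit 7) [])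
 (KT.alt (dw (nat_lit 0x11151309200b)) (KT.neq (nat_lit 7) [nat_lit 8] (nat_lit 7) [])
 (KT.alt (dw (nat_lit 0x1115131d2c)) (KT.neq (nat_lit 7) [nat_lit 18] (nat_lit 7) [])
 (KT.alt (dw (nat_lit 0x1115131c3205)) (KT.neq (nat_lit 7) [nat_lit 10] (nat_lit 7) [])
 (KT.alt (dw (nat_lit 0x111513291b07)) (KT.neq (nat_lit 7) [nat_lit 18] (nat_lit 7) [])
 (KT.alt (dw (nat_lit 0x1115132029)) (KT.neq (nat_lit 7) [nat_lit 18] (nat_lit 7) [])
 (KT.alt (dw (nat_lit 0x1115132c07)) (KT.neq (nat_lit 7) [nat_lit 2] (nat_lit 7) [])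
 (KT.alt (dw (nat_lit 0x1115132809)) (KT.neq (nat_lit 7) [nat_lit 8] (nat_lit 7) [])
 (KT.alt (dw (nat_lit 0x11151323251d)) (KT.neq (nat_lit 7) [nat_lit 2] (nat_lit 7) [])
 (KT.alt (dw (nat_lit 0x111513292b)) (KT.neq (nat_lit 7) [nat_lit 18] (nat_lit 7) [])
 (KT.alt (dw (nat_lit 0x1115132c2405)) (KT.neq (nat_lit 7) [nat_lit 18] (nat_lit 7) [])
 (KT.alt (dw (nat_lit 0x1115133220)) (KT.neq (nat_lit 7) [nat_lit 18] (nat_lit 7) [])
 (KT.alt (dw (nat_lit 0x1115130728)) (KT.neq (nat_lit 7) [nat_lit 2] (nat_lit 7) [])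
 (KT.alt (dw (nat_lit 0x1115131e2709)) (KT.neq (nat_lit 7) [nat_lit 18] (nat_lit 7) [])
 (KT.alt (dw (nat_lit 0x1115132f2005)) (KT.neq (nat_lit 7) [nat_lit 10] (nat_lit 7) [])
 t266))))))))))))))))))))))))))))))
noncomputable def t268 : KT := KT.alt (dw (nat_lit 0x1115132129)) (KT.neq (nat_lit 7) [nat_lit 10] (nat_lit 7) [])
 (KT.alt (dw (nat_lit 0x1115130524)) (KT.neq (nat_lit 7) [nat_lit 18] (nat_lit 7) [])
 (KT.alt (dw (nat_lit 0x1115131c2005)) (KT.neq (nat_lit 7) [nat_lit 4] (nat_lit 7) [])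
 (KT.alt (dw (nat_lit 0x1115131b2d)) (KT.neq (nat_lit 7) [nat_lit 18] (nat_lit 7) [])
 (KT.alt (dw (nat_lit 0x1115131f2807)) (KT.neq (nat_lit 7) [nat_lit 18] (nat_lit 7) [])
 (KT.alt (dw (nat_lit 0x1115132711)) (KT.neq (nat_lit 7) [nat_lit 0] (nat_lit 7) [])
 (KT.alt (dw (nat_lit 0x1115132c1d)) (KT.neq (nat_lit 7) [nat_lit 18] (nat_lit 7) [])
 (KT.alt (dw (nat_lit 0x111513251905)) (KT.neq (nat_lit 7) [nat_lit 18] (nat_lit 7) [])
 (KT.alt (dw (nat_lit 0x1115132f1907)) (KT.neq (nat_lit 7) [nat_lit 0] (nat_lit 7) [])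
 (KT.alt (dw (nat_lit 0x1115131e29)) (KT.neq (nat_lit 7) [nat_lit 18] (nat_lit 7) [])
 (KT.alt (dw (nat_lit 0x1115132d)) (KT.neq (nat_lit 7) [nat_lit 18] (nat_lit 7) [])
 (KT.alt (dw (nat_lit 0x1115132011)) (KT.neq (nat_lit 7) [nat_lit 18] (nat_lit 7) [])
 (KT.alt (dw (nat_lit 0x111513282107)) (KT.neq (nat_lit 7) [nat_lit 18] (nat_lit 7) [])
 (KT.alt (dw (nat_lit 0x1115132c19)) (KT.neq (nat_lit 7) [nat_lit 18] (nat_lit 7) [])
 (KT.alt (dw (nat_lit 0x111513251907)) (KT.neq (nat_lit 7) [nat_lit 2] (nat_lit 7) [])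
 (KT.alt (dw (nat_lit 0x11151311)) (KT.neq (nat_lit 7) [nat_lit 2] (nat_lit 7) [])
 (KT.alt (dw (nat_lit 0x1115130b2607)) (KT.neq (nat_lit 7) [nat_lit 2] (nat_lit 7) [])
 (KT.alt (dw (nat_lit 0x1115133209)) (KT.neq (nat_lit 7) [nat_lit 2] (nat_lit 7) [])
 (KT.alt (dw (nat_lit 0x111513321105)) (KT.neq (nat_lit 7) [nat_lit 18] (nat_lit 7) [])
 (KT.alt (dw (nat_lit 0x111513071c)) (KT.neq (nat_lit 7) [nat_lit 18] (nat_lit 7) [])
 (KT.alt (dw (nat_lit 0x111513242007)) (KT.neq (nat_lit 7) [nat_lit 18] (nat_lit 7) [])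
 (KT.alt (dw (nat_lit 0x1115131e1c)) (KT.neq (nat_lit 7) [nat_lit 10] (nat_lit 7) [])
 (KT.alt (dw (nat_lit 0x1115130b1c07)) (KT.neq (nat_lit 7) [nat_lit 18] (nat_lit 7) [])
 (KT.alt (dw (nat_lit 0x1115131f0f)) (KT.neq (nat_lit 7) [nat_lit 2] (nat_lit 7) [])
 (KT.alt (dw (nat_lit 0x111513232009)) (KT.neq (nat_lit 7) [nat_lit 18] (nat_lit 7) [])
 (KT.alt (dw (nat_lit 0x1115131c29)) (KT.neq (nat_lit 7) [nat_lit 2] (nat_lit 7) [])
 (KT.alt (dw (nat_lit 0x1115132523)) (KT.neq (nat_lit 7) [nat_lit 2] (nat_lit 7) [])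
 (KT.alt (dw (nat_lit 0x111513231b07)) (KT.neq (nat_lit 7) [nat_lit 4] (nat_lit 7) [])
 (KT.alt (dw (nat_lit 0x111513202c)) (KT.neq (nat_lit 7) [nat_lit 18] (nat_lit 7) [])
 (KT.alt (dw (nat_lit 0x1115132b0f)) (KT.neq (nat_lit 7) [nat_lit 18] (nat_lit 7) [])
 (KT.alt (dw (nat_lit 0x1115133223)) (KT.neq (nat_lit 7) [nat_lit 0] (nat_lit 7) [])
 t267))))))))))))))))))))))))))))))
noncomputable def t269 : KT := KT.alt (dw (nat_lit 0x1115133125)) (KT.neq (nat_lit 7) [nat_lit 18] (nat_lit 7) [])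
 (KT.alt (dw (nat_lit 0x1115131b11)) (KT.neq (nat_lit 7) [nat_lit 2] (nat_lit 7) [])
 (KT.alt (dw (nat_lit 0x111513251107)) (KT.neq (nat_lit 7) [nat_lit 12] (nat_lit 7) [])
 (KT.alt (dw (nat_lit 0x1115132f1f)) (KT.neq (nat_lit 7) [nat_lit 18] (nat_lit 7) [])
 (KT.alt (dw (nat_lit 0x1115132326)) (KT.neq (nat_lit 7) [nat_lit 2] (nat_lit 7) [])
 (KT.alt (dw (nat_lit 0x1115132905)) (KT.neq (nat_lit 7) [nat_lit 2] (nat_lit 7) [])
 (KT.alt (dw (nat_lit 0x111513092d)) (KT.neq (nat_lit 7) [nat_lit 18] (nat_lit 7) [])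
 (KT.alt (dw (nat_lit 0x1115131b07)) (KT.neq (nat_lit 7) [nat_lit 18] (nat_lit 7) [])
 (KT.alt (dw (nat_lit 0x111513261c)) (KT.neq (nat_lit 7) [nat_lit 18] (nat_lit 7) [])
 (KT.alt (dw (nat_lit 0x1115132823)) (KT.neq (nat_lit 7) [nat_lit 8] (nat_lit 7) [])
 (KT.alt (dw (nat_lit 0x1115132825)) (KT.neq (nat_lit 7) [nat_lit 18] (nat_lit 7) [])
 (KT.alt (dw (nat_lit 0x111513231c0b)) (KT.neq (nat_lit 7) [nat_lit 18] (nat_lit 7) [])
 (KT.alt (dw (nat_lit 0x1115132305)) (KT.neq (nat_lit 7) [nat_lit 18] (nat_lit 7) [])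
 (KT.alt (dw (nat_lit 0x1115130f0b05)) (KT.neq (nat_lit 7) [nat_lit 10] (nat_lit 7) [])
 (KT.alt (dw (nat_lit 0x111513282305)) (KT.neq (nat_lit 7) [nat_lit 18] (nat_lit 7) [])
 (KT.alt (dw (nat_lit 0x1115131f07)) (KT.neq (nat_lit 7) [nat_lit 18] (nat_lit 7) [])
 (KT.alt (dw (nat_lit 0x1115132724)) (KT.neq (nat_lit 7) [nat_lit 18] (nat_lit 7) [])
 (KT.alt (dw (nat_lit 0x1115132919)) (KT.neq (nat_lit 7) [nat_lit 18] (nat_lit 7) [])
 (KT.alt (dw (nat_lit 0x111513172e05)) (KT.neq (nat_lit 7) [nat_lit 18] (nat_lit 7) [])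
 (KT.alt (dw (nat_lit 0x111513201c)) (KT.neq (nat_lit 7) [nat_lit 18] (nat_lit 7) [])
 (KT.alt (dw (nat_lit 0x111513252c)) (KT.neq (nat_lit 7) [nat_lit 18] (nat_lit 7) [])
 (KT.alt (dw (nat_lit 0x111513290905)) (KT.neq (nat_lit 7) [nat_lit 8] (nat_lit 7) [])
 (KT.alt (dw (nat_lit 0x111513092d05)) (KT.neq (nat_lit 7) [nat_lit 18] (nat_lit 7) [])
 (KT.alt (dw (nat_lit 0x1115131f2107)) (KT.neq (nat_lit 7) [nat_lit 8] (nat_lit 7) [])
 (KT.alt (dw (nat_lit 0x1115132b1d)) (KT.neq (nat_lit 7) [nat_lit 18] (nat_lit 7) [])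
 (KT.alt (dw (nat_lit 0x111513271105)) (KT.neq (nat_lit 7) [nat_lit 18] (nat_lit 7) [])
 (KT.alt (dw (nat_lit 0x11151328)) (KT.neq (nat_lit 7) [nat_lit 18] (nat_lit 7) [])
 (KT.alt (dw (nat_lit 0x1115132807)) (KT.neq (nat_lit 7) [nat_lit 2] (nat_lit 7) [])
 (KT.alt (dw (nat_lit 0x111513261f)) (KT.neq (nat_lit 7) [nat_lit 12] (nat_lit 7) [])
 (KT.alt (dw (nat_lit 0x111513202e07)) (KT.neq (nat_lit 7) [nat_lit 18] (nat_lit 7) [])
 (KT.alt (dw (nat_lit 0x111513311c)) (KT.neq (nat_lit 7) [nat_lit 18] (nat_lit 7) [])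
 t268))))))))))))))))))))))))))))))
noncomputable def t270 : KT := KT.alt (dw (nat_lit 0x1115131707)) (KT.neq (nat_lit 7) [nat_lit 2] (nat_lit 7) [])
 (KT.alt (dw (nat_lit 0x1115132320)) (KT.neq (nat_lit 7) [nat_lit 18] (nat_lit 7) [])
 (KT.alt (dw (nat_lit 0x1115131b09)) (KT.neq (nat_lit 7) [nat_lit 18] (nat_lit 7) [])
 (KT.alt (dw (nat_lit 0x1115132d29)) (KT.neq (nat_lit 7) [nat_lit 18] (nat_lit 7) [])
 (KT.alt (dw (nat_lit 0x111513190b)) (KT.neq (nat_lit 7) [nat_lit 2] (nat_lit 7) [])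
 (KT.alt (dw (nat_lit 0x1115132911)) (KT.neq (nat_lit 7) [nat_lit 18] (nat_lit 7) [])
 (KT.alt (dw (nat_lit 0x1115132e25)) (KT.neq (nat_lit 7) [nat_lit 18] (nat_lit 7) [])
 (KT.alt (dw (nat_lit 0x1115132c1b0b)) (KT.neq (nat_lit 7) [nat_lit 18] (nat_lit 7) [])
 (KT.alt (dw (nat_lit 0x111513233207)) (KT.neq (nat_lit 7) [nat_lit 18] (nat_lit 7) [])
 (KT.alt (dw (nat_lit 0x1115131b1d)) (KT.neq (nat_lit 7) [nat_lit 18] (nat_lit 7) [])
 (KT.alt (dw (nat_lit 0x1115131d20)) (KT.neq (nat_lit 7) [nat_lit 18] (nat_lit 7) [])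
 (KT.alt (dw (nat_lit 0x1115132b0905)) (KT.neq (nat_lit 7) [nat_lit 18] (nat_lit 7) [])
 (KT.alt (dw (nat_lit 0x1115130d2905)) (KT.neq (nat_lit 7) [nat_lit 18] (nat_lit 7) [])
 (KT.alt (dw (nat_lit 0x1115132307)) (KT.neq (nat_lit 7) [nat_lit 18] (nat_lit 7) [])
 (KT.alt (dw (nat_lit 0x111513171f)) (KT.neq (nat_lit 7) [nat_lit 2] (nat_lit 7) [])
 (KT.alt (dw (nat_lit 0x1115132005)) (KT.neq (nat_lit 7) [nat_lit 18] (nat_lit 7) [])
 (KT.alt (dw (nat_lit 0x111513252305)) (KT.neq (nat_lit 7) [nat_lit 10] (nat_lit 7) [])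
 (KT.alt (dw (nat_lit 0x1115132009)) (KT.neq (nat_lit 7) [nat_lit 2] (nat_lit 7) [])
 (KT.alt (dw (nat_lit 0x1115131124)) (KT.neq (nat_lit 7) [nat_lit 18] (nat_lit 7) [])
 (KT.alt (dw (nat_lit 0x1115132725)) (KT.neq (nat_lit 7) [nat_lit 18] (nat_lit 7) [])
 (KT.alt (dw (nat_lit 0x1115132524)) (KT.neq (nat_lit 7) [nat_lit 18] (nat_lit 7) [])
 (KT.alt (dw (nat_lit 0x1115132d1f05)) (KT.neq (nat_lit 7) [nat_lit 18] (nat_lit 7) [])
 (KT.alt (dw (nat_lit 0x1115132c28)) (KT.neq (nat_lit 7) [nat_lit 10] (nat_lit 7) [])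
 (KT.alt (dw (nat_lit 0x1115132e29)) (KT.neq (nat_lit 7) [nat_lit 18] (nat_lit 7) [])
 (KT.alt (dw (nat_lit 0x1115131c1f)) (KT.neq (nat_lit 7) [nat_lit 18] (nat_lit 7) [])
 (KT.alt (dw (nat_lit 0x1115130731)) (KT.neq (nat_lit 7) [nat_lit 10] (nat_lit 7) [])
 (KT.alt (dw (nat_lit 0x1115132b26)) (KT.neq (nat_lit 7) [nat_lit 2] (nat_lit 7) [])
 (KT.alt (dw (nat_lit 0x111513320f)) (KT.neq (nat_lit 7) [nat_lit 18] (nat_lit 7) [])
 (KT.alt (dw (nat_lit 0x111513212b)) (KT.neq (nat_lit 7) [nat_lit 0] (nat_lit 7) [])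
 (KT.alt (dw (nat_lit 0x111513271f)) (KT.neq (nat_lit 7) [nat_lit 18] (nat_lit 7) [])
 (KT.alt (dw (nat_lit 0x1115131f0b)) (KT.neq (nat_lit 7) [nat_lit 2] (nat_lit 7) [])
 t269))))))))))))))))))))))))))))))
noncomputable def t271 : KT := KT.alt (dw (nat_lit 0x1115131d2507)) (KT.neq (nat_lit 7) [nat_lit 18] (nat_lit 7) [])
 (KT.alt (dw (nat_lit 0x11151324)) (KT.neq (nat_lit 7) [nat_lit 8] (nat_lit 7) [])
 (KT.alt (dw (nat_lit 0x1115132607)) (KT.neq (nat_lit 7) [nat_lit 18] (nat_lit 7) [])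
 (KT.alt (dw (nat_lit 0x111513291905)) (KT.neq (nat_lit 7) [nat_lit 18] (nat_lit 7) [])
 (KT.alt (dw (nat_lit 0x111513091905)) (KT.neq (nat_lit 7) [nat_lit 18] (nat_lit 7) [])
 (KT.alt (dw (nat_lit 0x1115131e23)) (KT.neq (nat_lit 7) [nat_lit 18] (nat_lit 7) [])
 (KT.alt (dw (nat_lit 0x1115130f05)) (KT.neq (nat_lit 7) [nat_lit 18] (nat_lit 7) [])
 (KT.alt (dw (nat_lit 0x1115132d0d0b)) (KT.neq (nat_lit 7) [nat_lit 12] (nat_lit 7) [])
 (KT.alt (dw (nat_lit 0x1115130928)) (KT.neq (nat_lit 7) [nat_lit 18] (nat_lit 7) [])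
 (KT.alt (dw (nat_lit 0x1115132c2e09)) (KT.neq (nat_lit 7) [nat_lit 12] (nat_lit 7) [])
 (KT.alt (dw (nat_lit 0x1115132e07)) (KT.neq (nat_lit 7) [nat_lit 8] (nat_lit 7) [])
 (KT.alt (dw (nat_lit 0x1115132e27)) (KT.neq (nat_lit 7) [nat_lit 18] (nat_lit 7) [])
 (KT.alt (dw (nat_lit 0x111513071f)) (KT.neq (nat_lit 7) [nat_lit 2] (nat_lit 7) [])
 (KT.alt (dw (nat_lit 0x1115132b)) (KT.neq (nat_lit 7) [nat_lit 18] (nat_lit 7) [])
 (KT.alt (dw (nat_lit 0x111513242409)) (KT.neq (nat_lit 7) [nat_lit 2] (nat_lit 7) [])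
 (KT.alt (dw (nat_lit 0x111513231c)) (KT.neq (nat_lit 7) [nat_lit 2] (nat_lit 7) [])
 (KT.alt (dw (nat_lit 0x1115131109)) (KT.neq (nat_lit 7) [nat_lit 10] (nat_lit 7) [])
 (KT.alt (dw (nat_lit 0x111513231d)) (KT.neq (nat_lit 7) [nat_lit 2] (nat_lit 7) [])
 (KT.alt (dw (nat_lit 0x1115130919)) (KT.neq (nat_lit 7) [nat_lit 18] (nat_lit 7) [])
 (KT.alt (dw (nat_lit 0x111513202d)) (KT.neq (nat_lit 7) [nat_lit 2] (nat_lit 7) [])
 (KT.alt (dw (nat_lit 0x1115132e24)) (KT.neq (nat_lit 7) [nat_lit 18] (nat_lit 7) [])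
 (KT.alt (dw (nat_lit 0x1115131b1f19)) (KT.neq (nat_lit 7) [nat_lit 18] (nat_lit 7) [])
 (KT.alt (dw (nat_lit 0x1115131e1f05)) (KT.neq (nat_lit 7) [nat_lit 2] (nat_lit 7) [])
 (KT.alt (dw (nat_lit 0x111513270f)) (KT.neq (nat_lit 7) [nat_lit 18] (nat_lit 7) [])
 (KT.alt (dw (nat_lit 0x111513281d)) (KT.neq (nat_lit 7) [nat_lit 2] (nat_lit 7) [])
 (KT.alt (dw (nat_lit 0x1115133224)) (KT.neq (nat_lit 7) [nat_lit 18] (nat_lit 7) [])
 (KT.alt (dw (nat_lit 0x1115132311)) (KT.neq (nat_lit 7) [nat_lit 18] (nat_lit 7) [])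
 (KT.alt (dw (nat_lit 0x111513262607)) (KT.neq (nat_lit 7) [nat_lit 8] (nat_lit 7) [])
 (KT.alt (dw (nat_lit 0x111513203207)) (KT.neq (nat_lit 7) [nat_lit 2] (nat_lit 7) [])
 (KT.alt (dw (nat_lit 0x1115132e19)) (KT.neq (nat_lit 7) [nat_lit 2] (nat_lit 7) [])
 (KT.alt (dw (nat_lit 0x1115131c23)) (KT.neq (nat_lit 7) [nat_lit 2] (nat_lit 7) [])
 t270))))))))))))))))))))))))))))))
noncomputable def t272 : KT := KT.alt (dw (nat_lit 0x1115131c310f)) (KT.neq (nat_lit 7) [nat_lit 0] (nat_lit 7) [])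
 (KT.alt (dw (nat_lit 0x111513250b05)) (KT.neq (nat_lit 7) [nat_lit 12] (nat_lit 7) [])
 (KT.alt (dw (nat_lit 0x1115131925)) (KT.neq (nat_lit 7) [nat_lit 0] (nat_lit 7) [])
 (KT.alt (dw (nat_lit 0x1115131d1707)) (KT.neq (nat_lit 7) [nat_lit 18] (nat_lit 7) [])
 (KT.alt (dw (nat_lit 0x111513051f)) (KT.neq (nat_lit 7) [nat_lit 12] (nat_lit 7) [])
 (KT.alt (dw (nat_lit 0x1115131d2b)) (KT.neq (nat_lit 7) [nat_lit 2] (nat_lit 7) [])
 (KT.alt (dw (nat_lit 0x111513231107)) (KT.neq (nat_lit 7) [nat_lit 18] (nat_lit 7) [])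
 (KT.alt (dw (nat_lit 0x111513172d)) (KT.neq (nat_lit 7) [nat_lit 18] (nat_lit 7) [])
 (KT.alt (dw (nat_lit 0x111513190905)) (KT.neq (nat_lit 7) [nat_lit 2] (nat_lit 7) [])
 (KT.alt (dw (nat_lit 0x111513260f)) (KT.neq (nat_lit 7) [nat_lit 18] (nat_lit 7) [])
 (KT.alt (dw (nat_lit 0x111513202b)) (KT.neq (nat_lit 7) [nat_lit 18] (nat_lit 7) [])
 (KT.alt (dw (nat_lit 0x11151331)) (KT.neq (nat_lit 7) [nat_lit 18] (nat_lit 7) [])
 (KT.alt (dw (nat_lit 0x111513192607)) (KT.neq (nat_lit 7) [nat_lit 18] (nat_lit 7) [])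
 (KT.alt (dw (nat_lit 0x111513251f05)) (KT.neq (nat_lit 7) [nat_lit 10] (nat_lit 7) [])
 (KT.alt (dw (nat_lit 0x1115132819)) (KT.neq (nat_lit 7) [nat_lit 18] (nat_lit 7) [])
 (KT.alt (dw (nat_lit 0x1115131909)) (KT.neq (nat_lit 7) [nat_lit 18] (nat_lit 7) [])
 (KT.alt (dw (nat_lit 0x111513172c)) (KT.neq (nat_lit 7) [nat_lit 18] (nat_lit 7) [])
 (KT.alt (dw (nat_lit 0x1115131131)) (KT.neq (nat_lit 7) [nat_lit 2] (nat_lit 7) [])
 (KT.alt (dw (nat_lit 0x1115130b2d)) (KT.neq (nat_lit 7) [nat_lit 2] (nat_lit 7) [])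
 (KT.alt (dw (nat_lit 0x111513202309)) (KT.neq (nat_lit 7) [nat_lit 2] (nat_lit 7) [])
 (KT.alt (dw (nat_lit 0x1115130920)) (KT.neq (nat_lit 7) [nat_lit 2] (nat_lit 7) [])
 (KT.alt (dw (nat_lit 0x111513252d09)) (KT.neq (nat_lit 7) [nat_lit 12] (nat_lit 7) [])
 (KT.alt (dw (nat_lit 0x1115130d1905)) (KT.neq (nat_lit 7) [nat_lit 0] (nat_lit 7) [])
 (KT.alt (dw (nat_lit 0x111513092b)) (KT.neq (nat_lit 7) [nat_lit 18] (nat_lit 7) [])
 (KT.alt (dw (nat_lit 0x1115132b25)) (KT.neq (nat_lit 7) [nat_lit 18] (nat_lit 7) [])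
 (KT.alt (dw (nat_lit 0x111513252b)) (KT.neq (nat_lit 7) [nat_lit 0] (nat_lit 7) [])
 (KT.alt (dw (nat_lit 0x1115130d25)) (KT.neq (nat_lit 7) [nat_lit 10] (nat_lit 7) [])
 (KT.alt (dw (nat_lit 0x1115132e2107)) (KT.neq (nat_lit 7) [nat_lit 2] (nat_lit 7) [])
 (KT.alt (dw (nat_lit 0x111513192905)) (KT.neq (nat_lit 7) [nat_lit 18] (nat_lit 7) [])
 (KT.alt (dw (nat_lit 0x1115131f26)) (KT.neq (nat_lit 7) [nat_lit 18] (nat_lit 7) [])
 (KT.alt (dw (nat_lit 0x111513292607)) (KT.neq (nat_lit 7) [nat_lit 12] (nat_lit 7) [])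
 t271))))))))))))))))))))))))))))))
noncomputable def t273 : KT := KT.alt (dw (nat_lit 0x111513201707)) (KT.neq (nat_lit 7) [nat_lit 2] (nat_lit 7) [])
 (KT.alt (dw (nat_lit 0x111513292319)) (KT.neq (nat_lit 7) [nat_lit 18] (nat_lit 7) [])
 (KT.alt (dw (nat_lit 0x1115131d24)) (KT.neq (nat_lit 7) [nat_lit 8] (nat_lit 7) [])
 (KT.alt (dw (nat_lit 0x111513242707)) (KT.neq (nat_lit 7) [nat_lit 18] (nat_lit 7) [])
 (KT.alt (dw (nat_lit 0x1115131c2905)) (KT.neq (nat_lit 7) [nat_lit 18] (nat_lit 7) [])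
 (KT.alt (dw (nat_lit 0x1115130727)) (KT.neq (nat_lit 7) [nat_lit 18] (nat_lit 7) [])
 (KT.alt (dw (nat_lit 0x1115132c0b)) (KT.neq (nat_lit 7) [nat_lit 2] (nat_lit 7) [])
 (KT.alt (dw (nat_lit 0x111513243207)) (KT.neq (nat_lit 7) [nat_lit 18] (nat_lit 7) [])
 (KT.alt (dw (nat_lit 0x1115132d1105)) (KT.neq (nat_lit 7) [nat_lit 10] (nat_lit 7) [])
 (KT.alt (dw (nat_lit 0x1115131d0b)) (KT.neq (nat_lit 7) [nat_lit 18] (nat_lit 7) [])
 (KT.alt (dw (nat_lit 0x111513291d)) (KT.neq (nat_lit 7) [nat_lit 18] (nat_lit 7) [])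
 (KT.alt (dw (nat_lit 0x1115130b2007)) (KT.neq (nat_lit 7) [nat_lit 18] (nat_lit 7) [])
 (KT.alt (dw (nat_lit 0x111513241d)) (KT.neq (nat_lit 7) [nat_lit 2] (nat_lit 7) [])
 (KT.alt (dw (nat_lit 0x1115132b20)) (KT.neq (nat_lit 7) [nat_lit 18] (nat_lit 7) [])
 (KT.alt (dw (nat_lit 0x111513271f05)) (KT.neq (nat_lit 7) [nat_lit 18] (nat_lit 7) [])
 (KT.alt (dw (nat_lit 0x1115131b320f)) (KT.neq (nat_lit 7) [nat_lit 8] (nat_lit 7) [])
 (KT.alt (dw (nat_lit 0x1115131b26)) (KT.neq (nat_lit 7) [nat_lit 18] (nat_lit 7) [])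
 (KT.alt (dw (nat_lit 0x1115132628)) (KT.neq (nat_lit 7) [nat_lit 18] (nat_lit 7) [])
 (KT.alt (dw (nat_lit 0x1115130b)) (KT.br (nat_lit 16) (KT.alt (dw (nat_lit 0x0f15152f1c23230b2c310f2e)) (KT.mem (nat_lit 16) [nat_lit 10] (SE.lev (nat_lit 3)))
 (KT.alt (dw (nat_lit 0x1115130f24191121072e2605)) (KT.mem (nat_lit 16) [nat_lit 2] (SE.lev (nat_lit 3)))
 (KT.alt (dw (nat_lit 0x1115130b2e2e0517051e051b0d)) (KT.mem (nat_lit 16) [nat_lit 16] (SE.lev (nat_lit 3)))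
 (KT.alt (dw (nat_lit 0x111513271c0931113226312d)) (KT.mem (nat_lit 16) [nat_lit 8] (SE.lev (nat_lit 3)))
 (KT.alt (dw (nat_lit 0x1115130b2e2e0517051e0d)) (KT.mem (nat_lit 16) [nat_lit 16] (SE.lev (nat_lit 3)))
 (KT.alt (dw (nat_lit 0x0f15152f091e250926)) (KT.mem (nat_lit 16) [nat_lit 16] (SE.lev (nat_lit 3)))
 (KT.alt (dw (nat_lit 0x03111303291c212c09290f2e)) (KT.mem (nat_lit 16) [nat_lit 16] (SE.lev (nat_lit 3)))
 (KT.alt (dw (nat_lit 0x1115130b1c0d1e)) (KT.mem (nat_lit 16) [nat_lit 16] (SE.lev (nat_lit 3)))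
 (KT.alt (dw (nat_lit 0x0b14142c1d1c2524242f2b0f)) (KT.mem (nat_lit 16) [nat_lit 10] (SE.lev (nat_lit 3)))
 (KT.alt (dw (nat_lit 0x0f15152c2819240f282d)) (KT.mem (nat_lit 16) [nat_lit 16] (SE.lev (nat_lit 3)))
 (KT.alt (dw (nat_lit 0x0b141432260531212e26322d)) (KT.mem (nat_lit 16) [nat_lit 8] (SE.lev (nat_lit 3)))
 t260))))))))))))
 (KT.alt (dw (nat_lit 0x1115130d1f)) (KT.neq (nat_lit 7) [nat_lit 18] (nat_lit 7) [])
 (KT.alt (dw (nat_lit 0x1115131123)) (KT.neq (nat_lit 7) [nat_lit 18] (nat_lit 7) [])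
 (KT.alt (dw (nat_lit 0x1115132b27)) (KT.neq (nat_lit 7) [nat_lit 18] (nat_lit 7) [])
 (KT.alt (dw (nat_lit 0x1115132611)) (KT.neq (nat_lit 7) [nat_lit 18] (nat_lit 7) [])
 (KT.alt (dw (nat_lit 0x111513113207)) (KT.neq (nat_lit 7) [nat_lit 18] (nat_lit 7) [])
 (KT.alt (dw (nat_lit 0x111513272607)) (KT.neq (nat_lit 7) [nat_lit 8] (nat_lit 7) [])
 (KT.alt (dw (nat_lit 0x111513171e09)) (KT.neq (nat_lit 7) [nat_lit 18] (nat_lit 7) [])
 (KT.alt (dw (nat_lit 0x1115131b0f09)) (KT.neq (nat_lit 7) [nat_lit 18] (nat_lit 7) [])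
 (KT.alt (dw (nat_lit 0x11151327)) (KT.neq (nat_lit 7) [nat_lit 18] (nat_lit 7) [])
 (KT.alt (dw (nat_lit 0x11151324290f)) (KT.neq (nat_lit 7) [nat_lit 12] (nat_lit 7) [])
 (KT.alt (dw (nat_lit 0x1115131b24)) (KT.neq (nat_lit 7) [nat_lit 2] (nat_lit 7) [])
 (KT.alt (dw (nat_lit 0x111513271d)) (KT.neq (nat_lit 7) [nat_lit 18] (nat_lit 7) [])
 t272))))))))))))))))))))))))))))))
noncomputable def t274 : KT := KT.alt (dw (nat_lit 0x1115131e1f)) (KT.neq (nat_lit 7) [nat_lit 18] (nat_lit 7) [])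
 (KT.alt (dw (nat_lit 0x111513172307)) (KT.neq (nat_lit 7) [nat_lit 0] (nat_lit 7) [])
 (KT.alt (dw (nat_lit 0x1115132d0f)) (KT.neq (nat_lit 7) [nat_lit 18] (nat_lit 7) [])
 (KT.alt (dw (nat_lit 0x1115132c0f)) (KT.neq (nat_lit 7) [nat_lit 18] (nat_lit 7) [])
 (KT.alt (dw (nat_lit 0x111513212c07)) (KT.neq (nat_lit 7) [nat_lit 18] (nat_lit 7) [])
 (KT.alt (dw (nat_lit 0x111513262c)) (KT.neq (nat_lit 7) [nat_lit 18] (nat_lit 7) [])
 (KT.alt (dw (nat_lit 0x1115131b27)) (KT.neq (nat_lit 7) [nat_lit 18] (nat_lit 7) [])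
 (KT.alt (dw (nat_lit 0x111513200b)) (KT.neq (nat_lit 7) [nat_lit 2] (nat_lit 7) [])
 (KT.alt (dw (nat_lit 0x11151307)) (KT.neq (nat_lit 7) [nat_lit 10] (nat_lit 7) [])
 (KT.alt (dw (nat_lit 0x111513281c07)) (KT.neq (nat_lit 7) [nat_lit 18] (nat_lit 7) [])
 (KT.alt (dw (nat_lit 0x111513243107)) (KT.neq (nat_lit 7) [nat_lit 2] (nat_lit 7) [])
 (KT.alt (dw (nat_lit 0x111513232c)) (KT.neq (nat_lit 7) [nat_lit 18] (nat_lit 7) [])
 (KT.alt (dw (nat_lit 0x1115131b2911)) (KT.neq (nat_lit 7) [nat_lit 18] (nat_lit 7) [])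
 (KT.alt (dw (nat_lit 0x1115130d28)) (KT.neq (nat_lit 7) [nat_lit 2] (nat_lit 7) [])
 (KT.alt (dw (nat_lit 0x1115132723)) (KT.neq (nat_lit 7) [nat_lit 2] (nat_lit 7) [])
 (KT.alt (dw (nat_lit 0x1115132920)) (KT.neq (nat_lit 7) [nat_lit 0] (nat_lit 7) [])
 (KT.alt (dw (nat_lit 0x1115131c0d1f)) (KT.neq (nat_lit 7) [nat_lit 2] (nat_lit 7) [])
 (KT.alt (dw (nat_lit 0x111513172707)) (KT.neq (nat_lit 7) [nat_lit 8] (nat_lit 7) [])
 (KT.alt (dw (nat_lit 0x111513171d)) (KT.neq (nat_lit 7) [nat_lit 18] (nat_lit 7) [])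
 (KT.alt (dw (nat_lit 0x1115131e25)) (KT.neq (nat_lit 7) [nat_lit 18] (nat_lit 7) [])
 (KT.alt (dw (nat_lit 0x111513231109)) (KT.neq (nat_lit 7) [nat_lit 2] (nat_lit 7) [])
 (KT.alt (dw (nat_lit 0x111513242c)) (KT.neq (nat_lit 7) [nat_lit 18] (nat_lit 7) [])
 (KT.alt (dw (nat_lit 0x111513241c0b)) (KT.neq (nat_lit 7) [nat_lit 0] (nat_lit 7) [])
 (KT.alt (dw (nat_lit 0x111513283207)) (KT.neq (nat_lit 7) [nat_lit 8] (nat_lit 7) [])
 (KT.alt (dw (nat_lit 0x1115130b24)) (KT.neq (nat_lit 7) [nat_lit 18] (nat_lit 7) [])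
 (KT.alt (dw (nat_lit 0x1115132e2005)) (KT.neq (nat_lit 7) [nat_lit 2] (nat_lit 7) [])
 (KT.alt (dw (nat_lit 0x1115131c2d)) (KT.neq (nat_lit 7) [nat_lit 2] (nat_lit 7) [])
 (KT.alt (dw (nat_lit 0x1115131e11)) (KT.neq (nat_lit 7) [nat_lit 18] (nat_lit 7) [])
 (KT.alt (dw (nat_lit 0x1115132e1c)) (KT.neq (nat_lit 7) [nat_lit 10] (nat_lit 7) [])
 (KT.alt (dw (nat_lit 0x1115131f05)) (KT.neq (nat_lit 7) [nat_lit 2] (nat_lit 7) [])
 (KT.alt (dw (nat_lit 0x1115130b2905)) (KT.neq (nat_lit 7) [nat_lit 18] (nat_lit 7) [])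
 t273))))))))))))))))))))))))))))))
noncomputable def t275 : KT := KT.alt (dw (nat_lit 0x2b2914)) (KT.neq (nat_lit 0) [nat_lit 18] (nat_lit 0) [])
 (KT.alt (dw (nat_lit 0x2d2814)) (KT.neq (nat_lit 0) [nat_lit 18] (nat_lit 0) [])
 (KT.alt (dw (nat_lit 0x231b1403)) (KT.neq (nat_lit 0) [nat_lit 18] (nat_lit 0) [])
 (KT.alt (dw (nat_lit 0x2713)) (KT.neq (nat_lit 0) [nat_lit 18] (nat_lit 0) [])
 (KT.alt (dw (nat_lit 0x1e2b1503)) (KT.neq (nat_lit 0) [nat_lit 18] (nat_lit 0) [])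
 (KT.alt (dw (nat_lit 0x2514)) (KT.neq (nat_lit 0) [nat_lit 18] (nat_lit 0) [])
 (KT.alt (dw (nat_lit 0x1c0d1f03)) (KT.neq (nat_lit 0) [nat_lit 18] (nat_lit 0) [])
 (KT.alt (dw (nat_lit 0x291614)) (KT.neq (nat_lit 0) [nat_lit 18] (nat_lit 0) [])
 (KT.alt (dw (nat_lit 0x241403)) (KT.neq (nat_lit 0) [nat_lit 18] (nat_lit 0) [])
 (KT.alt (dw (nat_lit 0x291913)) (KT.neq (nat_lit 0) [nat_lit 18] (nat_lit 0) [])
 (KT.alt (dw (nat_lit 0x2e250313)) (KT.neq (nat_lit 0) [nat_lit 18] (nat_lit 0) [])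
 (KT.alt (dw (nat_lit 0x152613)) (KT.neq (nat_lit 0) [nat_lit 18] (nat_lit 0) [])
 (KT.alt (dw (nat_lit 0x071403)) (KT.neq (nat_lit 0) [nat_lit 10] (nat_lit 0) [])
 (KT.alt (dw (nat_lit 0x2b1913)) (KT.neq (nat_lit 0) [nat_lit 18] (nat_lit 0) [])
 (KT.alt (dw (nat_lit 0x0d321d03)) (KT.neq (nat_lit 0) [nat_lit 2] (nat_lit 0) [])
 (KT.alt (dw (nat_lit 0x291315)) (KT.neq (nat_lit 0) [nat_lit 18] (nat_lit 0) [])
 (KT.alt (dw (nat_lit 0x15310503)) (KT.neq (nat_lit 0) [nat_lit 18] (nat_lit 0) [])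
 (KT.alt (dw (nat_lit 0x092d0313)) (KT.neq (nat_lit 0) [nat_lit 18] (nat_lit 0) [])
 (KT.alt (dw (nat_lit 0x16240503)) (KT.neq (nat_lit 0) [nat_lit 2] (nat_lit 0) [])
 (KT.alt (dw (nat_lit 0x231503)) (KT.neq (nat_lit 0) [nat_lit 18] (nat_lit 0) [])
 (KT.alt (dw (nat_lit 0x1e2c13)) (KT.neq (nat_lit 0) [nat_lit 16] (nat_lit 0) [])
 (KT.alt (dw (nat_lit 0x16071e03)) (KT.neq (nat_lit 0) [nat_lit 2] (nat_lit 0) [])
 (KT.alt (dw (nat_lit 0x1c2813)) (KT.neq (nat_lit 0) [nat_lit 18] (nat_lit 0) [])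
 (KT.alt (dw (nat_lit 0x1d2d14)) (KT.neq (nat_lit 0) [nat_lit 18] (nat_lit 0) [])
 (KT.alt (dw (nat_lit 0x1b161403)) (KT.neq (nat_lit 0) [nat_lit 18] (nat_lit 0) [])
 (KT.alt (dw (nat_lit 0x2d1303)) (KT.neq (nat_lit 0) [nat_lit 18] (nat_lit 0) [])
 (KT.alt (dw (nat_lit 0x13171e03)) (KT.neq (nat_lit 0) [nat_lit 2] (nat_lit 0) [])
 (KT.alt (dw (nat_lit 0x0f131d03)) (KT.neq (nat_lit 0) [nat_lit 18] (nat_lit 0) [])
 (KT.alt (dw (nat_lit 0x0b240313)) (KT.neq (nat_lit 0) [nat_lit 18] (nat_lit 0) [])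
 (KT.nil (SE.lev (nat_lit 0)) [nat_lit 0, nat_lit 2] [dw (nat_lit 0x01), dw (nat_lit 0x03)] [])))))))))))))))))))))))))))))
noncomputable def t276 : KT := KT.alt (dw (nat_lit 0x25320313)) (KT.neq (nat_lit 0) [nat_lit 8] (nat_lit 0) [])
 (KT.alt (dw (nat_lit 0x2b13)) (KT.neq (nat_lit 0) [nat_lit 18] (nat_lit 0) [])
 (KT.alt (dw (nat_lit 0x131f0503)) (KT.neq (nat_lit 0) [nat_lit 2] (nat_lit 0) [])
 (KT.alt (dw (nat_lit 0x202613)) (KT.neq (nat_lit 0) [nat_lit 18] (nat_lit 0) [])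
 (KT.alt (dw (nat_lit 0x24292003)) (KT.neq (nat_lit 0) [nat_lit 18] (nat_lit 0) [])
 (KT.alt (dw (nat_lit 0x0b2d14)) (KT.neq (nat_lit 0) [nat_lit 16] (nat_lit 0) [])
 (KT.alt (dw (nat_lit 0x311f1403)) (KT.neq (nat_lit 0) [nat_lit 18] (nat_lit 0) [])
 (KT.alt (dw (nat_lit 0x27241f03)) (KT.neq (nat_lit 0) [nat_lit 2] (nat_lit 0) [])
 (KT.alt (dw (nat_lit 0x1d261513)) (KT.neq (nat_lit 0) [nat_lit 2] (nat_lit 0) [])
 (KT.alt (dw (nat_lit 0x0b1c1e13)) (KT.neq (nat_lit 0) [nat_lit 16] (nat_lit 0) [])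
 (KT.alt (dw (nat_lit 0x0d2c13)) (KT.neq (nat_lit 0) [nat_lit 16] (nat_lit 0) [])
 (KT.alt (dw (nat_lit 0x291b14)) (KT.neq (nat_lit 0) [nat_lit 18] (nat_lit 0) [])
 (KT.alt (dw (nat_lit 0x031f13)) (KT.neq (nat_lit 0) [nat_lit 18] (nat_lit 0) [])
 (KT.alt (dw (nat_lit 0x251515)) (KT.neq (nat_lit 0) [nat_lit 10] (nat_lit 0) [])
 (KT.alt (dw (nat_lit 0x14260503)) (KT.neq (nat_lit 0) [nat_lit 18] (nat_lit 0) [])
 (KT.alt (dw (nat_lit 0x242513)) (KT.neq (nat_lit 0) [nat_lit 18] (nat_lit 0) [])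
 (KT.alt (dw (nat_lit 0x211414)) (KT.neq (nat_lit 0) [nat_lit 18] (nat_lit 0) [])
 (KT.alt (dw (nat_lit 0x241f13)) (KT.neq (nat_lit 0) [nat_lit 18] (nat_lit 0) [])
 (KT.alt (dw (nat_lit 0x1e132003)) (KT.neq (nat_lit 0) [nat_lit 8] (nat_lit 0) [])
 (KT.alt (dw (nat_lit 0x1e1b1313)) (KT.neq (nat_lit 0) [nat_lit 18] (nat_lit 0) [])
 (KT.alt (dw (nat_lit 0x312d14)) (KT.neq (nat_lit 0) [nat_lit 18] (nat_lit 0) [])
 (KT.alt (dw (nat_lit 0x1f281403)) (KT.neq (nat_lit 0) [nat_lit 18] (nat_lit 0) [])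
 (KT.alt (dw (nat_lit 0x2b171f03)) (KT.neq (nat_lit 0) [nat_lit 2] (nat_lit 0) [])
 (KT.alt (dw (nat_lit 0x2b1303)) (KT.neq (nat_lit 0) [nat_lit 18] (nat_lit 0) [])
 (KT.alt (dw (nat_lit 0x312014)) (KT.neq (nat_lit 0) [nat_lit 18] (nat_lit 0) [])
 (KT.alt (dw (nat_lit 0x26071403)) (KT.neq (nat_lit 0) [nat_lit 2] (nat_lit 0) [])
 (KT.alt (dw (nat_lit 0x0f3213)) (KT.neq (nat_lit 0) [nat_lit 18] (nat_lit 0) [])
 (KT.alt (dw (nat_lit 0x31260313)) (KT.neq (nat_lit 0) [nat_lit 18] (nat_lit 0) [])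
 (KT.alt (dw (nat_lit 0x152e1e03)) (KT.neq (nat_lit 0) [nat_lit 18] (nat_lit 0) [])
 (KT.alt (dw (nat_lit 0x1f1f1e03)) (KT.neq (nat_lit 0) [nat_lit 18] (nat_lit 0) [])
 (KT.alt (dw (nat_lit 0x162713)) (KT.neq (nat_lit 0) [nat_lit 18] (nat_lit 0) [])
 t275))))))))))))))))))))))))))))))
noncomputable def t277 : KT := KT.alt (dw (nat_lit 0x19031f03)) (KT.neq (nat_lit 0) [nat_lit 18] (nat_lit 0) [])
 (KT.alt (dw (nat_lit 0x232814)) (KT.neq (nat_lit 0) [nat_lit 16] (nat_lit 0) [])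
 (KT.alt (dw (nat_lit 0x2b1f14)) (KT.neq (nat_lit 0) [nat_lit 18] (nat_lit 0) [])
 (KT.alt (dw (nat_lit 0x163214)) (KT.neq (nat_lit 0) [nat_lit 12] (nat_lit 0) [])
 (KT.alt (dw (nat_lit 0x251d0313)) (KT.neq (nat_lit 0) [nat_lit 2] (nat_lit 0) [])
 (KT.alt (dw (nat_lit 0x272413)) (KT.neq (nat_lit 0) [nat_lit 16] (nat_lit 0) [])
 (KT.alt (dw (nat_lit 0x1f2b13)) (KT.neq (nat_lit 0) [nat_lit 18] (nat_lit 0) [])
 (KT.alt (dw (nat_lit 0x0d2e0313)) (KT.neq (nat_lit 0) [nat_lit 10] (nat_lit 0) [])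
 (KT.alt (dw (nat_lit 0x2b1e1c03)) (KT.neq (nat_lit 0) [nat_lit 18] (nat_lit 0) [])
 (KT.alt (dw (nat_lit 0x2c2314)) (KT.neq (nat_lit 0) [nat_lit 2] (nat_lit 0) [])
 (KT.alt (dw (nat_lit 0x2e1e03)) (KT.neq (nat_lit 0) [nat_lit 2] (nat_lit 0) [])
 (KT.alt (dw (nat_lit 0x111614)) (KT.neq (nat_lit 0) [nat_lit 18] (nat_lit 0) [])
 (KT.alt (dw (nat_lit 0x1d0313)) (KT.neq (nat_lit 0) [nat_lit 18] (nat_lit 0) [])
 (KT.alt (dw (nat_lit 0x1d1903)) (KT.neq (nat_lit 0) [nat_lit 18] (nat_lit 0) [])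
 (KT.alt (dw (nat_lit 0x07291f03)) (KT.neq (nat_lit 0) [nat_lit 18] (nat_lit 0) [])
 (KT.alt (dw (nat_lit 0x131f1303)) (KT.neq (nat_lit 0) [nat_lit 18] (nat_lit 0) [])
 (KT.alt (dw (nat_lit 0x172313)) (KT.neq (nat_lit 0) [nat_lit 18] (nat_lit 0) [])
 (KT.alt (dw (nat_lit 0x211f14)) (KT.neq (nat_lit 0) [nat_lit 18] (nat_lit 0) [])
 (KT.alt (dw (nat_lit 0x162c13)) (KT.neq (nat_lit 0) [nat_lit 18] (nat_lit 0) [])
 (KT.alt (dw (nat_lit 0x311b14)) (KT.neq (nat_lit 0) [nat_lit 2] (nat_lit 0) [])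
 (KT.alt (dw (nat_lit 0x19152413)) (KT.neq (nat_lit 0) [nat_lit 18] (nat_lit 0) [])
 (KT.alt (dw (nat_lit 0x321613)) (KT.neq (nat_lit 0) [nat_lit 16] (nat_lit 0) [])
 (KT.alt (dw (nat_lit 0x272d1e13)) (KT.neq (nat_lit 0) [nat_lit 18] (nat_lit 0) [])
 (KT.alt (dw (nat_lit 0x26191403)) (KT.neq (nat_lit 0) [nat_lit 18] (nat_lit 0) [])
 (KT.alt (dw (nat_lit 0x2d1e2013)) (KT.neq (nat_lit 0) [nat_lit 18] (nat_lit 0) [])
 (KT.alt (dw (nat_lit 0x0b2d1b14)) (KT.neq (nat_lit 0) [nat_lit 18] (nat_lit 0) [])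
 (KT.alt (dw (nat_lit 0x142015)) (KT.neq (nat_lit 0) [nat_lit 18] (nat_lit 0) [])
 (KT.alt (dw (nat_lit 0x292b14)) (KT.neq (nat_lit 0) [nat_lit 18] (nat_lit 0) [])
 (KT.alt (dw (nat_lit 0x0b1c14)) (KT.neq (nat_lit 0) [nat_lit 18] (nat_lit 0) [])
 (KT.alt (dw (nat_lit 0x2d201503)) (KT.neq (nat_lit 0) [nat_lit 18] (nat_lit 0) [])
 (KT.alt (dw (nat_lit 0x261303)) (KT.neq (nat_lit 0) [nat_lit 18] (nat_lit 0) [])
 t276))))))))))))))))))))))))))))))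
noncomputable def t278 : KT := KT.alt (dw (nat_lit 0x271f13)) (KT.neq (nat_lit 0) [nat_lit 2] (nat_lit 0) [])
 (KT.alt (dw (nat_lit 0x09271503)) (KT.neq (nat_lit 0) [nat_lit 18] (nat_lit 0) [])
 (KT.alt (dw (nat_lit 0x2b2813)) (KT.neq (nat_lit 0) [nat_lit 18] (nat_lit 0) [])
 (KT.alt (dw (nat_lit 0x17281403)) (KT.neq (nat_lit 0) [nat_lit 18] (nat_lit 0) [])
 (KT.alt (dw (nat_lit 0x072914)) (KT.neq (nat_lit 0) [nat_lit 18] (nat_lit 0) [])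
 (KT.alt (dw (nat_lit 0x282b1d03)) (KT.neq (nat_lit 0) [nat_lit 18] (nat_lit 0) [])
 (KT.alt (dw (nat_lit 0x203114)) (KT.neq (nat_lit 0) [nat_lit 18] (nat_lit 0) [])
 (KT.alt (dw (nat_lit 0x19071403)) (KT.neq (nat_lit 0) [nat_lit 18] (nat_lit 0) [])
 (KT.alt (dw (nat_lit 0x312614)) (KT.neq (nat_lit 0) [nat_lit 18] (nat_lit 0) [])
 (KT.alt (dw (nat_lit 0x200b1903)) (KT.neq (nat_lit 0) [nat_lit 18] (nat_lit 0) [])
 (KT.alt (dw (nat_lit 0x241315)) (KT.neq (nat_lit 0) [nat_lit 18] (nat_lit 0) [])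
 (KT.alt (dw (nat_lit 0x231714)) (KT.neq (nat_lit 0) [nat_lit 18] (nat_lit 0) [])
 (KT.alt (dw (nat_lit 0x173214)) (KT.neq (nat_lit 0) [nat_lit 18] (nat_lit 0) [])
 (KT.alt (dw (nat_lit 0x091f03)) (KT.neq (nat_lit 0) [nat_lit 18] (nat_lit 0) [])
 (KT.alt (dw (nat_lit 0x0d2813)) (KT.neq (nat_lit 0) [nat_lit 18] (nat_lit 0) [])
 (KT.alt (dw (nat_lit 0x201b13)) (KT.neq (nat_lit 0) [nat_lit 18] (nat_lit 0) [])
 (KT.alt (dw (nat_lit 0x03)) (KT.neq (nat_lit 0) [nat_lit 18] (nat_lit 0) [])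
 (KT.alt (dw (nat_lit 0x091c0313)) (KT.neq (nat_lit 0) [nat_lit 2] (nat_lit 0) [])
 (KT.alt (dw (nat_lit 0x271e14)) (KT.neq (nat_lit 0) [nat_lit 18] (nat_lit 0) [])
 (KT.alt (dw (nat_lit 0x1e2414)) (KT.neq (nat_lit 0) [nat_lit 18] (nat_lit 0) [])
 (KT.alt (dw (nat_lit 0x09281303)) (KT.neq (nat_lit 0) [nat_lit 18] (nat_lit 0) [])
 (KT.alt (dw (nat_lit 0x272114)) (KT.neq (nat_lit 0) [nat_lit 18] (nat_lit 0) [])
 (KT.alt (dw (nat_lit 0x2c1e03)) (KT.neq (nat_lit 0) [nat_lit 18] (nat_lit 0) [])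
 (KT.alt (dw (nat_lit 0x152013)) (KT.neq (nat_lit 0) [nat_lit 18] (nat_lit 0) [])
 (KT.alt (dw (nat_lit 0x1d201303)) (KT.neq (nat_lit 0) [nat_lit 18] (nat_lit 0) [])
 (KT.alt (dw (nat_lit 0x2f2003)) (KT.neq (nat_lit 0) [nat_lit 18] (nat_lit 0) [])
 (KT.alt (dw (nat_lit 0x17240313)) (KT.neq (nat_lit 0) [nat_lit 18] (nat_lit 0) [])
 (KT.alt (dw (nat_lit 0x0b132913)) (KT.neq (nat_lit 0) [nat_lit 0] (nat_lit 0) [])
 (KT.alt (dw (nat_lit 0x1b14)) (KT.neq (nat_lit 0) [nat_lit 16] (nat_lit 0) [])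
 (KT.alt (dw (nat_lit 0x2313)) (KT.neq (nat_lit 0) [nat_lit 18] (nat_lit 0) [])
 (KT.alt (dw (nat_lit 0x153213)) (KT.neq (nat_lit 0) [nat_lit 18] (nat_lit 0) [])
 t277))))))))))))))))))))))))))))))
noncomputable def t279 : KT := KT.alt (dw (nat_lit 0x29152003)) (KT.neq (nat_lit 0) [nat_lit 18] (nat_lit 0) [])
 (KT.alt (dw (nat_lit 0x320313)) (KT.neq (nat_lit 0) [nat_lit 18] (nat_lit 0) [])
 (KT.alt (dw (nat_lit 0x162e14)) (KT.neq (nat_lit 0) [nat_lit 2] (nat_lit 0) [])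
 (KT.alt (dw (nat_lit 0x211d15)) (KT.neq (nat_lit 0) [nat_lit 18] (nat_lit 0) [])
 (KT.alt (dw (nat_lit 0x1b0b1903)) (KT.neq (nat_lit 0) [nat_lit 18] (nat_lit 0) [])
 (KT.alt (dw (nat_lit 0x201315)) (KT.neq (nat_lit 0) [nat_lit 2] (nat_lit 0) [])
 (KT.alt (dw (nat_lit 0x0f1f1403)) (KT.neq (nat_lit 0) [nat_lit 2] (nat_lit 0) [])
 (KT.alt (dw (nat_lit 0x25151d03)) (KT.neq (nat_lit 0) [nat_lit 18] (nat_lit 0) [])
 (KT.alt (dw (nat_lit 0x15321603)) (KT.neq (nat_lit 0) [nat_lit 18] (nat_lit 0) [])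
 (KT.alt (dw (nat_lit 0x240313)) (KT.neq (nat_lit 0) [nat_lit 2] (nat_lit 0) [])
 (KT.alt (dw (nat_lit 0x211f13)) (KT.neq (nat_lit 0) [nat_lit 18] (nat_lit 0) [])
 (KT.alt (dw (nat_lit 0x271513)) (KT.neq (nat_lit 0) [nat_lit 18] (nat_lit 0) [])
 (KT.alt (dw (nat_lit 0x191613)) (KT.neq (nat_lit 0) [nat_lit 18] (nat_lit 0) [])
 (KT.alt (dw (nat_lit 0x152313)) (KT.neq (nat_lit 0) [nat_lit 18] (nat_lit 0) [])
 (KT.alt (dw (nat_lit 0x0b1f03)) (KT.neq (nat_lit 0) [nat_lit 16] (nat_lit 0) [])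
 (KT.alt (dw (nat_lit 0x291d1303)) (KT.neq (nat_lit 0) [nat_lit 16] (nat_lit 0) [])
 (KT.alt (dw (nat_lit 0x23111f03)) (KT.neq (nat_lit 0) [nat_lit 18] (nat_lit 0) [])
 (KT.alt (dw (nat_lit 0x132014)) (KT.neq (nat_lit 0) [nat_lit 18] (nat_lit 0) [])
 (KT.alt (dw (nat_lit 0x1f0313)) (KT.neq (nat_lit 0) [nat_lit 8] (nat_lit 0) [])
 (KT.alt (dw (nat_lit 0x240b1e03)) (KT.neq (nat_lit 0) [nat_lit 18] (nat_lit 0) [])
 (KT.alt (dw (nat_lit 0x202713)) (KT.neq (nat_lit 0) [nat_lit 18] (nat_lit 0) [])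
 (KT.alt (dw (nat_lit 0x261913)) (KT.neq (nat_lit 0) [nat_lit 16] (nat_lit 0) [])
 (KT.alt (dw (nat_lit 0x1f03)) (KT.neq (nat_lit 0) [nat_lit 18] (nat_lit 0) [])
 (KT.alt (dw (nat_lit 0x0d131f03)) (KT.neq (nat_lit 0) [nat_lit 16] (nat_lit 0) [])
 (KT.alt (dw (nat_lit 0x0d191d03)) (KT.neq (nat_lit 0) [nat_lit 18] (nat_lit 0) [])
 (KT.alt (dw (nat_lit 0x2814)) (KT.neq (nat_lit 0) [nat_lit 18] (nat_lit 0) [])
 (KT.alt (dw (nat_lit 0x2f1f0313)) (KT.neq (nat_lit 0) [nat_lit 10] (nat_lit 0) [])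
 (KT.alt (dw (nat_lit 0x03192c13)) (KT.neq (nat_lit 0) [nat_lit 18] (nat_lit 0) [])
 (KT.alt (dw (nat_lit 0x200b1313)) (KT.neq (nat_lit 0) [nat_lit 18] (nat_lit 0) [])
 (KT.alt (dw (nat_lit 0x2c281513)) (KT.neq (nat_lit 0) [nat_lit 8] (nat_lit 0) [])
 (KT.alt (dw (nat_lit 0x14241403)) (KT.neq (nat_lit 0) [nat_lit 18] (nat_lit 0) [])
 t278))))))))))))))))))))))))))))))
noncomputable def t280 : KT := KT.alt (dw (nat_lit 0x201b1503)) (KT.neq (nat_lit 0) [nat_lit 18] (nat_lit 0) [])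
 (KT.alt (dw (nat_lit 0x23161403)) (KT.neq (nat_lit 0) [nat_lit 2] (nat_lit 0) [])
 (KT.alt (dw (nat_lit 0x201403)) (KT.neq (nat_lit 0) [nat_lit 18] (nat_lit 0) [])
 (KT.alt (dw (nat_lit 0x1d2413)) (KT.neq (nat_lit 0) [nat_lit 18] (nat_lit 0) [])
 (KT.alt (dw (nat_lit 0x2c1503)) (KT.neq (nat_lit 0) [nat_lit 16] (nat_lit 0) [])
 (KT.alt (dw (nat_lit 0x173213)) (KT.neq (nat_lit 0) [nat_lit 18] (nat_lit 0) [])
 (KT.alt (dw (nat_lit 0x1c141403)) (KT.neq (nat_lit 0) [nat_lit 2] (nat_lit 0) [])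
 (KT.alt (dw (nat_lit 0x252014)) (KT.neq (nat_lit 0) [nat_lit 16] (nat_lit 0) [])
 (KT.alt (dw (nat_lit 0x25200313)) (KT.neq (nat_lit 0) [nat_lit 18] (nat_lit 0) [])
 (KT.alt (dw (nat_lit 0x2b2713)) (KT.neq (nat_lit 0) [nat_lit 18] (nat_lit 0) [])
 (KT.alt (dw (nat_lit 0x1b271403)) (KT.neq (nat_lit 0) [nat_lit 2] (nat_lit 0) [])
 (KT.alt (dw (nat_lit 0x1b231903)) (KT.neq (nat_lit 0) [nat_lit 18] (nat_lit 0) [])
 (KT.alt (dw (nat_lit 0x291e13)) (KT.neq (nat_lit 0) [nat_lit 18] (nat_lit 0) [])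
 (KT.alt (dw (nat_lit 0x1e0b1313)) (KT.neq (nat_lit 0) [nat_lit 18] (nat_lit 0) [])
 (KT.alt (dw (nat_lit 0x0f1f03)) (KT.neq (nat_lit 0) [nat_lit 16] (nat_lit 0) [])
 (KT.alt (dw (nat_lit 0x091f1403)) (KT.neq (nat_lit 0) [nat_lit 2] (nat_lit 0) [])
 (KT.alt (dw (nat_lit 0x2b1d1303)) (KT.neq (nat_lit 0) [nat_lit 16] (nat_lit 0) [])
 (KT.alt (dw (nat_lit 0x241513)) (KT.neq (nat_lit 0) [nat_lit 18] (nat_lit 0) [])
 (KT.alt (dw (nat_lit 0x1e1913)) (KT.neq (nat_lit 0) [nat_lit 18] (nat_lit 0) [])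
 (KT.alt (dw (nat_lit 0x322414)) (KT.neq (nat_lit 0) [nat_lit 18] (nat_lit 0) [])
 (KT.alt (dw (nat_lit 0x2e1315)) (KT.neq (nat_lit 0) [nat_lit 18] (nat_lit 0) [])
 (KT.alt (dw (nat_lit 0x1e171403)) (KT.neq (nat_lit 0) [nat_lit 10] (nat_lit 0) [])
 (KT.alt (dw (nat_lit 0x1d1c14)) (KT.neq (nat_lit 0) [nat_lit 18] (nat_lit 0) [])
 (KT.alt (dw (nat_lit 0x0f2114)) (KT.neq (nat_lit 0) [nat_lit 18] (nat_lit 0) [])
 (KT.alt (dw (nat_lit 0x0b1b1403)) (KT.neq (nat_lit 0) [nat_lit 12] (nat_lit 0) [])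
 (KT.alt (dw (nat_lit 0x2d1f1403)) (KT.neq (nat_lit 0) [nat_lit 18] (nat_lit 0) [])
 (KT.alt (dw (nat_lit 0x130f1c03)) (KT.neq (nat_lit 0) [nat_lit 8] (nat_lit 0) [])
 (KT.alt (dw (nat_lit 0x161d0503)) (KT.neq (nat_lit 0) [nat_lit 18] (nat_lit 0) [])
 (KT.alt (dw (nat_lit 0x31231d03)) (KT.neq (nat_lit 0) [nat_lit 18] (nat_lit 0) [])
 (KT.alt (dw (nat_lit 0x2d241f03)) (KT.neq (nat_lit 0) [nat_lit 18] (nat_lit 0) [])
 (KT.alt (dw (nat_lit 0x32191403)) (KT.neq (nat_lit 0) [nat_lit 18] (nat_lit 0) [])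
 t279))))))))))))))))))))))))))))))
noncomputable def t281 : KT := KT.alt (dw (nat_lit 0x202913)) (KT.neq (nat_lit 0) [nat_lit 10] (nat_lit 0) [])
 (KT.alt (dw (nat_lit 0x2d14)) (KT.neq (nat_lit 0) [nat_lit 18] (nat_lit 0) [])
 (KT.alt (dw (nat_lit 0x211e13)) (KT.neq (nat_lit 0) [nat_lit 18] (nat_lit 0) [])
 (KT.alt (dw (nat_lit 0x172015)) (KT.neq (nat_lit 0) [nat_lit 18] (nat_lit 0) [])
 (KT.alt (dw (nat_lit 0x21131313)) (KT.neq (nat_lit 0) [nat_lit 2] (nat_lit 0) [])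
 (KT.alt (dw (nat_lit 0x2c1b1403)) (KT.neq (nat_lit 0) [nat_lit 18] (nat_lit 0) [])
 (KT.alt (dw (nat_lit 0x3114)) (KT.neq (nat_lit 0) [nat_lit 16] (nat_lit 0) [])
 (KT.alt (dw (nat_lit 0x1d231503)) (KT.neq (nat_lit 0) [nat_lit 18] (nat_lit 0) [])
 (KT.alt (dw (nat_lit 0x192614)) (KT.neq (nat_lit 0) [nat_lit 18] (nat_lit 0) [])
 (KT.alt (dw (nat_lit 0x281913)) (KT.neq (nat_lit 0) [nat_lit 18] (nat_lit 0) [])
 (KT.alt (dw (nat_lit 0x141d03)) (KT.neq (nat_lit 0) [nat_lit 18] (nat_lit 0) [])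
 (KT.alt (dw (nat_lit 0x1b250313)) (KT.neq (nat_lit 0) [nat_lit 0] (nat_lit 0) [])
 (KT.alt (dw (nat_lit 0x1f230313)) (KT.neq (nat_lit 0) [nat_lit 0] (nat_lit 0) [])
 (KT.alt (dw (nat_lit 0x1d2b13)) (KT.neq (nat_lit 0) [nat_lit 16] (nat_lit 0) [])
 (KT.alt (dw (nat_lit 0x052015)) (KT.neq (nat_lit 0) [nat_lit 18] (nat_lit 0) [])
 (KT.alt (dw (nat_lit 0x1b2d14)) (KT.neq (nat_lit 0) [nat_lit 18] (nat_lit 0) [])
 (KT.alt (dw (nat_lit 0x26231503)) (KT.neq (nat_lit 0) [nat_lit 18] (nat_lit 0) [])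
 (KT.alt (dw (nat_lit 0x24091613)) (KT.neq (nat_lit 0) [nat_lit 18] (nat_lit 0) [])
 (KT.alt (dw (nat_lit 0x2b14)) (KT.neq (nat_lit 0) [nat_lit 18] (nat_lit 0) [])
 (KT.alt (dw (nat_lit 0x2c0313)) (KT.neq (nat_lit 0) [nat_lit 18] (nat_lit 0) [])
 (KT.alt (dw (nat_lit 0x271414)) (KT.neq (nat_lit 0) [nat_lit 18] (nat_lit 0) [])
 (KT.alt (dw (nat_lit 0x2e200313)) (KT.neq (nat_lit 0) [nat_lit 2] (nat_lit 0) [])
 (KT.alt (dw (nat_lit 0x25231403)) (KT.neq (nat_lit 0) [nat_lit 18] (nat_lit 0) [])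
 (KT.alt (dw (nat_lit 0x201d13)) (KT.neq (nat_lit 0) [nat_lit 18] (nat_lit 0) [])
 (KT.alt (dw (nat_lit 0x2f1c1313)) (KT.neq (nat_lit 0) [nat_lit 18] (nat_lit 0) [])
 (KT.alt (dw (nat_lit 0x142813)) (KT.neq (nat_lit 0) [nat_lit 18] (nat_lit 0) [])
 (KT.alt (dw (nat_lit 0x192d13)) (KT.neq (nat_lit 0) [nat_lit 18] (nat_lit 0) [])
 (KT.alt (dw (nat_lit 0x052d13)) (KT.neq (nat_lit 0) [nat_lit 18] (nat_lit 0) [])
 (KT.alt (dw (nat_lit 0x19271c03)) (KT.neq (nat_lit 0) [nat_lit 8] (nat_lit 0) [])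
 (KT.alt (dw (nat_lit 0x132b13)) (KT.neq (nat_lit 0) [nat_lit 18] (nat_lit 0) [])
 (KT.alt (dw (nat_lit 0x2c171403)) (KT.neq (nat_lit 0) [nat_lit 2] (nat_lit 0) [])
 t280))))))))))))))))))))))))))))))
noncomputable def t282 : KT := KT.alt (dw (nat_lit 0x311d13)) (KT.neq (nat_lit 0) [nat_lit 16] (nat_lit 0) [])
 (KT.alt (dw (nat_lit 0x162313)) (KT.neq (nat_lit 0) [nat_lit 18] (nat_lit 0) [])
 (KT.alt (dw (nat_lit 0x11251513)) (KT.neq (nat_lit 0) [nat_lit 18] (nat_lit 0) [])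
 (KT.alt (dw (nat_lit 0x1b1f1403)) (KT.neq (nat_lit 0) [nat_lit 18] (nat_lit 0) [])
 (KT.alt (dw (nat_lit 0x17281903)) (KT.neq (nat_lit 0) [nat_lit 18] (nat_lit 0) [])
 (KT.alt (dw (nat_lit 0x150d2013)) (KT.neq (nat_lit 0) [nat_lit 18] (nat_lit 0) [])
 (KT.alt (dw (nat_lit 0x0f2313)) (KT.neq (nat_lit 0) [nat_lit 18] (nat_lit 0) [])
 (KT.alt (dw (nat_lit 0x322313)) (KT.neq (nat_lit 0) [nat_lit 18] (nat_lit 0) [])
 (KT.alt (dw (nat_lit 0x0b202003)) (KT.neq (nat_lit 0) [nat_lit 18] (nat_lit 0) [])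
 (KT.alt (dw (nat_lit 0x1414)) (KT.neq (nat_lit 0) [nat_lit 18] (nat_lit 0) [])
 (KT.alt (dw (nat_lit 0x191d03)) (KT.neq (nat_lit 0) [nat_lit 18] (nat_lit 0) [])
 (KT.alt (dw (nat_lit 0x0b2413)) (KT.neq (nat_lit 0) [nat_lit 18] (nat_lit 0) [])
 (KT.alt (dw (nat_lit 0x152d1303)) (KT.neq (nat_lit 0) [nat_lit 18] (nat_lit 0) [])
 (KT.alt (dw (nat_lit 0x1c271903)) (KT.neq (nat_lit 0) [nat_lit 18] (nat_lit 0) [])
 (KT.alt (dw (nat_lit 0x2c2914)) (KT.neq (nat_lit 0) [nat_lit 18] (nat_lit 0) [])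
 (KT.alt (dw (nat_lit 0x29201403)) (KT.neq (nat_lit 0) [nat_lit 18] (nat_lit 0) [])
 (KT.alt (dw (nat_lit 0x282114)) (KT.neq (nat_lit 0) [nat_lit 18] (nat_lit 0) [])
 (KT.alt (dw (nat_lit 0x2e1d1b13)) (KT.neq (nat_lit 0) [nat_lit 18] (nat_lit 0) [])
 (KT.alt (dw (nat_lit 0x13)) (KT.neq (nat_lit 0) [nat_lit 18] (nat_lit 0) [])
 (KT.alt (dw (nat_lit 0x141613)) (KT.neq (nat_lit 0) [nat_lit 2] (nat_lit 0) [])
 (KT.alt (dw (nat_lit 0x2f2014)) (KT.neq (nat_lit 0) [nat_lit 18] (nat_lit 0) [])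
 (KT.alt (dw (nat_lit 0x2d2114)) (KT.neq (nat_lit 0) [nat_lit 18] (nat_lit 0) [])
 (KT.alt (dw (nat_lit 0x231e14)) (KT.neq (nat_lit 0) [nat_lit 18] (nat_lit 0) [])
 (KT.alt (dw (nat_lit 0x031e1503)) (KT.neq (nat_lit 0) [nat_lit 18] (nat_lit 0) [])
 (KT.alt (dw (nat_lit 0x2d201403)) (KT.neq (nat_lit 0) [nat_lit 18] (nat_lit 0) [])
 (KT.alt (dw (nat_lit 0x142414)) (KT.neq (nat_lit 0) [nat_lit 18] (nat_lit 0) [])
 (KT.alt (dw (nat_lit 0x15260313)) (KT.neq (nat_lit 0) [nat_lit 2] (nat_lit 0) [])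
 (KT.alt (dw (nat_lit 0x2e2613)) (KT.neq (nat_lit 0) [nat_lit 18] (nat_lit 0) [])
 (KT.alt (dw (nat_lit 0x160d2003)) (KT.neq (nat_lit 0) [nat_lit 16] (nat_lit 0) [])
 (KT.alt (dw (nat_lit 0x23132913)) (KT.neq (nat_lit 0) [nat_lit 10] (nat_lit 0) [])
 (KT.alt (dw (nat_lit 0x291d13)) (KT.neq (nat_lit 0) [nat_lit 18] (nat_lit 0) [])
 t281))))))))))))))))))))))))))))))
noncomputable def t283 : KT := KT.alt (dw (nat_lit 0x052e13)) (KT.neq (nat_lit 0) [nat_lit 18] (nat_lit 0) [])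
 (KT.alt (dw (nat_lit 0x111d03)) (KT.neq (nat_lit 0) [nat_lit 18] (nat_lit 0) [])
 (KT.alt (dw (nat_lit 0x2114)) (KT.neq (nat_lit 0) [nat_lit 16] (nat_lit 0) [])
 (KT.alt (dw (nat_lit 0x241503)) (KT.neq (nat_lit 0) [nat_lit 18] (nat_lit 0) [])
 (KT.alt (dw (nat_lit 0x2714)) (KT.neq (nat_lit 0) [nat_lit 18] (nat_lit 0) [])
 (KT.alt (dw (nat_lit 0x2c1313)) (KT.neq (nat_lit 0) [nat_lit 18] (nat_lit 0) [])
 (KT.alt (dw (nat_lit 0x152413)) (KT.neq (nat_lit 0) [nat_lit 18] (nat_lit 0) [])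
 (KT.alt (dw (nat_lit 0x202013)) (KT.neq (nat_lit 0) [nat_lit 16] (nat_lit 0) [])
 (KT.alt (dw (nat_lit 0x2b1d13)) (KT.neq (nat_lit 0) [nat_lit 18] (nat_lit 0) [])
 (KT.alt (dw (nat_lit 0x25281303)) (KT.neq (nat_lit 0) [nat_lit 18] (nat_lit 0) [])
 (KT.alt (dw (nat_lit 0x282613)) (KT.neq (nat_lit 0) [nat_lit 2] (nat_lit 0) [])
 (KT.alt (dw (nat_lit 0x0b2d13)) (KT.neq (nat_lit 0) [nat_lit 18] (nat_lit 0) [])
 (KT.alt (dw (nat_lit 0x271303)) (KT.neq (nat_lit 0) [nat_lit 18] (nat_lit 0) [])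
 (KT.alt (dw (nat_lit 0x2b1513)) (KT.neq (nat_lit 0) [nat_lit 18] (nat_lit 0) [])
 (KT.alt (dw (nat_lit 0x212d0313)) (KT.neq (nat_lit 0) [nat_lit 2] (nat_lit 0) [])
 (KT.alt (dw (nat_lit 0x291f1303)) (KT.neq (nat_lit 0) [nat_lit 18] (nat_lit 0) [])
 (KT.alt (dw (nat_lit 0x2d2813)) (KT.neq (nat_lit 0) [nat_lit 16] (nat_lit 0) [])
 (KT.alt (dw (nat_lit 0x111f1d13)) (KT.neq (nat_lit 0) [nat_lit 18] (nat_lit 0) [])
 (KT.alt (dw (nat_lit 0x2c2313)) (KT.neq (nat_lit 0) [nat_lit 18] (nat_lit 0) [])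
 (KT.alt (dw (nat_lit 0x1b2b0313)) (KT.neq (nat_lit 0) [nat_lit 18] (nat_lit 0) [])
 (KT.alt (dw (nat_lit 0x262314)) (KT.neq (nat_lit 0) [nat_lit 18] (nat_lit 0) [])
 (KT.alt (dw (nat_lit 0x192914)) (KT.neq (nat_lit 0) [nat_lit 18] (nat_lit 0) [])
 (KT.alt (dw (nat_lit 0x1f1d1c03)) (KT.neq (nat_lit 0) [nat_lit 18] (nat_lit 0) [])
 (KT.alt (dw (nat_lit 0x071f1403)) (KT.neq (nat_lit 0) [nat_lit 18] (nat_lit 0) [])
 (KT.alt (dw (nat_lit 0x19031e03)) (KT.neq (nat_lit 0) [nat_lit 18] (nat_lit 0) [])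
 (KT.alt (dw (nat_lit 0x17241303)) (KT.neq (nat_lit 0) [nat_lit 18] (nat_lit 0) [])
 (KT.alt (dw (nat_lit 0x2c1b14)) (KT.neq (nat_lit 0) [nat_lit 18] (nat_lit 0) [])
 (KT.alt (dw (nat_lit 0x1e1c0313)) (KT.neq (nat_lit 0) [nat_lit 18] (nat_lit 0) [])
 (KT.alt (dw (nat_lit 0x1c1d15)) (KT.neq (nat_lit 0) [nat_lit 16] (nat_lit 0) [])
 (KT.alt (dw (nat_lit 0x092013)) (KT.neq (nat_lit 0) [nat_lit 18] (nat_lit 0) [])
 (KT.alt (dw (nat_lit 0x111c1313)) (KT.neq (nat_lit 0) [nat_lit 2] (nat_lit 0) [])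
 t282))))))))))))))))))))))))))))))
noncomputable def t284 : KT := KT.alt (dw (nat_lit 0x272c1d03)) (KT.neq (nat_lit 0) [nat_lit 18] (nat_lit 0) [])
 (KT.alt (dw (nat_lit 0x271f15)) (KT.neq (nat_lit 0) [nat_lit 18] (nat_lit 0) [])
 (KT.alt (dw (nat_lit 0x112314)) (KT.neq (nat_lit 0) [nat_lit 18] (nat_lit 0) [])
 (KT.alt (dw (nat_lit 0x05281903)) (KT.neq (nat_lit 0) [nat_lit 18] (nat_lit 0) [])
 (KT.alt (dw (nat_lit 0x191614)) (KT.neq (nat_lit 0) [nat_lit 18] (nat_lit 0) [])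
 (KT.alt (dw (nat_lit 0x240b1d03)) (KT.neq (nat_lit 0) [nat_lit 18] (nat_lit 0) [])
 (KT.alt (dw (nat_lit 0x2d151d03)) (KT.neq (nat_lit 0) [nat_lit 18] (nat_lit 0) [])
 (KT.alt (dw (nat_lit 0x311d14)) (KT.neq (nat_lit 0) [nat_lit 18] (nat_lit 0) [])
 (KT.alt (dw (nat_lit 0x26031603)) (KT.neq (nat_lit 0) [nat_lit 18] (nat_lit 0) [])
 (KT.alt (dw (nat_lit 0x0d2313)) (KT.neq (nat_lit 0) [nat_lit 18] (nat_lit 0) [])
 (KT.alt (dw (nat_lit 0x2e201303)) (KT.neq (nat_lit 0) [nat_lit 18] (nat_lit 0) [])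
 (KT.alt (dw (nat_lit 0x25241d03)) (KT.neq (nat_lit 0) [nat_lit 18] (nat_lit 0) [])
 (KT.alt (dw (nat_lit 0x2e131303)) (KT.neq (nat_lit 0) [nat_lit 18] (nat_lit 0) [])
 (KT.alt (dw (nat_lit 0x281414)) (KT.neq (nat_lit 0) [nat_lit 18] (nat_lit 0) [])
 (KT.alt (dw (nat_lit 0x1714)) (KT.neq (nat_lit 0) [nat_lit 18] (nat_lit 0) [])
 (KT.alt (dw (nat_lit 0x1c1f14)) (KT.neq (nat_lit 0) [nat_lit 18] (nat_lit 0) [])
 (KT.alt (dw (nat_lit 0x1f1614)) (KT.neq (nat_lit 0) [nat_lit 10] (nat_lit 0) [])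
 (KT.alt (dw (nat_lit 0x092014)) (KT.neq (nat_lit 0) [nat_lit 18] (nat_lit 0) [])
 (KT.alt (dw (nat_lit 0x1d1b1403)) (KT.neq (nat_lit 0) [nat_lit 18] (nat_lit 0) [])
 (KT.alt (dw (nat_lit 0x2914)) (KT.neq (nat_lit 0) [nat_lit 18] (nat_lit 0) [])
 (KT.alt (dw (nat_lit 0x23211e03)) (KT.neq (nat_lit 0) [nat_lit 18] (nat_lit 0) [])
 (KT.alt (dw (nat_lit 0x201414)) (KT.neq (nat_lit 0) [nat_lit 18] (nat_lit 0) [])
 (KT.alt (dw (nat_lit 0x17281503)) (KT.neq (nat_lit 0) [nat_lit 18] (nat_lit 0) [])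
 (KT.alt (dw (nat_lit 0x1f14)) (KT.neq (nat_lit 0) [nat_lit 18] (nat_lit 0) [])
 (KT.alt (dw (nat_lit 0x0d3114)) (KT.neq (nat_lit 0) [nat_lit 18] (nat_lit 0) [])
 (KT.alt (dw (nat_lit 0x2b231503)) (KT.neq (nat_lit 0) [nat_lit 18] (nat_lit 0) [])
 (KT.alt (dw (nat_lit 0x1b322003)) (KT.neq (nat_lit 0) [nat_lit 18] (nat_lit 0) [])
 (KT.alt (dw (nat_lit 0x211315)) (KT.neq (nat_lit 0) [nat_lit 8] (nat_lit 0) [])
 (KT.alt (dw (nat_lit 0x292613)) (KT.neq (nat_lit 0) [nat_lit 18] (nat_lit 0) [])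
 (KT.alt (dw (nat_lit 0x261c14)) (KT.neq (nat_lit 0) [nat_lit 16] (nat_lit 0) [])
 (KT.alt (dw (nat_lit 0x2e211403)) (KT.neq (nat_lit 0) [nat_lit 8] (nat_lit 0) [])
 t283))))))))))))))))))))))))))))))
noncomputable def t285 : KT := KT.alt (dw (nat_lit 0x311903)) (KT.neq (nat_lit 0) [nat_lit 8] (nat_lit 0) [])
 (KT.alt (dw (nat_lit 0x0b1b13)) (KT.neq (nat_lit 0) [nat_lit 18] (nat_lit 0) [])
 (KT.alt (dw (nat_lit 0x281303)) (KT.neq (nat_lit 0) [nat_lit 18] (nat_lit 0) [])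
 (KT.alt (dw (nat_lit 0x241515)) (KT.neq (nat_lit 0) [nat_lit 18] (nat_lit 0) [])
 (KT.alt (dw (nat_lit 0x1b2914)) (KT.neq (nat_lit 0) [nat_lit 18] (nat_lit 0) [])
 (KT.alt (dw (nat_lit 0x312713)) (KT.neq (nat_lit 0) [nat_lit 18] (nat_lit 0) [])
 (KT.alt (dw (nat_lit 0x0d152003)) (KT.neq (nat_lit 0) [nat_lit 18] (nat_lit 0) [])
 (KT.alt (dw (nat_lit 0x200313)) (KT.neq (nat_lit 0) [nat_lit 18] (nat_lit 0) [])
 (KT.alt (dw (nat_lit 0x0d2d14)) (KT.neq (nat_lit 0) [nat_lit 18] (nat_lit 0) [])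
 (KT.alt (dw (nat_lit 0x161f14)) (KT.neq (nat_lit 0) [nat_lit 18] (nat_lit 0) [])
 (KT.alt (dw (nat_lit 0x251414)) (KT.neq (nat_lit 0) [nat_lit 18] (nat_lit 0) [])
 (KT.alt (dw (nat_lit 0x0f1414)) (KT.neq (nat_lit 0) [nat_lit 0] (nat_lit 0) [])
 (KT.alt (dw (nat_lit 0x15112013)) (KT.neq (nat_lit 0) [nat_lit 18] (nat_lit 0) [])
 (KT.alt (dw (nat_lit 0x1f2314)) (KT.neq (nat_lit 0) [nat_lit 18] (nat_lit 0) [])
 (KT.alt (dw (nat_lit 0x2d1e13)) (KT.neq (nat_lit 0) [nat_lit 18] (nat_lit 0) [])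
 (KT.alt (dw (nat_lit 0x1b132003)) (KT.neq (nat_lit 0) [nat_lit 2] (nat_lit 0) [])
 (KT.alt (dw (nat_lit 0x1e2813)) (KT.neq (nat_lit 0) [nat_lit 18] (nat_lit 0) [])
 (KT.alt (dw (nat_lit 0x1e1b14)) (KT.neq (nat_lit 0) [nat_lit 18] (nat_lit 0) [])
 (KT.alt (dw (nat_lit 0x20171403)) (KT.neq (nat_lit 0) [nat_lit 18] (nat_lit 0) [])
 (KT.alt (dw (nat_lit 0x171f03)) (KT.neq (nat_lit 0) [nat_lit 18] (nat_lit 0) [])
 (KT.alt (dw (nat_lit 0x091e0313)) (KT.neq (nat_lit 0) [nat_lit 18] (nat_lit 0) [])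
 (KT.alt (dw (nat_lit 0x052814)) (KT.neq (nat_lit 0) [nat_lit 16] (nat_lit 0) [])
 (KT.alt (dw (nat_lit 0x092c13)) (KT.neq (nat_lit 0) [nat_lit 18] (nat_lit 0) [])
 (KT.alt (dw (nat_lit 0x29260313)) (KT.neq (nat_lit 0) [nat_lit 12] (nat_lit 0) [])
 (KT.alt (dw (nat_lit 0x132114)) (KT.neq (nat_lit 0) [nat_lit 18] (nat_lit 0) [])
 (KT.alt (dw (nat_lit 0x1e14)) (KT.neq (nat_lit 0) [nat_lit 18] (nat_lit 0) [])
 (KT.alt (dw (nat_lit 0x1d0f1903)) (KT.neq (nat_lit 0) [nat_lit 18] (nat_lit 0) [])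
 (KT.alt (dw (nat_lit 0x072d13)) (KT.neq (nat_lit 0) [nat_lit 18] (nat_lit 0) [])
 (KT.alt (dw (nat_lit 0x1f1f13)) (KT.neq (nat_lit 0) [nat_lit 18] (nat_lit 0) [])
 (KT.alt (dw (nat_lit 0x28131303)) (KT.neq (nat_lit 0) [nat_lit 18] (nat_lit 0) [])
 (KT.alt (dw (nat_lit 0x2c131503)) (KT.neq (nat_lit 0) [nat_lit 18] (nat_lit 0) [])
 t284))))))))))))))))))))))))))))))
noncomputable def t286 : KT := KT.alt (dw (nat_lit 0x140b1c03)) (KT.neq (nat_lit 0) [nat_lit 2] (nat_lit 0) [])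
 (KT.alt (dw (nat_lit 0x0914)) (KT.neq (nat_lit 0) [nat_lit 18] (nat_lit 0) [])
 (KT.alt (dw (nat_lit 0x1c2e13)) (KT.neq (nat_lit 0) [nat_lit 18] (nat_lit 0) [])
 (KT.alt (dw (nat_lit 0x091c1303)) (KT.neq (nat_lit 0) [nat_lit 18] (nat_lit 0) [])
 (KT.alt (dw (nat_lit 0x133113)) (KT.neq (nat_lit 0) [nat_lit 18] (nat_lit 0) [])
 (KT.alt (dw (nat_lit 0x202714)) (KT.neq (nat_lit 0) [nat_lit 18] (nat_lit 0) [])
 (KT.alt (dw (nat_lit 0x192c13)) (KT.neq (nat_lit 0) [nat_lit 16] (nat_lit 0) [])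
 (KT.alt (dw (nat_lit 0x16231c03)) (KT.neq (nat_lit 0) [nat_lit 2] (nat_lit 0) [])
 (KT.alt (dw (nat_lit 0x2e151d03)) (KT.neq (nat_lit 0) [nat_lit 18] (nat_lit 0) [])
 (KT.alt (dw (nat_lit 0x161414)) (KT.neq (nat_lit 0) [nat_lit 18] (nat_lit 0) [])
 (KT.alt (dw (nat_lit 0x2b1414)) (KT.neq (nat_lit 0) [nat_lit 18] (nat_lit 0) [])
 (KT.alt (dw (nat_lit 0x0f152003)) (KT.neq (nat_lit 0) [nat_lit 18] (nat_lit 0) [])
 (KT.alt (dw (nat_lit 0x0b141e03)) (KT.neq (nat_lit 0) [nat_lit 18] (nat_lit 0) [])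
 (KT.alt (dw (nat_lit 0x241913)) (KT.neq (nat_lit 0) [nat_lit 18] (nat_lit 0) [])
 (KT.alt (dw (nat_lit 0x201e13)) (KT.neq (nat_lit 0) [nat_lit 18] (nat_lit 0) [])
 (KT.alt (dw (nat_lit 0x2b1d03)) (KT.neq (nat_lit 0) [nat_lit 18] (nat_lit 0) [])
 (KT.alt (dw (nat_lit 0x231315)) (KT.neq (nat_lit 0) [nat_lit 18] (nat_lit 0) [])
 (KT.alt (dw (nat_lit 0x212b14)) (KT.neq (nat_lit 0) [nat_lit 16] (nat_lit 0) [])
 (KT.alt (dw (nat_lit 0x112413)) (KT.neq (nat_lit 0) [nat_lit 18] (nat_lit 0) [])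
 (KT.alt (dw (nat_lit 0x2d1d14)) (KT.neq (nat_lit 0) [nat_lit 18] (nat_lit 0) [])
 (KT.alt (dw (nat_lit 0x0b1d14)) (KT.neq (nat_lit 0) [nat_lit 18] (nat_lit 0) [])
 (KT.alt (dw (nat_lit 0x132e0503)) (KT.neq (nat_lit 0) [nat_lit 18] (nat_lit 0) [])
 (KT.alt (dw (nat_lit 0x151c14)) (KT.neq (nat_lit 0) [nat_lit 18] (nat_lit 0) [])
 (KT.alt (dw (nat_lit 0x2b1515)) (KT.neq (nat_lit 0) [nat_lit 18] (nat_lit 0) [])
 (KT.alt (dw (nat_lit 0x171d03)) (KT.neq (nat_lit 0) [nat_lit 18] (nat_lit 0) [])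
 (KT.alt (dw (nat_lit 0x14242b13)) (KT.neq (nat_lit 0) [nat_lit 2] (nat_lit 0) [])
 (KT.alt (dw (nat_lit 0x2e201313)) (KT.neq (nat_lit 0) [nat_lit 2] (nat_lit 0) [])
 (KT.alt (dw (nat_lit 0x252814)) (KT.neq (nat_lit 0) [nat_lit 18] (nat_lit 0) [])
 (KT.alt (dw (nat_lit 0x1b3114)) (KT.neq (nat_lit 0) [nat_lit 18] (nat_lit 0) [])
 (KT.alt (dw (nat_lit 0x27132003)) (KT.neq (nat_lit 0) [nat_lit 8] (nat_lit 0) [])
 (KT.alt (dw (nat_lit 0x2e1903)) (KT.neq (nat_lit 0) [nat_lit 18] (nat_lit 0) [])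
 t285))))))))))))))))))))))))))))))
noncomputable def t287 : KT := KT.alt (dw (nat_lit 0x132814)) (KT.neq (nat_lit 0) [nat_lit 18] (nat_lit 0) [])
 (KT.alt (dw (nat_lit 0x09191403)) (KT.neq (nat_lit 0) [nat_lit 18] (nat_lit 0) [])
 (KT.alt (dw (nat_lit 0x202513)) (KT.neq (nat_lit 0) [nat_lit 18] (nat_lit 0) [])
 (KT.alt (dw (nat_lit 0x150d2003)) (KT.neq (nat_lit 0) [nat_lit 18] (nat_lit 0) [])
 (KT.alt (dw (nat_lit 0x052e14)) (KT.neq (nat_lit 0) [nat_lit 18] (nat_lit 0) [])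
 (KT.alt (dw (nat_lit 0x1e2114)) (KT.neq (nat_lit 0) [nat_lit 8] (nat_lit 0) [])
 (KT.alt (dw (nat_lit 0x2d200313)) (KT.neq (nat_lit 0) [nat_lit 12] (nat_lit 0) [])
 (KT.alt (dw (nat_lit 0x251f15)) (KT.neq (nat_lit 0) [nat_lit 10] (nat_lit 0) [])
 (KT.alt (dw (nat_lit 0x031603)) (KT.neq (nat_lit 0) [nat_lit 2] (nat_lit 0) [])
 (KT.alt (dw (nat_lit 0x0d2314)) (KT.neq (nat_lit 0) [nat_lit 18] (nat_lit 0) [])
 (KT.alt (dw (nat_lit 0x26171f03)) (KT.neq (nat_lit 0) [nat_lit 18] (nat_lit 0) [])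
 (KT.alt (dw (nat_lit 0x192714)) (KT.neq (nat_lit 0) [nat_lit 16] (nat_lit 0) [])
 (KT.alt (dw (nat_lit 0x1b1414)) (KT.neq (nat_lit 0) [nat_lit 18] (nat_lit 0) [])
 (KT.alt (dw (nat_lit 0x322c1f03)) (KT.neq (nat_lit 0) [nat_lit 18] (nat_lit 0) [])
 (KT.alt (dw (nat_lit 0x1c1613)) (KT.neq (nat_lit 0) [nat_lit 18] (nat_lit 0) [])
 (KT.alt (dw (nat_lit 0x27250313)) (KT.neq (nat_lit 0) [nat_lit 18] (nat_lit 0) [])
 (KT.alt (dw (nat_lit 0x163114)) (KT.neq (nat_lit 0) [nat_lit 10] (nat_lit 0) [])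
 (KT.alt (dw (nat_lit 0x211313)) (KT.neq (nat_lit 0) [nat_lit 0] (nat_lit 0) [])
 (KT.alt (dw (nat_lit 0x0d191403)) (KT.neq (nat_lit 0) [nat_lit 2] (nat_lit 0) [])
 (KT.alt (dw (nat_lit 0x202313)) (KT.neq (nat_lit 0) [nat_lit 18] (nat_lit 0) [])
 (KT.alt (dw (nat_lit 0x2314)) (KT.neq (nat_lit 0) [nat_lit 18] (nat_lit 0) [])
 (KT.alt (dw (nat_lit 0x321315)) (KT.neq (nat_lit 0) [nat_lit 18] (nat_lit 0) [])
 (KT.alt (dw (nat_lit 0x03131e03)) (KT.neq (nat_lit 0) [nat_lit 0] (nat_lit 0) [])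
 (KT.alt (dw (nat_lit 0x25091d03)) (KT.neq (nat_lit 0) [nat_lit 18] (nat_lit 0) [])
 (KT.alt (dw (nat_lit 0x281403)) (KT.neq (nat_lit 0) [nat_lit 2] (nat_lit 0) [])
 (KT.alt (dw (nat_lit 0x0d2b1c03)) (KT.neq (nat_lit 0) [nat_lit 18] (nat_lit 0) [])
 (KT.alt (dw (nat_lit 0x31231403)) (KT.neq (nat_lit 0) [nat_lit 18] (nat_lit 0) [])
 (KT.alt (dw (nat_lit 0x0d2e13)) (KT.neq (nat_lit 0) [nat_lit 16] (nat_lit 0) [])
 (KT.alt (dw (nat_lit 0x29241f03)) (KT.neq (nat_lit 0) [nat_lit 18] (nat_lit 0) [])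
 (KT.alt (dw (nat_lit 0x1b2d1303)) (KT.neq (nat_lit 0) [nat_lit 18] (nat_lit 0) [])
 (KT.alt (dw (nat_lit 0x23320313)) (KT.neq (nat_lit 0) [nat_lit 18] (nat_lit 0) [])
 t286))))))))))))))))))))))))))))))
noncomputable def t288 : KT := KT.alt (dw (nat_lit 0x1d2e14)) (KT.neq (nat_lit 0) [nat_lit 16] (nat_lit 0) [])
 (KT.alt (dw (nat_lit 0x271d13)) (KT.neq (nat_lit 0) [nat_lit 18] (nat_lit 0) [])
 (KT.alt (dw (nat_lit 0x19241403)) (KT.neq (nat_lit 0) [nat_lit 18] (nat_lit 0) [])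
 (KT.alt (dw (nat_lit 0x262613)) (KT.neq (nat_lit 0) [nat_lit 18] (nat_lit 0) [])
 (KT.alt (dw (nat_lit 0x281e03)) (KT.neq (nat_lit 0) [nat_lit 18] (nat_lit 0) [])
 (KT.alt (dw (nat_lit 0x231b13)) (KT.neq (nat_lit 0) [nat_lit 18] (nat_lit 0) [])
 (KT.alt (dw (nat_lit 0x231b1503)) (KT.neq (nat_lit 0) [nat_lit 18] (nat_lit 0) [])
 (KT.alt (dw (nat_lit 0x242114)) (KT.neq (nat_lit 0) [nat_lit 18] (nat_lit 0) [])
 (KT.alt (dw (nat_lit 0x072714)) (KT.neq (nat_lit 0) [nat_lit 16] (nat_lit 0) [])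
 (KT.alt (dw (nat_lit 0x2e1f13)) (KT.neq (nat_lit 0) [nat_lit 18] (nat_lit 0) [])
 (KT.alt (dw (nat_lit 0x31111903)) (KT.neq (nat_lit 0) [nat_lit 18] (nat_lit 0) [])
 (KT.alt (dw (nat_lit 0x1f1f15)) (KT.neq (nat_lit 0) [nat_lit 18] (nat_lit 0) [])
 (KT.alt (dw (nat_lit 0x2014)) (KT.neq (nat_lit 0) [nat_lit 18] (nat_lit 0) [])
 (KT.alt (dw (nat_lit 0x112013)) (KT.neq (nat_lit 0) [nat_lit 18] (nat_lit 0) [])
 (KT.alt (dw (nat_lit 0x231303)) (KT.neq (nat_lit 0) [nat_lit 18] (nat_lit 0) [])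
 (KT.alt (dw (nat_lit 0x242b13)) (KT.neq (nat_lit 0) [nat_lit 18] (nat_lit 0) [])
 (KT.alt (dw (nat_lit 0x1c2513)) (KT.neq (nat_lit 0) [nat_lit 16] (nat_lit 0) [])
 (KT.alt (dw (nat_lit 0x260313)) (KT.neq (nat_lit 0) [nat_lit 2] (nat_lit 0) [])
 (KT.alt (dw (nat_lit 0x172414)) (KT.neq (nat_lit 0) [nat_lit 18] (nat_lit 0) [])
 (KT.alt (dw (nat_lit 0x19171403)) (KT.neq (nat_lit 0) [nat_lit 2] (nat_lit 0) [])
 (KT.alt (dw (nat_lit 0x152c2003)) (KT.neq (nat_lit 0) [nat_lit 18] (nat_lit 0) [])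
 (KT.alt (dw (nat_lit 0x141f15)) (KT.neq (nat_lit 0) [nat_lit 18] (nat_lit 0) [])
 (KT.alt (dw (nat_lit 0x2d1614)) (KT.neq (nat_lit 0) [nat_lit 18] (nat_lit 0) [])
 (KT.alt (dw (nat_lit 0x141903)) (KT.neq (nat_lit 0) [nat_lit 2] (nat_lit 0) [])
 (KT.alt (dw (nat_lit 0x251c14)) (KT.neq (nat_lit 0) [nat_lit 16] (nat_lit 0) [])
 (KT.alt (dw (nat_lit 0x172413)) (KT.neq (nat_lit 0) [nat_lit 18] (nat_lit 0) [])
 (KT.alt (dw (nat_lit 0x1d1414)) (KT.neq (nat_lit 0) [nat_lit 2] (nat_lit 0) [])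
 (KT.alt (dw (nat_lit 0x32200313)) (KT.neq (nat_lit 0) [nat_lit 8] (nat_lit 0) [])
 (KT.alt (dw (nat_lit 0x131f13)) (KT.neq (nat_lit 0) [nat_lit 18] (nat_lit 0) [])
 (KT.alt (dw (nat_lit 0x201e14)) (KT.neq (nat_lit 0) [nat_lit 18] (nat_lit 0) [])
 (KT.alt (dw (nat_lit 0x231414)) (KT.neq (nat_lit 0) [nat_lit 10] (nat_lit 0) [])
 t287))))))))))))))))))))))))))))))
noncomputable def t289 : KT := KT.alt (dw (nat_lit 0x151c1303)) (KT.neq (nat_lit 0) [nat_lit 18] (nat_lit 0) [])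
 (KT.alt (dw (nat_lit 0x322413)) (KT.neq (nat_lit 0) [nat_lit 18] (nat_lit 0) [])
 (KT.alt (dw (nat_lit 0x15131503)) (KT.neq (nat_lit 0) [nat_lit 16] (nat_lit 0) [])
 (KT.alt (dw (nat_lit 0x2c260313)) (KT.neq (nat_lit 0) [nat_lit 2] (nat_lit 0) [])
 (KT.alt (dw (nat_lit 0x131f15)) (KT.neq (nat_lit 0) [nat_lit 18] (nat_lit 0) [])
 (KT.alt (dw (nat_lit 0x212714)) (KT.neq (nat_lit 0) [nat_lit 16] (nat_lit 0) [])
 (KT.alt (dw (nat_lit 0x200b1913)) (KT.neq (nat_lit 0) [nat_lit 18] (nat_lit 0) [])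
 (KT.alt (dw (nat_lit 0x32111903)) (KT.neq (nat_lit 0) [nat_lit 18] (nat_lit 0) [])
 (KT.alt (dw (nat_lit 0x1f131503)) (KT.neq (nat_lit 0) [nat_lit 18] (nat_lit 0) [])
 (KT.alt (dw (nat_lit 0x142d14)) (KT.neq (nat_lit 0) [nat_lit 18] (nat_lit 0) [])
 (KT.alt (dw (nat_lit 0x2d212003)) (KT.neq (nat_lit 0) [nat_lit 18] (nat_lit 0) [])
 (KT.alt (dw (nat_lit 0x1f291403)) (KT.neq (nat_lit 0) [nat_lit 10] (nat_lit 0) [])
 (KT.alt (dw (nat_lit 0x17261d03)) (KT.neq (nat_lit 0) [nat_lit 2] (nat_lit 0) [])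
 (KT.alt (dw (nat_lit 0x292d13)) (KT.neq (nat_lit 0) [nat_lit 16] (nat_lit 0) [])
 (KT.alt (dw (nat_lit 0x321614)) (KT.neq (nat_lit 0) [nat_lit 18] (nat_lit 0) [])
 (KT.alt (dw (nat_lit 0x1b1d15)) (KT.neq (nat_lit 0) [nat_lit 18] (nat_lit 0) [])
 (KT.alt (dw (nat_lit 0x2c1614)) (KT.neq (nat_lit 0) [nat_lit 18] (nat_lit 0) [])
 (KT.alt (dw (nat_lit 0x192b13)) (KT.neq (nat_lit 0) [nat_lit 18] (nat_lit 0) [])
 (KT.alt (dw (nat_lit 0x0b131303)) (KT.neq (nat_lit 0) [nat_lit 2] (nat_lit 0) [])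
 (KT.alt (dw (nat_lit 0x071b13)) (KT.neq (nat_lit 0) [nat_lit 18] (nat_lit 0) [])
 (KT.alt (dw (nat_lit 0x1f1414)) (KT.neq (nat_lit 0) [nat_lit 8] (nat_lit 0) [])
 (KT.alt (dw (nat_lit 0x111513)) (KT.br (nat_lit 7) (KT.alt (dw (nat_lit 0x1115131729)) (KT.neq (nat_lit 7) [nat_lit 18] (nat_lit 7) [])
 (KT.alt (dw (nat_lit 0x1115133207)) (KT.neq (nat_lit 7) [nat_lit 18] (nat_lit 7) [])
 (KT.alt (dw (nat_lit 0x1115132025)) (KT.neq (nat_lit 7) [nat_lit 8] (nat_lit 7) [])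
 (KT.alt (dw (nat_lit 0x1115130f09)) (KT.neq (nat_lit 7) [nat_lit 8] (nat_lit 7) [])
 (KT.alt (dw (nat_lit 0x1115131f2405)) (KT.neq (nat_lit 7) [nat_lit 18] (nat_lit 7) [])
 (KT.alt (dw (nat_lit 0x1115130b05)) (KT.neq (nat_lit 7) [nat_lit 18] (nat_lit 7) [])
 (KT.alt (dw (nat_lit 0x1115131d1c)) (KT.neq (nat_lit 7) [nat_lit 18] (nat_lit 7) [])
 (KT.alt (dw (nat_lit 0x1115130d20)) (KT.neq (nat_lit 7) [nat_lit 18] (nat_lit 7) [])
 t274)))))))))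
 (KT.alt (dw (nat_lit 0x1e1f13)) (KT.neq (nat_lit 0) [nat_lit 18] (nat_lit 0) [])
 (KT.alt (dw (nat_lit 0x282614)) (KT.neq (nat_lit 0) [nat_lit 18] (nat_lit 0) [])
 (KT.alt (dw (nat_lit 0x1b131f13)) (KT.neq (nat_lit 0) [nat_lit 18] (nat_lit 0) [])
 (KT.alt (dw (nat_lit 0x201714)) (KT.neq (nat_lit 0) [nat_lit 18] (nat_lit 0) [])
 (KT.alt (dw (nat_lit 0x212d13)) (KT.neq (nat_lit 0) [nat_lit 18] (nat_lit 0) [])
 (KT.alt (dw (nat_lit 0x2d2015)) (KT.neq (nat_lit 0) [nat_lit 18] (nat_lit 0) [])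
 (KT.alt (dw (nat_lit 0x271e13)) (KT.neq (nat_lit 0) [nat_lit 18] (nat_lit 0) [])
 (KT.alt (dw (nat_lit 0x131d14)) (KT.neq (nat_lit 0) [nat_lit 18] (nat_lit 0) [])
 (KT.alt (dw (nat_lit 0x1b141e03)) (KT.neq (nat_lit 0) [nat_lit 2] (nat_lit 0) [])
 t288))))))))))))))))))))))))))))))
noncomputable def t290 : KT := KT.alt (dw (nat_lit 0x262b13)) (KT.neq (nat_lit 0) [nat_lit 18] (nat_lit 0) [])
 (KT.alt (dw (nat_lit 0x132d13)) (KT.neq (nat_lit 0) [nat_lit 18] (nat_lit 0) [])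
 (KT.alt (dw (nat_lit 0x251d14)) (KT.neq (nat_lit 0) [nat_lit 18] (nat_lit 0) [])
 (KT.alt (dw (nat_lit 0x172d13)) (KT.neq (nat_lit 0) [nat_lit 18] (nat_lit 0) [])
 (KT.alt (dw (nat_lit 0x1e0f1f03)) (KT.neq (nat_lit 0) [nat_lit 18] (nat_lit 0) [])
 (KT.alt (dw (nat_lit 0x161d1503)) (KT.neq (nat_lit 0) [nat_lit 18] (nat_lit 0) [])
 (KT.alt (dw (nat_lit 0x1f2513)) (KT.neq (nat_lit 0) [nat_lit 18] (nat_lit 0) [])
 (KT.alt (dw (nat_lit 0x312114)) (KT.neq (nat_lit 0) [nat_lit 18] (nat_lit 0) [])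
 (KT.alt (dw (nat_lit 0x262114)) (KT.neq (nat_lit 0) [nat_lit 18] (nat_lit 0) [])
 (KT.alt (dw (nat_lit 0x281f0313)) (KT.neq (nat_lit 0) [nat_lit 18] (nat_lit 0) [])
 (KT.alt (dw (nat_lit 0x1b1f15)) (KT.neq (nat_lit 0) [nat_lit 18] (nat_lit 0) [])
 (KT.alt (dw (nat_lit 0x1f231e03)) (KT.neq (nat_lit 0) [nat_lit 18] (nat_lit 0) [])
 (KT.alt (dw (nat_lit 0x0f2d13)) (KT.neq (nat_lit 0) [nat_lit 18] (nat_lit 0) [])
 (KT.alt (dw (nat_lit 0x0b2114)) (KT.neq (nat_lit 0) [nat_lit 18] (nat_lit 0) [])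
 (KT.alt (dw (nat_lit 0x2413)) (KT.neq (nat_lit 0) [nat_lit 2] (nat_lit 0) [])
 (KT.alt (dw (nat_lit 0x2b1f13)) (KT.neq (nat_lit 0) [nat_lit 18] (nat_lit 0) [])
 (KT.alt (dw (nat_lit 0x15251e03)) (KT.neq (nat_lit 0) [nat_lit 18] (nat_lit 0) [])
 (KT.alt (dw (nat_lit 0x2d1c14)) (KT.neq (nat_lit 0) [nat_lit 16] (nat_lit 0) [])
 (KT.alt (dw (nat_lit 0x310313)) (KT.neq (nat_lit 0) [nat_lit 18] (nat_lit 0) [])
 (KT.alt (dw (nat_lit 0x2e14)) (KT.neq (nat_lit 0) [nat_lit 18] (nat_lit 0) [])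
 (KT.alt (dw (nat_lit 0x1b291513)) (KT.neq (nat_lit 0) [nat_lit 2] (nat_lit 0) [])
 (KT.alt (dw (nat_lit 0x291714)) (KT.neq (nat_lit 0) [nat_lit 18] (nat_lit 0) [])
 (KT.alt (dw (nat_lit 0x250313)) (KT.neq (nat_lit 0) [nat_lit 2] (nat_lit 0) [])
 (KT.alt (dw (nat_lit 0x28151d13)) (KT.neq (nat_lit 0) [nat_lit 8] (nat_lit 0) [])
 (KT.alt (dw (nat_lit 0x1b0313)) (KT.neq (nat_lit 0) [nat_lit 2] (nat_lit 0) [])
 (KT.alt (dw (nat_lit 0x1e241c03)) (KT.neq (nat_lit 0) [nat_lit 16] (nat_lit 0) [])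
 (KT.alt (dw (nat_lit 0x0d201403)) (KT.neq (nat_lit 0) [nat_lit 18] (nat_lit 0) [])
 (KT.alt (dw (nat_lit 0x0d2d1303)) (KT.neq (nat_lit 0) [nat_lit 18] (nat_lit 0) [])
 (KT.alt (dw (nat_lit 0x191e13)) (KT.neq (nat_lit 0) [nat_lit 16] (nat_lit 0) [])
 (KT.alt (dw (nat_lit 0x1e142003)) (KT.neq (nat_lit 0) [nat_lit 18] (nat_lit 0) [])
 (KT.alt (dw (nat_lit 0x1e2314)) (KT.neq (nat_lit 0) [nat_lit 2] (nat_lit 0) [])
 t289))))))))))))))))))))))))))))))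
noncomputable def t291 : KT := KT.alt (dw (nat_lit 0x052913)) (KT.neq (nat_lit 0) [nat_lit 18] (nat_lit 0) [])
 (KT.alt (dw (nat_lit 0x2f2b13)) (KT.neq (nat_lit 0) [nat_lit 18] (nat_lit 0) [])
 (KT.alt (dw (nat_lit 0x271503)) (KT.neq (nat_lit 0) [nat_lit 18] (nat_lit 0) [])
 (KT.alt (dw (nat_lit 0x150f1c03)) (KT.neq (nat_lit 0) [nat_lit 18] (nat_lit 0) [])
 (KT.alt (dw (nat_lit 0x1d111403)) (KT.neq (nat_lit 0) [nat_lit 2] (nat_lit 0) [])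
 (KT.alt (dw (nat_lit 0x1c241303)) (KT.neq (nat_lit 0) [nat_lit 18] (nat_lit 0) [])
 (KT.alt (dw (nat_lit 0x162513)) (KT.neq (nat_lit 0) [nat_lit 18] (nat_lit 0) [])
 (KT.alt (dw (nat_lit 0x1c1e13)) (KT.neq (nat_lit 0) [nat_lit 18] (nat_lit 0) [])
 (KT.alt (dw (nat_lit 0x251c0313)) (KT.neq (nat_lit 0) [nat_lit 18] (nat_lit 0) [])
 (KT.alt (dw (nat_lit 0x232913)) (KT.neq (nat_lit 0) [nat_lit 18] (nat_lit 0) [])
 (KT.alt (dw (nat_lit 0x0b2c13)) (KT.neq (nat_lit 0) [nat_lit 18] (nat_lit 0) [])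
 (KT.alt (dw (nat_lit 0x1b13)) (KT.neq (nat_lit 0) [nat_lit 18] (nat_lit 0) [])
 (KT.alt (dw (nat_lit 0x29231903)) (KT.neq (nat_lit 0) [nat_lit 18] (nat_lit 0) [])
 (KT.alt (dw (nat_lit 0x091313)) (KT.neq (nat_lit 0) [nat_lit 18] (nat_lit 0) [])
 (KT.alt (dw (nat_lit 0x152b14)) (KT.neq (nat_lit 0) [nat_lit 18] (nat_lit 0) [])
 (KT.alt (dw (nat_lit 0x1f141903)) (KT.neq (nat_lit 0) [nat_lit 18] (nat_lit 0) [])
 (KT.alt (dw (nat_lit 0x0b191403)) (KT.neq (nat_lit 0) [nat_lit 18] (nat_lit 0) [])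
 (KT.alt (dw (nat_lit 0x132c2003)) (KT.neq (nat_lit 0) [nat_lit 18] (nat_lit 0) [])
 (KT.alt (dw (nat_lit 0x2c2d14)) (KT.neq (nat_lit 0) [nat_lit 18] (nat_lit 0) [])
 (KT.alt (dw (nat_lit 0x1e1614)) (KT.neq (nat_lit 0) [nat_lit 18] (nat_lit 0) [])
 (KT.alt (dw (nat_lit 0x1c1d13)) (KT.neq (nat_lit 0) [nat_lit 18] (nat_lit 0) [])
 (KT.alt (dw (nat_lit 0x0b0d1f03)) (KT.neq (nat_lit 0) [nat_lit 18] (nat_lit 0) [])
 (KT.alt (dw (nat_lit 0x151c1603)) (KT.neq (nat_lit 0) [nat_lit 2] (nat_lit 0) [])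
 (KT.alt (dw (nat_lit 0x241d13)) (KT.neq (nat_lit 0) [nat_lit 18] (nat_lit 0) [])
 (KT.alt (dw (nat_lit 0x051f1403)) (KT.neq (nat_lit 0) [nat_lit 18] (nat_lit 0) [])
 (KT.alt (dw (nat_lit 0x241d14)) (KT.neq (nat_lit 0) [nat_lit 2] (nat_lit 0) [])
 (KT.alt (dw (nat_lit 0x1b291403)) (KT.neq (nat_lit 0) [nat_lit 8] (nat_lit 0) [])
 (KT.alt (dw (nat_lit 0x291e14)) (KT.neq (nat_lit 0) [nat_lit 18] (nat_lit 0) [])
 (KT.alt (dw (nat_lit 0x1f3114)) (KT.neq (nat_lit 0) [nat_lit 18] (nat_lit 0) [])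
 (KT.alt (dw (nat_lit 0x17311e03)) (KT.neq (nat_lit 0) [nat_lit 2] (nat_lit 0) [])
 (KT.alt (dw (nat_lit 0x130d2003)) (KT.neq (nat_lit 0) [nat_lit 18] (nat_lit 0) [])
 t290))))))))))))))))))))))))))))))
noncomputable def t292 : KT := KT.alt (dw (nat_lit 0x052414)) (KT.neq (nat_lit 0) [nat_lit 18] (nat_lit 0) [])
 (KT.alt (dw (nat_lit 0x291e03)) (KT.neq (nat_lit 0) [nat_lit 18] (nat_lit 0) [])
 (KT.alt (dw (nat_lit 0x272313)) (KT.neq (nat_lit 0) [nat_lit 18] (nat_lit 0) [])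
 (KT.alt (dw (nat_lit 0x092813)) (KT.neq (nat_lit 0) [nat_lit 18] (nat_lit 0) [])
 (KT.alt (dw (nat_lit 0x1e0914)) (KT.neq (nat_lit 0) [nat_lit 18] (nat_lit 0) [])
 (KT.alt (dw (nat_lit 0x241b13)) (KT.neq (nat_lit 0) [nat_lit 18] (nat_lit 0) [])
 (KT.alt (dw (nat_lit 0x152014)) (KT.neq (nat_lit 0) [nat_lit 18] (nat_lit 0) [])
 (KT.alt (dw (nat_lit 0x3113)) (KT.neq (nat_lit 0) [nat_lit 18] (nat_lit 0) [])
 (KT.alt (dw (nat_lit 0x242b1403)) (KT.neq (nat_lit 0) [nat_lit 18] (nat_lit 0) [])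
 (KT.alt (dw (nat_lit 0x1c1f03)) (KT.neq (nat_lit 0) [nat_lit 18] (nat_lit 0) [])
 (KT.alt (dw (nat_lit 0x1f2713)) (KT.neq (nat_lit 0) [nat_lit 18] (nat_lit 0) [])
 (KT.alt (dw (nat_lit 0x112813)) (KT.neq (nat_lit 0) [nat_lit 18] (nat_lit 0) [])
 (KT.alt (dw (nat_lit 0x071e14)) (KT.neq (nat_lit 0) [nat_lit 18] (nat_lit 0) [])
 (KT.alt (dw (nat_lit 0x1f1315)) (KT.neq (nat_lit 0) [nat_lit 18] (nat_lit 0) [])
 (KT.alt (dw (nat_lit 0x282313)) (KT.neq (nat_lit 0) [nat_lit 18] (nat_lit 0) [])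
 (KT.alt (dw (nat_lit 0x1c0313)) (KT.neq (nat_lit 0) [nat_lit 18] (nat_lit 0) [])
 (KT.alt (dw (nat_lit 0x152414)) (KT.neq (nat_lit 0) [nat_lit 18] (nat_lit 0) [])
 (KT.alt (dw (nat_lit 0x23230313)) (KT.neq (nat_lit 0) [nat_lit 10] (nat_lit 0) [])
 (KT.alt (dw (nat_lit 0x25230313)) (KT.neq (nat_lit 0) [nat_lit 18] (nat_lit 0) [])
 (KT.alt (dw (nat_lit 0x142914)) (KT.neq (nat_lit 0) [nat_lit 18] (nat_lit 0) [])
 (KT.alt (dw (nat_lit 0x292313)) (KT.neq (nat_lit 0) [nat_lit 18] (nat_lit 0) [])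
 (KT.alt (dw (nat_lit 0x112814)) (KT.neq (nat_lit 0) [nat_lit 18] (nat_lit 0) [])
 (KT.alt (dw (nat_lit 0x251913)) (KT.neq (nat_lit 0) [nat_lit 18] (nat_lit 0) [])
 (KT.alt (dw (nat_lit 0x091b1503)) (KT.neq (nat_lit 0) [nat_lit 2] (nat_lit 0) [])
 (KT.alt (dw (nat_lit 0x052314)) (KT.neq (nat_lit 0) [nat_lit 18] (nat_lit 0) [])
 (KT.alt (dw (nat_lit 0x271913)) (KT.neq (nat_lit 0) [nat_lit 18] (nat_lit 0) [])
 (KT.alt (dw (nat_lit 0x24191403)) (KT.neq (nat_lit 0) [nat_lit 4] (nat_lit 0) [])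
 (KT.alt (dw (nat_lit 0x151d03)) (KT.neq (nat_lit 0) [nat_lit 18] (nat_lit 0) [])
 (KT.alt (dw (nat_lit 0x1f141403)) (KT.neq (nat_lit 0) [nat_lit 10] (nat_lit 0) [])
 (KT.alt (dw (nat_lit 0x2d1414)) (KT.neq (nat_lit 0) [nat_lit 18] (nat_lit 0) [])
 (KT.alt (dw (nat_lit 0x272b1d03)) (KT.neq (nat_lit 0) [nat_lit 18] (nat_lit 0) [])
 t291))))))))))))))))))))))))))))))
noncomputable def t293 : KT := KT.alt (dw (nat_lit 0x2c1d03)) (KT.neq (nat_lit 0) [nat_lit 18] (nat_lit 0) [])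
 (KT.alt (dw (nat_lit 0x1f132313)) (KT.neq (nat_lit 0) [nat_lit 18] (nat_lit 0) [])
 (KT.alt (dw (nat_lit 0x292014)) (KT.neq (nat_lit 0) [nat_lit 18] (nat_lit 0) [])
 (KT.alt (dw (nat_lit 0x281d15)) (KT.neq (nat_lit 0) [nat_lit 18] (nat_lit 0) [])
 (KT.alt (dw (nat_lit 0x2d0313)) (KT.neq (nat_lit 0) [nat_lit 2] (nat_lit 0) [])
 (KT.alt (dw (nat_lit 0x252413)) (KT.neq (nat_lit 0) [nat_lit 18] (nat_lit 0) [])
 (KT.alt (dw (nat_lit 0x0f201d03)) (KT.neq (nat_lit 0) [nat_lit 18] (nat_lit 0) [])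
 (KT.alt (dw (nat_lit 0x19141d03)) (KT.neq (nat_lit 0) [nat_lit 2] (nat_lit 0) [])
 (KT.alt (dw (nat_lit 0x2f2b1d03)) (KT.neq (nat_lit 0) [nat_lit 2] (nat_lit 0) [])
 (KT.alt (dw (nat_lit 0x1e2614)) (KT.neq (nat_lit 0) [nat_lit 18] (nat_lit 0) [])
 (KT.alt (dw (nat_lit 0x2c241e03)) (KT.neq (nat_lit 0) [nat_lit 18] (nat_lit 0) [])
 (KT.alt (dw (nat_lit 0x3213)) (KT.neq (nat_lit 0) [nat_lit 18] (nat_lit 0) [])
 (KT.alt (dw (nat_lit 0x202813)) (KT.neq (nat_lit 0) [nat_lit 18] (nat_lit 0) [])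
 (KT.alt (dw (nat_lit 0x1f1303)) (KT.neq (nat_lit 0) [nat_lit 18] (nat_lit 0) [])
 (KT.alt (dw (nat_lit 0x281503)) (KT.neq (nat_lit 0) [nat_lit 18] (nat_lit 0) [])
 (KT.alt (dw (nat_lit 0x321b1313)) (KT.neq (nat_lit 0) [nat_lit 18] (nat_lit 0) [])
 (KT.alt (dw (nat_lit 0x092c1d03)) (KT.neq (nat_lit 0) [nat_lit 18] (nat_lit 0) [])
 (KT.alt (dw (nat_lit 0x0b2b14)) (KT.neq (nat_lit 0) [nat_lit 16] (nat_lit 0) [])
 (KT.alt (dw (nat_lit 0x270f1903)) (KT.neq (nat_lit 0) [nat_lit 18] (nat_lit 0) [])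
 (KT.alt (dw (nat_lit 0x1d13)) (KT.neq (nat_lit 0) [nat_lit 16] (nat_lit 0) [])
 (KT.alt (dw (nat_lit 0x241903)) (KT.neq (nat_lit 0) [nat_lit 18] (nat_lit 0) [])
 (KT.alt (dw (nat_lit 0x072413)) (KT.neq (nat_lit 0) [nat_lit 18] (nat_lit 0) [])
 (KT.alt (dw (nat_lit 0x20321c03)) (KT.neq (nat_lit 0) [nat_lit 18] (nat_lit 0) [])
 (KT.alt (dw (nat_lit 0x311513)) (KT.neq (nat_lit 0) [nat_lit 18] (nat_lit 0) [])
 (KT.alt (dw (nat_lit 0x13241303)) (KT.neq (nat_lit 0) [nat_lit 16] (nat_lit 0) [])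
 (KT.alt (dw (nat_lit 0x11201403)) (KT.neq (nat_lit 0) [nat_lit 18] (nat_lit 0) [])
 (KT.alt (dw (nat_lit 0x2b241403)) (KT.neq (nat_lit 0) [nat_lit 2] (nat_lit 0) [])
 (KT.alt (dw (nat_lit 0x281d13)) (KT.neq (nat_lit 0) [nat_lit 18] (nat_lit 0) [])
 (KT.alt (dw (nat_lit 0x15251c03)) (KT.neq (nat_lit 0) [nat_lit 18] (nat_lit 0) [])
 (KT.alt (dw (nat_lit 0x131c14)) (KT.neq (nat_lit 0) [nat_lit 16] (nat_lit 0) [])
 (KT.alt (dw (nat_lit 0x112b13)) (KT.neq (nat_lit 0) [nat_lit 2] (nat_lit 0) [])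
 t292))))))))))))))))))))))))))))))
noncomputable def t294 : KT := KT.alt (dw (nat_lit 0x2e1c1403)) (KT.neq (nat_lit 0) [nat_lit 18] (nat_lit 0) [])
 (KT.alt (dw (nat_lit 0x231e15)) (KT.neq (nat_lit 0) [nat_lit 18] (nat_lit 0) [])
 (KT.alt (dw (nat_lit 0x242c1e03)) (KT.neq (nat_lit 0) [nat_lit 18] (nat_lit 0) [])
 (KT.alt (dw (nat_lit 0x0f2c0313)) (KT.neq (nat_lit 0) [nat_lit 18] (nat_lit 0) [])
 (KT.alt (dw (nat_lit 0x0b3213)) (KT.neq (nat_lit 0) [nat_lit 16] (nat_lit 0) [])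
 (KT.alt (dw (nat_lit 0x052614)) (KT.neq (nat_lit 0) [nat_lit 18] (nat_lit 0) [])
 (KT.alt (dw (nat_lit 0x31141e03)) (KT.neq (nat_lit 0) [nat_lit 12] (nat_lit 0) [])
 (KT.alt (dw (nat_lit 0x271403)) (KT.neq (nat_lit 0) [nat_lit 18] (nat_lit 0) [])
 (KT.alt (dw (nat_lit 0x0b1f1403)) (KT.neq (nat_lit 0) [nat_lit 18] (nat_lit 0) [])
 (KT.alt (dw (nat_lit 0x27201503)) (KT.neq (nat_lit 0) [nat_lit 18] (nat_lit 0) [])
 (KT.alt (dw (nat_lit 0x072e13)) (KT.neq (nat_lit 0) [nat_lit 8] (nat_lit 0) [])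
 (KT.alt (dw (nat_lit 0x1f1e13)) (KT.neq (nat_lit 0) [nat_lit 16] (nat_lit 0) [])
 (KT.alt (dw (nat_lit 0x25191d13)) (KT.neq (nat_lit 0) [nat_lit 18] (nat_lit 0) [])
 (KT.alt (dw (nat_lit 0x291f1f13)) (KT.neq (nat_lit 0) [nat_lit 2] (nat_lit 0) [])
 (KT.alt (dw (nat_lit 0x1e131313)) (KT.neq (nat_lit 0) [nat_lit 18] (nat_lit 0) [])
 (KT.alt (dw (nat_lit 0x242913)) (KT.neq (nat_lit 0) [nat_lit 16] (nat_lit 0) [])
 (KT.alt (dw (nat_lit 0x15251303)) (KT.neq (nat_lit 0) [nat_lit 18] (nat_lit 0) [])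
 (KT.alt (dw (nat_lit 0x07151d03)) (KT.neq (nat_lit 0) [nat_lit 18] (nat_lit 0) [])
 (KT.alt (dw (nat_lit 0x26161313)) (KT.neq (nat_lit 0) [nat_lit 2] (nat_lit 0) [])
 (KT.alt (dw (nat_lit 0x192413)) (KT.neq (nat_lit 0) [nat_lit 18] (nat_lit 0) [])
 (KT.alt (dw (nat_lit 0x231403)) (KT.neq (nat_lit 0) [nat_lit 18] (nat_lit 0) [])
 (KT.alt (dw (nat_lit 0x141f03)) (KT.neq (nat_lit 0) [nat_lit 18] (nat_lit 0) [])
 (KT.alt (dw (nat_lit 0x2d1c03)) (KT.neq (nat_lit 0) [nat_lit 18] (nat_lit 0) [])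
 (KT.alt (dw (nat_lit 0x29211403)) (KT.neq (nat_lit 0) [nat_lit 18] (nat_lit 0) [])
 (KT.alt (dw (nat_lit 0x132713)) (KT.neq (nat_lit 0) [nat_lit 18] (nat_lit 0) [])
 (KT.alt (dw (nat_lit 0x1d14)) (KT.neq (nat_lit 0) [nat_lit 8] (nat_lit 0) [])
 (KT.alt (dw (nat_lit 0x201d1503)) (KT.neq (nat_lit 0) [nat_lit 18] (nat_lit 0) [])
 (KT.alt (dw (nat_lit 0x24131503)) (KT.neq (nat_lit 0) [nat_lit 18] (nat_lit 0) [])
 (KT.alt (dw (nat_lit 0x243113)) (KT.neq (nat_lit 0) [nat_lit 18] (nat_lit 0) [])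
 (KT.alt (dw (nat_lit 0x161313)) (KT.neq (nat_lit 0) [nat_lit 18] (nat_lit 0) [])
 (KT.alt (dw (nat_lit 0x2c1d13)) (KT.neq (nat_lit 0) [nat_lit 18] (nat_lit 0) [])
 t293))))))))))))))))))))))))))))))
noncomputable def t295 : KT := KT.alt (dw (nat_lit 0x251b14)) (KT.neq (nat_lit 0) [nat_lit 18] (nat_lit 0) [])
 (KT.alt (dw (nat_lit 0x20131503)) (KT.neq (nat_lit 0) [nat_lit 10] (nat_lit 0) [])
 (KT.alt (dw (nat_lit 0x16161603)) (KT.neq (nat_lit 0) [nat_lit 18] (nat_lit 0) [])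
 (KT.alt (dw (nat_lit 0x20191403)) (KT.neq (nat_lit 0) [nat_lit 18] (nat_lit 0) [])
 (KT.alt (dw (nat_lit 0x311c14)) (KT.neq (nat_lit 0) [nat_lit 16] (nat_lit 0) [])
 (KT.alt (dw (nat_lit 0x141f1303)) (KT.neq (nat_lit 0) [nat_lit 18] (nat_lit 0) [])
 (KT.alt (dw (nat_lit 0x0f2314)) (KT.neq (nat_lit 0) [nat_lit 18] (nat_lit 0) [])
 (KT.alt (dw (nat_lit 0x27211e03)) (KT.neq (nat_lit 0) [nat_lit 18] (nat_lit 0) [])
 (KT.alt (dw (nat_lit 0x271c0313)) (KT.neq (nat_lit 0) [nat_lit 18] (nat_lit 0) [])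
 (KT.alt (dw (nat_lit 0x031e14)) (KT.neq (nat_lit 0) [nat_lit 18] (nat_lit 0) [])
 (KT.alt (dw (nat_lit 0x141d0503)) (KT.neq (nat_lit 0) [nat_lit 16] (nat_lit 0) [])
 (KT.alt (dw (nat_lit 0x321f03)) (KT.neq (nat_lit 0) [nat_lit 18] (nat_lit 0) [])
 (KT.alt (dw (nat_lit 0x2c2414)) (KT.neq (nat_lit 0) [nat_lit 18] (nat_lit 0) [])
 (KT.alt (dw (nat_lit 0x161d1c03)) (KT.neq (nat_lit 0) [nat_lit 18] (nat_lit 0) [])
 (KT.alt (dw (nat_lit 0x211e0313)) (KT.neq (nat_lit 0) [nat_lit 0] (nat_lit 0) [])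
 (KT.alt (dw (nat_lit 0x201d14)) (KT.neq (nat_lit 0) [nat_lit 18] (nat_lit 0) [])
 (KT.alt (dw (nat_lit 0x1c191403)) (KT.neq (nat_lit 0) [nat_lit 12] (nat_lit 0) [])
 (KT.alt (dw (nat_lit 0x20260313)) (KT.neq (nat_lit 0) [nat_lit 18] (nat_lit 0) [])
 (KT.alt (dw (nat_lit 0x201503)) (KT.neq (nat_lit 0) [nat_lit 18] (nat_lit 0) [])
 (KT.alt (dw (nat_lit 0x26290313)) (KT.neq (nat_lit 0) [nat_lit 2] (nat_lit 0) [])
 (KT.alt (dw (nat_lit 0x17241403)) (KT.neq (nat_lit 0) [nat_lit 2] (nat_lit 0) [])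
 (KT.alt (dw (nat_lit 0x15211303)) (KT.neq (nat_lit 0) [nat_lit 16] (nat_lit 0) [])
 (KT.alt (dw (nat_lit 0x141e03)) (KT.neq (nat_lit 0) [nat_lit 18] (nat_lit 0) [])
 (KT.alt (dw (nat_lit 0x0b2e13)) (KT.neq (nat_lit 0) [nat_lit 18] (nat_lit 0) [])
 (KT.alt (dw (nat_lit 0x1e1313)) (KT.neq (nat_lit 0) [nat_lit 2] (nat_lit 0) [])
 (KT.alt (dw (nat_lit 0x132714)) (KT.neq (nat_lit 0) [nat_lit 2] (nat_lit 0) [])
 (KT.alt (dw (nat_lit 0x1c1313)) (KT.neq (nat_lit 0) [nat_lit 18] (nat_lit 0) [])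
 (KT.alt (dw (nat_lit 0x0f291f03)) (KT.neq (nat_lit 0) [nat_lit 18] (nat_lit 0) [])
 (KT.alt (dw (nat_lit 0x291303)) (KT.neq (nat_lit 0) [nat_lit 18] (nat_lit 0) [])
 (KT.alt (dw (nat_lit 0x152e14)) (KT.neq (nat_lit 0) [nat_lit 18] (nat_lit 0) [])
 (KT.alt (dw (nat_lit 0x260d2003)) (KT.neq (nat_lit 0) [nat_lit 18] (nat_lit 0) [])
 t294))))))))))))))))))))))))))))))
noncomputable def t296 : KT := KT.alt (dw (nat_lit 0x311614)) (KT.neq (nat_lit 0) [nat_lit 18] (nat_lit 0) [])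
 (KT.alt (dw (nat_lit 0x281b14)) (KT.neq (nat_lit 0) [nat_lit 18] (nat_lit 0) [])
 (KT.alt (dw (nat_lit 0x2e201c03)) (KT.neq (nat_lit 0) [nat_lit 16] (nat_lit 0) [])
 (KT.alt (dw (nat_lit 0x2414)) (KT.neq (nat_lit 0) [nat_lit 18] (nat_lit 0) [])
 (KT.alt (dw (nat_lit 0x162814)) (KT.neq (nat_lit 0) [nat_lit 18] (nat_lit 0) [])
 (KT.alt (dw (nat_lit 0x1e3213)) (KT.neq (nat_lit 0) [nat_lit 16] (nat_lit 0) [])
 (KT.alt (dw (nat_lit 0x142b0503)) (KT.neq (nat_lit 0) [nat_lit 18] (nat_lit 0) [])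
 (KT.alt (dw (nat_lit 0x0f2413)) (KT.neq (nat_lit 0) [nat_lit 18] (nat_lit 0) [])
 (KT.alt (dw (nat_lit 0x2f201403)) (KT.neq (nat_lit 0) [nat_lit 18] (nat_lit 0) [])
 (KT.alt (dw (nat_lit 0x1e311d03)) (KT.neq (nat_lit 0) [nat_lit 18] (nat_lit 0) [])
 (KT.alt (dw (nat_lit 0x07271414)) (KT.neq (nat_lit 0) [nat_lit 10] (nat_lit 0) [])
 (KT.alt (dw (nat_lit 0x1b111e03)) (KT.neq (nat_lit 0) [nat_lit 18] (nat_lit 0) [])
 (KT.alt (dw (nat_lit 0x2c1513)) (KT.neq (nat_lit 0) [nat_lit 18] (nat_lit 0) [])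
 (KT.alt (dw (nat_lit 0x15270503)) (KT.neq (nat_lit 0) [nat_lit 18] (nat_lit 0) [])
 (KT.alt (dw (nat_lit 0x1c320313)) (KT.neq (nat_lit 0) [nat_lit 2] (nat_lit 0) [])
 (KT.alt (dw (nat_lit 0x2c1c14)) (KT.neq (nat_lit 0) [nat_lit 18] (nat_lit 0) [])
 (KT.alt (dw (nat_lit 0x2d1913)) (KT.neq (nat_lit 0) [nat_lit 18] (nat_lit 0) [])
 (KT.alt (dw (nat_lit 0x0b201403)) (KT.neq (nat_lit 0) [nat_lit 18] (nat_lit 0) [])
 (KT.alt (dw (nat_lit 0x1e231c03)) (KT.neq (nat_lit 0) [nat_lit 18] (nat_lit 0) [])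
 (KT.alt (dw (nat_lit 0x19031603)) (KT.neq (nat_lit 0) [nat_lit 18] (nat_lit 0) [])
 (KT.alt (dw (nat_lit 0x1e191403)) (KT.neq (nat_lit 0) [nat_lit 18] (nat_lit 0) [])
 (KT.alt (dw (nat_lit 0x052c13)) (KT.neq (nat_lit 0) [nat_lit 18] (nat_lit 0) [])
 (KT.alt (dw (nat_lit 0x1b1315)) (KT.neq (nat_lit 0) [nat_lit 18] (nat_lit 0) [])
 (KT.alt (dw (nat_lit 0x232d14)) (KT.neq (nat_lit 0) [nat_lit 18] (nat_lit 0) [])
 (KT.alt (dw (nat_lit 0x13032003)) (KT.neq (nat_lit 0) [nat_lit 18] (nat_lit 0) [])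
 (KT.alt (dw (nat_lit 0x26161403)) (KT.neq (nat_lit 0) [nat_lit 2] (nat_lit 0) [])
 (KT.alt (dw (nat_lit 0x251f13)) (KT.neq (nat_lit 0) [nat_lit 16] (nat_lit 0) [])
 (KT.alt (dw (nat_lit 0x241f2713)) (KT.neq (nat_lit 0) [nat_lit 18] (nat_lit 0) [])
 (KT.alt (dw (nat_lit 0x202d13)) (KT.neq (nat_lit 0) [nat_lit 18] (nat_lit 0) [])
 (KT.alt (dw (nat_lit 0x14161e03)) (KT.neq (nat_lit 0) [nat_lit 18] (nat_lit 0) [])
 (KT.alt (dw (nat_lit 0x322003)) (KT.neq (nat_lit 0) [nat_lit 18] (nat_lit 0) [])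
 t295))))))))))))))))))))))))))))))
noncomputable def t297 : KT := KT.alt (dw (nat_lit 0x2e0313)) (KT.neq (nat_lit 0) [nat_lit 4] (nat_lit 0) [])
 (KT.alt (dw (nat_lit 0x291c14)) (KT.neq (nat_lit 0) [nat_lit 2] (nat_lit 0) [])
 (KT.alt (dw (nat_lit 0x1515)) (KT.neq (nat_lit 0) [nat_lit 18] (nat_lit 0) [])
 (KT.alt (dw (nat_lit 0x0d1f1403)) (KT.neq (nat_lit 0) [nat_lit 18] (nat_lit 0) [])
 (KT.alt (dw (nat_lit 0x072114)) (KT.neq (nat_lit 0) [nat_lit 18] (nat_lit 0) [])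
 (KT.alt (dw (nat_lit 0x29151d03)) (KT.neq (nat_lit 0) [nat_lit 18] (nat_lit 0) [])
 (KT.alt (dw (nat_lit 0x161603)) (KT.neq (nat_lit 0) [nat_lit 18] (nat_lit 0) [])
 (KT.alt (dw (nat_lit 0x131515)) (KT.neq (nat_lit 0) [nat_lit 0] (nat_lit 0) [])
 (KT.alt (dw (nat_lit 0x2b141d03)) (KT.neq (nat_lit 0) [nat_lit 2] (nat_lit 0) [])
 (KT.alt (dw (nat_lit 0x21141903)) (KT.neq (nat_lit 0) [nat_lit 2] (nat_lit 0) [])
 (KT.alt (dw (nat_lit 0x141e13)) (KT.neq (nat_lit 0) [nat_lit 18] (nat_lit 0) [])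
 (KT.alt (dw (nat_lit 0x132e14)) (KT.neq (nat_lit 0) [nat_lit 18] (nat_lit 0) [])
 (KT.alt (dw (nat_lit 0x141403)) (KT.neq (nat_lit 0) [nat_lit 18] (nat_lit 0) [])
 (KT.alt (dw (nat_lit 0x2613)) (KT.neq (nat_lit 0) [nat_lit 18] (nat_lit 0) [])
 (KT.alt (dw (nat_lit 0x251b1403)) (KT.neq (nat_lit 0) [nat_lit 18] (nat_lit 0) [])
 (KT.alt (dw (nat_lit 0x0b1313)) (KT.neq (nat_lit 0) [nat_lit 18] (nat_lit 0) [])
 (KT.alt (dw (nat_lit 0x311e13)) (KT.neq (nat_lit 0) [nat_lit 18] (nat_lit 0) [])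
 (KT.alt (dw (nat_lit 0x291503)) (KT.neq (nat_lit 0) [nat_lit 18] (nat_lit 0) [])
 (KT.alt (dw (nat_lit 0x232d1303)) (KT.neq (nat_lit 0) [nat_lit 18] (nat_lit 0) [])
 (KT.alt (dw (nat_lit 0x1d1303)) (KT.neq (nat_lit 0) [nat_lit 18] (nat_lit 0) [])
 (KT.alt (dw (nat_lit 0x2d1f1303)) (KT.neq (nat_lit 0) [nat_lit 8] (nat_lit 0) [])
 (KT.alt (dw (nat_lit 0x1b3214)) (KT.neq (nat_lit 0) [nat_lit 18] (nat_lit 0) [])
 (KT.alt (dw (nat_lit 0x231f13)) (KT.neq (nat_lit 0) [nat_lit 18] (nat_lit 0) [])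
 (KT.alt (dw (nat_lit 0x11241403)) (KT.neq (nat_lit 0) [nat_lit 10] (nat_lit 0) [])
 (KT.alt (dw (nat_lit 0x19240313)) (KT.neq (nat_lit 0) [nat_lit 18] (nat_lit 0) [])
 (KT.alt (dw (nat_lit 0x0b1d1303)) (KT.neq (nat_lit 0) [nat_lit 18] (nat_lit 0) [])
 (KT.alt (dw (nat_lit 0x20071c03)) (KT.neq (nat_lit 0) [nat_lit 18] (nat_lit 0) [])
 (KT.alt (dw (nat_lit 0x1f1613)) (KT.neq (nat_lit 0) [nat_lit 16] (nat_lit 0) [])
 (KT.alt (dw (nat_lit 0x2f240313)) (KT.neq (nat_lit 0) [nat_lit 0] (nat_lit 0) [])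
 (KT.alt (dw (nat_lit 0x1b2b13)) (KT.neq (nat_lit 0) [nat_lit 18] (nat_lit 0) [])
 (KT.alt (dw (nat_lit 0x26211313)) (KT.neq (nat_lit 0) [nat_lit 18] (nat_lit 0) [])
 t296))))))))))))))))))))))))))))))
noncomputable def t298 : KT := KT.alt (dw (nat_lit 0x2c1303)) (KT.neq (nat_lit 0) [nat_lit 16] (nat_lit 0) [])
 (KT.alt (dw (nat_lit 0x14091c03)) (KT.neq (nat_lit 0) [nat_lit 12] (nat_lit 0) [])
 (KT.alt (dw (nat_lit 0x241b1403)) (KT.neq (nat_lit 0) [nat_lit 0] (nat_lit 0) [])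
 (KT.alt (dw (nat_lit 0x2d152003)) (KT.neq (nat_lit 0) [nat_lit 18] (nat_lit 0) [])
 (KT.alt (dw (nat_lit 0x28211303)) (KT.neq (nat_lit 0) [nat_lit 18] (nat_lit 0) [])
 (KT.alt (dw (nat_lit 0x16290503)) (KT.neq (nat_lit 0) [nat_lit 8] (nat_lit 0) [])
 (KT.alt (dw (nat_lit 0x1b151d03)) (KT.neq (nat_lit 0) [nat_lit 18] (nat_lit 0) [])
 (KT.alt (dw (nat_lit 0x052313)) (KT.neq (nat_lit 0) [nat_lit 16] (nat_lit 0) [])
 (KT.alt (dw (nat_lit 0x111e03)) (KT.neq (nat_lit 0) [nat_lit 18] (nat_lit 0) [])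
 (KT.alt (dw (nat_lit 0x0b2613)) (KT.neq (nat_lit 0) [nat_lit 18] (nat_lit 0) [])
 (KT.alt (dw (nat_lit 0x272014)) (KT.neq (nat_lit 0) [nat_lit 2] (nat_lit 0) [])
 (KT.alt (dw (nat_lit 0x261513)) (KT.neq (nat_lit 0) [nat_lit 18] (nat_lit 0) [])
 (KT.alt (dw (nat_lit 0x251613)) (KT.neq (nat_lit 0) [nat_lit 18] (nat_lit 0) [])
 (KT.alt (dw (nat_lit 0x231903)) (KT.neq (nat_lit 0) [nat_lit 18] (nat_lit 0) [])
 (KT.alt (dw (nat_lit 0x311b1403)) (KT.neq (nat_lit 0) [nat_lit 0] (nat_lit 0) [])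
 (KT.alt (dw (nat_lit 0x0f132003)) (KT.neq (nat_lit 0) [nat_lit 18] (nat_lit 0) [])
 (KT.alt (dw (nat_lit 0x151313)) (KT.neq (nat_lit 0) [nat_lit 18] (nat_lit 0) [])
 (KT.alt (dw (nat_lit 0x2f211313)) (KT.neq (nat_lit 0) [nat_lit 8] (nat_lit 0) [])
 (KT.alt (dw (nat_lit 0x130f1903)) (KT.neq (nat_lit 0) [nat_lit 18] (nat_lit 0) [])
 (KT.alt (dw (nat_lit 0x2d2313)) (KT.neq (nat_lit 0) [nat_lit 18] (nat_lit 0) [])
 (KT.alt (dw (nat_lit 0x321414)) (KT.neq (nat_lit 0) [nat_lit 18] (nat_lit 0) [])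
 (KT.alt (dw (nat_lit 0x1c281403)) (KT.neq (nat_lit 0) [nat_lit 18] (nat_lit 0) [])
 (KT.alt (dw (nat_lit 0x1c2b13)) (KT.neq (nat_lit 0) [nat_lit 16] (nat_lit 0) [])
 (KT.alt (dw (nat_lit 0x21252003)) (KT.neq (nat_lit 0) [nat_lit 18] (nat_lit 0) [])
 (KT.alt (dw (nat_lit 0x161f13)) (KT.neq (nat_lit 0) [nat_lit 18] (nat_lit 0) [])
 (KT.alt (dw (nat_lit 0x172b14)) (KT.neq (nat_lit 0) [nat_lit 18] (nat_lit 0) [])
 (KT.alt (dw (nat_lit 0x2b1903)) (KT.neq (nat_lit 0) [nat_lit 18] (nat_lit 0) [])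
 (KT.alt (dw (nat_lit 0x072014)) (KT.neq (nat_lit 0) [nat_lit 18] (nat_lit 0) [])
 (KT.alt (dw (nat_lit 0x202b13)) (KT.neq (nat_lit 0) [nat_lit 2] (nat_lit 0) [])
 (KT.alt (dw (nat_lit 0x142513)) (KT.neq (nat_lit 0) [nat_lit 18] (nat_lit 0) [])
 (KT.alt (dw (nat_lit 0x0b2814)) (KT.neq (nat_lit 0) [nat_lit 18] (nat_lit 0) [])
 t297))))))))))))))))))))))))))))))
noncomputable def t299 : KT := KT.alt (dw (nat_lit 0x19280313)) (KT.neq (nat_lit 0) [nat_lit 2] (nat_lit 0) [])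
 (KT.alt (dw (nat_lit 0x1f1403)) (KT.neq (nat_lit 0) [nat_lit 18] (nat_lit 0) [])
 (KT.alt (dw (nat_lit 0x1f2514)) (KT.neq (nat_lit 0) [nat_lit 18] (nat_lit 0) [])
 (KT.alt (dw (nat_lit 0x2b272003)) (KT.neq (nat_lit 0) [nat_lit 18] (nat_lit 0) [])
 (KT.alt (dw (nat_lit 0x251e1313)) (KT.neq (nat_lit 0) [nat_lit 2] (nat_lit 0) [])
 (KT.alt (dw (nat_lit 0x232b1d03)) (KT.neq (nat_lit 0) [nat_lit 18] (nat_lit 0) [])
 (KT.alt (dw (nat_lit 0x321b1403)) (KT.neq (nat_lit 0) [nat_lit 8] (nat_lit 0) [])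
 (KT.alt (dw (nat_lit 0x14271503)) (KT.neq (nat_lit 0) [nat_lit 18] (nat_lit 0) [])
 (KT.alt (dw (nat_lit 0x2d2b2003)) (KT.neq (nat_lit 0) [nat_lit 18] (nat_lit 0) [])
 (KT.alt (dw (nat_lit 0x132b14)) (KT.neq (nat_lit 0) [nat_lit 18] (nat_lit 0) [])
 (KT.alt (dw (nat_lit 0x29071403)) (KT.neq (nat_lit 0) [nat_lit 10] (nat_lit 0) [])
 (KT.alt (dw (nat_lit 0x162614)) (KT.neq (nat_lit 0) [nat_lit 18] (nat_lit 0) [])
 (KT.alt (dw (nat_lit 0x231614)) (KT.neq (nat_lit 0) [nat_lit 18] (nat_lit 0) [])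
 (KT.alt (dw (nat_lit 0x1e03)) (KT.neq (nat_lit 0) [nat_lit 18] (nat_lit 0) [])
 (KT.alt (dw (nat_lit 0x07131303)) (KT.neq (nat_lit 0) [nat_lit 18] (nat_lit 0) [])
 (KT.alt (dw (nat_lit 0x242c13)) (KT.neq (nat_lit 0) [nat_lit 18] (nat_lit 0) [])
 (KT.alt (dw (nat_lit 0x31131503)) (KT.neq (nat_lit 0) [nat_lit 18] (nat_lit 0) [])
 (KT.alt (dw (nat_lit 0x232813)) (KT.neq (nat_lit 0) [nat_lit 18] (nat_lit 0) [])
 (KT.alt (dw (nat_lit 0x14230503)) (KT.neq (nat_lit 0) [nat_lit 18] (nat_lit 0) [])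
 (KT.alt (dw (nat_lit 0x261515)) (KT.neq (nat_lit 0) [nat_lit 8] (nat_lit 0) [])
 (KT.alt (dw (nat_lit 0x071414)) (KT.neq (nat_lit 0) [nat_lit 0] (nat_lit 0) [])
 (KT.alt (dw (nat_lit 0x071b1303)) (KT.neq (nat_lit 0) [nat_lit 18] (nat_lit 0) [])
 (KT.alt (dw (nat_lit 0x2b1b1f03)) (KT.neq (nat_lit 0) [nat_lit 18] (nat_lit 0) [])
 (KT.alt (dw (nat_lit 0x14271513)) (KT.neq (nat_lit 0) [nat_lit 18] (nat_lit 0) [])
 (KT.alt (dw (nat_lit 0x1b1e13)) (KT.neq (nat_lit 0) [nat_lit 16] (nat_lit 0) [])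
 (KT.alt (dw (nat_lit 0x132313)) (KT.neq (nat_lit 0) [nat_lit 18] (nat_lit 0) [])
 (KT.alt (dw (nat_lit 0x07132003)) (KT.neq (nat_lit 0) [nat_lit 10] (nat_lit 0) [])
 (KT.alt (dw (nat_lit 0x311b13)) (KT.neq (nat_lit 0) [nat_lit 18] (nat_lit 0) [])
 (KT.alt (dw (nat_lit 0x322614)) (KT.neq (nat_lit 0) [nat_lit 18] (nat_lit 0) [])
 (KT.alt (dw (nat_lit 0x321e13)) (KT.neq (nat_lit 0) [nat_lit 18] (nat_lit 0) [])
 (KT.alt (dw (nat_lit 0x14031d03)) (KT.neq (nat_lit 0) [nat_lit 16] (nat_lit 0) [])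
 t298))))))))))))))))))))))))))))))
noncomputable def t300 : KT := KT.alt (dw (nat_lit 0x233213)) (KT.neq (nat_lit 0) [nat_lit 16] (nat_lit 0) [])
 (KT.alt (dw (nat_lit 0x2b3113)) (KT.neq (nat_lit 0) [nat_lit 18] (nat_lit 0) [])
 (KT.alt (dw (nat_lit 0x131313)) (KT.neq (nat_lit 0) [nat_lit 2] (nat_lit 0) [])
 (KT.alt (dw (nat_lit 0x231313)) (KT.neq (nat_lit 0) [nat_lit 18] (nat_lit 0) [])
 (KT.alt (dw (nat_lit 0x2c161403)) (KT.neq (nat_lit 0) [nat_lit 2] (nat_lit 0) [])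
 (KT.alt (dw (nat_lit 0x152114)) (KT.neq (nat_lit 0) [nat_lit 2] (nat_lit 0) [])
 (KT.alt (dw (nat_lit 0x132015)) (KT.neq (nat_lit 0) [nat_lit 18] (nat_lit 0) [])
 (KT.alt (dw (nat_lit 0x151d13)) (KT.neq (nat_lit 0) [nat_lit 18] (nat_lit 0) [])
 (KT.alt (dw (nat_lit 0x25141403)) (KT.neq (nat_lit 0) [nat_lit 8] (nat_lit 0) [])
 (KT.alt (dw (nat_lit 0x3214)) (KT.neq (nat_lit 0) [nat_lit 16] (nat_lit 0) [])
 (KT.alt (dw (nat_lit 0x17241503)) (KT.neq (nat_lit 0) [nat_lit 18] (nat_lit 0) [])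
 (KT.alt (dw (nat_lit 0x151f15)) (KT.neq (nat_lit 0) [nat_lit 2] (nat_lit 0) [])
 (KT.alt (dw (nat_lit 0x251614)) (KT.neq (nat_lit 0) [nat_lit 18] (nat_lit 0) [])
 (KT.alt (dw (nat_lit 0x261f03)) (KT.neq (nat_lit 0) [nat_lit 18] (nat_lit 0) [])
 (KT.alt (dw (nat_lit 0x2d1315)) (KT.neq (nat_lit 0) [nat_lit 18] (nat_lit 0) [])
 (KT.alt (dw (nat_lit 0x0f191e03)) (KT.neq (nat_lit 0) [nat_lit 18] (nat_lit 0) [])
 (KT.alt (dw (nat_lit 0x091d14)) (KT.neq (nat_lit 0) [nat_lit 18] (nat_lit 0) [])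
 (KT.alt (dw (nat_lit 0x241d03)) (KT.neq (nat_lit 0) [nat_lit 18] (nat_lit 0) [])
 (KT.alt (dw (nat_lit 0x1d2d13)) (KT.neq (nat_lit 0) [nat_lit 18] (nat_lit 0) [])
 (KT.alt (dw (nat_lit 0x1e1513)) (KT.neq (nat_lit 0) [nat_lit 18] (nat_lit 0) [])
 (KT.alt (dw (nat_lit 0x0f2c13)) (KT.neq (nat_lit 0) [nat_lit 18] (nat_lit 0) [])
 (KT.alt (dw (nat_lit 0x09230313)) (KT.neq (nat_lit 0) [nat_lit 2] (nat_lit 0) [])
 (KT.alt (dw (nat_lit 0x2e1d03)) (KT.neq (nat_lit 0) [nat_lit 18] (nat_lit 0) [])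
 (KT.alt (dw (nat_lit 0x1c2814)) (KT.neq (nat_lit 0) [nat_lit 16] (nat_lit 0) [])
 (KT.alt (dw (nat_lit 0x272f1d03)) (KT.neq (nat_lit 0) [nat_lit 18] (nat_lit 0) [])
 (KT.alt (dw (nat_lit 0x0b2e0313)) (KT.neq (nat_lit 0) [nat_lit 18] (nat_lit 0) [])
 (KT.alt (dw (nat_lit 0x201614)) (KT.neq (nat_lit 0) [nat_lit 2] (nat_lit 0) [])
 (KT.alt (dw (nat_lit 0x07201403)) (KT.neq (nat_lit 0) [nat_lit 18] (nat_lit 0) [])
 (KT.alt (dw (nat_lit 0x05280313)) (KT.neq (nat_lit 0) [nat_lit 18] (nat_lit 0) [])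
 (KT.alt (dw (nat_lit 0x230b1d03)) (KT.neq (nat_lit 0) [nat_lit 18] (nat_lit 0) [])
 (KT.alt (dw (nat_lit 0x1f13)) (KT.neq (nat_lit 0) [nat_lit 2] (nat_lit 0) [])
 t299))))))))))))))))))))))))))))))
noncomputable def t301 : KT := KT.alt (dw (nat_lit 0x072513)) (KT.neq (nat_lit 0) [nat_lit 18] (nat_lit 0) [])
 (KT.alt (dw (nat_lit 0x262e13)) (KT.neq (nat_lit 0) [nat_lit 18] (nat_lit 0) [])
 (KT.alt (dw (nat_lit 0x24161403)) (KT.neq (nat_lit 0) [nat_lit 18] (nat_lit 0) [])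
 (KT.alt (dw (nat_lit 0x191d14)) (KT.neq (nat_lit 0) [nat_lit 2] (nat_lit 0) [])
 (KT.alt (dw (nat_lit 0x151513)) (KT.neq (nat_lit 0) [nat_lit 18] (nat_lit 0) [])
 (KT.alt (dw (nat_lit 0x1c2003)) (KT.neq (nat_lit 0) [nat_lit 16] (nat_lit 0) [])
 (KT.alt (dw (nat_lit 0x2b0313)) (KT.neq (nat_lit 0) [nat_lit 18] (nat_lit 0) [])
 (KT.alt (dw (nat_lit 0x2d260313)) (KT.neq (nat_lit 0) [nat_lit 12] (nat_lit 0) [])
 (KT.alt (dw (nat_lit 0x031f03)) (KT.neq (nat_lit 0) [nat_lit 16] (nat_lit 0) [])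
 (KT.alt (dw (nat_lit 0x131b1303)) (KT.neq (nat_lit 0) [nat_lit 18] (nat_lit 0) [])
 (KT.alt (dw (nat_lit 0x1614)) (KT.neq (nat_lit 0) [nat_lit 2] (nat_lit 0) [])
 (KT.alt (dw (nat_lit 0x1c1d1503)) (KT.neq (nat_lit 0) [nat_lit 18] (nat_lit 0) [])
 (KT.alt (dw (nat_lit 0x1c3214)) (KT.neq (nat_lit 0) [nat_lit 18] (nat_lit 0) [])
 (KT.alt (dw (nat_lit 0x1d3213)) (KT.neq (nat_lit 0) [nat_lit 18] (nat_lit 0) [])
 (KT.alt (dw (nat_lit 0x20141e03)) (KT.neq (nat_lit 0) [nat_lit 18] (nat_lit 0) [])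
 (KT.alt (dw (nat_lit 0x092b14)) (KT.neq (nat_lit 0) [nat_lit 16] (nat_lit 0) [])
 (KT.alt (dw (nat_lit 0x2b1315)) (KT.neq (nat_lit 0) [nat_lit 10] (nat_lit 0) [])
 (KT.alt (dw (nat_lit 0x24131b13)) (KT.neq (nat_lit 0) [nat_lit 18] (nat_lit 0) [])
 (KT.alt (dw (nat_lit 0x0d1913)) (KT.neq (nat_lit 0) [nat_lit 18] (nat_lit 0) [])
 (KT.alt (dw (nat_lit 0x1e251414)) (KT.neq (nat_lit 0) [nat_lit 18] (nat_lit 0) [])
 (KT.alt (dw (nat_lit 0x1d2913)) (KT.neq (nat_lit 0) [nat_lit 18] (nat_lit 0) [])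
 (KT.alt (dw (nat_lit 0x1e1714)) (KT.neq (nat_lit 0) [nat_lit 16] (nat_lit 0) [])
 (KT.alt (dw (nat_lit 0x19201403)) (KT.neq (nat_lit 0) [nat_lit 0] (nat_lit 0) [])
 (KT.alt (dw (nat_lit 0x1b261503)) (KT.neq (nat_lit 0) [nat_lit 18] (nat_lit 0) [])
 (KT.alt (dw (nat_lit 0x202914)) (KT.neq (nat_lit 0) [nat_lit 18] (nat_lit 0) [])
 (KT.alt (dw (nat_lit 0x2f1d14)) (KT.neq (nat_lit 0) [nat_lit 18] (nat_lit 0) [])
 (KT.alt (dw (nat_lit 0x15311c03)) (KT.neq (nat_lit 0) [nat_lit 18] (nat_lit 0) [])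
 (KT.alt (dw (nat_lit 0x1c2c13)) (KT.neq (nat_lit 0) [nat_lit 18] (nat_lit 0) [])
 (KT.alt (dw (nat_lit 0x0f2b14)) (KT.neq (nat_lit 0) [nat_lit 18] (nat_lit 0) [])
 (KT.alt (dw (nat_lit 0x2d13)) (KT.neq (nat_lit 0) [nat_lit 16] (nat_lit 0) [])
 (KT.alt (dw (nat_lit 0x31031e03)) (KT.neq (nat_lit 0) [nat_lit 18] (nat_lit 0) [])
 t300))))))))))))))))))))))))))))))
noncomputable def t302 : KT := KT.alt (dw (nat_lit 0x141603)) (KT.neq (nat_lit 0) [nat_lit 18] (nat_lit 0) [])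
 (KT.alt (dw (nat_lit 0x1c1d14)) (KT.neq (nat_lit 0) [nat_lit 18] (nat_lit 0) [])
 (KT.alt (dw (nat_lit 0x15321403)) (KT.neq (nat_lit 0) [nat_lit 2] (nat_lit 0) [])
 (KT.alt (dw (nat_lit 0x111f03)) (KT.neq (nat_lit 0) [nat_lit 18] (nat_lit 0) [])
 (KT.alt (dw (nat_lit 0x280313)) (KT.neq (nat_lit 0) [nat_lit 2] (nat_lit 0) [])
 (KT.alt (dw (nat_lit 0x232e2003)) (KT.neq (nat_lit 0) [nat_lit 18] (nat_lit 0) [])
 (KT.alt (dw (nat_lit 0x2b1f1315)) (KT.neq (nat_lit 0) [nat_lit 18] (nat_lit 0) [])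
 (KT.alt (dw (nat_lit 0x152b13)) (KT.neq (nat_lit 0) [nat_lit 18] (nat_lit 0) [])
 (KT.alt (dw (nat_lit 0x1d191403)) (KT.neq (nat_lit 0) [nat_lit 2] (nat_lit 0) [])
 (KT.alt (dw (nat_lit 0x2c091d13)) (KT.neq (nat_lit 0) [nat_lit 18] (nat_lit 0) [])
 (KT.alt (dw (nat_lit 0x272314)) (KT.neq (nat_lit 0) [nat_lit 16] (nat_lit 0) [])
 (KT.alt (dw (nat_lit 0x281513)) (KT.neq (nat_lit 0) [nat_lit 10] (nat_lit 0) [])
 (KT.alt (dw (nat_lit 0x231c14)) (KT.neq (nat_lit 0) [nat_lit 18] (nat_lit 0) [])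
 (KT.alt (dw (nat_lit 0x1313)) (KT.neq (nat_lit 0) [nat_lit 2] (nat_lit 0) [])
 (KT.alt (dw (nat_lit 0x172614)) (KT.neq (nat_lit 0) [nat_lit 18] (nat_lit 0) [])
 (KT.alt (dw (nat_lit 0x2e1e1f03)) (KT.neq (nat_lit 0) [nat_lit 16] (nat_lit 0) [])
 (KT.alt (dw (nat_lit 0x25231513)) (KT.neq (nat_lit 0) [nat_lit 18] (nat_lit 0) [])
 (KT.alt (dw (nat_lit 0x2e1e1913)) (KT.neq (nat_lit 0) [nat_lit 18] (nat_lit 0) [])
 (KT.alt (dw (nat_lit 0x241e1f13)) (KT.neq (nat_lit 0) [nat_lit 18] (nat_lit 0) [])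
 (KT.alt (dw (nat_lit 0x25191403)) (KT.neq (nat_lit 0) [nat_lit 2] (nat_lit 0) [])
 (KT.alt (dw (nat_lit 0x2f1d15)) (KT.neq (nat_lit 0) [nat_lit 18] (nat_lit 0) [])
 (KT.alt (dw (nat_lit 0x152e1d03)) (KT.neq (nat_lit 0) [nat_lit 2] (nat_lit 0) [])
 (KT.alt (dw (nat_lit 0x2d2613)) (KT.neq (nat_lit 0) [nat_lit 16] (nat_lit 0) [])
 (KT.alt (dw (nat_lit 0x09151e03)) (KT.neq (nat_lit 0) [nat_lit 18] (nat_lit 0) [])
 (KT.alt (dw (nat_lit 0x171e1c03)) (KT.neq (nat_lit 0) [nat_lit 18] (nat_lit 0) [])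
 (KT.alt (dw (nat_lit 0x14271d03)) (KT.neq (nat_lit 0) [nat_lit 2] (nat_lit 0) [])
 (KT.alt (dw (nat_lit 0x252313)) (KT.neq (nat_lit 0) [nat_lit 18] (nat_lit 0) [])
 (KT.alt (dw (nat_lit 0x211d1303)) (KT.neq (nat_lit 0) [nat_lit 18] (nat_lit 0) [])
 (KT.alt (dw (nat_lit 0x11231503)) (KT.neq (nat_lit 0) [nat_lit 18] (nat_lit 0) [])
 (KT.alt (dw (nat_lit 0x162b1403)) (KT.neq (nat_lit 0) [nat_lit 18] (nat_lit 0) [])
 (KT.alt (dw (nat_lit 0x07211403)) (KT.neq (nat_lit 0) [nat_lit 10] (nat_lit 0) [])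
 t301))))))))))))))))))))))))))))))
noncomputable def t303 : KT := KT.alt (dw (nat_lit 0x27230313)) (KT.neq (nat_lit 0) [nat_lit 18] (nat_lit 0) [])
 (KT.alt (dw (nat_lit 0x1d2414)) (KT.neq (nat_lit 0) [nat_lit 18] (nat_lit 0) [])
 (KT.alt (dw (nat_lit 0x151f0503)) (KT.neq (nat_lit 0) [nat_lit 18] (nat_lit 0) [])
 (KT.alt (dw (nat_lit 0x1d2613)) (KT.neq (nat_lit 0) [nat_lit 18] (nat_lit 0) [])
 (KT.alt (dw (nat_lit 0x132c13)) (KT.neq (nat_lit 0) [nat_lit 18] (nat_lit 0) [])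
 (KT.alt (dw (nat_lit 0x263213)) (KT.neq (nat_lit 0) [nat_lit 16] (nat_lit 0) [])
 (KT.alt (dw (nat_lit 0x21191403)) (KT.neq (nat_lit 0) [nat_lit 2] (nat_lit 0) [])
 (KT.alt (dw (nat_lit 0x132003)) (KT.neq (nat_lit 0) [nat_lit 18] (nat_lit 0) [])
 (KT.alt (dw (nat_lit 0x162413)) (KT.neq (nat_lit 0) [nat_lit 18] (nat_lit 0) [])
 (KT.alt (dw (nat_lit 0x252713)) (KT.neq (nat_lit 0) [nat_lit 18] (nat_lit 0) [])
 (KT.alt (dw (nat_lit 0x0f200313)) (KT.neq (nat_lit 0) [nat_lit 2] (nat_lit 0) [])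
 (KT.alt (dw (nat_lit 0x1f281e03)) (KT.neq (nat_lit 0) [nat_lit 18] (nat_lit 0) [])
 (KT.alt (dw (nat_lit 0x162d13)) (KT.neq (nat_lit 0) [nat_lit 18] (nat_lit 0) [])
 (KT.alt (dw (nat_lit 0x17201403)) (KT.neq (nat_lit 0) [nat_lit 18] (nat_lit 0) [])
 (KT.alt (dw (nat_lit 0x2c2413)) (KT.neq (nat_lit 0) [nat_lit 18] (nat_lit 0) [])
 (KT.alt (dw (nat_lit 0x0313)) (KT.neq (nat_lit 0) [nat_lit 18] (nat_lit 0) [])
 (KT.alt (dw (nat_lit 0x162d0503)) (KT.neq (nat_lit 0) [nat_lit 10] (nat_lit 0) [])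
 (KT.alt (dw (nat_lit 0x112015)) (KT.neq (nat_lit 0) [nat_lit 18] (nat_lit 0) [])
 (KT.alt (dw (nat_lit 0x282314)) (KT.neq (nat_lit 0) [nat_lit 18] (nat_lit 0) [])
 (KT.alt (dw (nat_lit 0x242e1e03)) (KT.neq (nat_lit 0) [nat_lit 18] (nat_lit 0) [])
 (KT.alt (dw (nat_lit 0x1c2c1313)) (KT.neq (nat_lit 0) [nat_lit 18] (nat_lit 0) [])
 (KT.alt (dw (nat_lit 0x32131b13)) (KT.neq (nat_lit 0) [nat_lit 18] (nat_lit 0) [])
 (KT.alt (dw (nat_lit 0x2b2513)) (KT.neq (nat_lit 0) [nat_lit 8] (nat_lit 0) [])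
 (KT.alt (dw (nat_lit 0x2e1e13)) (KT.neq (nat_lit 0) [nat_lit 16] (nat_lit 0) [])
 (KT.alt (dw (nat_lit 0x290313)) (KT.neq (nat_lit 0) [nat_lit 2] (nat_lit 0) [])
 (KT.alt (dw (nat_lit 0x1b1f14)) (KT.neq (nat_lit 0) [nat_lit 18] (nat_lit 0) [])
 (KT.alt (dw (nat_lit 0x073113)) (KT.neq (nat_lit 0) [nat_lit 16] (nat_lit 0) [])
 (KT.alt (dw (nat_lit 0x212b13)) (KT.neq (nat_lit 0) [nat_lit 18] (nat_lit 0) [])
 (KT.alt (dw (nat_lit 0x321d03)) (KT.neq (nat_lit 0) [nat_lit 2] (nat_lit 0) [])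
 (KT.alt (dw (nat_lit 0x073214)) (KT.neq (nat_lit 0) [nat_lit 18] (nat_lit 0) [])
 (KT.alt (dw (nat_lit 0x2d1f1d13)) (KT.neq (nat_lit 0) [nat_lit 16] (nat_lit 0) [])
 t302))))))))))))))))))))))))))))))
noncomputable def t304 : KT := KT.alt (dw (nat_lit 0x192b1613)) (KT.neq (nat_lit 0) [nat_lit 18] (nat_lit 0) [])
 (KT.alt (dw (nat_lit 0x232015)) (KT.neq (nat_lit 0) [nat_lit 16] (nat_lit 0) [])
 (KT.alt (dw (nat_lit 0x201d03)) (KT.neq (nat_lit 0) [nat_lit 18] (nat_lit 0) [])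
 (KT.alt (dw (nat_lit 0x271315)) (KT.neq (nat_lit 0) [nat_lit 18] (nat_lit 0) [])
 (KT.alt (dw (nat_lit 0x1b131f03)) (KT.neq (nat_lit 0) [nat_lit 18] (nat_lit 0) [])
 (KT.alt (dw (nat_lit 0x1f1c03)) (KT.neq (nat_lit 0) [nat_lit 18] (nat_lit 0) [])
 (KT.alt (dw (nat_lit 0x322613)) (KT.neq (nat_lit 0) [nat_lit 18] (nat_lit 0) [])
 (KT.alt (dw (nat_lit 0x1315)) (KT.neq (nat_lit 0) [nat_lit 10] (nat_lit 0) [])
 (KT.alt (dw (nat_lit 0x282b14)) (KT.neq (nat_lit 0) [nat_lit 18] (nat_lit 0) [])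
 (KT.alt (dw (nat_lit 0x072b14)) (KT.neq (nat_lit 0) [nat_lit 18] (nat_lit 0) [])
 (KT.alt (dw (nat_lit 0x252813)) (KT.neq (nat_lit 0) [nat_lit 18] (nat_lit 0) [])
 (KT.alt (dw (nat_lit 0x2f1e1f03)) (KT.neq (nat_lit 0) [nat_lit 18] (nat_lit 0) [])
 (KT.alt (dw (nat_lit 0x131c03)) (KT.neq (nat_lit 0) [nat_lit 16] (nat_lit 0) [])
 (KT.alt (dw (nat_lit 0x191e14)) (KT.neq (nat_lit 0) [nat_lit 18] (nat_lit 0) [])
 (KT.alt (dw (nat_lit 0x1e071f03)) (KT.neq (nat_lit 0) [nat_lit 2] (nat_lit 0) [])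
 (KT.alt (dw (nat_lit 0x29232003)) (KT.neq (nat_lit 0) [nat_lit 18] (nat_lit 0) [])
 (KT.alt (dw (nat_lit 0x251f1503)) (KT.neq (nat_lit 0) [nat_lit 18] (nat_lit 0) [])
 (KT.alt (dw (nat_lit 0x1b272003)) (KT.neq (nat_lit 0) [nat_lit 18] (nat_lit 0) [])
 (KT.alt (dw (nat_lit 0x241e03)) (KT.neq (nat_lit 0) [nat_lit 18] (nat_lit 0) [])
 (KT.alt (dw (nat_lit 0x26131503)) (KT.neq (nat_lit 0) [nat_lit 12] (nat_lit 0) [])
 (KT.alt (dw (nat_lit 0x162813)) (KT.neq (nat_lit 0) [nat_lit 18] (nat_lit 0) [])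
 (KT.alt (dw (nat_lit 0x11231e03)) (KT.neq (nat_lit 0) [nat_lit 18] (nat_lit 0) [])
 (KT.alt (dw (nat_lit 0x1d1b14)) (KT.neq (nat_lit 0) [nat_lit 16] (nat_lit 0) [])
 (KT.alt (dw (nat_lit 0x23091903)) (KT.neq (nat_lit 0) [nat_lit 18] (nat_lit 0) [])
 (KT.alt (dw (nat_lit 0x28231303)) (KT.neq (nat_lit 0) [nat_lit 18] (nat_lit 0) [])
 (KT.alt (dw (nat_lit 0x172b1303)) (KT.neq (nat_lit 0) [nat_lit 18] (nat_lit 0) [])
 (KT.alt (dw (nat_lit 0x092814)) (KT.neq (nat_lit 0) [nat_lit 18] (nat_lit 0) [])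
 (KT.alt (dw (nat_lit 0x2f2313)) (KT.neq (nat_lit 0) [nat_lit 18] (nat_lit 0) [])
 (KT.alt (dw (nat_lit 0x291d14)) (KT.neq (nat_lit 0) [nat_lit 18] (nat_lit 0) [])
 (KT.alt (dw (nat_lit 0x16201503)) (KT.neq (nat_lit 0) [nat_lit 18] (nat_lit 0) [])
 (KT.alt (dw (nat_lit 0x2e1d13)) (KT.neq (nat_lit 0) [nat_lit 18] (nat_lit 0) [])
 t303))))))))))))))))))))))))))))))
noncomputable def t305 : KT := KT.alt (dw (nat_lit 0x141d1913)) (KT.neq (nat_lit 0) [nat_lit 18] (nat_lit 0) [])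
 (KT.alt (dw (nat_lit 0x202e14)) (KT.neq (nat_lit 0) [nat_lit 2] (nat_lit 0) [])
 (KT.alt (dw (nat_lit 0x1d1613)) (KT.neq (nat_lit 0) [nat_lit 18] (nat_lit 0) [])
 (KT.alt (dw (nat_lit 0x14231e03)) (KT.neq (nat_lit 0) [nat_lit 18] (nat_lit 0) [])
 (KT.alt (dw (nat_lit 0x1c2413)) (KT.neq (nat_lit 0) [nat_lit 18] (nat_lit 0) [])
 (KT.alt (dw (nat_lit 0x262d13)) (KT.neq (nat_lit 0) [nat_lit 18] (nat_lit 0) [])
 (KT.alt (dw (nat_lit 0x2813)) (KT.neq (nat_lit 0) [nat_lit 16] (nat_lit 0) [])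
 (KT.alt (dw (nat_lit 0x152d0503)) (KT.neq (nat_lit 0) [nat_lit 18] (nat_lit 0) [])
 (KT.alt (dw (nat_lit 0x281f13)) (KT.neq (nat_lit 0) [nat_lit 18] (nat_lit 0) [])
 (KT.alt (dw (nat_lit 0x152614)) (KT.neq (nat_lit 0) [nat_lit 18] (nat_lit 0) [])
 (KT.alt (dw (nat_lit 0x031f0503)) (KT.neq (nat_lit 0) [nat_lit 18] (nat_lit 0) [])
 (KT.alt (dw (nat_lit 0x243213)) (KT.neq (nat_lit 0) [nat_lit 16] (nat_lit 0) [])
 (KT.alt (dw (nat_lit 0x1f2b14)) (KT.neq (nat_lit 0) [nat_lit 18] (nat_lit 0) [])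
 (KT.alt (dw (nat_lit 0x1e131c03)) (KT.neq (nat_lit 0) [nat_lit 18] (nat_lit 0) [])
 (KT.alt (dw (nat_lit 0x19131f03)) (KT.neq (nat_lit 0) [nat_lit 18] (nat_lit 0) [])
 (KT.alt (dw (nat_lit 0x162e13)) (KT.neq (nat_lit 0) [nat_lit 18] (nat_lit 0) [])
 (KT.alt (dw (nat_lit 0x152015)) (KT.neq (nat_lit 0) [nat_lit 18] (nat_lit 0) [])
 (KT.alt (dw (nat_lit 0x262d1513)) (KT.neq (nat_lit 0) [nat_lit 8] (nat_lit 0) [])
 (KT.alt (dw (nat_lit 0x281f14)) (KT.neq (nat_lit 0) [nat_lit 18] (nat_lit 0) [])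
 (KT.alt (dw (nat_lit 0x32161403)) (KT.neq (nat_lit 0) [nat_lit 10] (nat_lit 0) [])
 (KT.alt (dw (nat_lit 0x2c191403)) (KT.neq (nat_lit 0) [nat_lit 0] (nat_lit 0) [])
 (KT.alt (dw (nat_lit 0x292015)) (KT.neq (nat_lit 0) [nat_lit 18] (nat_lit 0) [])
 (KT.alt (dw (nat_lit 0x251513)) (KT.neq (nat_lit 0) [nat_lit 2] (nat_lit 0) [])
 (KT.alt (dw (nat_lit 0x131e15)) (KT.neq (nat_lit 0) [nat_lit 18] (nat_lit 0) [])
 (KT.alt (dw (nat_lit 0x14251513)) (KT.neq (nat_lit 0) [nat_lit 18] (nat_lit 0) [])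
 (KT.alt (dw (nat_lit 0x2e2513)) (KT.neq (nat_lit 0) [nat_lit 16] (nat_lit 0) [])
 (KT.alt (dw (nat_lit 0x053113)) (KT.neq (nat_lit 0) [nat_lit 18] (nat_lit 0) [])
 (KT.alt (dw (nat_lit 0x192d14)) (KT.neq (nat_lit 0) [nat_lit 18] (nat_lit 0) [])
 (KT.alt (dw (nat_lit 0x142c13)) (KT.neq (nat_lit 0) [nat_lit 18] (nat_lit 0) [])
 (KT.alt (dw (nat_lit 0x31241d03)) (KT.neq (nat_lit 0) [nat_lit 18] (nat_lit 0) [])
 (KT.alt (dw (nat_lit 0x161403)) (KT.neq (nat_lit 0) [nat_lit 0] (nat_lit 0) [])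
 t304))))))))))))))))))))))))))))))
noncomputable def t306 : KT := KT.alt (dw (nat_lit 0x2f1f03)) (KT.neq (nat_lit 0) [nat_lit 16] (nat_lit 0) [])
 (KT.alt (dw (nat_lit 0x1c1303)) (KT.neq (nat_lit 0) [nat_lit 18] (nat_lit 0) [])
 (KT.alt (dw (nat_lit 0x1f151d03)) (KT.neq (nat_lit 0) [nat_lit 18] (nat_lit 0) [])
 (KT.alt (dw (nat_lit 0x1f2714)) (KT.neq (nat_lit 0) [nat_lit 18] (nat_lit 0) [])
 (KT.alt (dw (nat_lit 0x091e13)) (KT.neq (nat_lit 0) [nat_lit 16] (nat_lit 0) [])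
 (KT.alt (dw (nat_lit 0x1b1313)) (KT.neq (nat_lit 0) [nat_lit 18] (nat_lit 0) [])
 (KT.alt (dw (nat_lit 0x2d201303)) (KT.neq (nat_lit 0) [nat_lit 18] (nat_lit 0) [])
 (KT.alt (dw (nat_lit 0x1e2313)) (KT.neq (nat_lit 0) [nat_lit 18] (nat_lit 0) [])
 (KT.alt (dw (nat_lit 0x202c13)) (KT.neq (nat_lit 0) [nat_lit 18] (nat_lit 0) [])
 (KT.alt (dw (nat_lit 0x2b1c03)) (KT.neq (nat_lit 0) [nat_lit 18] (nat_lit 0) [])
 (KT.alt (dw (nat_lit 0x291903)) (KT.neq (nat_lit 0) [nat_lit 18] (nat_lit 0) [])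
 (KT.alt (dw (nat_lit 0x232f2003)) (KT.neq (nat_lit 0) [nat_lit 18] (nat_lit 0) [])
 (KT.alt (dw (nat_lit 0x142714)) (KT.neq (nat_lit 0) [nat_lit 18] (nat_lit 0) [])
 (KT.alt (dw (nat_lit 0x201513)) (KT.neq (nat_lit 0) [nat_lit 18] (nat_lit 0) [])
 (KT.alt (dw (nat_lit 0x241f03)) (KT.neq (nat_lit 0) [nat_lit 18] (nat_lit 0) [])
 (KT.alt (dw (nat_lit 0x2b2314)) (KT.neq (nat_lit 0) [nat_lit 18] (nat_lit 0) [])
 (KT.alt (dw (nat_lit 0x1513)) (KT.neq (nat_lit 0) [nat_lit 18] (nat_lit 0) [])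
 (KT.alt (dw (nat_lit 0x2f161e03)) (KT.neq (nat_lit 0) [nat_lit 18] (nat_lit 0) [])
 (KT.alt (dw (nat_lit 0x0d2614)) (KT.neq (nat_lit 0) [nat_lit 16] (nat_lit 0) [])
 (KT.alt (dw (nat_lit 0x2f191d03)) (KT.neq (nat_lit 0) [nat_lit 18] (nat_lit 0) [])
 (KT.alt (dw (nat_lit 0x252114)) (KT.neq (nat_lit 0) [nat_lit 18] (nat_lit 0) [])
 (KT.alt (dw (nat_lit 0x1f111403)) (KT.neq (nat_lit 0) [nat_lit 10] (nat_lit 0) [])
 (KT.alt (dw (nat_lit 0x19230313)) (KT.neq (nat_lit 0) [nat_lit 0] (nat_lit 0) [])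
 (KT.alt (dw (nat_lit 0x0b071913)) (KT.neq (nat_lit 0) [nat_lit 18] (nat_lit 0) [])
 (KT.alt (dw (nat_lit 0x2f1e0313)) (KT.neq (nat_lit 0) [nat_lit 2] (nat_lit 0) [])
 (KT.alt (dw (nat_lit 0x2c1515)) (KT.neq (nat_lit 0) [nat_lit 2] (nat_lit 0) [])
 (KT.alt (dw (nat_lit 0x281515)) (KT.neq (nat_lit 0) [nat_lit 18] (nat_lit 0) [])
 (KT.alt (dw (nat_lit 0x311d03)) (KT.neq (nat_lit 0) [nat_lit 18] (nat_lit 0) [])
 (KT.alt (dw (nat_lit 0x091f1c03)) (KT.neq (nat_lit 0) [nat_lit 18] (nat_lit 0) [])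
 (KT.alt (dw (nat_lit 0x152714)) (KT.neq (nat_lit 0) [nat_lit 18] (nat_lit 0) [])
 (KT.alt (dw (nat_lit 0x230313)) (KT.neq (nat_lit 0) [nat_lit 18] (nat_lit 0) [])
 t305))))))))))))))))))))))))))))))
noncomputable def t307 : KT := KT.alt (dw (nat_lit 0x272b13)) (KT.neq (nat_lit 0) [nat_lit 18] (nat_lit 0) [])
 (KT.alt (dw (nat_lit 0x2b1403)) (KT.neq (nat_lit 0) [nat_lit 12] (nat_lit 0) [])
 (KT.alt (dw (nat_lit 0x2b1e14)) (KT.neq (nat_lit 0) [nat_lit 18] (nat_lit 0) [])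
 (KT.alt (dw (nat_lit 0x27261d03)) (KT.neq (nat_lit 0) [nat_lit 18] (nat_lit 0) [])
 (KT.alt (dw (nat_lit 0x291513)) (KT.neq (nat_lit 0) [nat_lit 18] (nat_lit 0) [])
 (KT.alt (dw (nat_lit 0x141e1503)) (KT.neq (nat_lit 0) [nat_lit 18] (nat_lit 0) [])
 (KT.alt (dw (nat_lit 0x27211403)) (KT.neq (nat_lit 0) [nat_lit 18] (nat_lit 0) [])
 (KT.alt (dw (nat_lit 0x2c1f1403)) (KT.neq (nat_lit 0) [nat_lit 18] (nat_lit 0) [])
 (KT.alt (dw (nat_lit 0x212014)) (KT.neq (nat_lit 0) [nat_lit 16] (nat_lit 0) [])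
 (KT.alt (dw (nat_lit 0x32201403)) (KT.neq (nat_lit 0) [nat_lit 18] (nat_lit 0) [])
 (KT.alt (dw (nat_lit 0x0f2c1d03)) (KT.neq (nat_lit 0) [nat_lit 18] (nat_lit 0) [])
 (KT.alt (dw (nat_lit 0x191403)) (KT.neq (nat_lit 0) [nat_lit 2] (nat_lit 0) [])
 (KT.alt (dw (nat_lit 0x15211d03)) (KT.neq (nat_lit 0) [nat_lit 18] (nat_lit 0) [])
 (KT.alt (dw (nat_lit 0x271d15)) (KT.neq (nat_lit 0) [nat_lit 16] (nat_lit 0) [])
 (KT.alt (dw (nat_lit 0x19252003)) (KT.neq (nat_lit 0) [nat_lit 16] (nat_lit 0) [])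
 (KT.alt (dw (nat_lit 0x111403)) (KT.neq (nat_lit 0) [nat_lit 10] (nat_lit 0) [])
 (KT.alt (dw (nat_lit 0x1e1f03)) (KT.neq (nat_lit 0) [nat_lit 18] (nat_lit 0) [])
 (KT.alt (dw (nat_lit 0x2e1f15)) (KT.neq (nat_lit 0) [nat_lit 16] (nat_lit 0) [])
 (KT.alt (dw (nat_lit 0x32231315)) (KT.neq (nat_lit 0) [nat_lit 10] (nat_lit 0) [])
 (KT.alt (dw (nat_lit 0x172b13)) (KT.neq (nat_lit 0) [nat_lit 18] (nat_lit 0) [])
 (KT.alt (dw (nat_lit 0x31131303)) (KT.neq (nat_lit 0) [nat_lit 18] (nat_lit 0) [])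
 (KT.alt (dw (nat_lit 0x2e261503)) (KT.neq (nat_lit 0) [nat_lit 18] (nat_lit 0) [])
 (KT.alt (dw (nat_lit 0x24211403)) (KT.neq (nat_lit 0) [nat_lit 2] (nat_lit 0) [])
 (KT.alt (dw (nat_lit 0x231b1303)) (KT.neq (nat_lit 0) [nat_lit 18] (nat_lit 0) [])
 (KT.alt (dw (nat_lit 0x07240313)) (KT.neq (nat_lit 0) [nat_lit 18] (nat_lit 0) [])
 (KT.alt (dw (nat_lit 0x161e03)) (KT.neq (nat_lit 0) [nat_lit 18] (nat_lit 0) [])
 (KT.alt (dw (nat_lit 0x241f0313)) (KT.neq (nat_lit 0) [nat_lit 8] (nat_lit 0) [])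
 (KT.alt (dw (nat_lit 0x232e13)) (KT.neq (nat_lit 0) [nat_lit 18] (nat_lit 0) [])
 (KT.alt (dw (nat_lit 0x261f1403)) (KT.neq (nat_lit 0) [nat_lit 18] (nat_lit 0) [])
 (KT.alt (dw (nat_lit 0x2d131b14)) (KT.neq (nat_lit 0) [nat_lit 18] (nat_lit 0) [])
 (KT.alt (dw (nat_lit 0x0f1b13)) (KT.neq (nat_lit 0) [nat_lit 18] (nat_lit 0) [])
 t306))))))))))))))))))))))))))))))
noncomputable def t308 : KT := KT.alt (dw (nat_lit 0x2f1f14)) (KT.neq (nat_lit 0) [nat_lit 16] (nat_lit 0) [])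
 (KT.alt (dw (nat_lit 0x0f2714)) (KT.neq (nat_lit 0) [nat_lit 18] (nat_lit 0) [])
 (KT.alt (dw (nat_lit 0x311613)) (KT.neq (nat_lit 0) [nat_lit 16] (nat_lit 0) [])
 (KT.alt (dw (nat_lit 0x291f14)) (KT.neq (nat_lit 0) [nat_lit 18] (nat_lit 0) [])
 (KT.alt (dw (nat_lit 0x322014)) (KT.neq (nat_lit 0) [nat_lit 18] (nat_lit 0) [])
 (KT.alt (dw (nat_lit 0x2b2003)) (KT.neq (nat_lit 0) [nat_lit 18] (nat_lit 0) [])
 (KT.alt (dw (nat_lit 0x162b0503)) (KT.neq (nat_lit 0) [nat_lit 18] (nat_lit 0) [])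
 (KT.alt (dw (nat_lit 0x07241403)) (KT.neq (nat_lit 0) [nat_lit 18] (nat_lit 0) [])
 (KT.alt (dw (nat_lit 0x232713)) (KT.neq (nat_lit 0) [nat_lit 18] (nat_lit 0) [])
 (KT.alt (dw (nat_lit 0x1c1f13)) (KT.neq (nat_lit 0) [nat_lit 18] (nat_lit 0) [])
 (KT.alt (dw (nat_lit 0x140b1903)) (KT.neq (nat_lit 0) [nat_lit 2] (nat_lit 0) [])
 (KT.alt (dw (nat_lit 0x24191f03)) (KT.neq (nat_lit 0) [nat_lit 18] (nat_lit 0) [])
 (KT.alt (dw (nat_lit 0x252e13)) (KT.neq (nat_lit 0) [nat_lit 16] (nat_lit 0) [])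
 (KT.alt (dw (nat_lit 0x1e271503)) (KT.neq (nat_lit 0) [nat_lit 18] (nat_lit 0) [])
 (KT.alt (dw (nat_lit 0x2c13)) (KT.neq (nat_lit 0) [nat_lit 2] (nat_lit 0) [])
 (KT.alt (dw (nat_lit 0x271e1903)) (KT.neq (nat_lit 0) [nat_lit 18] (nat_lit 0) [])
 (KT.alt (dw (nat_lit 0x1d0b1c03)) (KT.neq (nat_lit 0) [nat_lit 18] (nat_lit 0) [])
 (KT.alt (dw (nat_lit 0x11132003)) (KT.neq (nat_lit 0) [nat_lit 18] (nat_lit 0) [])
 (KT.alt (dw (nat_lit 0x072d14)) (KT.neq (nat_lit 0) [nat_lit 18] (nat_lit 0) [])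
 (KT.alt (dw (nat_lit 0x0b2013)) (KT.neq (nat_lit 0) [nat_lit 18] (nat_lit 0) [])
 (KT.alt (dw (nat_lit 0x152d13)) (KT.neq (nat_lit 0) [nat_lit 18] (nat_lit 0) [])
 (KT.alt (dw (nat_lit 0x291f03)) (KT.neq (nat_lit 0) [nat_lit 18] (nat_lit 0) [])
 (KT.alt (dw (nat_lit 0x282e1e03)) (KT.neq (nat_lit 0) [nat_lit 18] (nat_lit 0) [])
 (KT.alt (dw (nat_lit 0x1e141e03)) (KT.neq (nat_lit 0) [nat_lit 2] (nat_lit 0) [])
 (KT.alt (dw (nat_lit 0x03132b13)) (KT.neq (nat_lit 0) [nat_lit 18] (nat_lit 0) [])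
 (KT.alt (dw (nat_lit 0x0d2014)) (KT.neq (nat_lit 0) [nat_lit 16] (nat_lit 0) [])
 (KT.alt (dw (nat_lit 0x321e03)) (KT.neq (nat_lit 0) [nat_lit 16] (nat_lit 0) [])
 (KT.alt (dw (nat_lit 0x1d2614)) (KT.neq (nat_lit 0) [nat_lit 18] (nat_lit 0) [])
 (KT.alt (dw (nat_lit 0x291d15)) (KT.neq (nat_lit 0) [nat_lit 18] (nat_lit 0) [])
 (KT.alt (dw (nat_lit 0x2c1f13)) (KT.neq (nat_lit 0) [nat_lit 16] (nat_lit 0) [])
 (KT.alt (dw (nat_lit 0x091b13)) (KT.neq (nat_lit 0) [nat_lit 16] (nat_lit 0) [])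
 t307))))))))))))))))))))))))))))))
noncomputable def t309 : KT := KT.alt (dw (nat_lit 0x29251513)) (KT.neq (nat_lit 0) [nat_lit 8] (nat_lit 0) [])
 (KT.alt (dw (nat_lit 0x131e03)) (KT.neq (nat_lit 0) [nat_lit 18] (nat_lit 0) [])
 (KT.alt (dw (nat_lit 0x311414)) (KT.neq (nat_lit 0) [nat_lit 18] (nat_lit 0) [])
 (KT.alt (dw (nat_lit 0x20161403)) (KT.neq (nat_lit 0) [nat_lit 18] (nat_lit 0) [])
 (KT.alt (dw (nat_lit 0x141f14)) (KT.neq (nat_lit 0) [nat_lit 18] (nat_lit 0) [])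
 (KT.alt (dw (nat_lit 0x2e1c14)) (KT.neq (nat_lit 0) [nat_lit 16] (nat_lit 0) [])
 (KT.alt (dw (nat_lit 0x11151d03)) (KT.neq (nat_lit 0) [nat_lit 12] (nat_lit 0) [])
 (KT.alt (dw (nat_lit 0x312313)) (KT.neq (nat_lit 0) [nat_lit 18] (nat_lit 0) [])
 (KT.alt (dw (nat_lit 0x152e0503)) (KT.neq (nat_lit 0) [nat_lit 18] (nat_lit 0) [])
 (KT.alt (dw (nat_lit 0x14231603)) (KT.neq (nat_lit 0) [nat_lit 18] (nat_lit 0) [])
 (KT.alt (dw (nat_lit 0x2d2513)) (KT.neq (nat_lit 0) [nat_lit 18] (nat_lit 0) [])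
 (KT.alt (dw (nat_lit 0x141e14)) (KT.neq (nat_lit 0) [nat_lit 18] (nat_lit 0) [])
 (KT.alt (dw (nat_lit 0x1f1d13)) (KT.neq (nat_lit 0) [nat_lit 18] (nat_lit 0) [])
 (KT.alt (dw (nat_lit 0x17231403)) (KT.neq (nat_lit 0) [nat_lit 18] (nat_lit 0) [])
 (KT.alt (dw (nat_lit 0x131503)) (KT.neq (nat_lit 0) [nat_lit 4] (nat_lit 0) [])
 (KT.alt (dw (nat_lit 0x1e1b1403)) (KT.neq (nat_lit 0) [nat_lit 2] (nat_lit 0) [])
 (KT.alt (dw (nat_lit 0x111b1313)) (KT.neq (nat_lit 0) [nat_lit 8] (nat_lit 0) [])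
 (KT.alt (dw (nat_lit 0x0b1b1503)) (KT.neq (nat_lit 0) [nat_lit 18] (nat_lit 0) [])
 (KT.alt (dw (nat_lit 0x29052003)) (KT.neq (nat_lit 0) [nat_lit 18] (nat_lit 0) [])
 (KT.alt (dw (nat_lit 0x161e1603)) (KT.neq (nat_lit 0) [nat_lit 18] (nat_lit 0) [])
 (KT.alt (dw (nat_lit 0x21161403)) (KT.neq (nat_lit 0) [nat_lit 8] (nat_lit 0) [])
 (KT.alt (dw (nat_lit 0x312914)) (KT.neq (nat_lit 0) [nat_lit 18] (nat_lit 0) [])
 (KT.alt (dw (nat_lit 0x152f1d03)) (KT.neq (nat_lit 0) [nat_lit 16] (nat_lit 0) [])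
 (KT.alt (dw (nat_lit 0x311b1f03)) (KT.neq (nat_lit 0) [nat_lit 18] (nat_lit 0) [])
 (KT.alt (dw (nat_lit 0x0d1414)) (KT.neq (nat_lit 0) [nat_lit 18] (nat_lit 0) [])
 (KT.alt (dw (nat_lit 0x092d13)) (KT.neq (nat_lit 0) [nat_lit 2] (nat_lit 0) [])
 (KT.alt (dw (nat_lit 0x14071e03)) (KT.neq (nat_lit 0) [nat_lit 16] (nat_lit 0) [])
 (KT.alt (dw (nat_lit 0x31241414)) (KT.neq (nat_lit 0) [nat_lit 2] (nat_lit 0) [])
 (KT.alt (dw (nat_lit 0x1b1503)) (KT.neq (nat_lit 0) [nat_lit 16] (nat_lit 0) [])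
 (KT.alt (dw (nat_lit 0x142b1603)) (KT.neq (nat_lit 0) [nat_lit 18] (nat_lit 0) [])
 (KT.alt (dw (nat_lit 0x13031d03)) (KT.neq (nat_lit 0) [nat_lit 18] (nat_lit 0) [])
 t308))))))))))))))))))))))))))))))
noncomputable def t310 : KT := KT.alt (dw (nat_lit 0x311f03)) (KT.neq (nat_lit 0) [nat_lit 18] (nat_lit 0) [])
 (KT.alt (dw (nat_lit 0x1e281503)) (KT.neq (nat_lit 0) [nat_lit 18] (nat_lit 0) [])
 (KT.alt (dw (nat_lit 0x31152003)) (KT.neq (nat_lit 0) [nat_lit 18] (nat_lit 0) [])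
 (KT.alt (dw (nat_lit 0x0b1e03)) (KT.neq (nat_lit 0) [nat_lit 16] (nat_lit 0) [])
 (KT.alt (dw (nat_lit 0x1f161403)) (KT.neq (nat_lit 0) [nat_lit 4] (nat_lit 0) [])
 (KT.alt (dw (nat_lit 0x071f13)) (KT.neq (nat_lit 0) [nat_lit 18] (nat_lit 0) [])
 (KT.alt (dw (nat_lit 0x191303)) (KT.neq (nat_lit 0) [nat_lit 18] (nat_lit 0) [])
 (KT.alt (dw (nat_lit 0x142b14)) (KT.neq (nat_lit 0) [nat_lit 16] (nat_lit 0) [])
 (KT.alt (dw (nat_lit 0x143213)) (KT.neq (nat_lit 0) [nat_lit 18] (nat_lit 0) [])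
 (KT.alt (dw (nat_lit 0x202e1f03)) (KT.neq (nat_lit 0) [nat_lit 16] (nat_lit 0) [])
 (KT.alt (dw (nat_lit 0x32152013)) (KT.neq (nat_lit 0) [nat_lit 2] (nat_lit 0) [])
 (KT.alt (dw (nat_lit 0x1f322413)) (KT.neq (nat_lit 0) [nat_lit 18] (nat_lit 0) [])
 (KT.alt (dw (nat_lit 0x052014)) (KT.neq (nat_lit 0) [nat_lit 18] (nat_lit 0) [])
 (KT.alt (dw (nat_lit 0x16271403)) (KT.neq (nat_lit 0) [nat_lit 18] (nat_lit 0) [])
 (KT.alt (dw (nat_lit 0x20261503)) (KT.neq (nat_lit 0) [nat_lit 18] (nat_lit 0) [])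
 (KT.alt (dw (nat_lit 0x292314)) (KT.neq (nat_lit 0) [nat_lit 18] (nat_lit 0) [])
 (KT.alt (dw (nat_lit 0x321d14)) (KT.neq (nat_lit 0) [nat_lit 18] (nat_lit 0) [])
 (KT.alt (dw (nat_lit 0x261e13)) (KT.neq (nat_lit 0) [nat_lit 18] (nat_lit 0) [])
 (KT.alt (dw (nat_lit 0x13071f03)) (KT.neq (nat_lit 0) [nat_lit 18] (nat_lit 0) [])
 (KT.alt (dw (nat_lit 0x28260313)) (KT.neq (nat_lit 0) [nat_lit 18] (nat_lit 0) [])
 (KT.alt (dw (nat_lit 0x15271d03)) (KT.neq (nat_lit 0) [nat_lit 18] (nat_lit 0) [])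
 (KT.alt (dw (nat_lit 0x1f2613)) (KT.neq (nat_lit 0) [nat_lit 18] (nat_lit 0) [])
 (KT.alt (dw (nat_lit 0x241b14)) (KT.neq (nat_lit 0) [nat_lit 18] (nat_lit 0) [])
 (KT.alt (dw (nat_lit 0x151515)) (KT.neq (nat_lit 0) [nat_lit 18] (nat_lit 0) [])
 (KT.alt (dw (nat_lit 0x291403)) (KT.neq (nat_lit 0) [nat_lit 18] (nat_lit 0) [])
 (KT.alt (dw (nat_lit 0x15271d13)) (KT.neq (nat_lit 0) [nat_lit 18] (nat_lit 0) [])
 (KT.alt (dw (nat_lit 0x091c1403)) (KT.neq (nat_lit 0) [nat_lit 18] (nat_lit 0) [])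
 (KT.alt (dw (nat_lit 0x19281403)) (KT.neq (nat_lit 0) [nat_lit 18] (nat_lit 0) [])
 (KT.alt (dw (nat_lit 0x1c2b14)) (KT.neq (nat_lit 0) [nat_lit 18] (nat_lit 0) [])
 (KT.alt (dw (nat_lit 0x111c2003)) (KT.neq (nat_lit 0) [nat_lit 18] (nat_lit 0) [])
 (KT.alt (dw (nat_lit 0x052b14)) (KT.neq (nat_lit 0) [nat_lit 18] (nat_lit 0) [])
 t309))))))))))))))))))))))))))))))
noncomputable def t311 : KT := KT.alt (dw (nat_lit 0x271614)) (KT.neq (nat_lit 0) [nat_lit 18] (nat_lit 0) [])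
 (KT.alt (dw (nat_lit 0x2c2014)) (KT.neq (nat_lit 0) [nat_lit 18] (nat_lit 0) [])
 (KT.alt (dw (nat_lit 0x111b13)) (KT.neq (nat_lit 0) [nat_lit 18] (nat_lit 0) [])
 (KT.alt (dw (nat_lit 0x031d1613)) (KT.neq (nat_lit 0) [nat_lit 18] (nat_lit 0) [])
 (KT.alt (dw (nat_lit 0x091913)) (KT.neq (nat_lit 0) [nat_lit 18] (nat_lit 0) [])
 (KT.alt (dw (nat_lit 0x15261603)) (KT.neq (nat_lit 0) [nat_lit 18] (nat_lit 0) [])
 (KT.alt (dw (nat_lit 0x14311c03)) (KT.neq (nat_lit 0) [nat_lit 12] (nat_lit 0) [])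
 (KT.alt (dw (nat_lit 0x15231903)) (KT.neq (nat_lit 0) [nat_lit 2] (nat_lit 0) [])
 (KT.alt (dw (nat_lit 0x16201513)) (KT.neq (nat_lit 0) [nat_lit 2] (nat_lit 0) [])
 (KT.alt (dw (nat_lit 0x1f280313)) (KT.neq (nat_lit 0) [nat_lit 18] (nat_lit 0) [])
 (KT.alt (dw (nat_lit 0x261b14)) (KT.neq (nat_lit 0) [nat_lit 16] (nat_lit 0) [])
 (KT.alt (dw (nat_lit 0x2c1e1903)) (KT.neq (nat_lit 0) [nat_lit 18] (nat_lit 0) [])
 (KT.alt (dw (nat_lit 0x241614)) (KT.neq (nat_lit 0) [nat_lit 18] (nat_lit 0) [])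
 (KT.alt (dw (nat_lit 0x272015)) (KT.neq (nat_lit 0) [nat_lit 18] (nat_lit 0) [])
 (KT.alt (dw (nat_lit 0x1c14)) (KT.neq (nat_lit 0) [nat_lit 18] (nat_lit 0) [])
 (KT.alt (dw (nat_lit 0x092114)) (KT.neq (nat_lit 0) [nat_lit 18] (nat_lit 0) [])
 (KT.alt (dw (nat_lit 0x1d03)) (KT.neq (nat_lit 0) [nat_lit 18] (nat_lit 0) [])
 (KT.alt (dw (nat_lit 0x131e13)) (KT.neq (nat_lit 0) [nat_lit 18] (nat_lit 0) [])
 (KT.alt (dw (nat_lit 0x152814)) (KT.neq (nat_lit 0) [nat_lit 18] (nat_lit 0) [])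
 (KT.alt (dw (nat_lit 0x0d2003)) (KT.neq (nat_lit 0) [nat_lit 18] (nat_lit 0) [])
 (KT.alt (dw (nat_lit 0x29311d03)) (KT.neq (nat_lit 0) [nat_lit 18] (nat_lit 0) [])
 (KT.alt (dw (nat_lit 0x1d2b1403)) (KT.neq (nat_lit 0) [nat_lit 18] (nat_lit 0) [])
 (KT.alt (dw (nat_lit 0x1f031603)) (KT.neq (nat_lit 0) [nat_lit 0] (nat_lit 0) [])
 (KT.alt (dw (nat_lit 0x271d14)) (KT.neq (nat_lit 0) [nat_lit 18] (nat_lit 0) [])
 (KT.alt (dw (nat_lit 0x2b2e13)) (KT.neq (nat_lit 0) [nat_lit 18] (nat_lit 0) [])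
 (KT.alt (dw (nat_lit 0x321403)) (KT.neq (nat_lit 0) [nat_lit 18] (nat_lit 0) [])
 (KT.alt (dw (nat_lit 0x13271503)) (KT.neq (nat_lit 0) [nat_lit 18] (nat_lit 0) [])
 (KT.alt (dw (nat_lit 0x2e211303)) (KT.neq (nat_lit 0) [nat_lit 18] (nat_lit 0) [])
 (KT.alt (dw (nat_lit 0x2b141414)) (KT.neq (nat_lit 0) [nat_lit 18] (nat_lit 0) [])
 (KT.alt (dw (nat_lit 0x14)) (KT.neq (nat_lit 0) [nat_lit 18] (nat_lit 0) [])
 (KT.alt (dw (nat_lit 0x1b1d13)) (KT.neq (nat_lit 0) [nat_lit 18] (nat_lit 0) [])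
 t310))))))))))))))))))))))))))))))
noncomputable def t312 : KT := KT.alt (dw (nat_lit 0x251b13)) (KT.neq (nat_lit 0) [nat_lit 18] (nat_lit 0) [])
 (KT.alt (dw (nat_lit 0x132613)) (KT.neq (nat_lit 0) [nat_lit 12] (nat_lit 0) [])
 (KT.alt (dw (nat_lit 0x212c1e03)) (KT.neq (nat_lit 0) [nat_lit 18] (nat_lit 0) [])
 (KT.alt (dw (nat_lit 0x162414)) (KT.neq (nat_lit 0) [nat_lit 2] (nat_lit 0) [])
 (KT.alt (dw (nat_lit 0x151d1303)) (KT.neq (nat_lit 0) [nat_lit 18] (nat_lit 0) [])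
 (KT.alt (dw (nat_lit 0x0d201d03)) (KT.neq (nat_lit 0) [nat_lit 18] (nat_lit 0) [])
 (KT.alt (dw (nat_lit 0x0b1913)) (KT.neq (nat_lit 0) [nat_lit 18] (nat_lit 0) [])
 (KT.alt (dw (nat_lit 0x27240313)) (KT.neq (nat_lit 0) [nat_lit 2] (nat_lit 0) [])
 (KT.alt (dw (nat_lit 0x1613)) (KT.neq (nat_lit 0) [nat_lit 18] (nat_lit 0) [])
 (KT.alt (dw (nat_lit 0x241414)) (KT.neq (nat_lit 0) [nat_lit 18] (nat_lit 0) [])
 (KT.alt (dw (nat_lit 0x201913)) (KT.neq (nat_lit 0) [nat_lit 16] (nat_lit 0) [])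
 (KT.alt (dw (nat_lit 0x15011303)) (KT.neq (nat_lit 0) [nat_lit 8] (nat_lit 0) [])
 (KT.alt (dw (nat_lit 0x1f211403)) (KT.neq (nat_lit 0) [nat_lit 0] (nat_lit 0) [])
 (KT.alt (dw (nat_lit 0x27201403)) (KT.neq (nat_lit 0) [nat_lit 2] (nat_lit 0) [])
 (KT.alt (dw (nat_lit 0x2e031603)) (KT.neq (nat_lit 0) [nat_lit 18] (nat_lit 0) [])
 (KT.alt (dw (nat_lit 0x1d1b13)) (KT.neq (nat_lit 0) [nat_lit 18] (nat_lit 0) [])
 (KT.alt (dw (nat_lit 0x312413)) (KT.neq (nat_lit 0) [nat_lit 18] (nat_lit 0) [])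
 (KT.alt (dw (nat_lit 0x2e2713)) (KT.neq (nat_lit 0) [nat_lit 16] (nat_lit 0) [])
 (KT.alt (dw (nat_lit 0x2d2014)) (KT.neq (nat_lit 0) [nat_lit 18] (nat_lit 0) [])
 (KT.alt (dw (nat_lit 0x2015)) (KT.neq (nat_lit 0) [nat_lit 18] (nat_lit 0) [])
 (KT.alt (dw (nat_lit 0x091b1303)) (KT.neq (nat_lit 0) [nat_lit 18] (nat_lit 0) [])
 (KT.alt (dw (nat_lit 0x270313)) (KT.neq (nat_lit 0) [nat_lit 2] (nat_lit 0) [])
 (KT.alt (dw (nat_lit 0x142314)) (KT.neq (nat_lit 0) [nat_lit 16] (nat_lit 0) [])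
 (KT.alt (dw (nat_lit 0x2614)) (KT.neq (nat_lit 0) [nat_lit 18] (nat_lit 0) [])
 (KT.alt (dw (nat_lit 0x1e1303)) (KT.neq (nat_lit 0) [nat_lit 16] (nat_lit 0) [])
 (KT.alt (dw (nat_lit 0x131d13)) (KT.neq (nat_lit 0) [nat_lit 18] (nat_lit 0) [])
 (KT.alt (dw (nat_lit 0x141414)) (KT.neq (nat_lit 0) [nat_lit 18] (nat_lit 0) [])
 (KT.alt (dw (nat_lit 0x2b2d2003)) (KT.neq (nat_lit 0) [nat_lit 18] (nat_lit 0) [])
 (KT.alt (dw (nat_lit 0x1c141903)) (KT.neq (nat_lit 0) [nat_lit 0] (nat_lit 0) [])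
 (KT.alt (dw (nat_lit 0x0f2913)) (KT.neq (nat_lit 0) [nat_lit 18] (nat_lit 0) [])
 (KT.alt (dw (nat_lit 0x31161403)) (KT.neq (nat_lit 0) [nat_lit 10] (nat_lit 0) [])
 t311))))))))))))))))))))))))))))))
noncomputable def t313 : KT := KT.alt (dw (nat_lit 0x2e2614)) (KT.neq (nat_lit 0) [nat_lit 18] (nat_lit 0) [])
 (KT.alt (dw (nat_lit 0x16071403)) (KT.neq (nat_lit 0) [nat_lit 18] (nat_lit 0) [])
 (KT.alt (dw (nat_lit 0x192b1d03)) (KT.neq (nat_lit 0) [nat_lit 18] (nat_lit 0) [])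
 (KT.alt (dw (nat_lit 0x1913)) (KT.neq (nat_lit 0) [nat_lit 18] (nat_lit 0) [])
 (KT.alt (dw (nat_lit 0x15271c03)) (KT.neq (nat_lit 0) [nat_lit 18] (nat_lit 0) [])
 (KT.alt (dw (nat_lit 0x252513)) (KT.neq (nat_lit 0) [nat_lit 18] (nat_lit 0) [])
 (KT.alt (dw (nat_lit 0x1c3114)) (KT.neq (nat_lit 0) [nat_lit 18] (nat_lit 0) [])
 (KT.alt (dw (nat_lit 0x27271303)) (KT.neq (nat_lit 0) [nat_lit 18] (nat_lit 0) [])
 (KT.alt (dw (nat_lit 0x1d031f13)) (KT.neq (nat_lit 0) [nat_lit 18] (nat_lit 0) [])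
 (KT.alt (dw (nat_lit 0x20231303)) (KT.neq (nat_lit 0) [nat_lit 16] (nat_lit 0) [])
 (KT.alt (dw (nat_lit 0x311d1503)) (KT.neq (nat_lit 0) [nat_lit 18] (nat_lit 0) [])
 (KT.alt (dw (nat_lit 0x131b14)) (KT.neq (nat_lit 0) [nat_lit 18] (nat_lit 0) [])
 (KT.alt (dw (nat_lit 0x271613)) (KT.neq (nat_lit 0) [nat_lit 18] (nat_lit 0) [])
 (KT.alt (dw (nat_lit 0x1f2114)) (KT.neq (nat_lit 0) [nat_lit 16] (nat_lit 0) [])
 (KT.alt (dw (nat_lit 0x112c1d03)) (KT.neq (nat_lit 0) [nat_lit 18] (nat_lit 0) [])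
 (KT.alt (dw (nat_lit 0x2f232003)) (KT.neq (nat_lit 0) [nat_lit 16] (nat_lit 0) [])
 (KT.alt (dw (nat_lit 0x231b14)) (KT.neq (nat_lit 0) [nat_lit 2] (nat_lit 0) [])
 (KT.alt (dw (nat_lit 0x2e13)) (KT.neq (nat_lit 0) [nat_lit 16] (nat_lit 0) [])
 (KT.alt (dw (nat_lit 0x1d1c1403)) (KT.neq (nat_lit 0) [nat_lit 18] (nat_lit 0) [])
 (KT.alt (dw (nat_lit 0x2f241d03)) (KT.neq (nat_lit 0) [nat_lit 18] (nat_lit 0) [])
 (KT.alt (dw (nat_lit 0x2f201d03)) (KT.neq (nat_lit 0) [nat_lit 18] (nat_lit 0) [])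
 (KT.alt (dw (nat_lit 0x211303)) (KT.neq (nat_lit 0) [nat_lit 18] (nat_lit 0) [])
 (KT.alt (dw (nat_lit 0x271c14)) (KT.neq (nat_lit 0) [nat_lit 18] (nat_lit 0) [])
 (KT.alt (dw (nat_lit 0x0d2c0313)) (KT.neq (nat_lit 0) [nat_lit 18] (nat_lit 0) [])
 (KT.alt (dw (nat_lit 0x1e1414)) (KT.neq (nat_lit 0) [nat_lit 18] (nat_lit 0) [])
 (KT.alt (dw (nat_lit 0x261e15)) (KT.neq (nat_lit 0) [nat_lit 18] (nat_lit 0) [])
 (KT.alt (dw (nat_lit 0x1303)) (KT.neq (nat_lit 0) [nat_lit 18] (nat_lit 0) [])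
 (KT.alt (dw (nat_lit 0x20201403)) (KT.neq (nat_lit 0) [nat_lit 18] (nat_lit 0) [])
 (KT.alt (dw (nat_lit 0x141e15)) (KT.neq (nat_lit 0) [nat_lit 18] (nat_lit 0) [])
 (KT.alt (dw (nat_lit 0x151e03)) (KT.neq (nat_lit 0) [nat_lit 18] (nat_lit 0) [])
 (KT.alt (dw (nat_lit 0x142713)) (KT.neq (nat_lit 0) [nat_lit 18] (nat_lit 0) [])
 t312))))))))))))))))))))))))))))))
noncomputable def t314 : KT := KT.alt (dw (nat_lit 0x1f2913)) (KT.neq (nat_lit 0) [nat_lit 18] (nat_lit 0) [])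
 (KT.alt (dw (nat_lit 0x261d14)) (KT.neq (nat_lit 0) [nat_lit 18] (nat_lit 0) [])
 (KT.alt (dw (nat_lit 0x2b1e15)) (KT.neq (nat_lit 0) [nat_lit 2] (nat_lit 0) [])
 (KT.alt (dw (nat_lit 0x131b1d03)) (KT.neq (nat_lit 0) [nat_lit 18] (nat_lit 0) [])
 (KT.alt (dw (nat_lit 0x2c2613)) (KT.neq (nat_lit 0) [nat_lit 18] (nat_lit 0) [])
 (KT.alt (dw (nat_lit 0x053213)) (KT.neq (nat_lit 0) [nat_lit 18] (nat_lit 0) [])
 (KT.alt (dw (nat_lit 0x1e0313)) (KT.neq (nat_lit 0) [nat_lit 8] (nat_lit 0) [])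
 (KT.alt (dw (nat_lit 0x32231303)) (KT.neq (nat_lit 0) [nat_lit 18] (nat_lit 0) [])
 (KT.alt (dw (nat_lit 0x2e1e1313)) (KT.neq (nat_lit 0) [nat_lit 12] (nat_lit 0) [])
 (KT.alt (dw (nat_lit 0x1b1403)) (KT.neq (nat_lit 0) [nat_lit 18] (nat_lit 0) [])
 (KT.alt (dw (nat_lit 0x131d03)) (KT.neq (nat_lit 0) [nat_lit 18] (nat_lit 0) [])
 (KT.alt (dw (nat_lit 0x25281d03)) (KT.neq (nat_lit 0) [nat_lit 18] (nat_lit 0) [])
 (KT.alt (dw (nat_lit 0x231513)) (KT.neq (nat_lit 0) [nat_lit 18] (nat_lit 0) [])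
 (KT.alt (dw (nat_lit 0x1d131503)) (KT.neq (nat_lit 0) [nat_lit 10] (nat_lit 0) [])
 (KT.alt (dw (nat_lit 0x191503)) (KT.neq (nat_lit 0) [nat_lit 2] (nat_lit 0) [])
 (KT.alt (dw (nat_lit 0x271515)) (KT.neq (nat_lit 0) [nat_lit 8] (nat_lit 0) [])
 (KT.alt (dw (nat_lit 0x133213)) (KT.neq (nat_lit 0) [nat_lit 18] (nat_lit 0) [])
 (KT.alt (dw (nat_lit 0x282b13)) (KT.neq (nat_lit 0) [nat_lit 18] (nat_lit 0) [])
 (KT.alt (dw (nat_lit 0x161e13)) (KT.neq (nat_lit 0) [nat_lit 18] (nat_lit 0) [])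
 (KT.alt (dw (nat_lit 0x131c1303)) (KT.neq (nat_lit 0) [nat_lit 18] (nat_lit 0) [])
 (KT.alt (dw (nat_lit 0x2b2414)) (KT.neq (nat_lit 0) [nat_lit 18] (nat_lit 0) [])
 (KT.alt (dw (nat_lit 0x241e13)) (KT.neq (nat_lit 0) [nat_lit 18] (nat_lit 0) [])
 (KT.alt (dw (nat_lit 0x1e0b1c03)) (KT.neq (nat_lit 0) [nat_lit 18] (nat_lit 0) [])
 (KT.alt (dw (nat_lit 0x231c1313)) (KT.neq (nat_lit 0) [nat_lit 18] (nat_lit 0) [])
 (KT.alt (dw (nat_lit 0x1c1e1b13)) (KT.neq (nat_lit 0) [nat_lit 18] (nat_lit 0) [])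
 (KT.alt (dw (nat_lit 0x29321d03)) (KT.neq (nat_lit 0) [nat_lit 18] (nat_lit 0) [])
 (KT.alt (dw (nat_lit 0x071913)) (KT.neq (nat_lit 0) [nat_lit 18] (nat_lit 0) [])
 (KT.alt (dw (nat_lit 0x292514)) (KT.neq (nat_lit 0) [nat_lit 18] (nat_lit 0) [])
 (KT.alt (dw (nat_lit 0x202d14)) (KT.neq (nat_lit 0) [nat_lit 18] (nat_lit 0) [])
 (KT.alt (dw (nat_lit 0x1b1303)) (KT.neq (nat_lit 0) [nat_lit 18] (nat_lit 0) [])
 (KT.alt (dw (nat_lit 0x161d03)) (KT.neq (nat_lit 0) [nat_lit 18] (nat_lit 0) [])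
 t313))))))))))))))))))))))))))))))
noncomputable def t315 : KT := KT.alt (dw (nat_lit 0x252015)) (KT.neq (nat_lit 0) [nat_lit 16] (nat_lit 0) [])
 (KT.alt (dw (nat_lit 0x211e1503)) (KT.neq (nat_lit 0) [nat_lit 16] (nat_lit 0) [])
 (KT.alt (dw (nat_lit 0x131e1303)) (KT.neq (nat_lit 0) [nat_lit 18] (nat_lit 0) [])
 (KT.alt (dw (nat_lit 0x14271403)) (KT.neq (nat_lit 0) [nat_lit 18] (nat_lit 0) [])
 (KT.alt (dw (nat_lit 0x25132003)) (KT.neq (nat_lit 0) [nat_lit 18] (nat_lit 0) [])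
 (KT.alt (dw (nat_lit 0x2b1503)) (KT.neq (nat_lit 0) [nat_lit 18] (nat_lit 0) [])
 (KT.alt (dw (nat_lit 0x162d14)) (KT.neq (nat_lit 0) [nat_lit 12] (nat_lit 0) [])
 (KT.alt (dw (nat_lit 0x2b321d03)) (KT.neq (nat_lit 0) [nat_lit 18] (nat_lit 0) [])
 (KT.alt (dw (nat_lit 0x271b13)) (KT.neq (nat_lit 0) [nat_lit 18] (nat_lit 0) [])
 (KT.alt (dw (nat_lit 0x291515)) (KT.neq (nat_lit 0) [nat_lit 2] (nat_lit 0) [])
 (KT.alt (dw (nat_lit 0x11141903)) (KT.neq (nat_lit 0) [nat_lit 18] (nat_lit 0) [])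
 (KT.alt (dw (nat_lit 0x201515)) (KT.neq (nat_lit 0) [nat_lit 18] (nat_lit 0) [])
 (KT.alt (dw (nat_lit 0x0d280313)) (KT.neq (nat_lit 0) [nat_lit 0] (nat_lit 0) [])
 (KT.alt (dw (nat_lit 0x1d1614)) (KT.neq (nat_lit 0) [nat_lit 18] (nat_lit 0) [])
 (KT.alt (dw (nat_lit 0x231e1913)) (KT.neq (nat_lit 0) [nat_lit 18] (nat_lit 0) [])
 (KT.alt (dw (nat_lit 0x2d152013)) (KT.neq (nat_lit 0) [nat_lit 12] (nat_lit 0) [])
 (KT.alt (dw (nat_lit 0x2013)) (KT.neq (nat_lit 0) [nat_lit 16] (nat_lit 0) [])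
 (KT.alt (dw (nat_lit 0x281903)) (KT.neq (nat_lit 0) [nat_lit 18] (nat_lit 0) [])
 (KT.alt (dw (nat_lit 0x152003)) (KT.neq (nat_lit 0) [nat_lit 18] (nat_lit 0) [])
 (KT.alt (dw (nat_lit 0x1e1c03)) (KT.neq (nat_lit 0) [nat_lit 2] (nat_lit 0) [])
 (KT.alt (dw (nat_lit 0x242613)) (KT.neq (nat_lit 0) [nat_lit 18] (nat_lit 0) [])
 (KT.alt (dw (nat_lit 0x2513)) (KT.neq (nat_lit 0) [nat_lit 18] (nat_lit 0) [])
 (KT.alt (dw (nat_lit 0x192313)) (KT.neq (nat_lit 0) [nat_lit 18] (nat_lit 0) [])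
 (KT.alt (dw (nat_lit 0x292413)) (KT.neq (nat_lit 0) [nat_lit 18] (nat_lit 0) [])
 (KT.alt (dw (nat_lit 0x1e13)) (KT.neq (nat_lit 0) [nat_lit 18] (nat_lit 0) [])
 (KT.alt (dw (nat_lit 0x251e03)) (KT.neq (nat_lit 0) [nat_lit 16] (nat_lit 0) [])
 (KT.alt (dw (nat_lit 0x311e03)) (KT.neq (nat_lit 0) [nat_lit 18] (nat_lit 0) [])
 (KT.alt (dw (nat_lit 0x071f15)) (KT.neq (nat_lit 0) [nat_lit 18] (nat_lit 0) [])
 (KT.alt (dw (nat_lit 0x032014)) (KT.neq (nat_lit 0) [nat_lit 18] (nat_lit 0) [])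
 (KT.alt (dw (nat_lit 0x132314)) (KT.neq (nat_lit 0) [nat_lit 16] (nat_lit 0) [])
 (KT.alt (dw (nat_lit 0x2f1b13)) (KT.neq (nat_lit 0) [nat_lit 18] (nat_lit 0) [])
 t314))))))))))))))))))))))))))))))
theorem k316 : ktChk (nat_lit 3510) H15.Fi22P.nets F c245 b249 [] p248 y250 [] [] (nat_lit 0) (nat_lit 0) (bit (nat_lit 0)) 0 t315 = true := by decide +kernel
theorem l317 (M : PM G Ω 3510 H15.Fi22P.nets) (hN : Nat.card G = 64561751654400) : Cl M (fun g => Pr M g p248) [] [] (nat_lit 0) (bit (nat_lit 0)) :=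
  cl_tree (e247 M hN) (x252 M hN) (dd0 _ _ _ _) k316
noncomputable def t318 : KT := KT.alt (dw (nat_lit 0x1107)) (KT.neq (nat_lit 7) [nat_lit 2] (nat_lit 7) [])
 (KT.alt (dw (nat_lit 0x112007)) (KT.neq (nat_lit 7) [nat_lit 18] (nat_lit 7) [])
 (KT.alt (dw (nat_lit 0x111f07)) (KT.neq (nat_lit 7) [nat_lit 18] (nat_lit 7) [])
 (KT.alt (dw (nat_lit 0x2511)) (KT.neq (nat_lit 7) [nat_lit 2] (nat_lit 7) [])
 (KT.alt (dw (nat_lit 0x2320)) (KT.neq (nat_lit 7) [nat_lit 18] (nat_lit 7) [])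
 (KT.alt (dw (nat_lit 0x1c)) (KT.neq (nat_lit 7) [nat_lit 18] (nat_lit 7) [])
 (KT.alt (dw (nat_lit 0x0b2007)) (KT.neq (nat_lit 7) [nat_lit 0] (nat_lit 7) [])
 (KT.alt (dw (nat_lit 0x2e23)) (KT.neq (nat_lit 7) [nat_lit 2] (nat_lit 7) [])
 (KT.alt (dw (nat_lit 0x2d26)) (KT.neq (nat_lit 7) [nat_lit 2] (nat_lit 7) [])
 (KT.alt (dw (nat_lit 0x172609)) (KT.neq (nat_lit 7) [nat_lit 12] (nat_lit 7) [])
 (KT.alt (dw (nat_lit 0x2e240b)) (KT.neq (nat_lit 7) [nat_lit 18] (nat_lit 7) [])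
 (KT.alt (dw (nat_lit 0x190b)) (KT.neq (nat_lit 7) [nat_lit 18] (nat_lit 7) [])
 (KT.alt (dw (nat_lit 0x2b26)) (KT.neq (nat_lit 7) [nat_lit 10] (nat_lit 7) [])
 (KT.alt (dw (nat_lit 0x19)) (KT.neq (nat_lit 7) [nat_lit 8] (nat_lit 7) [])
 (KT.alt (dw (nat_lit 0x1c1f)) (KT.neq (nat_lit 7) [nat_lit 18] (nat_lit 7) [])
 (KT.alt (dw (nat_lit 0x0f05)) (KT.neq (nat_lit 7) [nat_lit 2] (nat_lit 7) [])
 (KT.alt (dw (nat_lit 0x1f0b)) (KT.neq (nat_lit 7) [nat_lit 8] (nat_lit 7) [])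
 (KT.alt (dw (nat_lit 0x1128)) (KT.neq (nat_lit 7) [nat_lit 18] (nat_lit 7) [])
 (KT.alt (dw (nat_lit 0x1b3205)) (KT.neq (nat_lit 7) [nat_lit 8] (nat_lit 7) [])
 (KT.alt (dw (nat_lit 0x2e1c)) (KT.neq (nat_lit 7) [nat_lit 18] (nat_lit 7) [])
 (KT.alt (dw (nat_lit 0x232d)) (KT.neq (nat_lit 7) [nat_lit 18] (nat_lit 7) [])
 (KT.alt (dw (nat_lit 0x0905)) (KT.neq (nat_lit 7) [nat_lit 10] (nat_lit 7) [])
 (KT.alt (dw (nat_lit 0x112c)) (KT.neq (nat_lit 7) [nat_lit 18] (nat_lit 7) [])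
 (KT.alt (dw (nat_lit 0x231b07)) (KT.neq (nat_lit 7) [nat_lit 2] (nat_lit 7) [])
 (KT.alt (dw (nat_lit 0x1b2405)) (KT.neq (nat_lit 7) [nat_lit 18] (nat_lit 7) [])
 (KT.alt (dw (nat_lit 0x0d27)) (KT.neq (nat_lit 7) [nat_lit 18] (nat_lit 7) [])
 (KT.alt (dw (nat_lit 0x292009)) (KT.neq (nat_lit 7) [nat_lit 0] (nat_lit 7) [])
 (KT.alt (dw (nat_lit 0x0b1d)) (KT.neq (nat_lit 7) [nat_lit 18] (nat_lit 7) [])
 (KT.alt (dw (nat_lit 0x26)) (KT.neq (nat_lit 7) [nat_lit 18] (nat_lit 7) [])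
 (KT.alt (dw (nat_lit 0x262609)) (KT.neq (nat_lit 7) [nat_lit 12] (nat_lit 7) [])
 (KT.alt (dw (nat_lit 0x2c)) (KT.neq (nat_lit 7) [nat_lit 18] (nat_lit 7) [])
 (KT.alt (dw (nat_lit 0x1b2c07)) (KT.neq (nat_lit 7) [nat_lit 18] (nat_lit 7) [])
 (KT.alt (dw (nat_lit 0x2825)) (KT.neq (nat_lit 7) [nat_lit 18] (nat_lit 7) [])
 (KT.nil (SE.lev (nat_lit 1)) [nat_lit 1] [dw (nat_lit 0x01)] [])))))))))))))))))))))))))))))))))
noncomputable def t319 : KT := KT.alt (dw (nat_lit 0x242409)) (KT.neq (nat_lit 7) [nat_lit 18] (nat_lit 7) [])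
 (KT.alt (dw (nat_lit 0x232c)) (KT.neq (nat_lit 7) [nat_lit 18] (nat_lit 7) [])
 (KT.alt (dw (nat_lit 0x260f)) (KT.neq (nat_lit 7) [nat_lit 8] (nat_lit 7) [])
 (KT.alt (dw (nat_lit 0x292307)) (KT.neq (nat_lit 7) [nat_lit 18] (nat_lit 7) [])
 (KT.alt (dw (nat_lit 0x1d0d0b)) (KT.neq (nat_lit 7) [nat_lit 2] (nat_lit 7) [])
 (KT.alt (dw (nat_lit 0x280b)) (KT.neq (nat_lit 7) [nat_lit 18] (nat_lit 7) [])
 (KT.alt (dw (nat_lit 0x2d2409)) (KT.neq (nat_lit 7) [nat_lit 12] (nat_lit 7) [])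
 (KT.alt (dw (nat_lit 0x1c29)) (KT.neq (nat_lit 7) [nat_lit 18] (nat_lit 7) [])
 (KT.alt (dw (nat_lit 0x1b11)) (KT.neq (nat_lit 7) [nat_lit 18] (nat_lit 7) [])
 (KT.alt (dw (nat_lit 0x1b26)) (KT.neq (nat_lit 7) [nat_lit 10] (nat_lit 7) [])
 (KT.alt (dw (nat_lit 0x0d20)) (KT.neq (nat_lit 7) [nat_lit 4] (nat_lit 7) [])
 (KT.alt (dw (nat_lit 0x3223)) (KT.neq (nat_lit 7) [nat_lit 2] (nat_lit 7) [])
 (KT.alt (dw (nat_lit 0x1c11)) (KT.neq (nat_lit 7) [nat_lit 0] (nat_lit 7) [])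
 (KT.alt (dw (nat_lit 0x2519)) (KT.neq (nat_lit 7) [nat_lit 10] (nat_lit 7) [])
 (KT.alt (dw (nat_lit 0x243207)) (KT.neq (nat_lit 7) [nat_lit 2] (nat_lit 7) [])
 (KT.alt (dw (nat_lit 0x271d)) (KT.neq (nat_lit 7) [nat_lit 2] (nat_lit 7) [])
 (KT.alt (dw (nat_lit 0x0d2907)) (KT.neq (nat_lit 7) [nat_lit 0] (nat_lit 7) [])
 (KT.alt (dw (nat_lit 0x051f)) (KT.neq (nat_lit 7) [nat_lit 18] (nat_lit 7) [])
 (KT.alt (dw (nat_lit 0x2c1c)) (KT.neq (nat_lit 7) [nat_lit 18] (nat_lit 7) [])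
 (KT.alt (dw (nat_lit 0x0b1909)) (KT.neq (nat_lit 7) [nat_lit 18] (nat_lit 7) [])
 (KT.alt (dw (nat_lit 0x2924)) (KT.neq (nat_lit 7) [nat_lit 18] (nat_lit 7) [])
 (KT.alt (dw (nat_lit 0x2c1e11)) (KT.neq (nat_lit 7) [nat_lit 18] (nat_lit 7) [])
 (KT.alt (dw (nat_lit 0x2b2309)) (KT.neq (nat_lit 7) [nat_lit 8] (nat_lit 7) [])
 (KT.alt (dw (nat_lit 0x1e20)) (KT.neq (nat_lit 7) [nat_lit 18] (nat_lit 7) [])
 (KT.alt (dw (nat_lit 0x211109)) (KT.neq (nat_lit 7) [nat_lit 8] (nat_lit 7) [])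
 (KT.alt (dw (nat_lit 0x192905)) (KT.neq (nat_lit 7) [nat_lit 18] (nat_lit 7) [])
 (KT.alt (dw (nat_lit 0x1d1f05)) (KT.neq (nat_lit 7) [nat_lit 18] (nat_lit 7) [])
 (KT.alt (dw (nat_lit 0x2031)) (KT.neq (nat_lit 7) [nat_lit 12] (nat_lit 7) [])
 (KT.alt (dw (nat_lit 0x292b)) (KT.neq (nat_lit 7) [nat_lit 18] (nat_lit 7) [])
 (KT.alt (dw (nat_lit 0x1923)) (KT.neq (nat_lit 7) [nat_lit 18] (nat_lit 7) [])
 (KT.alt (dw (nat_lit 0x1926)) (KT.neq (nat_lit 7) [nat_lit 2] (nat_lit 7) [])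
 t318))))))))))))))))))))))))))))))
noncomputable def t320 : KT := KT.alt (dw (nat_lit 0x1f09)) (KT.neq (nat_lit 7) [nat_lit 18] (nat_lit 7) [])
 (KT.alt (dw (nat_lit 0x0b2d)) (KT.neq (nat_lit 7) [nat_lit 18] (nat_lit 7) [])
 (KT.alt (dw (nat_lit 0x1e31)) (KT.neq (nat_lit 7) [nat_lit 18] (nat_lit 7) [])
 (KT.alt (dw (nat_lit 0x3123)) (KT.neq (nat_lit 7) [nat_lit 10] (nat_lit 7) [])
 (KT.alt (dw (nat_lit 0x281e0b)) (KT.neq (nat_lit 7) [nat_lit 18] (nat_lit 7) [])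
 (KT.alt (dw (nat_lit 0x07)) (KT.neq (nat_lit 7) [nat_lit 18] (nat_lit 7) [])
 (KT.alt (dw (nat_lit 0x2327)) (KT.neq (nat_lit 7) [nat_lit 18] (nat_lit 7) [])
 (KT.alt (dw (nat_lit 0x281f05)) (KT.neq (nat_lit 7) [nat_lit 18] (nat_lit 7) [])
 (KT.alt (dw (nat_lit 0x272305)) (KT.neq (nat_lit 7) [nat_lit 8] (nat_lit 7) [])
 (KT.alt (dw (nat_lit 0x2824)) (KT.neq (nat_lit 7) [nat_lit 18] (nat_lit 7) [])
 (KT.alt (dw (nat_lit 0x0919)) (KT.neq (nat_lit 7) [nat_lit 18] (nat_lit 7) [])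
 (KT.alt (dw (nat_lit 0x2420)) (KT.neq (nat_lit 7) [nat_lit 2] (nat_lit 7) [])
 (KT.alt (dw (nat_lit 0x231c)) (KT.neq (nat_lit 7) [nat_lit 2] (nat_lit 7) [])
 (KT.alt (dw (nat_lit 0x192609)) (KT.neq (nat_lit 7) [nat_lit 18] (nat_lit 7) [])
 (KT.alt (dw (nat_lit 0x2e19)) (KT.neq (nat_lit 7) [nat_lit 18] (nat_lit 7) [])
 (KT.alt (dw (nat_lit 0x2905)) (KT.neq (nat_lit 7) [nat_lit 18] (nat_lit 7) [])
 (KT.alt (dw (nat_lit 0x1b0f09)) (KT.neq (nat_lit 7) [nat_lit 18] (nat_lit 7) [])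
 (KT.alt (dw (nat_lit 0x2e09)) (KT.neq (nat_lit 7) [nat_lit 18] (nat_lit 7) [])
 (KT.alt (dw (nat_lit 0x2d0f)) (KT.neq (nat_lit 7) [nat_lit 4] (nat_lit 7) [])
 (KT.alt (dw (nat_lit 0x280f)) (KT.neq (nat_lit 7) [nat_lit 18] (nat_lit 7) [])
 (KT.alt (dw (nat_lit 0x092d05)) (KT.neq (nat_lit 7) [nat_lit 18] (nat_lit 7) [])
 (KT.alt (dw (nat_lit 0x0f09)) (KT.neq (nat_lit 7) [nat_lit 2] (nat_lit 7) [])
 (KT.alt (dw (nat_lit 0x0b)) (KT.neq (nat_lit 7) [nat_lit 18] (nat_lit 7) [])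
 (KT.alt (dw (nat_lit 0x200b07)) (KT.neq (nat_lit 7) [nat_lit 2] (nat_lit 7) [])
 (KT.alt (dw (nat_lit 0x210f)) (KT.neq (nat_lit 7) [nat_lit 18] (nat_lit 7) [])
 (KT.alt (dw (nat_lit 0x2e2607)) (KT.neq (nat_lit 7) [nat_lit 12] (nat_lit 7) [])
 (KT.alt (dw (nat_lit 0x0f2b)) (KT.neq (nat_lit 7) [nat_lit 10] (nat_lit 7) [])
 (KT.alt (dw (nat_lit 0x2e26)) (KT.neq (nat_lit 7) [nat_lit 0] (nat_lit 7) [])
 (KT.alt (dw (nat_lit 0x112407)) (KT.neq (nat_lit 7) [nat_lit 2] (nat_lit 7) [])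
 (KT.alt (dw (nat_lit 0x1d25)) (KT.neq (nat_lit 7) [nat_lit 18] (nat_lit 7) [])
 (KT.alt (dw (nat_lit 0x2f29)) (KT.neq (nat_lit 7) [nat_lit 18] (nat_lit 7) [])
 t319))))))))))))))))))))))))))))))
noncomputable def t321 : KT := KT.alt (dw (nat_lit 0x2611)) (KT.neq (nat_lit 7) [nat_lit 18] (nat_lit 7) [])
 (KT.alt (dw (nat_lit 0x05270b)) (KT.neq (nat_lit 7) [nat_lit 2] (nat_lit 7) [])
 (KT.alt (dw (nat_lit 0x2b0b)) (KT.neq (nat_lit 7) [nat_lit 18] (nat_lit 7) [])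
 (KT.alt (dw (nat_lit 0x2011)) (KT.neq (nat_lit 7) [nat_lit 18] (nat_lit 7) [])
 (KT.alt (dw (nat_lit 0x290905)) (KT.neq (nat_lit 7) [nat_lit 10] (nat_lit 7) [])
 (KT.alt (dw (nat_lit 0x242b)) (KT.neq (nat_lit 7) [nat_lit 18] (nat_lit 7) [])
 (KT.alt (dw (nat_lit 0x282405)) (KT.neq (nat_lit 7) [nat_lit 18] (nat_lit 7) [])
 (KT.alt (dw (nat_lit 0x231b0b)) (KT.neq (nat_lit 7) [nat_lit 2] (nat_lit 7) [])
 (KT.alt (dw (nat_lit 0x251f05)) (KT.neq (nat_lit 7) [nat_lit 18] (nat_lit 7) [])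
 (KT.alt (dw (nat_lit 0x231109)) (KT.neq (nat_lit 7) [nat_lit 2] (nat_lit 7) [])
 (KT.alt (dw (nat_lit 0x251b09)) (KT.neq (nat_lit 7) [nat_lit 10] (nat_lit 7) [])
 (KT.alt (dw (nat_lit 0x1e29)) (KT.neq (nat_lit 7) [nat_lit 2] (nat_lit 7) [])
 (KT.alt (dw (nat_lit 0x2407)) (KT.neq (nat_lit 7) [nat_lit 18] (nat_lit 7) [])
 (KT.alt (dw (nat_lit 0x242007)) (KT.neq (nat_lit 7) [nat_lit 2] (nat_lit 7) [])
 (KT.alt (dw (nat_lit 0x283207)) (KT.neq (nat_lit 7) [nat_lit 18] (nat_lit 7) [])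
 (KT.alt (dw (nat_lit 0x091f)) (KT.neq (nat_lit 7) [nat_lit 18] (nat_lit 7) [])
 (KT.alt (dw (nat_lit 0x0b2e07)) (KT.neq (nat_lit 7) [nat_lit 10] (nat_lit 7) [])
 (KT.alt (dw (nat_lit 0x172d)) (KT.neq (nat_lit 7) [nat_lit 2] (nat_lit 7) [])
 (KT.alt (dw (nat_lit 0x233207)) (KT.neq (nat_lit 7) [nat_lit 18] (nat_lit 7) [])
 (KT.alt (dw (nat_lit 0x2920)) (KT.neq (nat_lit 7) [nat_lit 2] (nat_lit 7) [])
 (KT.alt (dw (nat_lit 0x291c)) (KT.neq (nat_lit 7) [nat_lit 10] (nat_lit 7) [])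
 (KT.alt (dw (nat_lit 0x2431)) (KT.neq (nat_lit 7) [nat_lit 2] (nat_lit 7) [])
 (KT.alt (dw (nat_lit 0x2f1d)) (KT.neq (nat_lit 7) [nat_lit 18] (nat_lit 7) [])
 (KT.alt (dw (nat_lit 0x0b2905)) (KT.neq (nat_lit 7) [nat_lit 8] (nat_lit 7) [])
 (KT.alt (dw (nat_lit 0x271f)) (KT.neq (nat_lit 7) [nat_lit 18] (nat_lit 7) [])
 (KT.alt (dw (nat_lit 0x1d2009)) (KT.neq (nat_lit 7) [nat_lit 2] (nat_lit 7) [])
 (KT.alt (dw (nat_lit 0x2919)) (KT.neq (nat_lit 7) [nat_lit 18] (nat_lit 7) [])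
 (KT.alt (dw (nat_lit 0x1f)) (KT.neq (nat_lit 7) [nat_lit 2] (nat_lit 7) [])
 (KT.alt (dw (nat_lit 0x2b27)) (KT.neq (nat_lit 7) [nat_lit 18] (nat_lit 7) [])
 (KT.alt (dw (nat_lit 0x092b)) (KT.neq (nat_lit 7) [nat_lit 0] (nat_lit 7) [])
 (KT.alt (dw (nat_lit 0x2d23)) (KT.neq (nat_lit 7) [nat_lit 2] (nat_lit 7) [])
 t320))))))))))))))))))))))))))))))
noncomputable def t322 : KT := KT.alt (dw (nat_lit 0x071c)) (KT.neq (nat_lit 7) [nat_lit 18] (nat_lit 7) [])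
 (KT.alt (dw (nat_lit 0x2524)) (KT.neq (nat_lit 7) [nat_lit 12] (nat_lit 7) [])
 (KT.alt (dw (nat_lit 0x2c2e09)) (KT.neq (nat_lit 7) [nat_lit 12] (nat_lit 7) [])
 (KT.alt (dw (nat_lit 0x2725)) (KT.neq (nat_lit 7) [nat_lit 2] (nat_lit 7) [])
 (KT.alt (dw (nat_lit 0x191109)) (KT.neq (nat_lit 7) [nat_lit 18] (nat_lit 7) [])
 (KT.alt (dw (nat_lit 0x31)) (KT.neq (nat_lit 7) [nat_lit 0] (nat_lit 7) [])
 (KT.alt (dw (nat_lit 0x3209)) (KT.neq (nat_lit 7) [nat_lit 18] (nat_lit 7) [])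
 (KT.alt (dw (nat_lit 0x281c)) (KT.neq (nat_lit 7) [nat_lit 18] (nat_lit 7) [])
 (KT.alt (dw (nat_lit 0x1d2b)) (KT.neq (nat_lit 7) [nat_lit 10] (nat_lit 7) [])
 (KT.alt (dw (nat_lit 0x0923)) (KT.neq (nat_lit 7) [nat_lit 8] (nat_lit 7) [])
 (KT.alt (dw (nat_lit 0x29)) (KT.neq (nat_lit 7) [nat_lit 18] (nat_lit 7) [])
 (KT.alt (dw (nat_lit 0x2607)) (KT.neq (nat_lit 7) [nat_lit 12] (nat_lit 7) [])
 (KT.alt (dw (nat_lit 0x191f)) (KT.neq (nat_lit 7) [nat_lit 18] (nat_lit 7) [])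
 (KT.alt (dw (nat_lit 0x0f2007)) (KT.neq (nat_lit 7) [nat_lit 2] (nat_lit 7) [])
 (KT.alt (dw (nat_lit 0x251107)) (KT.neq (nat_lit 7) [nat_lit 2] (nat_lit 7) [])
 (KT.alt (dw (nat_lit 0x2e2409)) (KT.neq (nat_lit 7) [nat_lit 12] (nat_lit 7) [])
 (KT.alt (dw (nat_lit 0x0d1f05)) (KT.neq (nat_lit 7) [nat_lit 2] (nat_lit 7) [])
 (KT.alt (dw (nat_lit 0x310b07)) (KT.neq (nat_lit 7) [nat_lit 0] (nat_lit 7) [])
 (KT.alt (dw (nat_lit 0x2d0b07)) (KT.neq (nat_lit 7) [nat_lit 8] (nat_lit 7) [])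
 (KT.alt (dw (nat_lit 0x2726)) (KT.neq (nat_lit 7) [nat_lit 18] (nat_lit 7) [])
 (KT.alt (dw (nat_lit 0x282107)) (KT.neq (nat_lit 7) [nat_lit 8] (nat_lit 7) [])
 (KT.alt (dw (nat_lit 0x2b1d)) (KT.neq (nat_lit 7) [nat_lit 18] (nat_lit 7) [])
 (KT.alt (dw (nat_lit 0x071f)) (KT.neq (nat_lit 7) [nat_lit 18] (nat_lit 7) [])
 (KT.alt (dw (nat_lit 0x1105)) (KT.neq (nat_lit 7) [nat_lit 10] (nat_lit 7) [])
 (KT.alt (dw (nat_lit 0x0b05)) (KT.neq (nat_lit 7) [nat_lit 2] (nat_lit 7) [])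
 (KT.alt (dw (nat_lit 0x261f05)) (KT.neq (nat_lit 7) [nat_lit 10] (nat_lit 7) [])
 (KT.alt (dw (nat_lit 0x1c2607)) (KT.neq (nat_lit 7) [nat_lit 18] (nat_lit 7) [])
 (KT.alt (dw (nat_lit 0x1c31)) (KT.neq (nat_lit 7) [nat_lit 18] (nat_lit 7) [])
 (KT.alt (dw (nat_lit 0x2b0f)) (KT.neq (nat_lit 7) [nat_lit 18] (nat_lit 7) [])
 (KT.alt (dw (nat_lit 0x0d1f)) (KT.neq (nat_lit 7) [nat_lit 2] (nat_lit 7) [])
 (KT.alt (dw (nat_lit 0x1d20)) (KT.neq (nat_lit 7) [nat_lit 12] (nat_lit 7) [])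
 t321))))))))))))))))))))))))))))))
noncomputable def t323 : KT := KT.alt (dw (nat_lit 0x1d1c)) (KT.neq (nat_lit 7) [nat_lit 18] (nat_lit 7) [])
 (KT.alt (dw (nat_lit 0x1e0b)) (KT.neq (nat_lit 7) [nat_lit 18] (nat_lit 7) [])
 (KT.alt (dw (nat_lit 0x252b)) (KT.neq (nat_lit 7) [nat_lit 2] (nat_lit 7) [])
 (KT.alt (dw (nat_lit 0x2520)) (KT.neq (nat_lit 7) [nat_lit 18] (nat_lit 7) [])
 (KT.alt (dw (nat_lit 0x0d2709)) (KT.neq (nat_lit 7) [nat_lit 18] (nat_lit 7) [])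
 (KT.alt (dw (nat_lit 0x2626)) (KT.neq (nat_lit 7) [nat_lit 18] (nat_lit 7) [])
 (KT.alt (dw (nat_lit 0x1c07)) (KT.neq (nat_lit 7) [nat_lit 18] (nat_lit 7) [])
 (KT.alt (dw (nat_lit 0x252305)) (KT.neq (nat_lit 7) [nat_lit 8] (nat_lit 7) [])
 (KT.alt (dw (nat_lit 0x2328)) (KT.neq (nat_lit 7) [nat_lit 18] (nat_lit 7) [])
 (KT.alt (dw (nat_lit 0x0731)) (KT.neq (nat_lit 7) [nat_lit 18] (nat_lit 7) [])
 (KT.alt (dw (nat_lit 0x2c09)) (KT.neq (nat_lit 7) [nat_lit 8] (nat_lit 7) [])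
 (KT.alt (dw (nat_lit 0x2c19)) (KT.neq (nat_lit 7) [nat_lit 18] (nat_lit 7) [])
 (KT.alt (dw (nat_lit 0x2b)) (KT.neq (nat_lit 7) [nat_lit 18] (nat_lit 7) [])
 (KT.alt (dw (nat_lit 0x1c2305)) (KT.neq (nat_lit 7) [nat_lit 2] (nat_lit 7) [])
 (KT.alt (dw (nat_lit 0x0f1f)) (KT.neq (nat_lit 7) [nat_lit 18] (nat_lit 7) [])
 (KT.alt (dw (nat_lit 0x2f24)) (KT.neq (nat_lit 7) [nat_lit 18] (nat_lit 7) [])
 (KT.alt (dw (nat_lit 0x2523)) (KT.neq (nat_lit 7) [nat_lit 18] (nat_lit 7) [])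
 (KT.alt (dw (nat_lit 0x0925)) (KT.neq (nat_lit 7) [nat_lit 2] (nat_lit 7) [])
 (KT.alt (dw (nat_lit 0x0928)) (KT.neq (nat_lit 7) [nat_lit 18] (nat_lit 7) [])
 (KT.alt (dw (nat_lit 0x2d1f)) (KT.neq (nat_lit 7) [nat_lit 18] (nat_lit 7) [])
 (KT.alt (dw (nat_lit 0x2028)) (KT.neq (nat_lit 7) [nat_lit 18] (nat_lit 7) [])
 (KT.alt (dw (nat_lit 0x1e23)) (KT.neq (nat_lit 7) [nat_lit 0] (nat_lit 7) [])
 (KT.alt (dw (nat_lit 0x0b1f)) (KT.neq (nat_lit 7) [nat_lit 18] (nat_lit 7) [])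
 (KT.alt (dw (nat_lit 0x262607)) (KT.neq (nat_lit 7) [nat_lit 0] (nat_lit 7) [])
 (KT.alt (dw (nat_lit 0x09200b)) (KT.neq (nat_lit 7) [nat_lit 18] (nat_lit 7) [])
 (KT.alt (dw (nat_lit 0x2405)) (KT.neq (nat_lit 7) [nat_lit 18] (nat_lit 7) [])
 (KT.alt (dw (nat_lit 0x1c2809)) (KT.neq (nat_lit 7) [nat_lit 10] (nat_lit 7) [])
 (KT.alt (dw (nat_lit 0x1b2b)) (KT.neq (nat_lit 7) [nat_lit 18] (nat_lit 7) [])
 (KT.alt (dw (nat_lit 0x2507)) (KT.neq (nat_lit 7) [nat_lit 18] (nat_lit 7) [])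
 (KT.alt (dw (nat_lit 0x2d2028)) (KT.neq (nat_lit 7) [nat_lit 18] (nat_lit 7) [])
 (KT.alt (dw (nat_lit 0x1d0b)) (KT.neq (nat_lit 7) [nat_lit 2] (nat_lit 7) [])
 t322))))))))))))))))))))))))))))))
noncomputable def t324 : KT := KT.alt (dw (nat_lit 0x2d07)) (KT.neq (nat_lit 7) [nat_lit 18] (nat_lit 7) [])
 (KT.alt (dw (nat_lit 0x2b24)) (KT.neq (nat_lit 7) [nat_lit 18] (nat_lit 7) [])
 (KT.alt (dw (nat_lit 0x201c)) (KT.neq (nat_lit 7) [nat_lit 18] (nat_lit 7) [])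
 (KT.alt (dw (nat_lit 0x1f3205)) (KT.neq (nat_lit 7) [nat_lit 10] (nat_lit 7) [])
 (KT.alt (dw (nat_lit 0x3107)) (KT.neq (nat_lit 7) [nat_lit 18] (nat_lit 7) [])
 (KT.alt (dw (nat_lit 0x2326)) (KT.neq (nat_lit 7) [nat_lit 2] (nat_lit 7) [])
 (KT.alt (dw (nat_lit 0x1c0f)) (KT.neq (nat_lit 7) [nat_lit 8] (nat_lit 7) [])
 (KT.alt (dw (nat_lit 0x251905)) (KT.neq (nat_lit 7) [nat_lit 2] (nat_lit 7) [])
 (KT.alt (dw (nat_lit 0x0f1b0b)) (KT.neq (nat_lit 7) [nat_lit 2] (nat_lit 7) [])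
 (KT.alt (dw (nat_lit 0x312007)) (KT.neq (nat_lit 7) [nat_lit 2] (nat_lit 7) [])
 (KT.alt (dw (nat_lit 0x2307)) (KT.neq (nat_lit 7) [nat_lit 18] (nat_lit 7) [])
 (KT.alt (dw (nat_lit 0x241c)) (KT.neq (nat_lit 7) [nat_lit 18] (nat_lit 7) [])
 (KT.alt (dw (nat_lit 0x0d2c)) (KT.neq (nat_lit 7) [nat_lit 18] (nat_lit 7) [])
 (KT.alt (dw (nat_lit 0x28)) (KT.neq (nat_lit 7) [nat_lit 18] (nat_lit 7) [])
 (KT.alt (dw (nat_lit 0x1b2c)) (KT.neq (nat_lit 7) [nat_lit 18] (nat_lit 7) [])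
 (KT.alt (dw (nat_lit 0x3119)) (KT.neq (nat_lit 7) [nat_lit 18] (nat_lit 7) [])
 (KT.alt (dw (nat_lit 0x1b1d)) (KT.neq (nat_lit 7) [nat_lit 18] (nat_lit 7) [])
 (KT.alt (dw (nat_lit 0x1d31)) (KT.neq (nat_lit 7) [nat_lit 18] (nat_lit 7) [])
 (KT.alt (dw (nat_lit 0x2007)) (KT.neq (nat_lit 7) [nat_lit 18] (nat_lit 7) [])
 (KT.alt (dw (nat_lit 0x24290f)) (KT.neq (nat_lit 7) [nat_lit 18] (nat_lit 7) [])
 (KT.alt (dw (nat_lit 0x1d0b05)) (KT.neq (nat_lit 7) [nat_lit 18] (nat_lit 7) [])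
 (KT.alt (dw (nat_lit 0x291905)) (KT.neq (nat_lit 7) [nat_lit 18] (nat_lit 7) [])
 (KT.alt (dw (nat_lit 0x230919)) (KT.neq (nat_lit 7) [nat_lit 2] (nat_lit 7) [])
 (KT.alt (dw (nat_lit 0x2e07)) (KT.neq (nat_lit 7) [nat_lit 18] (nat_lit 7) [])
 (KT.alt (dw (nat_lit 0x27)) (KT.neq (nat_lit 7) [nat_lit 18] (nat_lit 7) [])
 (KT.alt (dw (nat_lit 0x2025)) (KT.neq (nat_lit 7) [nat_lit 18] (nat_lit 7) [])
 (KT.alt (dw (nat_lit 0x1d270f)) (KT.neq (nat_lit 7) [nat_lit 2] (nat_lit 7) [])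
 (KT.alt (dw (nat_lit 0x052e19)) (KT.neq (nat_lit 7) [nat_lit 2] (nat_lit 7) [])
 (KT.alt (dw (nat_lit 0x252d09)) (KT.neq (nat_lit 7) [nat_lit 18] (nat_lit 7) [])
 (KT.alt (dw (nat_lit 0x0920)) (KT.neq (nat_lit 7) [nat_lit 18] (nat_lit 7) [])
 (KT.alt (dw (nat_lit 0x242c)) (KT.neq (nat_lit 7) [nat_lit 18] (nat_lit 7) [])
 t323))))))))))))))))))))))))))))))
noncomputable def t325 : KT := KT.alt (dw (nat_lit 0x212b)) (KT.neq (nat_lit 7) [nat_lit 18] (nat_lit 7) [])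
 (KT.alt (dw (nat_lit 0x0d0b)) (KT.neq (nat_lit 7) [nat_lit 18] (nat_lit 7) [])
 (KT.alt (dw (nat_lit 0x2d1d)) (KT.neq (nat_lit 7) [nat_lit 0] (nat_lit 7) [])
 (KT.alt (dw (nat_lit 0x240b)) (KT.neq (nat_lit 7) [nat_lit 18] (nat_lit 7) [])
 (KT.alt (dw (nat_lit 0x1b0b)) (KT.neq (nat_lit 7) [nat_lit 18] (nat_lit 7) [])
 (KT.alt (dw (nat_lit 0x262e07)) (KT.neq (nat_lit 7) [nat_lit 18] (nat_lit 7) [])
 (KT.alt (dw (nat_lit 0x1d)) (KT.neq (nat_lit 7) [nat_lit 18] (nat_lit 7) [])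
 (KT.alt (dw (nat_lit 0x1c0b)) (KT.neq (nat_lit 7) [nat_lit 12] (nat_lit 7) [])
 (KT.alt (dw (nat_lit 0x211d)) (KT.neq (nat_lit 7) [nat_lit 18] (nat_lit 7) [])
 (KT.alt (dw (nat_lit 0x09)) (KT.neq (nat_lit 7) [nat_lit 18] (nat_lit 7) [])
 (KT.alt (dw (nat_lit 0x2727)) (KT.neq (nat_lit 7) [nat_lit 2] (nat_lit 7) [])
 (KT.alt (dw (nat_lit 0x2019)) (KT.neq (nat_lit 7) [nat_lit 18] (nat_lit 7) [])
 (KT.alt (dw (nat_lit 0x310d0b)) (KT.neq (nat_lit 7) [nat_lit 18] (nat_lit 7) [])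
 (KT.alt (dw (nat_lit 0x2d25)) (KT.neq (nat_lit 7) [nat_lit 18] (nat_lit 7) [])
 (KT.alt (dw (nat_lit 0x1f0b07)) (KT.neq (nat_lit 7) [nat_lit 2] (nat_lit 7) [])
 (KT.alt (dw (nat_lit 0x0f29)) (KT.neq (nat_lit 7) [nat_lit 2] (nat_lit 7) [])
 (KT.alt (dw (nat_lit 0x2724)) (KT.neq (nat_lit 7) [nat_lit 18] (nat_lit 7) [])
 (KT.alt (dw (nat_lit 0x202709)) (KT.neq (nat_lit 7) [nat_lit 0] (nat_lit 7) [])
 (KT.alt (dw (nat_lit 0x312b)) (KT.neq (nat_lit 7) [nat_lit 2] (nat_lit 7) [])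
 (KT.alt (dw (nat_lit 0x230b)) (KT.neq (nat_lit 7) [nat_lit 10] (nat_lit 7) [])
 (KT.alt (dw (nat_lit 0x1e28)) (KT.neq (nat_lit 7) [nat_lit 2] (nat_lit 7) [])
 (KT.alt (dw (nat_lit 0x2811)) (KT.neq (nat_lit 7) [nat_lit 10] (nat_lit 7) [])
 (KT.alt (dw (nat_lit 0x3207)) (KT.neq (nat_lit 7) [nat_lit 18] (nat_lit 7) [])
 (KT.alt (dw (nat_lit 0x24210b)) (KT.neq (nat_lit 7) [nat_lit 0] (nat_lit 7) [])
 (KT.alt (dw (nat_lit 0x2323)) (KT.neq (nat_lit 7) [nat_lit 18] (nat_lit 7) [])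
 (KT.alt (dw (nat_lit 0x24)) (KT.neq (nat_lit 7) [nat_lit 18] (nat_lit 7) [])
 (KT.alt (dw (nat_lit 0x2c1d)) (KT.neq (nat_lit 7) [nat_lit 2] (nat_lit 7) [])
 (KT.alt (dw (nat_lit 0x281c07)) (KT.neq (nat_lit 7) [nat_lit 18] (nat_lit 7) [])
 (KT.alt (dw (nat_lit 0x202c09)) (KT.neq (nat_lit 7) [nat_lit 18] (nat_lit 7) [])
 (KT.alt (dw (nat_lit 0x2f26)) (KT.neq (nat_lit 7) [nat_lit 18] (nat_lit 7) [])
 (KT.alt (dw (nat_lit 0x231d)) (KT.neq (nat_lit 7) [nat_lit 8] (nat_lit 7) [])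
 t324))))))))))))))))))))))))))))))
noncomputable def t326 : KT := KT.alt (dw (nat_lit 0x242405)) (KT.neq (nat_lit 7) [nat_lit 18] (nat_lit 7) [])
 (KT.alt (dw (nat_lit 0x110b)) (KT.neq (nat_lit 7) [nat_lit 2] (nat_lit 7) [])
 (KT.alt (dw (nat_lit 0x172707)) (KT.neq (nat_lit 7) [nat_lit 18] (nat_lit 7) [])
 (KT.alt (dw (nat_lit 0x2e05)) (KT.neq (nat_lit 7) [nat_lit 2] (nat_lit 7) [])
 (KT.alt (dw (nat_lit 0x2b2405)) (KT.neq (nat_lit 7) [nat_lit 2] (nat_lit 7) [])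
 (KT.alt (dw (nat_lit 0x241d)) (KT.neq (nat_lit 7) [nat_lit 2] (nat_lit 7) [])
 (KT.alt (dw (nat_lit 0x2711)) (KT.neq (nat_lit 7) [nat_lit 18] (nat_lit 7) [])
 (KT.alt (dw (nat_lit 0x2005)) (KT.neq (nat_lit 7) [nat_lit 18] (nat_lit 7) [])
 (KT.alt (dw (nat_lit 0x1f05)) (KT.neq (nat_lit 7) [nat_lit 2] (nat_lit 7) [])
 (KT.alt (dw (nat_lit 0x282507)) (KT.neq (nat_lit 7) [nat_lit 2] (nat_lit 7) [])
 (KT.alt (dw (nat_lit 0x1907)) (KT.neq (nat_lit 7) [nat_lit 18] (nat_lit 7) [])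
 (KT.alt (dw (nat_lit 0x1924)) (KT.neq (nat_lit 7) [nat_lit 18] (nat_lit 7) [])
 (KT.alt (dw (nat_lit 0x1b2007)) (KT.neq (nat_lit 7) [nat_lit 2] (nat_lit 7) [])
 (KT.alt (dw (nat_lit 0x1127)) (KT.neq (nat_lit 7) [nat_lit 2] (nat_lit 7) [])
 (KT.alt (dw (nat_lit 0x1925)) (KT.neq (nat_lit 7) [nat_lit 18] (nat_lit 7) [])
 (KT.alt (dw (nat_lit 0x262307)) (KT.neq (nat_lit 7) [nat_lit 18] (nat_lit 7) [])
 (KT.alt (dw (nat_lit 0x2b11)) (KT.neq (nat_lit 7) [nat_lit 18] (nat_lit 7) [])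
 (KT.alt (dw (nat_lit 0x1f29)) (KT.neq (nat_lit 7) [nat_lit 8] (nat_lit 7) [])
 (KT.alt (dw (nat_lit 0x1731)) (KT.neq (nat_lit 7) [nat_lit 18] (nat_lit 7) [])
 (KT.alt (dw (nat_lit 0x2831)) (KT.neq (nat_lit 7) [nat_lit 2] (nat_lit 7) [])
 (KT.alt (dw (nat_lit 0x1729)) (KT.neq (nat_lit 7) [nat_lit 18] (nat_lit 7) [])
 (KT.alt (dw (nat_lit 0x2419)) (KT.neq (nat_lit 7) [nat_lit 18] (nat_lit 7) [])
 (KT.alt (dw (nat_lit 0x2f1f)) (KT.neq (nat_lit 7) [nat_lit 0] (nat_lit 7) [])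
 (KT.alt (dw (nat_lit 0x071f05)) (KT.neq (nat_lit 7) [nat_lit 18] (nat_lit 7) [])
 (KT.alt (dw (nat_lit 0x05)) (KT.neq (nat_lit 7) [nat_lit 18] (nat_lit 7) [])
 (KT.alt (dw (nat_lit 0x230f)) (KT.neq (nat_lit 7) [nat_lit 18] (nat_lit 7) [])
 (KT.alt (dw (nat_lit 0x2e1f)) (KT.neq (nat_lit 7) [nat_lit 18] (nat_lit 7) [])
 (KT.alt (dw (nat_lit 0x1d2c)) (KT.neq (nat_lit 7) [nat_lit 18] (nat_lit 7) [])
 (KT.alt (dw (nat_lit 0x172e05)) (KT.neq (nat_lit 7) [nat_lit 18] (nat_lit 7) [])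
 (KT.alt (dw (nat_lit 0x291b11)) (KT.neq (nat_lit 7) [nat_lit 8] (nat_lit 7) [])
 (KT.alt (dw (nat_lit 0x2c28)) (KT.neq (nat_lit 7) [nat_lit 18] (nat_lit 7) [])
 t325))))))))))))))))))))))))))))))
noncomputable def t327 : KT := KT.alt (dw (nat_lit 0x092d09)) (KT.neq (nat_lit 7) [nat_lit 2] (nat_lit 7) [])
 (KT.alt (dw (nat_lit 0x0727)) (KT.neq (nat_lit 7) [nat_lit 18] (nat_lit 7) [])
 (KT.alt (dw (nat_lit 0x2e1d)) (KT.neq (nat_lit 7) [nat_lit 2] (nat_lit 7) [])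
 (KT.alt (dw (nat_lit 0x1f2307)) (KT.neq (nat_lit 7) [nat_lit 12] (nat_lit 7) [])
 (KT.alt (dw (nat_lit 0x2d29)) (KT.neq (nat_lit 7) [nat_lit 18] (nat_lit 7) [])
 (KT.alt (dw (nat_lit 0x271105)) (KT.neq (nat_lit 7) [nat_lit 18] (nat_lit 7) [])
 (KT.alt (dw (nat_lit 0x321c)) (KT.neq (nat_lit 7) [nat_lit 18] (nat_lit 7) [])
 (KT.alt (dw (nat_lit 0x0f1f0b)) (KT.neq (nat_lit 7) [nat_lit 18] (nat_lit 7) [])
 (KT.alt (dw (nat_lit 0x290f)) (KT.neq (nat_lit 7) [nat_lit 2] (nat_lit 7) [])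
 (KT.alt (dw (nat_lit 0x311c07)) (KT.neq (nat_lit 7) [nat_lit 4] (nat_lit 7) [])
 (KT.alt (dw (nat_lit 0x1909)) (KT.neq (nat_lit 7) [nat_lit 18] (nat_lit 7) [])
 (KT.alt (dw (nat_lit 0x1d241c)) (KT.neq (nat_lit 7) [nat_lit 18] (nat_lit 7) [])
 (KT.alt (dw (nat_lit 0x1d24)) (KT.neq (nat_lit 7) [nat_lit 18] (nat_lit 7) [])
 (KT.alt (dw (nat_lit 0x111c)) (KT.neq (nat_lit 7) [nat_lit 18] (nat_lit 7) [])
 (KT.alt (dw (nat_lit 0x2c23)) (KT.neq (nat_lit 7) [nat_lit 18] (nat_lit 7) [])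
 (KT.alt (dw (nat_lit 0x1e25)) (KT.neq (nat_lit 7) [nat_lit 18] (nat_lit 7) [])
 (KT.alt (dw (nat_lit 0x1131)) (KT.neq (nat_lit 7) [nat_lit 18] (nat_lit 7) [])
 (KT.alt (dw (nat_lit 0x0f31)) (KT.neq (nat_lit 7) [nat_lit 18] (nat_lit 7) [])
 (KT.alt (dw (nat_lit 0x1b09)) (KT.neq (nat_lit 7) [nat_lit 18] (nat_lit 7) [])
 (KT.alt (dw (nat_lit 0x212707)) (KT.neq (nat_lit 7) [nat_lit 18] (nat_lit 7) [])
 (KT.alt (dw (nat_lit 0x270f)) (KT.neq (nat_lit 7) [nat_lit 8] (nat_lit 7) [])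
 (KT.alt (dw (nat_lit 0x1f1c)) (KT.neq (nat_lit 7) [nat_lit 18] (nat_lit 7) [])
 (KT.alt (dw (nat_lit 0x202c0f)) (KT.neq (nat_lit 7) [nat_lit 18] (nat_lit 7) [])
 (KT.alt (dw (nat_lit 0x0f24)) (KT.neq (nat_lit 7) [nat_lit 18] (nat_lit 7) [])
 (KT.alt (dw (nat_lit 0x2107)) (KT.neq (nat_lit 7) [nat_lit 18] (nat_lit 7) [])
 (KT.alt (dw (nat_lit 0x261e0b)) (KT.neq (nat_lit 7) [nat_lit 8] (nat_lit 7) [])
 (KT.alt (dw (nat_lit 0x11)) (KT.neq (nat_lit 7) [nat_lit 18] (nat_lit 7) [])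
 (KT.alt (dw (nat_lit 0x2c07)) (KT.neq (nat_lit 7) [nat_lit 18] (nat_lit 7) [])
 (KT.alt (dw (nat_lit 0x0d2c07)) (KT.neq (nat_lit 7) [nat_lit 18] (nat_lit 7) [])
 (KT.alt (dw (nat_lit 0x2823)) (KT.neq (nat_lit 7) [nat_lit 18] (nat_lit 7) [])
 (KT.alt (dw (nat_lit 0x281f)) (KT.neq (nat_lit 7) [nat_lit 18] (nat_lit 7) [])
 t326))))))))))))))))))))))))))))))
noncomputable def t328 : KT := KT.alt (dw (nat_lit 0x202b)) (KT.neq (nat_lit 7) [nat_lit 18] (nat_lit 7) [])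
 (KT.alt (dw (nat_lit 0x231e0b)) (KT.neq (nat_lit 7) [nat_lit 2] (nat_lit 7) [])
 (KT.alt (dw (nat_lit 0x111f)) (KT.neq (nat_lit 7) [nat_lit 18] (nat_lit 7) [])
 (KT.alt (dw (nat_lit 0x092005)) (KT.neq (nat_lit 7) [nat_lit 12] (nat_lit 7) [])
 (KT.alt (dw (nat_lit 0x2c1f)) (KT.neq (nat_lit 7) [nat_lit 18] (nat_lit 7) [])
 (KT.alt (dw (nat_lit 0x292e07)) (KT.neq (nat_lit 7) [nat_lit 18] (nat_lit 7) [])
 (KT.alt (dw (nat_lit 0x231c0b)) (KT.neq (nat_lit 7) [nat_lit 10] (nat_lit 7) [])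
 (KT.alt (dw (nat_lit 0x1728)) (KT.neq (nat_lit 7) [nat_lit 18] (nat_lit 7) [])
 (KT.alt (dw (nat_lit 0x292319)) (KT.neq (nat_lit 7) [nat_lit 0] (nat_lit 7) [])
 (KT.alt (dw (nat_lit 0x0f1c07)) (KT.neq (nat_lit 7) [nat_lit 10] (nat_lit 7) [])
 (KT.alt (dw (nat_lit 0x190905)) (KT.neq (nat_lit 7) [nat_lit 18] (nat_lit 7) [])
 (KT.alt (dw (nat_lit 0x1c2c)) (KT.neq (nat_lit 7) [nat_lit 18] (nat_lit 7) [])
 (KT.alt (dw (nat_lit 0x271907)) (KT.neq (nat_lit 7) [nat_lit 18] (nat_lit 7) [])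
 (KT.alt (dw (nat_lit 0x2807)) (KT.neq (nat_lit 7) [nat_lit 18] (nat_lit 7) [])
 (KT.alt (dw (nat_lit 0x281b0b)) (KT.neq (nat_lit 7) [nat_lit 10] (nat_lit 7) [])
 (KT.alt (dw (nat_lit 0x3120)) (KT.neq (nat_lit 7) [nat_lit 10] (nat_lit 7) [])
 (KT.alt (dw (nat_lit 0x1f19)) (KT.neq (nat_lit 7) [nat_lit 18] (nat_lit 7) [])
 (KT.alt (dw (nat_lit 0x2b1c0b)) (KT.neq (nat_lit 7) [nat_lit 18] (nat_lit 7) [])
 (KT.alt (dw (nat_lit 0x20)) (KT.neq (nat_lit 7) [nat_lit 10] (nat_lit 7) [])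
 (KT.alt (dw (nat_lit 0x1b2d)) (KT.neq (nat_lit 7) [nat_lit 18] (nat_lit 7) [])
 (KT.alt (dw (nat_lit 0x25190b)) (KT.neq (nat_lit 7) [nat_lit 2] (nat_lit 7) [])
 (KT.alt (dw (nat_lit 0x200b05)) (KT.neq (nat_lit 7) [nat_lit 2] (nat_lit 7) [])
 (KT.alt (dw (nat_lit 0x2027)) (KT.neq (nat_lit 7) [nat_lit 18] (nat_lit 7) [])
 (KT.alt (dw (nat_lit 0x280905)) (KT.neq (nat_lit 7) [nat_lit 18] (nat_lit 7) [])
 (KT.alt (dw (nat_lit 0x2c0f)) (KT.neq (nat_lit 7) [nat_lit 2] (nat_lit 7) [])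
 (KT.alt (dw (nat_lit 0x0728)) (KT.neq (nat_lit 7) [nat_lit 18] (nat_lit 7) [])
 (KT.alt (dw (nat_lit 0x2d)) (KT.neq (nat_lit 7) [nat_lit 2] (nat_lit 7) [])
 (KT.alt (dw (nat_lit 0x261d)) (KT.neq (nat_lit 7) [nat_lit 18] (nat_lit 7) [])
 (KT.alt (dw (nat_lit 0x2e25)) (KT.neq (nat_lit 7) [nat_lit 18] (nat_lit 7) [])
 (KT.alt (dw (nat_lit 0x2b20)) (KT.neq (nat_lit 7) [nat_lit 18] (nat_lit 7) [])
 (KT.alt (dw (nat_lit 0x1c310f)) (KT.neq (nat_lit 7) [nat_lit 2] (nat_lit 7) [])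
 t327))))))))))))))))))))))))))))))
noncomputable def t329 : KT := KT.alt (dw (nat_lit 0x251f)) (KT.neq (nat_lit 7) [nat_lit 18] (nat_lit 7) [])
 (KT.alt (dw (nat_lit 0x2d2b)) (KT.neq (nat_lit 7) [nat_lit 18] (nat_lit 7) [])
 (KT.alt (dw (nat_lit 0x282c09)) (KT.neq (nat_lit 7) [nat_lit 2] (nat_lit 7) [])
 (KT.alt (dw (nat_lit 0x0b1c)) (KT.neq (nat_lit 7) [nat_lit 18] (nat_lit 7) [])
 (KT.alt (dw (nat_lit 0x240f)) (KT.neq (nat_lit 7) [nat_lit 18] (nat_lit 7) [])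
 (KT.alt (dw (nat_lit 0x2628)) (KT.neq (nat_lit 7) [nat_lit 2] (nat_lit 7) [])
 (KT.alt (dw (nat_lit 0x2e20)) (KT.neq (nat_lit 7) [nat_lit 18] (nat_lit 7) [])
 (KT.alt (dw (nat_lit 0x1d2507)) (KT.neq (nat_lit 7) [nat_lit 18] (nat_lit 7) [])
 (KT.alt (dw (nat_lit 0x2609)) (KT.neq (nat_lit 7) [nat_lit 2] (nat_lit 7) [])
 (KT.alt (dw (nat_lit 0x2129)) (KT.neq (nat_lit 7) [nat_lit 18] (nat_lit 7) [])
 (KT.alt (dw (nat_lit 0x2b1909)) (KT.neq (nat_lit 7) [nat_lit 2] (nat_lit 7) [])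
 (KT.alt (dw (nat_lit 0x172307)) (KT.neq (nat_lit 7) [nat_lit 10] (nat_lit 7) [])
 (KT.alt (dw (nat_lit 0x2527)) (KT.neq (nat_lit 7) [nat_lit 2] (nat_lit 7) [])
 (KT.alt (dw (nat_lit 0x1c2d)) (KT.neq (nat_lit 7) [nat_lit 2] (nat_lit 7) [])
 (KT.alt (dw (nat_lit 0x1e1f)) (KT.neq (nat_lit 7) [nat_lit 2] (nat_lit 7) [])
 (KT.alt (dw (nat_lit 0x1b27)) (KT.neq (nat_lit 7) [nat_lit 18] (nat_lit 7) [])
 (KT.alt (dw (nat_lit 0x2d11)) (KT.neq (nat_lit 7) [nat_lit 18] (nat_lit 7) [])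
 (KT.alt (dw (nat_lit 0x2b09)) (KT.neq (nat_lit 7) [nat_lit 18] (nat_lit 7) [])
 (KT.alt (dw (nat_lit 0x210b)) (KT.neq (nat_lit 7) [nat_lit 18] (nat_lit 7) [])
 (KT.alt (dw (nat_lit 0x201b07)) (KT.neq (nat_lit 7) [nat_lit 2] (nat_lit 7) [])
 (KT.alt (dw (nat_lit 0x3111)) (KT.neq (nat_lit 7) [nat_lit 18] (nat_lit 7) [])
 (KT.alt (dw (nat_lit 0x1126)) (KT.neq (nat_lit 7) [nat_lit 2] (nat_lit 7) [])
 (KT.alt (dw (nat_lit 0x270905)) (KT.neq (nat_lit 7) [nat_lit 18] (nat_lit 7) [])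
 (KT.alt (dw (nat_lit 0x1f11)) (KT.neq (nat_lit 7) [nat_lit 18] (nat_lit 7) [])
 (KT.alt (dw (nat_lit 0x200b)) (KT.neq (nat_lit 7) [nat_lit 18] (nat_lit 7) [])
 (KT.alt (dw (nat_lit 0x231c07)) (KT.neq (nat_lit 7) [nat_lit 18] (nat_lit 7) [])
 (KT.alt (dw (nat_lit 0x261f)) (KT.neq (nat_lit 7) [nat_lit 18] (nat_lit 7) [])
 (KT.alt (dw (nat_lit 0x072c07)) (KT.neq (nat_lit 7) [nat_lit 18] (nat_lit 7) [])
 (KT.alt (dw (nat_lit 0x2d05)) (KT.neq (nat_lit 7) [nat_lit 12] (nat_lit 7) [])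
 (KT.alt (dw (nat_lit 0x252c)) (KT.neq (nat_lit 7) [nat_lit 8] (nat_lit 7) [])
 (KT.alt (dw (nat_lit 0x0b24)) (KT.neq (nat_lit 7) [nat_lit 10] (nat_lit 7) [])
 t328))))))))))))))))))))))))))))))
noncomputable def t330 : KT := KT.alt (dw (nat_lit 0x281d)) (KT.neq (nat_lit 7) [nat_lit 8] (nat_lit 7) [])
 (KT.alt (dw (nat_lit 0x2c26)) (KT.neq (nat_lit 7) [nat_lit 10] (nat_lit 7) [])
 (KT.alt (dw (nat_lit 0x3205)) (KT.neq (nat_lit 7) [nat_lit 18] (nat_lit 7) [])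
 (KT.alt (dw (nat_lit 0x322005)) (KT.neq (nat_lit 7) [nat_lit 0] (nat_lit 7) [])
 (KT.alt (dw (nat_lit 0x272005)) (KT.neq (nat_lit 7) [nat_lit 2] (nat_lit 7) [])
 (KT.alt (dw (nat_lit 0x261b07)) (KT.neq (nat_lit 7) [nat_lit 0] (nat_lit 7) [])
 (KT.alt (dw (nat_lit 0x291d)) (KT.neq (nat_lit 7) [nat_lit 8] (nat_lit 7) [])
 (KT.alt (dw (nat_lit 0x091909)) (KT.neq (nat_lit 7) [nat_lit 2] (nat_lit 7) [])
 (KT.alt (dw (nat_lit 0x1b24)) (KT.neq (nat_lit 7) [nat_lit 4] (nat_lit 7) [])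
 (KT.alt (dw (nat_lit 0x2819)) (KT.neq (nat_lit 7) [nat_lit 18] (nat_lit 7) [])
 (KT.alt (dw (nat_lit 0x1109)) (KT.neq (nat_lit 7) [nat_lit 0] (nat_lit 7) [])
 (KT.alt (dw (nat_lit 0x23)) (KT.neq (nat_lit 7) [nat_lit 18] (nat_lit 7) [])
 (KT.alt (dw (nat_lit 0x1b1f)) (KT.neq (nat_lit 7) [nat_lit 18] (nat_lit 7) [])
 (KT.alt (dw (nat_lit 0x0524)) (KT.neq (nat_lit 7) [nat_lit 18] (nat_lit 7) [])
 (KT.alt (dw (nat_lit 0x2619)) (KT.neq (nat_lit 7) [nat_lit 18] (nat_lit 7) [])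
 (KT.alt (dw (nat_lit 0x202607)) (KT.neq (nat_lit 7) [nat_lit 18] (nat_lit 7) [])
 (KT.alt (dw (nat_lit 0x0719)) (KT.neq (nat_lit 7) [nat_lit 18] (nat_lit 7) [])
 (KT.alt (dw (nat_lit 0x212d)) (KT.neq (nat_lit 7) [nat_lit 12] (nat_lit 7) [])
 (KT.alt (dw (nat_lit 0x3224)) (KT.neq (nat_lit 7) [nat_lit 18] (nat_lit 7) [])
 (KT.alt (dw (nat_lit 0x1f23)) (KT.neq (nat_lit 7) [nat_lit 8] (nat_lit 7) [])
 (KT.alt (dw (nat_lit 0x232905)) (KT.neq (nat_lit 7) [nat_lit 2] (nat_lit 7) [])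
 (KT.alt (dw (nat_lit 0x2e0f)) (KT.neq (nat_lit 7) [nat_lit 2] (nat_lit 7) [])
 (KT.alt (dw (nat_lit 0x1f07)) (KT.neq (nat_lit 7) [nat_lit 12] (nat_lit 7) [])
 (KT.alt (dw (nat_lit 0x2020)) (KT.neq (nat_lit 7) [nat_lit 18] (nat_lit 7) [])
 (KT.alt (dw (nat_lit 0x270b)) (KT.neq (nat_lit 7) [nat_lit 18] (nat_lit 7) [])
 (KT.alt (dw (nat_lit 0x232009)) (KT.neq (nat_lit 7) [nat_lit 2] (nat_lit 7) [])
 (KT.alt (dw (nat_lit 0x312005)) (KT.neq (nat_lit 7) [nat_lit 2] (nat_lit 7) [])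
 (KT.alt (dw (nat_lit 0x052c0b)) (KT.neq (nat_lit 7) [nat_lit 18] (nat_lit 7) [])
 (KT.alt (dw (nat_lit 0x240b07)) (KT.neq (nat_lit 7) [nat_lit 18] (nat_lit 7) [])
 (KT.alt (dw (nat_lit 0x2d20)) (KT.neq (nat_lit 7) [nat_lit 18] (nat_lit 7) [])
 (KT.alt (dw (nat_lit 0x200f)) (KT.neq (nat_lit 7) [nat_lit 18] (nat_lit 7) [])
 t329))))))))))))))))))))))))))))))
noncomputable def t331 : KT := KT.alt (dw (nat_lit 0x241b07)) (KT.neq (nat_lit 7) [nat_lit 18] (nat_lit 7) [])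
 (KT.alt (dw (nat_lit 0x0d25)) (KT.neq (nat_lit 7) [nat_lit 18] (nat_lit 7) [])
 (KT.alt (dw (nat_lit 0x232107)) (KT.neq (nat_lit 7) [nat_lit 18] (nat_lit 7) [])
 (KT.alt (dw (nat_lit 0x271b07)) (KT.neq (nat_lit 7) [nat_lit 18] (nat_lit 7) [])
 (KT.alt (dw (nat_lit 0x1f26)) (KT.neq (nat_lit 7) [nat_lit 18] (nat_lit 7) [])
 (KT.alt (dw (nat_lit 0x251d)) (KT.neq (nat_lit 7) [nat_lit 18] (nat_lit 7) [])
 (KT.alt (dw (nat_lit 0x2719)) (KT.neq (nat_lit 7) [nat_lit 18] (nat_lit 7) [])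
 (KT.alt (dw (nat_lit 0x2305)) (KT.neq (nat_lit 7) [nat_lit 18] (nat_lit 7) [])
 (KT.alt (dw (nat_lit 0x2111)) (KT.neq (nat_lit 7) [nat_lit 18] (nat_lit 7) [])
 (KT.alt (dw (nat_lit 0x251907)) (KT.neq (nat_lit 7) [nat_lit 18] (nat_lit 7) [])
 (KT.alt (dw (nat_lit 0x251c)) (KT.neq (nat_lit 7) [nat_lit 10] (nat_lit 7) [])
 (KT.alt (dw (nat_lit 0x072107)) (KT.neq (nat_lit 7) [nat_lit 2] (nat_lit 7) [])
 (KT.alt (dw (nat_lit 0x3220)) (KT.neq (nat_lit 7) [nat_lit 10] (nat_lit 7) [])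
 (KT.alt (dw (nat_lit 0x2d0d0b)) (KT.neq (nat_lit 7) [nat_lit 8] (nat_lit 7) [])
 (KT.alt (dw (nat_lit 0x3229)) (KT.neq (nat_lit 7) [nat_lit 2] (nat_lit 7) [])
 (KT.alt (dw (nat_lit 0x310f)) (KT.neq (nat_lit 7) [nat_lit 18] (nat_lit 7) [])
 (KT.alt (dw (nat_lit 0x2b0d1f)) (KT.neq (nat_lit 7) [nat_lit 18] (nat_lit 7) [])
 (KT.alt (dw (nat_lit 0x2907)) (KT.neq (nat_lit 7) [nat_lit 0] (nat_lit 7) [])
 (KT.alt (dw (nat_lit 0x291c1d)) (KT.neq (nat_lit 7) [nat_lit 18] (nat_lit 7) [])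
 (KT.alt (dw (nat_lit 0x2911)) (KT.neq (nat_lit 7) [nat_lit 18] (nat_lit 7) [])
 (KT.alt (dw (nat_lit 0x0f)) (KT.neq (nat_lit 7) [nat_lit 18] (nat_lit 7) [])
 (KT.alt (dw (nat_lit 0x2723)) (KT.neq (nat_lit 7) [nat_lit 18] (nat_lit 7) [])
 (KT.alt (dw (nat_lit 0x1c1f05)) (KT.neq (nat_lit 7) [nat_lit 18] (nat_lit 7) [])
 (KT.alt (dw (nat_lit 0x202309)) (KT.neq (nat_lit 7) [nat_lit 2] (nat_lit 7) [])
 (KT.alt (dw (nat_lit 0x2409)) (KT.neq (nat_lit 7) [nat_lit 2] (nat_lit 7) [])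
 (KT.alt (dw (nat_lit 0x3225)) (KT.neq (nat_lit 7) [nat_lit 18] (nat_lit 7) [])
 (KT.alt (dw (nat_lit 0x0b07)) (KT.neq (nat_lit 7) [nat_lit 0] (nat_lit 7) [])
 (KT.alt (dw (nat_lit 0x1b2911)) (KT.neq (nat_lit 7) [nat_lit 2] (nat_lit 7) [])
 (KT.alt (dw (nat_lit 0x25)) (KT.neq (nat_lit 7) [nat_lit 18] (nat_lit 7) [])
 (KT.alt (dw (nat_lit 0x2923)) (KT.neq (nat_lit 7) [nat_lit 18] (nat_lit 7) [])
 (KT.alt (dw (nat_lit 0x242d)) (KT.neq (nat_lit 7) [nat_lit 10] (nat_lit 7) [])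
 t330))))))))))))))))))))))))))))))
theorem k332 : ktChk (nat_lit 3510) H15.Fi22P.nets F c245 b249 [] p248 y250 [] [nat_lit 0] (nat_lit 1) (nat_lit 7) (bit (nat_lit 7)) 0 t331 = true := by decide +kernel
theorem l333 (M : PM G Ω 3510 H15.Fi22P.nets) (hN : Nat.card G = 64561751654400) : Cl M (fun g => Pr M g p248) [] [nat_lit 0] (nat_lit 7) (bit (nat_lit 7)) :=
  cl_tree (e247 M hN) (x252 M hN) (dd0 _ _ _ _) k332
noncomputable def t334 : KT := KT.alt (dw (nat_lit 0x05231f0d26231b)) (KT.mem (nat_lit 16) [nat_lit 16] (SE.lev (nat_lit 3)))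
 (KT.alt (dw (nat_lit 0x2f211d050d2d2d)) (KT.mem (nat_lit 16) [nat_lit 0] (SE.lev (nat_lit 3)))
 (KT.alt (dw (nat_lit 0x1c1d052d0d2e1d)) (KT.mem (nat_lit 16) [nat_lit 16] (SE.lev (nat_lit 3)))
 (KT.alt (dw (nat_lit 0x051b05172e2e051e)) (KT.mem (nat_lit 16) [nat_lit 16] (SE.lev (nat_lit 3)))
 (KT.alt (dw (nat_lit 0x0d2e2e051b051e0d)) (KT.mem (nat_lit 16) [nat_lit 16] (SE.lev (nat_lit 3)))
 (KT.alt (dw (nat_lit 0x2e202426242c252e05)) (KT.mem (nat_lit 16) [nat_lit 16] (SE.lev (nat_lit 3)))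
 (KT.alt (dw (nat_lit 0x0d2e2e051e2e2e0d)) (KT.mem (nat_lit 16) [nat_lit 2] (SE.lev (nat_lit 3)))
 (KT.alt (dw (nat_lit 0x2307052f242b2b2732)) (KT.mem (nat_lit 16) [nat_lit 8] (SE.lev (nat_lit 3)))
 (KT.alt (dw (nat_lit 0x051e0d)) (KT.mem (nat_lit 16) [nat_lit 8] (SE.lev (nat_lit 3)))
 (KT.alt (dw (nat_lit 0x1f2b2001262127262d)) (KT.mem (nat_lit 16) [nat_lit 8] (SE.lev (nat_lit 3)))
 (KT.alt (dw (nat_lit 0x201e2723282c2d20)) (KT.mem (nat_lit 16) [nat_lit 2] (SE.lev (nat_lit 3)))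
 (KT.alt (dw (nat_lit 0x051e2e2e)) (KT.mem (nat_lit 16) [nat_lit 8] (SE.lev (nat_lit 3)))
 (KT.alt (dw (nat_lit 0x05200124280d0f312f)) (KT.mem (nat_lit 16) [nat_lit 16] (SE.lev (nat_lit 3)))
 (KT.alt (dw (nat_lit 0x2e2e051e05172e2e)) (KT.mem (nat_lit 16) [nat_lit 16] (SE.lev (nat_lit 3)))
 (KT.alt (dw (nat_lit 0x25231b190b2809270f)) (KT.mem (nat_lit 16) [nat_lit 16] (SE.lev (nat_lit 3)))
 (KT.alt (dw (nat_lit 0x051b0d)) (KT.mem (nat_lit 16) [nat_lit 2] (SE.lev (nat_lit 3)))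
 (KT.alt (dw (nat_lit 0x192405281129)) (KT.mem (nat_lit 16) [nat_lit 2] (SE.lev (nat_lit 3)))
 (KT.alt (dw (nat_lit 0x232e052126092c1e)) (KT.mem (nat_lit 16) [nat_lit 16] (SE.lev (nat_lit 3)))
 (KT.alt (dw (nat_lit 0x2e2e0d2e2e0d)) (KT.mem (nat_lit 16) [nat_lit 16] (SE.lev (nat_lit 3)))
 (KT.alt (dw (nat_lit 0x051b2e2e)) (KT.mem (nat_lit 16) [nat_lit 16] (SE.lev (nat_lit 3)))
 (KT.alt (dw (nat_lit 0x171d2f2d2d1d)) (KT.mem (nat_lit 16) [nat_lit 16] (SE.lev (nat_lit 3)))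
 (KT.alt (dw (nat_lit 0x0923052131072b24)) (KT.mem (nat_lit 16) [nat_lit 16] (SE.lev (nat_lit 3)))
 (KT.alt (dw (nat_lit 0x051e051b0d)) (KT.mem (nat_lit 16) [nat_lit 2] (SE.lev (nat_lit 3)))
 (KT.alt (dw (nat_lit 0x191b1e19250926)) (KT.mem (nat_lit 16) [nat_lit 16] (SE.lev (nat_lit 3)))
 (KT.alt (dw (nat_lit 0x253105320d0926)) (KT.mem (nat_lit 16) [nat_lit 16] (SE.lev (nat_lit 3)))
 (KT.alt (dw (nat_lit 0x051b)) (KT.mem (nat_lit 16) [nat_lit 2] (SE.lev (nat_lit 3)))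
 (KT.alt (dw (nat_lit 0x051e2e2e051b2e2e)) (KT.mem (nat_lit 16) [nat_lit 2] (SE.lev (nat_lit 3)))
 (KT.alt (dw (nat_lit 0x1c1e2b2509262c)) (KT.mem (nat_lit 16) [nat_lit 16] (SE.lev (nat_lit 3)))
 (KT.alt (dw (nat_lit 0x051e051b2e2e)) (KT.mem (nat_lit 16) [nat_lit 16] (SE.lev (nat_lit 3)))
 (KT.alt (dw (nat_lit 0x051e05170d2e2e051e)) (KT.mem (nat_lit 16) [nat_lit 16] (SE.lev (nat_lit 3)))
 (KT.alt (dw (nat_lit 0x09321c232907252b0f)) (KT.mem (nat_lit 16) [nat_lit 16] (SE.lev (nat_lit 3)))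
 (KT.alt (dw (nat_lit 0x171e2b092607252c)) (KT.mem (nat_lit 16) [nat_lit 16] (SE.lev (nat_lit 3)))
 (KT.alt (dw (nat_lit 0x2e2e0517051e0d)) (KT.mem (nat_lit 16) [nat_lit 16] (SE.lev (nat_lit 3)))
 (KT.alt (dw (nat_lit 0x07272b0521230b320f)) (KT.mem (nat_lit 16) [nat_lit 16] (SE.lev (nat_lit 3)))
 (KT.alt (dw (nat_lit 0x05281f1e31210b31250f)) (KT.mem (nat_lit 16) [nat_lit 16] (SE.lev (nat_lit 3)))
 (KT.alt (dw (nat_lit 0x1d052f212d0f2f2d0d)) (KT.mem (nat_lit 16) [nat_lit 12] (SE.lev (nat_lit 3)))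
 (KT.alt (dw (nat_lit 0x2405232b090f2c)) (KT.mem (nat_lit 16) [nat_lit 16] (SE.lev (nat_lit 3)))
 (KT.alt (dw (nat_lit 0x1d052d052d0d)) (KT.mem (nat_lit 16) [nat_lit 16] (SE.lev (nat_lit 3)))
 (KT.nil (SE.lev (nat_lit 2)) [nat_lit 0, nat_lit 1] [dw (nat_lit 0x01)] []))))))))))))))))))))))))))))))))))))))
noncomputable def t335 : KT := KT.alt (dw (nat_lit 0x0517051e051b0d)) (KT.mem (nat_lit 16) [nat_lit 16] (SE.lev (nat_lit 3)))
 (KT.alt (dw (nat_lit 0x2e2e051b051e051b)) (KT.mem (nat_lit 16) [nat_lit 16] (SE.lev (nat_lit 3)))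
 (KT.alt (dw (nat_lit 0x052f091c0709212d2d)) (KT.mem (nat_lit 16) [nat_lit 16] (SE.lev (nat_lit 3)))
 (KT.alt (dw (nat_lit 0x05172e2e051b2e2e)) (KT.mem (nat_lit 16) [nat_lit 16] (SE.lev (nat_lit 3)))
 (KT.alt (dw (nat_lit 0x0d2e2e051e)) (KT.mem (nat_lit 16) [nat_lit 2] (SE.lev (nat_lit 3)))
 (KT.alt (dw (nat_lit 0x092921270f322f)) (KT.mem (nat_lit 16) [nat_lit 12] (SE.lev (nat_lit 3)))
 (KT.alt (dw (nat_lit 0x2e2e051e2e2e051e)) (KT.mem (nat_lit 16) [nat_lit 16] (SE.lev (nat_lit 3)))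
 (KT.alt (dw (nat_lit 0x1c200124280d0f312f)) (KT.mem (nat_lit 16) [nat_lit 2] (SE.lev (nat_lit 3)))
 (KT.alt (dw (nat_lit 0x0517051e0d)) (KT.mem (nat_lit 16) [nat_lit 2] (SE.lev (nat_lit 3)))
 (KT.alt (dw (nat_lit 0x051b051e0d)) (KT.mem (nat_lit 16) [nat_lit 16] (SE.lev (nat_lit 3)))
 (KT.alt (dw (nat_lit 0x0517051e)) (KT.mem (nat_lit 16) [nat_lit 2] (SE.lev (nat_lit 3)))
 (KT.alt (dw (nat_lit 0x2e2e051b051e)) (KT.mem (nat_lit 16) [nat_lit 16] (SE.lev (nat_lit 3)))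
 (KT.alt (dw (nat_lit 0x051e05172e2e)) (KT.mem (nat_lit 16) [nat_lit 16] (SE.lev (nat_lit 3)))
 (KT.alt (dw (nat_lit 0x01211d202c21110f31)) (KT.mem (nat_lit 16) [nat_lit 16] (SE.lev (nat_lit 3)))
 (KT.alt (dw (nat_lit 0x2e2e051e2e2e)) (KT.mem (nat_lit 16) [nat_lit 16] (SE.lev (nat_lit 3)))
 (KT.alt (dw (nat_lit 0x0d2e052d212d2d)) (KT.mem (nat_lit 16) [nat_lit 2] (SE.lev (nat_lit 3)))
 (KT.alt (dw (nat_lit 0x05172e2e051e)) (KT.mem (nat_lit 16) [nat_lit 8] (SE.lev (nat_lit 3)))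
 (KT.alt (dw (nat_lit 0x2e2e051b)) (KT.mem (nat_lit 16) [nat_lit 16] (SE.lev (nat_lit 3)))
 (KT.alt (dw (nat_lit 0x23262d07282f)) (KT.mem (nat_lit 16) [nat_lit 0] (SE.lev (nat_lit 3)))
 (KT.alt (dw (nat_lit 0x051e2e2e0d2e2e0d)) (KT.mem (nat_lit 16) [nat_lit 16] (SE.lev (nat_lit 3)))
 (KT.alt (dw (nat_lit 0x051b051e051b0d)) (KT.mem (nat_lit 16) [nat_lit 16] (SE.lev (nat_lit 3)))
 (KT.alt (dw (nat_lit 0x2d050925212f2e272d)) (KT.mem (nat_lit 16) [nat_lit 8] (SE.lev (nat_lit 3)))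
 (KT.alt (dw (nat_lit 0x171e0d2f)) (KT.mem (nat_lit 16) [nat_lit 2] (SE.lev (nat_lit 3)))
 (KT.alt (dw (nat_lit 0x2f24050f24322d27)) (KT.mem (nat_lit 16) [nat_lit 16] (SE.lev (nat_lit 3)))
 (KT.alt (dw (nat_lit 0x1931202f09212b2831)) (KT.mem (nat_lit 16) [nat_lit 16] (SE.lev (nat_lit 3)))
 (KT.alt (dw (nat_lit 0x1d2c2621270f2e05)) (KT.mem (nat_lit 16) [nat_lit 2] (SE.lev (nat_lit 3)))
 (KT.alt (dw (nat_lit 0x2e2e0517051e051b0d)) (KT.mem (nat_lit 16) [nat_lit 8] (SE.lev (nat_lit 3)))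
 (KT.alt (dw (nat_lit 0x171e2c3123070f23)) (KT.mem (nat_lit 16) [nat_lit 16] (SE.lev (nat_lit 3)))
 (KT.alt (dw (nat_lit 0x2532053107262f21)) (KT.mem (nat_lit 16) [nat_lit 16] (SE.lev (nat_lit 3)))
 (KT.alt (dw (nat_lit 0x282b270b07262b)) (KT.mem (nat_lit 16) [nat_lit 16] (SE.lev (nat_lit 3)))
 (KT.alt (dw (nat_lit 0x051b051e051b)) (KT.mem (nat_lit 16) [nat_lit 16] (SE.lev (nat_lit 3)))
 t334))))))))))))))))))))))))))))))
noncomputable def t336 : KT := KT.alt (dw (nat_lit 0x212b052d0726282f2d19)) (KT.mem (nat_lit 16) [nat_lit 2] (SE.lev (nat_lit 3)))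
 (KT.alt (dw (nat_lit 0x1c1e0d2f)) (KT.mem (nat_lit 16) [nat_lit 16] (SE.lev (nat_lit 3)))
 (KT.alt (dw (nat_lit 0x2e2e051b0517051e)) (KT.mem (nat_lit 16) [nat_lit 8] (SE.lev (nat_lit 3)))
 (KT.alt (dw (nat_lit 0x0d2e2e0d2e2e051e)) (KT.mem (nat_lit 16) [nat_lit 12] (SE.lev (nat_lit 3)))
 (KT.alt (dw (nat_lit 0x051e2e2e0517051e0d)) (KT.mem (nat_lit 16) [nat_lit 16] (SE.lev (nat_lit 3)))
 (KT.alt (dw (nat_lit 0x05172e2e051e0d)) (KT.mem (nat_lit 16) [nat_lit 16] (SE.lev (nat_lit 3)))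
 (KT.alt (dw (nat_lit 0x26291e1924250b2825)) (KT.mem (nat_lit 16) [nat_lit 2] (SE.lev (nat_lit 3)))
 (KT.alt (dw (nat_lit 0x1c2f1e0d250926)) (KT.mem (nat_lit 16) [nat_lit 16] (SE.lev (nat_lit 3)))
 (KT.alt (dw (nat_lit 0x2532053109260d)) (KT.mem (nat_lit 16) [nat_lit 2] (SE.lev (nat_lit 3)))
 (KT.alt (dw (nat_lit 0x2e2e051b2e2e051b)) (KT.mem (nat_lit 16) [nat_lit 8] (SE.lev (nat_lit 3)))
 (KT.alt (dw (nat_lit 0x24092e1c01232c272f)) (KT.mem (nat_lit 16) [nat_lit 4] (SE.lev (nat_lit 3)))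
 (KT.alt (dw (nat_lit 0x051e05172e2e0d)) (KT.mem (nat_lit 16) [nat_lit 0] (SE.lev (nat_lit 3)))
 (KT.alt (dw (nat_lit 0x2e2e051b2e2e)) (KT.mem (nat_lit 16) [nat_lit 2] (SE.lev (nat_lit 3)))
 (KT.alt (dw (nat_lit 0x0d2e2e051b)) (KT.mem (nat_lit 16) [nat_lit 12] (SE.lev (nat_lit 3)))
 (KT.alt (dw (nat_lit 0x05172d052e0d2d0f2e)) (KT.mem (nat_lit 16) [nat_lit 8] (SE.lev (nat_lit 3)))
 (KT.alt (dw (nat_lit 0x17231c260d2d2519)) (KT.mem (nat_lit 16) [nat_lit 16] (SE.lev (nat_lit 3)))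
 (KT.alt (dw (nat_lit 0x0d2d0f2d0d)) (KT.mem (nat_lit 16) [nat_lit 12] (SE.lev (nat_lit 3)))
 (KT.alt (dw (nat_lit 0x051e051b2e2e051e0d)) (KT.mem (nat_lit 16) [nat_lit 2] (SE.lev (nat_lit 3)))
 (KT.alt (dw (nat_lit 0x2e2e05172e2e)) (KT.mem (nat_lit 16) [nat_lit 8] (SE.lev (nat_lit 3)))
 (KT.alt (dw (nat_lit 0x19231f23110f2831)) (KT.mem (nat_lit 16) [nat_lit 16] (SE.lev (nat_lit 3)))
 (KT.alt (dw (nat_lit 0x051b051e)) (KT.mem (nat_lit 16) [nat_lit 16] (SE.lev (nat_lit 3)))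
 (KT.alt (dw (nat_lit 0x1923270b27312520)) (KT.mem (nat_lit 16) [nat_lit 16] (SE.lev (nat_lit 3)))
 (KT.alt (dw (nat_lit 0x2d2d2405230d)) (KT.mem (nat_lit 16) [nat_lit 2] (SE.lev (nat_lit 3)))
 (KT.alt (dw (nat_lit 0x051b0517051e2e2e)) (KT.mem (nat_lit 16) [nat_lit 16] (SE.lev (nat_lit 3)))
 (KT.alt (dw (nat_lit 0x19321f2e270928252e)) (KT.mem (nat_lit 16) [nat_lit 2] (SE.lev (nat_lit 3)))
 (KT.alt (dw (nat_lit 0x051b2e2e051b051e0d)) (KT.mem (nat_lit 16) [nat_lit 8] (SE.lev (nat_lit 3)))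
 (KT.alt (dw (nat_lit 0x1c1d310d312f1d)) (KT.mem (nat_lit 16) [nat_lit 8] (SE.lev (nat_lit 3)))
 (KT.alt (dw (nat_lit 0x0d2f1d050d2d2d)) (KT.mem (nat_lit 16) [nat_lit 2] (SE.lev (nat_lit 3)))
 (KT.alt (dw (nat_lit 0x0d2e2e051e2e2e)) (KT.mem (nat_lit 16) [nat_lit 2] (SE.lev (nat_lit 3)))
 (KT.alt (dw (nat_lit 0x0f3226052127072829)) (KT.mem (nat_lit 16) [nat_lit 2] (SE.lev (nat_lit 3)))
 (KT.alt (dw (nat_lit 0x2e2e051b2e2e051e)) (KT.mem (nat_lit 16) [nat_lit 16] (SE.lev (nat_lit 3)))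
 t335))))))))))))))))))))))))))))))
noncomputable def t337 : KT := KT.alt (dw (nat_lit 0x0d2e2e051e0d)) (KT.mem (nat_lit 16) [nat_lit 16] (SE.lev (nat_lit 3)))
 (KT.alt (dw (nat_lit 0x01211d202c21110f32)) (KT.mem (nat_lit 16) [nat_lit 16] (SE.lev (nat_lit 3)))
 (KT.alt (dw (nat_lit 0x2d0f1926212c0f2e1c)) (KT.mem (nat_lit 16) [nat_lit 2] (SE.lev (nat_lit 3)))
 (KT.alt (dw (nat_lit 0x051b2e2e051e)) (KT.mem (nat_lit 16) [nat_lit 8] (SE.lev (nat_lit 3)))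
 (KT.alt (dw (nat_lit 0x051b0517051e)) (KT.mem (nat_lit 16) [nat_lit 16] (SE.lev (nat_lit 3)))
 (KT.alt (dw (nat_lit 0x2e2e05172e2e051e)) (KT.mem (nat_lit 16) [nat_lit 14] (SE.lev (nat_lit 3)))
 (KT.alt (dw (nat_lit 0x051e)) (KT.mem (nat_lit 16) [nat_lit 8] (SE.lev (nat_lit 3)))
 (KT.alt (dw (nat_lit 0x2405230d2b090f2c)) (KT.mem (nat_lit 16) [nat_lit 12] (SE.lev (nat_lit 3)))
 (KT.alt (dw (nat_lit 0x320d230528110932)) (KT.mem (nat_lit 16) [nat_lit 16] (SE.lev (nat_lit 3)))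
 (KT.alt (dw (nat_lit 0x1e262d192c07212b0f)) (KT.mem (nat_lit 16) [nat_lit 2] (SE.lev (nat_lit 3)))
 (KT.alt (dw (nat_lit 0x0d2e2e0517051e0d)) (KT.mem (nat_lit 16) [nat_lit 8] (SE.lev (nat_lit 3)))
 (KT.alt (dw (nat_lit 0x320d29190b2623270f)) (KT.mem (nat_lit 16) [nat_lit 16] (SE.lev (nat_lit 3)))
 (KT.alt (dw (nat_lit 0x2e2e051b051e0d)) (KT.mem (nat_lit 16) [nat_lit 2] (SE.lev (nat_lit 3)))
 (KT.alt (dw (nat_lit 0x27052c210d072b320f)) (KT.mem (nat_lit 16) [nat_lit 16] (SE.lev (nat_lit 3)))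
 (KT.alt (dw (nat_lit 0x2e2e)) (KT.mem (nat_lit 16) [nat_lit 0] (SE.lev (nat_lit 3)))
 (KT.alt (dw (nat_lit 0x0517051e051b)) (KT.mem (nat_lit 16) [nat_lit 16] (SE.lev (nat_lit 3)))
 (KT.alt (dw (nat_lit 0x05172e2e)) (KT.mem (nat_lit 16) [nat_lit 16] (SE.lev (nat_lit 3)))
 (KT.alt (dw (nat_lit 0x1120270523260b2b32)) (KT.mem (nat_lit 16) [nat_lit 16] (SE.lev (nat_lit 3)))
 (KT.alt (dw (nat_lit 0x272605252c2d0d)) (KT.mem (nat_lit 16) [nat_lit 2] (SE.lev (nat_lit 3)))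
 (KT.alt (dw (nat_lit 0x1d091c0709212f)) (KT.mem (nat_lit 16) [nat_lit 4] (SE.lev (nat_lit 3)))
 (KT.alt (dw (nat_lit 0x1d052e052d212d2d)) (KT.mem (nat_lit 16) [nat_lit 16] (SE.lev (nat_lit 3)))
 (KT.alt (dw (nat_lit 0x202c1d0729262f20)) (KT.mem (nat_lit 16) [nat_lit 2] (SE.lev (nat_lit 3)))
 (KT.alt (dw (nat_lit 0x1131052d210b322b)) (KT.mem (nat_lit 16) [nat_lit 8] (SE.lev (nat_lit 3)))
 (KT.alt (dw (nat_lit 0x1e2e0b1e31240732282d)) (KT.mem (nat_lit 16) [nat_lit 8] (SE.lev (nat_lit 3)))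
 (KT.alt (dw (nat_lit 0x051e2e2e051b0d)) (KT.mem (nat_lit 16) [nat_lit 2] (SE.lev (nat_lit 3)))
 (KT.alt (dw (nat_lit 0x271c203221312532)) (KT.mem (nat_lit 16) [nat_lit 16] (SE.lev (nat_lit 3)))
 (KT.alt (dw (nat_lit 0x202e1e2f280f2f)) (KT.mem (nat_lit 16) [nat_lit 8] (SE.lev (nat_lit 3)))
 (KT.alt (dw (nat_lit 0x051b0d2e2e051b)) (KT.mem (nat_lit 16) [nat_lit 16] (SE.lev (nat_lit 3)))
 (KT.alt (dw (nat_lit 0x051e2e2e0d)) (KT.mem (nat_lit 16) [nat_lit 16] (SE.lev (nat_lit 3)))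
 (KT.alt (dw (nat_lit 0x051e2e2e051e0d)) (KT.mem (nat_lit 16) [nat_lit 12] (SE.lev (nat_lit 3)))
 (KT.alt (dw (nat_lit 0x2f1e192f2d2d1d)) (KT.mem (nat_lit 16) [nat_lit 2] (SE.lev (nat_lit 3)))
 t336))))))))))))))))))))))))))))))
noncomputable def t338 : KT := KT.alt (dw (nat_lit 0x09071c27110d28320f)) (KT.mem (nat_lit 16) [nat_lit 2] (SE.lev (nat_lit 3)))
 (KT.alt (dw (nat_lit 0x2e2e0517051e2e2e)) (KT.mem (nat_lit 16) [nat_lit 2] (SE.lev (nat_lit 3)))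
 (KT.alt (dw (nat_lit 0x0517051e05172e2e)) (KT.mem (nat_lit 16) [nat_lit 16] (SE.lev (nat_lit 3)))
 (KT.alt (dw (nat_lit 0x0d231d3225322d1b)) (KT.mem (nat_lit 16) [nat_lit 16] (SE.lev (nat_lit 3)))
 (KT.alt (dw (nat_lit 0x051e051b)) (KT.mem (nat_lit 16) [nat_lit 2] (SE.lev (nat_lit 3)))
 (KT.alt (dw (nat_lit 0x1c2f091c0709212d2d)) (KT.mem (nat_lit 16) [nat_lit 2] (SE.lev (nat_lit 3)))
 (KT.alt (dw (nat_lit 0x11271c232826262d)) (KT.mem (nat_lit 16) [nat_lit 8] (SE.lev (nat_lit 3)))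
 (KT.alt (dw (nat_lit 0x051e0d2e2e051b0d)) (KT.mem (nat_lit 16) [nat_lit 16] (SE.lev (nat_lit 3)))
 (KT.alt (dw (nat_lit 0x2f1d05)) (KT.mem (nat_lit 16) [nat_lit 16] (SE.lev (nat_lit 3)))
 (KT.alt (dw (nat_lit 0x1c241c0f2126260f20)) (KT.mem (nat_lit 16) [nat_lit 0] (SE.lev (nat_lit 3)))
 (KT.alt (dw (nat_lit 0x212f1d050d250926)) (KT.mem (nat_lit 16) [nat_lit 8] (SE.lev (nat_lit 3)))
 (KT.alt (dw (nat_lit 0x1d1b130d0b14)) (KT.mem (nat_lit 16) [nat_lit 4] (SE.lev (nat_lit 3)))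
 (KT.alt (dw (nat_lit 0x05172e2e0d)) (KT.mem (nat_lit 16) [nat_lit 8] (SE.lev (nat_lit 3)))
 (KT.alt (dw (nat_lit 0x0123311e192d11282b2e)) (KT.mem (nat_lit 16) [nat_lit 16] (SE.lev (nat_lit 3)))
 (KT.alt (dw (nat_lit 0x212b1d210719)) (KT.mem (nat_lit 16) [nat_lit 16] (SE.lev (nat_lit 3)))
 (KT.alt (dw (nat_lit 0x0d)) (KT.mem (nat_lit 16) [nat_lit 0] (SE.lev (nat_lit 3)))
 (KT.alt (dw (nat_lit 0x24251c260d0b07252d)) (KT.mem (nat_lit 16) [nat_lit 2] (SE.lev (nat_lit 3)))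
 (KT.alt (dw (nat_lit 0x0b202e1f262707252532)) (KT.mem (nat_lit 16) [nat_lit 16] (SE.lev (nat_lit 3)))
 (KT.alt (dw (nat_lit 0x212405230d2f)) (KT.mem (nat_lit 16) [nat_lit 16] (SE.lev (nat_lit 3)))
 (KT.alt (dw (nat_lit 0x05172e2e0517051e)) (KT.mem (nat_lit 16) [nat_lit 16] (SE.lev (nat_lit 3)))
 (KT.alt (dw (nat_lit 0x1b1e2419322921262e0f)) (KT.mem (nat_lit 16) [nat_lit 16] (SE.lev (nat_lit 3)))
 (KT.alt (dw (nat_lit 0x1b191e32210b2e25272f)) (KT.mem (nat_lit 16) [nat_lit 16] (SE.lev (nat_lit 3)))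
 (KT.alt (dw (nat_lit 0x2e2e051e051b)) (KT.mem (nat_lit 16) [nat_lit 2] (SE.lev (nat_lit 3)))
 (KT.alt (dw (nat_lit 0x051b2e2e051b)) (KT.mem (nat_lit 16) [nat_lit 12] (SE.lev (nat_lit 3)))
 (KT.alt (dw (nat_lit 0x2826171f28242132270f)) (KT.mem (nat_lit 16) [nat_lit 2] (SE.lev (nat_lit 3)))
 (KT.alt (dw (nat_lit 0x2e2e051e2e2e0d)) (KT.mem (nat_lit 16) [nat_lit 16] (SE.lev (nat_lit 3)))
 (KT.alt (dw (nat_lit 0x2d050f2d212d2d)) (KT.mem (nat_lit 16) [nat_lit 16] (SE.lev (nat_lit 3)))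
 (KT.alt (dw (nat_lit 0x211d050d2f)) (KT.mem (nat_lit 16) [nat_lit 8] (SE.lev (nat_lit 3)))
 (KT.alt (dw (nat_lit 0x171d0d2f2d2d1d)) (KT.mem (nat_lit 16) [nat_lit 16] (SE.lev (nat_lit 3)))
 (KT.alt (dw (nat_lit 0x210b1c1d0d2b24270f)) (KT.mem (nat_lit 16) [nat_lit 16] (SE.lev (nat_lit 3)))
 (KT.alt (dw (nat_lit 0x240527112823)) (KT.mem (nat_lit 16) [nat_lit 16] (SE.lev (nat_lit 3)))
 t337))))))))))))))))))))))))))))))
noncomputable def t339 : KT := KT.alt (dw (nat_lit 0x0d2e2e0d)) (KT.mem (nat_lit 16) [nat_lit 16] (SE.lev (nat_lit 3)))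
 (KT.alt (dw (nat_lit 0x051b2e2e051e051b)) (KT.mem (nat_lit 16) [nat_lit 6] (SE.lev (nat_lit 3)))
 (KT.alt (dw (nat_lit 0x2e2e051b051e2e2e)) (KT.mem (nat_lit 16) [nat_lit 2] (SE.lev (nat_lit 3)))
 (KT.alt (dw (nat_lit 0x2e2e0d)) (KT.mem (nat_lit 16) [nat_lit 16] (SE.lev (nat_lit 3)))
 (KT.alt (dw (nat_lit 0x1f2b050f211126262e)) (KT.mem (nat_lit 16) [nat_lit 16] (SE.lev (nat_lit 3)))
 (KT.alt (dw (nat_lit 0x051e2e2e051e)) (KT.mem (nat_lit 16) [nat_lit 16] (SE.lev (nat_lit 3)))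
 (KT.alt (dw (nat_lit 0x2e2e051e)) (KT.mem (nat_lit 16) [nat_lit 16] (SE.lev (nat_lit 3)))
 (KT.alt (dw (nat_lit 0x051b05172e2e)) (KT.mem (nat_lit 16) [nat_lit 2] (SE.lev (nat_lit 3)))
 (KT.alt (dw (nat_lit 0x092e1c012d0b07280d)) (KT.mem (nat_lit 16) [nat_lit 16] (SE.lev (nat_lit 3)))
 (KT.alt (dw (nat_lit 0x280b272d2d21)) (KT.mem (nat_lit 16) [nat_lit 16] (SE.lev (nat_lit 3)))
 (KT.alt (dw (nat_lit 0x051b2e2e051e0d)) (KT.mem (nat_lit 16) [nat_lit 2] (SE.lev (nat_lit 3)))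
 (KT.alt (dw (nat_lit 0x0726071f242432262d)) (KT.mem (nat_lit 16) [nat_lit 16] (SE.lev (nat_lit 3)))
 (KT.alt (dw (nat_lit 0x1d0d2f1e)) (KT.mem (nat_lit 16) [nat_lit 2] (SE.lev (nat_lit 3)))
 (KT.alt (dw (nat_lit 0x05170d2e2e051e)) (KT.mem (nat_lit 16) [nat_lit 16] (SE.lev (nat_lit 3)))
 (KT.alt (dw (nat_lit 0x0b252505232831262f)) (KT.mem (nat_lit 16) [nat_lit 16] (SE.lev (nat_lit 3)))
 (KT.alt (dw (nat_lit 0x092e1c011109262b2b)) (KT.mem (nat_lit 16) [nat_lit 2] (SE.lev (nat_lit 3)))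
 (KT.alt (dw (nat_lit 0x2d2d1d052507262f)) (KT.mem (nat_lit 16) [nat_lit 8] (SE.lev (nat_lit 3)))
 (KT.alt (dw (nat_lit 0x251f231d110b2f2b2e)) (KT.mem (nat_lit 16) [nat_lit 16] (SE.lev (nat_lit 3)))
 (KT.alt (dw (nat_lit 0x111e251e28242c0f2f)) (KT.mem (nat_lit 16) [nat_lit 16] (SE.lev (nat_lit 3)))
 (KT.alt (dw (nat_lit 0x051b0d2e2e051e051b)) (KT.mem (nat_lit 16) [nat_lit 0] (SE.lev (nat_lit 3)))
 (KT.alt (dw (nat_lit 0x1d172405232b090f2c)) (KT.mem (nat_lit 16) [nat_lit 2] (SE.lev (nat_lit 3)))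
 (KT.alt (dw (nat_lit 0x2e2e051e0d)) (KT.mem (nat_lit 16) [nat_lit 12] (SE.lev (nat_lit 3)))
 (KT.alt (dw (nat_lit 0x051e05172e2e051e)) (KT.mem (nat_lit 16) [nat_lit 8] (SE.lev (nat_lit 3)))
 (KT.alt (dw (nat_lit 0x0d2e2e051b0d)) (KT.mem (nat_lit 16) [nat_lit 16] (SE.lev (nat_lit 3)))
 (KT.alt (dw (nat_lit 0x1c2f1e2509262f)) (KT.mem (nat_lit 16) [nat_lit 16] (SE.lev (nat_lit 3)))
 (KT.alt (dw (nat_lit 0x272b230523232e2c26)) (KT.mem (nat_lit 16) [nat_lit 16] (SE.lev (nat_lit 3)))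
 (KT.alt (dw (nat_lit 0x2d190501240929321c)) (KT.mem (nat_lit 16) [nat_lit 12] (SE.lev (nat_lit 3)))
 (KT.alt (dw (nat_lit 0x2f1d050d250926)) (KT.mem (nat_lit 16) [nat_lit 8] (SE.lev (nat_lit 3)))
 (KT.alt (dw (nat_lit 0x1d2f1e250926)) (KT.mem (nat_lit 16) [nat_lit 16] (SE.lev (nat_lit 3)))
 (KT.alt (dw (nat_lit 0x0d05200124280d0f312f)) (KT.mem (nat_lit 16) [nat_lit 12] (SE.lev (nat_lit 3)))
 (KT.alt (dw (nat_lit 0x171e2b090f2c0d)) (KT.mem (nat_lit 16) [nat_lit 12] (SE.lev (nat_lit 3)))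
 t338))))))))))))))))))))))))))))))
noncomputable def t340 : KT := KT.alt (dw (nat_lit 0x0f2c111c2326212d2b)) (KT.mem (nat_lit 16) [nat_lit 16] (SE.lev (nat_lit 3)))
 (KT.alt (dw (nat_lit 0x0d2e050f2d212d2d)) (KT.mem (nat_lit 16) [nat_lit 12] (SE.lev (nat_lit 3)))
 (KT.alt (dw (nat_lit 0x2e2e051b05172e2e)) (KT.mem (nat_lit 16) [nat_lit 2] (SE.lev (nat_lit 3)))
 (KT.alt (dw (nat_lit 0x112331192c2409262932)) (KT.mem (nat_lit 16) [nat_lit 16] (SE.lev (nat_lit 3)))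
 (KT.alt (dw (nat_lit 0x1f32241d210d09290f2f)) (KT.mem (nat_lit 16) [nat_lit 16] (SE.lev (nat_lit 3)))
 (KT.alt (dw (nat_lit 0x2d052e)) (KT.mem (nat_lit 16) [nat_lit 16] (SE.lev (nat_lit 3)))
 (KT.alt (dw (nat_lit 0x1e2d0d2e1d)) (KT.mem (nat_lit 16) [nat_lit 0] (SE.lev (nat_lit 3)))
 (KT.alt (dw (nat_lit 0x091c0b280d2c25)) (KT.mem (nat_lit 16) [nat_lit 2] (SE.lev (nat_lit 3)))
 (KT.alt (dw (nat_lit 0x2f091c0b280d2c25)) (KT.mem (nat_lit 16) [nat_lit 16] (SE.lev (nat_lit 3)))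
 (KT.alt (dw (nat_lit 0x051b051e051b2e2e)) (KT.mem (nat_lit 16) [nat_lit 2] (SE.lev (nat_lit 3)))
 (KT.alt (dw (nat_lit 0x052c052b0d1b)) (KT.mem (nat_lit 16) [nat_lit 2] (SE.lev (nat_lit 3)))
 (KT.alt (dw (nat_lit 0x2e2e0d2e2e051e)) (KT.mem (nat_lit 16) [nat_lit 16] (SE.lev (nat_lit 3)))
 (KT.alt (dw (nat_lit 0x212b2509262c)) (KT.mem (nat_lit 16) [nat_lit 16] (SE.lev (nat_lit 3)))
 (KT.alt (dw (nat_lit 0x09321c2c0b072b28)) (KT.mem (nat_lit 16) [nat_lit 16] (SE.lev (nat_lit 3)))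
 (KT.alt (dw (nat_lit 0x2e2e0d2e2e051e0d)) (KT.mem (nat_lit 16) [nat_lit 2] (SE.lev (nat_lit 3)))
 (KT.alt (dw (nat_lit 0x0517051e2e2e)) (KT.mem (nat_lit 16) [nat_lit 16] (SE.lev (nat_lit 3)))
 (KT.alt (dw (nat_lit 0x051e2e2e051b2e2e051b)) (KT.mem (nat_lit 16) [nat_lit 4] (SE.lev (nat_lit 3)))
 (KT.alt (dw (nat_lit 0x051b2e2e051b051e)) (KT.mem (nat_lit 16) [nat_lit 2] (SE.lev (nat_lit 3)))
 (KT.alt (dw (nat_lit 0x1f1f1e2d11260f3117)) (KT.mem (nat_lit 16) [nat_lit 16] (SE.lev (nat_lit 3)))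
 (KT.alt (dw (nat_lit 0x072d0521090f2b1c)) (KT.mem (nat_lit 16) [nat_lit 16] (SE.lev (nat_lit 3)))
 (KT.alt (dw (nat_lit 0x051b0d2e2e051e)) (KT.mem (nat_lit 16) [nat_lit 16] (SE.lev (nat_lit 3)))
 (KT.alt (dw (nat_lit 0x240f19052c07322732)) (KT.mem (nat_lit 16) [nat_lit 16] (SE.lev (nat_lit 3)))
 (KT.alt (dw (nat_lit 0x05170d2e2e051e0d)) (KT.mem (nat_lit 16) [nat_lit 2] (SE.lev (nat_lit 3)))
 (KT.alt (dw (nat_lit 0x270528)) (KT.mem (nat_lit 16) [nat_lit 2] (SE.lev (nat_lit 3)))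
 (KT.alt (dw (nat_lit 0x091c27050b2111262c32)) (KT.mem (nat_lit 16) [nat_lit 2] (SE.lev (nat_lit 3)))
 (KT.alt (dw (nat_lit 0x230f20010d2d110f2d)) (KT.mem (nat_lit 16) [nat_lit 16] (SE.lev (nat_lit 3)))
 (KT.alt (dw (nat_lit 0x19171e19250926)) (KT.mem (nat_lit 16) [nat_lit 16] (SE.lev (nat_lit 3)))
 (KT.alt (dw (nat_lit 0x051b0d2e2e051e0d)) (KT.mem (nat_lit 16) [nat_lit 16] (SE.lev (nat_lit 3)))
 (KT.alt (dw (nat_lit 0x0d2e2e0517051e2e2e)) (KT.mem (nat_lit 16) [nat_lit 16] (SE.lev (nat_lit 3)))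
 (KT.alt (dw (nat_lit 0x0f28321f2829072e)) (KT.mem (nat_lit 16) [nat_lit 8] (SE.lev (nat_lit 3)))
 (KT.alt (dw (nat_lit 0x29312405280b2927272e)) (KT.mem (nat_lit 16) [nat_lit 16] (SE.lev (nat_lit 3)))
 t339))))))))))))))))))))))))))))))
noncomputable def t341 : KT := KT.alt (dw (nat_lit 0x053219311e)) (KT.mem (nat_lit 16) [nat_lit 2] (SE.lev (nat_lit 3)))
 (KT.alt (dw (nat_lit 0x051e051b2e2e051b)) (KT.mem (nat_lit 16) [nat_lit 12] (SE.lev (nat_lit 3)))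
 (KT.alt (dw (nat_lit 0x051b2e2e0d2e2e0d)) (KT.mem (nat_lit 16) [nat_lit 8] (SE.lev (nat_lit 3)))
 (KT.alt (dw (nat_lit 0x1124321e2b21232c2d)) (KT.mem (nat_lit 16) [nat_lit 2] (SE.lev (nat_lit 3)))
 (KT.alt (dw (nat_lit 0x05172e2e051b051e)) (KT.mem (nat_lit 16) [nat_lit 16] (SE.lev (nat_lit 3)))
 (KT.alt (dw (nat_lit 0x2c3119270d2b311f)) (KT.mem (nat_lit 16) [nat_lit 2] (SE.lev (nat_lit 3)))
 (KT.alt (dw (nat_lit 0x0b1c231e2b2109320f)) (KT.mem (nat_lit 16) [nat_lit 16] (SE.lev (nat_lit 3)))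
 (KT.alt (dw (nat_lit 0x0d2e2e051e051b)) (KT.mem (nat_lit 16) [nat_lit 2] (SE.lev (nat_lit 3)))
 (KT.alt (dw (nat_lit 0x051b051e2e2e)) (KT.mem (nat_lit 16) [nat_lit 2] (SE.lev (nat_lit 3)))
 (KT.alt (dw (nat_lit 0x212405232b090f2c)) (KT.mem (nat_lit 16) [nat_lit 12] (SE.lev (nat_lit 3)))
 (KT.alt (dw (nat_lit 0x05172d050f2d212d2d)) (KT.mem (nat_lit 16) [nat_lit 16] (SE.lev (nat_lit 3)))
 (KT.alt (dw (nat_lit 0x272605320d262d2d)) (KT.mem (nat_lit 16) [nat_lit 16] (SE.lev (nat_lit 3)))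
 (KT.alt (dw (nat_lit 0x2d1e1f2f21282c20)) (KT.mem (nat_lit 16) [nat_lit 2] (SE.lev (nat_lit 3)))
 (KT.alt (dw (nat_lit 0x0517051e2e2e051e)) (KT.mem (nat_lit 16) [nat_lit 2] (SE.lev (nat_lit 3)))
 (KT.alt (dw (nat_lit 0x2e050925212f2e272d)) (KT.mem (nat_lit 16) [nat_lit 8] (SE.lev (nat_lit 3)))
 (KT.alt (dw (nat_lit 0x1d05210d2d0f2e0d)) (KT.mem (nat_lit 16) [nat_lit 16] (SE.lev (nat_lit 3)))
 (KT.alt (dw (nat_lit 0x1d052b090f2c0d)) (KT.mem (nat_lit 16) [nat_lit 16] (SE.lev (nat_lit 3)))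
 (KT.alt (dw (nat_lit 0x2f1b25200f2409320f)) (KT.mem (nat_lit 16) [nat_lit 2] (SE.lev (nat_lit 3)))
 (KT.alt (dw (nat_lit 0x2e2e051b0d)) (KT.mem (nat_lit 16) [nat_lit 2] (SE.lev (nat_lit 3)))
 (KT.alt (dw (nat_lit 0x1d1b28052725072731)) (KT.mem (nat_lit 16) [nat_lit 6] (SE.lev (nat_lit 3)))
 (KT.alt (dw (nat_lit 0x2e2e0517051e)) (KT.mem (nat_lit 16) [nat_lit 2] (SE.lev (nat_lit 3)))
 (KT.alt (dw (nat_lit 0x07091d050d07)) (KT.mem (nat_lit 16) [nat_lit 8] (SE.lev (nat_lit 3)))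
 (KT.alt (dw (nat_lit 0x07282120232c09262b)) (KT.mem (nat_lit 16) [nat_lit 8] (SE.lev (nat_lit 3)))
 (KT.alt (dw (nat_lit 0x1d052d052e0d)) (KT.mem (nat_lit 16) [nat_lit 16] (SE.lev (nat_lit 3)))
 (KT.alt (dw (nat_lit 0x05321f0b3224072c0f2f)) (KT.mem (nat_lit 16) [nat_lit 8] (SE.lev (nat_lit 3)))
 (KT.alt (dw (nat_lit 0x2e050f2d212d2d)) (KT.mem (nat_lit 16) [nat_lit 16] (SE.lev (nat_lit 3)))
 (KT.alt (dw (nat_lit 0x1d172405230d2b090f2c)) (KT.mem (nat_lit 16) [nat_lit 16] (SE.lev (nat_lit 3)))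
 (KT.alt (dw (nat_lit 0x250b1905092629)) (KT.mem (nat_lit 16) [nat_lit 12] (SE.lev (nat_lit 3)))
 (KT.alt (dw (nat_lit 0x1d2f1e)) (KT.mem (nat_lit 16) [nat_lit 16] (SE.lev (nat_lit 3)))
 (KT.alt (dw (nat_lit 0x2e2e0d2e2e051e051b)) (KT.mem (nat_lit 16) [nat_lit 16] (SE.lev (nat_lit 3)))
 (KT.alt (dw (nat_lit 0x251c1d19280d2b262f)) (KT.mem (nat_lit 16) [nat_lit 2] (SE.lev (nat_lit 3)))
 t340))))))))))))))))))))))))))))))
theorem k342 : ktChk (nat_lit 3510) H15.Fi22P.nets F c245 b249 [] p248 y250 [] [nat_lit 7, nat_lit 0] (nat_lit 2) (nat_lit 16) (nat_lit 0x10000000000010000) 0 t341 = true := by decide +kernel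
theorem l343 (M : PM G Ω 3510 H15.Fi22P.nets) (hN : Nat.card G = 64561751654400) : Cl M (fun g => Pr M g p248) [] [nat_lit 7, nat_lit 0] (nat_lit 16) (nat_lit 0x10000000000010000) :=
  cl_tree (e247 M hN) (x252 M hN) (dd0 _ _ _ _) k342
noncomputable def t344 : KT := KT.liv (nat_lit 16) [nat_lit 12]
theorem k345 : ktChk (nat_lit 3510) H15.Fi22P.nets F c245 b249 [] p248 y250 [] [nat_lit 16, nat_lit 7, nat_lit 0] (nat_lit 3) (nat_lit 37) (bit (nat_lit 37)) 0 t344 = true := by decide +kernel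
theorem l346 (M : PM G Ω 3510 H15.Fi22P.nets) (hN : Nat.card G = 64561751654400) : Cl M (fun g => Pr M g p248) [] [nat_lit 16, nat_lit 7, nat_lit 0] (nat_lit 37) (bit (nat_lit 37)) :=
  cl_tree (e247 M hN) (x252 M hN) (dd0 _ _ _ _) k345
noncomputable def t347 : KT := KT.liv (nat_lit 37) [nat_lit 2]
theorem k348 : ktChk (nat_lit 3510) H15.Fi22P.nets F c245 b249 [] p248 y250 [] [nat_lit 37, nat_lit 16, nat_lit 7, nat_lit 0] (nat_lit 4) (nat_lit 555) (bit (nat_lit 555)) 0 t347 = true := by decide +kernel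
theorem l349 (M : PM G Ω 3510 H15.Fi22P.nets) (hN : Nat.card G = 64561751654400) : Cl M (fun g => Pr M g p248) [] [nat_lit 37, nat_lit 16, nat_lit 7, nat_lit 0] (nat_lit 555) (bit (nat_lit 555)) :=
  cl_tree (e247 M hN) (x252 M hN) (dd0 _ _ _ _) k348
noncomputable def t350 : KT := KT.liv (nat_lit 16) [nat_lit 0]
theorem k351 : ktChk (nat_lit 3510) H15.Fi22P.nets F c245 b249 [] p248 y250 [] [nat_lit 555, nat_lit 37, nat_lit 16, nat_lit 7, nat_lit 0] (nat_lit 5) (nat_lit 1121) (bit (nat_lit 1121)) 0 t350 = true := by decide +kernel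
theorem l352 (M : PM G Ω 3510 H15.Fi22P.nets) (hN : Nat.card G = 64561751654400) : Cl M (fun g => Pr M g p248) [] [nat_lit 555, nat_lit 37, nat_lit 16, nat_lit 7, nat_lit 0] (nat_lit 1121) (bit (nat_lit 1121)) :=
  cl_tree (e247 M hN) (x252 M hN) (dd0 _ _ _ _) k351
noncomputable def t353 : KT := KT.nil (SE.lev (nat_lit 6)) [] [] []
theorem k354 : ktChk (nat_lit 3510) H15.Fi22P.nets F c245 b249 [] p248 y250 [] [nat_lit 1121, nat_lit 555, nat_lit 37, nat_lit 16, nat_lit 7, nat_lit 0] (nat_lit 6) (nat_lit 1039) s241 0 t353 = true := by decide +kernel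
theorem l355 (M : PM G Ω 3510 H15.Fi22P.nets) (hN : Nat.card G = 64561751654400) : Cl M (fun g => Pr M g p248) [] [nat_lit 1121, nat_lit 555, nat_lit 37, nat_lit 16, nat_lit 7, nat_lit 0] (nat_lit 1039) s241 :=
  cl_tree (e247 M hN) (x252 M hN) (dd0 _ _ _ _) k354
noncomputable def c356 : Chn := [((nat_lit 0), (bit (nat_lit 0))), ((nat_lit 7), (bit (nat_lit 7))), ((nat_lit 16), (nat_lit 0x10000000000010000)), ((nat_lit 37), (bit (nat_lit 37))), ((nat_lit 555), (bit (nat_lit 555))), ((nat_lit 1121), (bit (nat_lit 1121))), ((nat_lit 1039), s241)]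
theorem e357 (M : PM G Ω 3510 H15.Fi22P.nets) (hN : Nat.card G = 64561751654400) : SC M (cenP M p248 rfl) [] c356 :=
  ⟨Cl.lev (l317 M hN), ⟨Cl.lev (l333 M hN), ⟨Cl.lev (l343 M hN), ⟨Cl.lev (l346 M hN), ⟨Cl.lev (l349 M hN), ⟨Cl.lev (l352 M hN), ⟨Cl.lev (l355 M hN), (EC.sc_end (e247 M hN) (by decide +kernel))⟩⟩⟩⟩⟩⟩⟩
theorem cen (M : PM G Ω 3510 H15.Fi22P.nets) (hN : Nat.card G = 64561751654400) : Nat.card (Subgroup.centralizer (sub M.gen qs : Set G)) ≤ 4 :=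
  (cenP_eq (M := M) (ps := p248) rfl ▸ SC.card_le' (e357 M hN) (by decide +kernel) : Nat.card (Subgroup.centralizer (sub M.gen (fsts p248) : Set G)) ≤ _)
noncomputable def v358 : List Word := [dw (nat_lit 0x0b1113), dw (nat_lit 0x0b11)]
theorem k359 : relK F bs0 (memRels qs vs v358) = true := by decide +kernel
theorem vq (M : PM G Ω 3510 H15.Fi22P.nets) (hN : Nat.card G = 64561751654400) : sub M.gen vs ≤ sub M.gen qs :=
  (sub_le_of_memRels (rels_base (base0 M hN) k359))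
theorem k360 : relK F bs0 (commR qs vs) = true := by decide +kernel
theorem vc (M : PM G Ω 3510 H15.Fi22P.nets) (hN : Nat.card G = 64561751654400) : sub M.gen vs ≤ (Subgroup.centralizer (sub M.gen qs : Set G)) :=
  (le_cent_of (rels_base (base0 M hN) k360))
noncomputable def v361 : List Word := [dw (nat_lit 0x010805020809050c0c0a0d09), dw (nat_lit 0x07050b0b0d090f0d), dw (nat_lit 0x010805020507090c0f0b0f), dw (nat_lit 0x030501010c050c090b0f), dw (nat_lit 0x050c0c090b090d), dw (nat_lit 0x030209010d0a070b0a0d09090f), dw (nat_lit 0x080f0a050c090b09), dw (nat_lit 0x010805020c0a07050b090b0b0f0d)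
, dw (nat_lit 0x03020901080c05090b0d0c0a0f0d), dw (nat_lit 0x070905070c0f0b0d)]
theorem k362 : relK F bs0 (memRels js qs v361) = true := by decide +kernel
theorem qj (M : PM G Ω 3510 H15.Fi22P.nets) (hN : Nat.card G = 64561751654400) : sub M.gen qs ≤ sub M.gen js :=
  (sub_le_of_memRels (rels_base (base0 M hN) k362))
noncomputable def w363 : Word := [nat_lit 14, nat_lit 32, nat_lit 8, nat_lit 29, nat_lit 35, nat_lit 40, nat_lit 39, nat_lit 27]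
noncomputable def w364 : Word := [nat_lit 8, nat_lit 35, nat_lit 46, nat_lit 27, nat_lit 10, nat_lit 39, nat_lit 48, nat_lit 34]
noncomputable def w365 : Word := [nat_lit 37, nat_lit 45, nat_lit 12, nat_lit 37, nat_lit 4, nat_lit 29, nat_lit 12, nat_lit 44]
noncomputable def w366 : Word := [nat_lit 44, nat_lit 14, nat_lit 45, nat_lit 0, nat_lit 19, nat_lit 16, nat_lit 18]
noncomputable def w367 : Word := [nat_lit 40, nat_lit 39, nat_lit 16, nat_lit 39, nat_lit 4, nat_lit 38, nat_lit 38, nat_lit 40, nat_lit 0]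
noncomputable def w368 : Word := [nat_lit 37, nat_lit 10, nat_lit 36, nat_lit 35, nat_lit 27, nat_lit 31, nat_lit 40, nat_lit 6]
noncomputable def w369 : Word := [nat_lit 14, nat_lit 49, nat_lit 34, nat_lit 40, nat_lit 4, nat_lit 42, nat_lit 40, nat_lit 31]
noncomputable def w370 : Word := [nat_lit 6, nat_lit 12, nat_lit 37, nat_lit 30, nat_lit 32, nat_lit 16, nat_lit 6, nat_lit 32]
noncomputable def w371 : Word := [nat_lit 16, nat_lit 46, nat_lit 37, nat_lit 32, nat_lit 4, nat_lit 34, nat_lit 22, nat_lit 37]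
noncomputable def w372 : Word := [nat_lit 6, nat_lit 0, nat_lit 27, nat_lit 46, nat_lit 26, nat_lit 6]
noncomputable def uys : List Word := [w363, w364, w365, w366, w367, w368, w369, w370, w371, w372]
noncomputable def v373 : List Word := [dw (nat_lit 0x070c050a0c090b090d), dw (nat_lit 0x0209010a0b09050f0a0c0a0d), dw (nat_lit 0x0c0c07050f0a0a0b), dw (nat_lit 0x0d0503070b08050c0a0a0b0a0f0d), dw (nat_lit 0x0103020f09050d0c09090d), dw (nat_lit 0x07040b0508090c0f0b), dw (nat_lit 0x050901070f0b050c0c0a0f0d), dw (nat_lit 0x040801010909050f0c0c090f0d)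
, dw (nat_lit 0x0a070109050d09090f0d), dw (nat_lit 0x04070107090507)]
theorem k374 : relK F bs0 (memRels js uys v373) = true := by decide +kernel
theorem uhy (M : PM G Ω 3510 H15.Fi22P.nets) (hN : Nat.card G = 64561751654400) : (sub M.gen uys) ≤ (sub M.gen js) :=
  (sub_le_of_memRels (rels_base (base0 M hN) k374))
noncomputable def v375 : List Word := [[], [], dw (nat_lit 0x0b1113), [], [], [], [], []
, [], [], dw (nat_lit 0x0b1113), [], [], [], [], []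
, [], [], [], dw (nat_lit 0x0b1113), [], [], dw (nat_lit 0x0b1113), []
, dw (nat_lit 0x0b1113), [], [], [], [], [], [], []
, [], [], [], [], [], [], [], []
, [], [], [], [], [], [], [], []
, [], [], [], [], [], [], dw (nat_lit 0x0b1113), []
, []]
theorem k376 : relK F bs0 (qR uys qs H15.StdU42.rels v375) = true := by decide +kernel
noncomputable def v377 : Prs := [(dw (nat_lit 0x050d11050e), dw (nat_lit 0x030b0f13)),
 (dw (nat_lit 0x0b0f030d13), dw (nat_lit 0x0305070d13)),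
 (dw (nat_lit 0x010b010c), dw (nat_lit 0x01030b0f11)),
 (dw (nat_lit 0x010e070b0b), dw (nat_lit 0x07090b0f)),
 (dw (nat_lit 0x0912050e13), dw (nat_lit 0x03090b0d1113)),
 (dw (nat_lit 0x0c01050e), dw (nat_lit 0x090b1113)),
 (dw (nat_lit 0x0b03010c), dw (nat_lit 0x0103050913)),
 (dw (nat_lit 0x0b010c), dw (nat_lit 0x01030509))]
theorem k378 : relK F bs0 (sR uys qs H15.StdU42.ws0 js v377) = true := by decide +kernel
theorem uqs_ (M : PM G Ω 3510 H15.Fi22P.nets) (hN : Nat.card G = 64561751654400) : ∀ {X : Type*} [Group X], PresF G X H15.StdU42.rels H15.StdU42.ws0 → QS X (sub M.gen js) (sub M.gen qs) :=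
  fun hP _ => quot_surj hP (qj M hN) (uhy M hN) le_rfl le_rfl (rels_base (base0 M hN) k376) (rels_base (base0 M hN) k378) (by decide +kernel)
noncomputable def v379 : List (List Word) := [[[], [], [], dw (nat_lit 0x0301), [], dw (nat_lit 0x0301), dw (nat_lit 0x0301), dw (nat_lit 0x0301)
, dw (nat_lit 0x0301), []],
 [[], [], [], [], [], [], [], dw (nat_lit 0x0301)
, [], []],
 [[], [], [], [], [], [], dw (nat_lit 0x0301), []
, [], []],
 [dw (nat_lit 0x0301), [], [], [], dw (nat_lit 0x0301), [], [], []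
, [], []],
 [[], [], [], dw (nat_lit 0x0301), [], [], [], []
, [], []],
 [dw (nat_lit 0x0301), [], [], [], [], [], [], []
, [], []],
 [dw (nat_lit 0x0301), [], dw (nat_lit 0x0301), [], [], [], [], []
, [], []],
 [dw (nat_lit 0x0301), dw (nat_lit 0x0301), [], [], [], [], [], []
, [], []],
 [dw (nat_lit 0x0301), [], [], [], [], [], [], []
, [], []],
 [[], [], [], [], [], [], [], []
, [], []]]
theorem k380 : relK F bs0 (cmR qs qs vs v379) = true := by decide +kernel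
theorem cq (M : PM G Ω 3510 H15.Fi22P.nets) (hN : Nat.card G = 64561751654400) : ⁅sub M.gen qs, sub M.gen qs⁆ ≤ sub M.gen vs :=
  (comm_le_of le_rfl ((qj M hN).trans ((eqKL M hN).trans (Subgroup.centralizer_le_normalizer _))) ((qj M hN).trans ((eqKL M hN).trans (Subgroup.centralizer_le_normalizer _))) (rels_base (base0 M hN) k380) (by decide +kernel))
noncomputable def v381 : List Word := [[], [], [], [], [], [], [], []
, [], []]
theorem k382 : relK F bs0 (pwR qs vs 2 v381) = true := by decide +kernel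
theorem sq (M : PM G Ω 3510 H15.Fi22P.nets) (hN : Nat.card G = 64561751654400) : ∀ x ∈ sub M.gen qs, x ^ 2 ∈ sub M.gen vs :=
  pow_mem_all ((qj M hN).trans ((eqKL M hN).trans (Subgroup.centralizer_le_normalizer _))) (cq M hN) (pow_mem_of (rels_base (base0 M hN) k382) (by decide +kernel))
noncomputable def w383 : Word := [nat_lit 38, nat_lit 6, nat_lit 45, nat_lit 38, nat_lit 35]
noncomputable def w384 : Word := [nat_lit 46, nat_lit 48, nat_lit 42, nat_lit 6, nat_lit 43, nat_lit 48]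
noncomputable def es : List Word := [w383, w384, w170, w171, w172, w174, w175, w176, I22.u2]
noncomputable def ews : List Word := List.append es []
theorem k385 : nrmRow F bs0 ews (nat_lit 9) (nat_lit 0) (nat_lit 1) [[nat_lit 2],
 [nat_lit 16, nat_lit 4],
 [nat_lit 6],
 [nat_lit 8],
 [nat_lit 10],
 [nat_lit 12],
 [nat_lit 16, nat_lit 14],
 [nat_lit 16]] (nat_lit 1023) = true := by decide +kernel
theorem k386 : nrmRow F bs0 ews (nat_lit 9) (nat_lit 1) (nat_lit 2) [[nat_lit 16, nat_lit 4],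
 [nat_lit 6],
 [nat_lit 8],
 [nat_lit 10],
 [nat_lit 16, nat_lit 12],
 [nat_lit 14],
 [nat_lit 16]] (nat_lit 1023) = true := by decide +kernel
theorem k387 : nrmRow F bs0 ews (nat_lit 9) (nat_lit 2) (nat_lit 3) [[nat_lit 6],
 [nat_lit 8],
 [nat_lit 16, nat_lit 10],
 [nat_lit 12],
 [nat_lit 14],
 [nat_lit 16]] (nat_lit 1023) = true := by decide +kernel
theorem k388 : nrmRow F bs0 ews (nat_lit 9) (nat_lit 3) (nat_lit 4) [[nat_lit 16, nat_lit 8],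
 [nat_lit 10],
 [nat_lit 12],
 [nat_lit 14],
 [nat_lit 16]] (nat_lit 1023) = true := by decide +kernel
theorem k389 : nrmRow F bs0 ews (nat_lit 9) (nat_lit 4) (nat_lit 5) [[nat_lit 10],
 [nat_lit 12],
 [nat_lit 14],
 [nat_lit 16]] (nat_lit 1023) = true := by decide +kernel
theorem k390 : nrmRow F bs0 ews (nat_lit 9) (nat_lit 5) (nat_lit 6) [[nat_lit 12],
 [nat_lit 14],
 [nat_lit 16]] (nat_lit 1023) = true := by decide +kernel
theorem k391 : nrmRow F bs0 ews (nat_lit 9) (nat_lit 6) (nat_lit 7) [[nat_lit 14],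
 [nat_lit 16]] (nat_lit 1023) = true := by decide +kernel
theorem k392 : nrmRow F bs0 ews (nat_lit 9) (nat_lit 7) (nat_lit 8) [[nat_lit 16]] (nat_lit 1023) = true := by decide +kernel
theorem k393 : nrmRow F bs0 ews (nat_lit 9) (nat_lit 8) (nat_lit 9) [] (nat_lit 1023) = true := by decide +kernel
noncomputable def enm : List Nat := [nat_lit 1023, nat_lit 1023, nat_lit 1023, nat_lit 1023, nat_lit 1023, nat_lit 1023, nat_lit 1023, nat_lit 1023, nat_lit 1023]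
theorem ehn (M : PM G Ω 3510 H15.Fi22P.nets) (hN : Nat.card G = 64561751654400) : NrmL (loc M.gen ews) 9 0 enm :=
  (nrm_cons (base0 M hN) k385 (nrm_cons (base0 M hN) k386 (nrm_cons (base0 M hN) k387 (nrm_cons (base0 M hN) k388 (nrm_cons (base0 M hN) k389 (nrm_cons (base0 M hN) k390 (nrm_cons (base0 M hN) k391 (nrm_cons (base0 M hN) k392 (nrm_cons (base0 M hN) k393 trivial)))))))))
noncomputable def s394 : Nat := (nat_lit 0x20802100000000000000000000000000000000000000300200202080842000000000000000000000000000000000000100000040000020000a000800420001020000000000000000000000000000000000000000000000000000040000000010800204110800210000000000000000000000000000000000000000000000000000000004000000010100020a000a0000000000000000000000000000000000000000000000000000000000000000140004000000000400200000000000000000001000000000000000000000000000000000000000000000800001000000000000000000000000000000008000000000000000000000000000000000000000000120000000000000000000000000000000000000000000000000000000120000000000000000000000000000000000000000000000000010000001000000000000000000000000000000000000000000000000000200000000004000000000000000000000000000000000000000000000000000000000000000000000200000000000000000000000000000000000000000000000000040000000000000004062)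
noncomputable def s395 : Nat := (nat_lit 0x4000000000000000000000000000000000000000000000000000000000000000000000000000000000000020000000000000000000000000000000000000000000000000000000000000000000000000000000000000000000000000000000000000000000000000000000000000000000000000000000000000000000000000000000000000000000000000000000000000000000000000000000000000000000000000000000000000000000000000000000000000000000000000000000800000000000000000000000000000000000000000000000000000000000000000000000000000800000)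
noncomputable def s396 : Nat := (nat_lit 0x80000000000000000000000000000000000000000000000000000000000000000000000000000000000000000000000000000000000000000000000000000000000000000000000000000000000000000000000000000000000000000000000000000000000000000000000000000000000000000000000000000000000000000000000000000000000000000000000000000000000000000000000000000000000000000000000000000000000000000000000000000000000000000000000000000000000000800)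
noncomputable def c397 : Chn := [((nat_lit 1), s394), ((nat_lit 23), s395), ((nat_lit 11), s396)]
noncomputable def d398 : List OD := [⟨[nat_lit 7, nat_lit 5, nat_lit 2, nat_lit 3, nat_lit 6], [], (dn (nat_lit 20) (nat_lit 0x33fc52c84530bc509845315453154433c051e0850018500184281c50cc050cc04191c527545275442754314005315053150416bc527c8527c8427c8313f4522645226442264322ac52c9852c9842c9822d0452db852db842db832e20527b0527b0427b02274051d6851d6841d6820138501384013832c2452300523004230022830528304283031e5051e5041e5031e5020004500044000430004200041))⟩,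
 ⟨[nat_lit 1, nat_lit 4], [], (dn (nat_lit 20) (nat_lit 0x1d182005c2005c1))⟩,
 ⟨[nat_lit 0], [], (dn (nat_lit 20) (nat_lit 0x002c1))⟩]
theorem k399 : ocChk (nat_lit 3510) H15.Fi22P.nets F es c397 d398 [] = true := by decide +kernel
theorem o400 (M : PM G Ω 3510 H15.Fi22P.nets) (hN : Nat.card G = 64561751654400) : OC M (Nn (loc M.gen ews) 9 0) [] c397 :=
  oc_of (sub_le_Nn M.gen es [] (m := 9) rfl) k399
theorem k401 : powChk F bs0 ews (nat_lit 2) (nat_lit 9) enm [[],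
 [],
 [],
 [],
 [],
 [],
 [],
 [],
 []] = true := by decide +kernel
theorem epc (M : PM G Ω 3510 H15.Fi22P.nets) (hN : Nat.card G = 64561751654400) : Pc (loc M.gen ews) 2 9 ∧ ∀ i ≤ 9, Nat.card (Nn (loc M.gen ews) 9 i) = 2 ^ (9 - i) :=
  pc_of (base0 M hN) (by norm_num) (ehn M hN) k401 (OC.le_card' (o400 M hN) (by decide +kernel))
theorem ec (M : PM G Ω 3510 H15.Fi22P.nets) (hN : Nat.card G = 64561751654400) : Nat.card (sub M.gen es) = 2 ^ 9 :=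
  Nn_eq_sub M.gen es [] (m := 9) rfl 0 ▸ (epc M hN).2 0 (by decide)
noncomputable def v402 : List Word := [dw (nat_lit 0x010305090d), dw (nat_lit 0x030d), dw (nat_lit 0x05), dw (nat_lit 0x07), dw (nat_lit 0x09), dw (nat_lit 0x0d), dw (nat_lit 0x0f), dw (nat_lit 0x11)
, dw (nat_lit 0x13)]
theorem k403 : relK F bs0 (memRels qs es v402) = true := by decide +kernel
theorem eq (M : PM G Ω 3510 H15.Fi22P.nets) (hN : Nat.card G = 64561751654400) : sub M.gen es ≤ sub M.gen qs :=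
  (sub_le_of_memRels (rels_base (base0 M hN) k403))
noncomputable def v404 : List Word := [dw (nat_lit 0x01030509), dw (nat_lit 0x030b), dw (nat_lit 0x05), dw (nat_lit 0x07), dw (nat_lit 0x09), dw (nat_lit 0x130f11), dw (nat_lit 0x0b), dw (nat_lit 0x0d)
, dw (nat_lit 0x0f), dw (nat_lit 0x11)]
theorem k405 : relK F bs0 (memRels (List.append es [tw a0 I22.t1]) qs v404) = true := by decide +kernel
theorem qe (M : PM G Ω 3510 H15.Fi22P.nets) (hN : Nat.card G = 64561751654400) : sub M.gen qs ≤ (sub M.gen (List.append es [tw a0 I22.t1])) :=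
  (sub_le_of_memRels (rels_base (base0 M hN) k405))
noncomputable def v406 : List Word := [dw (nat_lit 0x11)]
theorem k407 : relK F bs0 (memRels es [I22.u2] v406) = true := by decide +kernel
theorem ue (M : PM G Ω 3510 H15.Fi22P.nets) (hN : Nat.card G = 64561751654400) : (sub M.gen [I22.u2]) ≤ sub M.gen es :=
  (sub_le_of_memRels (rels_base (base0 M hN) k407))
noncomputable def v408 : List Word := [dw (nat_lit 0x0301)]
theorem k409 : relK F bs0 (memRels vs [I22.u2] v408) = true := by decide +kernel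
theorem uv (M : PM G Ω 3510 H15.Fi22P.nets) (hN : Nat.card G = 64561751654400) : (sub M.gen [I22.u2]) ≤ sub M.gen vs :=
  (sub_le_of_memRels (rels_base (base0 M hN) k409))
noncomputable def v410 : List (List Word) := [[[], [], dw (nat_lit 0x01), [], [], [], [], dw (nat_lit 0x01)
, []],
 [[], [], dw (nat_lit 0x01), [], [], [], dw (nat_lit 0x01), []
, []],
 [dw (nat_lit 0x01), dw (nat_lit 0x01), [], [], [], dw (nat_lit 0x01), [], []
, []],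
 [[], [], [], [], dw (nat_lit 0x01), [], [], []
, []],
 [[], [], [], dw (nat_lit 0x01), [], [], [], []
, []],
 [[], [], dw (nat_lit 0x01), [], [], [], [], []
, []],
 [[], dw (nat_lit 0x01), [], [], [], [], [], []
, []],
 [dw (nat_lit 0x01), [], [], [], [], [], [], []
, []],
 [[], [], [], [], [], [], [], []
, []]]
theorem k411 : relK F bs0 (cmR es es [I22.u2] v410) = true := by decide +kernel
theorem ce (M : PM G Ω 3510 H15.Fi22P.nets) (hN : Nat.card G = 64561751654400) : ⁅sub M.gen es, sub M.gen es⁆ ≤ (sub M.gen [I22.u2]) :=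
  (comm_le_of le_rfl ((eq M hN).trans ((qle M hN).trans ((eqCL M hN).trans (Subgroup.centralizer_le_normalizer _)))) ((eq M hN).trans ((qle M hN).trans ((eqCL M hN).trans (Subgroup.centralizer_le_normalizer _)))) (rels_base (base0 M hN) k411) (by decide +kernel))

end L.Z22b
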