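import Cfsg.Agent.L.KE
import Cfsg.Agent.L.I22
import Cfsg.Agent.L.K22

/-! Generated certificate (toolsL/cg.hpp). -/
set_option autoImplicit false
set_option maxRecDepth 200000
set_option Elab.async false
set_option linter.unusedVariables false
set_option linter.unusedSectionVars false

namespace L.Z22c
open H14 L.K22T L.K22
variable {G Ω : Type*} [Group G] [Finite G] [MulAction G Ω]

noncomputable def s0 : Nat := (nat_lit 0x2400000000000000000000000000000000000000000000000020000000000000000000000000000000000000000000000000000000000000c2001001000040000142000000000000000000000000000000000000000000000000000000000000000000000020000140000000000000000000000000000000000000000000000000800000002000000400100800500000400080000000000000000000080000000000000000000000000000000000000001000000001500880464200000000800000000000000000000000000000000000000800000000000a08010000080c000201208c28400000000000000000000000000000000000000000400000004510060000060000080821000000000000000000000002000000200000000110402011000004228d44400080000000000000000000000000008804154000000a000000210800dc0000000000000000000000000300005c00500028004000004138c000022603002900000000000000000080000010000301800080006437080040008e8100008b48082000000000000100000040a0400004054a000c0012000004800a00)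
noncomputable def w1 : Word := [nat_lit 12]
noncomputable def w2 : Word := [nat_lit 22, nat_lit 4]
noncomputable def w3 : Word := [nat_lit 26, nat_lit 4]
noncomputable def w4 : Word := [nat_lit 29, nat_lit 4]
noncomputable def w5 : Word := [nat_lit 45, nat_lit 45]
theorem k6 : orbChk (nat_lit 3510) H15.Fi22P.nets F [nat_lit 7, nat_lit 0] (sel [w1, w2, w3, w4, w5] [nat_lit 0, nat_lit 1, nat_lit 2, nat_lit 3, nat_lit 4]) [dw (nat_lit 0x03), dw (nat_lit 0x05), dw (nat_lit 0x09), dw (nat_lit 0x07), dw (nat_lit 0x01), dw (nat_lit 0x09), dw (nat_lit 0x01), dw (nat_lit 0x05)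
] (dn (nat_lit 20) (nat_lit 0x136c32bf4519ec309705182431320522802058031030317f4513c830c8c422bc504285014c414f8414f8314f8110a0322e051d803087040d0031e10304244092c4240c50d4c5146031078408983089820d1050d1030f58408745087440f8c50f8c310203192431924217c8509343010850ba8401684085c427283190c4190c3190c20f6840f68304d450bbc40bbc307f4307f412c0852c08300d0200d01231842318323182133450a0431d702065c2065c1086c5086c3086c20fc820fc810f8030f8010bec50bec307c030d0851ce431d3c51d3c2041c3041c20fa43036c52d2850160501d8501d8411a4517cc5078050780402185053c5053c4134c5035440068503a45209c5209c20c845228820d5c50d5c20fb441134511344057c509ac509b0509b040f8850f8841d1850c0040f9c405a440f7840bb820794234242)) (bit (nat_lit 98)) s0 = true := by decide +kernel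
theorem o7 (M : PM G Ω 3510 H15.Fi22P.nets) (hN : Nat.card G = 64561751654400) : Orb M ⊤ [nat_lit 7, nat_lit 0] (nat_lit 98) s0 :=
  (Orb.ext le_top (orb_bit ⊤ [nat_lit 7, nat_lit 0] (b := (nat_lit 98)) rfl) k6)
noncomputable def s8 : Nat := (nat_lit 0x1f7e7b7fffdbfe7f14e043b9dc93e22effcf7db3e07d01214030ab49373ce75e1d20ee7e9ba3e0a73821efde02781c9cc67c0302b002abb5ffda9dc77f1dfa397ffdf5ffda965fdf701f75a7c7b1c05e018fb131fec1a184ddb1cf8ffe41d7bef9361f0f5d7e4c8ffdfffff55bdffec30139babde5206090c120e4505ca1a80220b319fa6bbebb5b76da2e50ba9c49af7b79fde72f2ad2affac8697f802c080a50041804a04022c1efc9a9897bad1fd93cff11e4da7eede7f303ffe642283e57a3ee0ae500120095d29a1401300c00014b1fcae93181a10508ae7f9bff2dcfcf3d9f21f0eff83a30ff7e35fc861020048024a5709030204020008bf6582ed034200109a2aab1fff364e8e0fdfffffb1eaf504a1004009444e0810c000000165050641185b2a754c7eab8ad9fff475356000000040388c1820180000029b4208d32f49a998fd2c665ef82dcdc00202080002420760c0004000001e7b9060723248cc6347136dfb079f6002500010110002042180026d04000000000ace2005a4424c492955dcff705fe100c20000082120000a011a600284b60000000193a0a808990b4cbd4f5040000a6200801158023004d1958088008)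
noncomputable def w9 : Word := [nat_lit 46]
noncomputable def w10 : Word := [nat_lit 6, nat_lit 14, nat_lit 6]
noncomputable def w11 : Word := [nat_lit 8, nat_lit 28, nat_lit 8, nat_lit 4]
noncomputable def w12 : Word := [nat_lit 14, nat_lit 24, nat_lit 14, nat_lit 4]
theorem k13 : orbChk (nat_lit 3510) H15.Fi22P.nets F [nat_lit 98, nat_lit 7, nat_lit 0] (sel [w1, w9, w4, w10, w11, w12] [nat_lit 0, nat_lit 1, nat_lit 2, nat_lit 3, nat_lit 4, nat_lit 5]) [dw (nat_lit 0x03), dw (nat_lit 0x01), dw (nat_lit 0x05), dw (nat_lit 0x03), dw (nat_lit 0x01), dw (nat_lit 0x07), dw (nat_lit 0x09), dw (nat_lit 0x03)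
, dw (nat_lit 0x01), dw (nat_lit 0x0b), dw (nat_lit 0x01), dw (nat_lit 0x05), dw (nat_lit 0x03), dw (nat_lit 0x07), dw (nat_lit 0x03), dw (nat_lit 0x01)
, dw (nat_lit 0x09), dw (nat_lit 0x03), dw (nat_lit 0x05)] (dn (nat_lit 20) (nat_lit 0x2fc0620f0611d46032462ad8632d0620bc62fc86275862cac6)) (bit (nat_lit 3)) s8 = true := by decide +kernel
theorem o14 (M : PM G Ω 3510 H15.Fi22P.nets) (hN : Nat.card G = 64561751654400) : Orb M ⊤ [nat_lit 98, nat_lit 7, nat_lit 0] (nat_lit 3) s8 :=
  (Orb.ext le_top (orb_bit ⊤ [nat_lit 98, nat_lit 7, nat_lit 0] (b := (nat_lit 3)) rfl) k13)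
noncomputable def s15 : Nat := (nat_lit 0x8000040000400000000120000000000000000000000b0100000000000002030000000000000400100000000000200184300840000000010000002200c600000000004100000000024000000000000042400102000922000000000000000080000000001300000000000000010000000000000000000001008020000000c200000000000000000040800000200000000010000000000000000000000004000200020000000000000000000000004000000200000000000000000000000000000000000000000000000400200000000000000000000080000000000000000000000000000000000000000000000000000000200000000000000000000040040004000004000408010000000000000000000000000000011000000000010004808000000800200100000000008000000000000000104000000000000004000000200010000008004000000000000000000001000000000000100280000000000800004000000000000000000000000000000000000000000000000000000000000000000000000000000000000000000000000000000000000000000000000000000000000000000000000000000000000000000000)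
noncomputable def w16 : Word := [nat_lit 4, nat_lit 6, nat_lit 40, nat_lit 49, nat_lit 28, nat_lit 10, nat_lit 49]
theorem k17 : orbChk (nat_lit 3510) H15.Fi22P.nets F [nat_lit 3, nat_lit 98, nat_lit 7, nat_lit 0] (sel [w1, w10, w16] [nat_lit 0, nat_lit 1, nat_lit 2]) [dw (nat_lit 0x01), dw (nat_lit 0x03)] (dn (nat_lit 20) (nat_lit 0x26c4326dc326d832bd4315a030b64315e830b90332a430dec32264312c83275432a00330883111c336283130032f34330d43290032e20333c0332c4331c83257c32d7832efc327a032c40320d83304c32ee432ee4222a4322a4222a411d3431d3421d34116883206432c2432c8432c84235343353423534135403354023540130a03309c3309c2309c132a032fa032fa022bc432bc422bc410ff8316c8316c8230383303823038112bc30e9430e94230743307423074133c432bec32bec22ee832ee822ee811854318542185410b5c30b5c20b5c1277c3277c2277c115cc311c030db830a583)) (bit (nat_lit 662)) s15 = true := by decide +kernel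
theorem o18 (M : PM G Ω 3510 H15.Fi22P.nets) (hN : Nat.card G = 64561751654400) : Orb M ⊤ [nat_lit 3, nat_lit 98, nat_lit 7, nat_lit 0] (nat_lit 662) s15 :=
  (Orb.ext le_top (orb_bit ⊤ [nat_lit 3, nat_lit 98, nat_lit 7, nat_lit 0] (b := (nat_lit 662)) rfl) k17)
noncomputable def c19 : Chn := [((nat_lit 0), (full (nat_lit 3510))), ((nat_lit 7), L.K22.s32), ((nat_lit 98), s0), ((nat_lit 3), s8), ((nat_lit 662), s15)]
theorem k20 : Nat.ble 64561751654400 (cval (nat_lit 3510) c19) = true := by decide +kernel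
theorem e21 (M : PM G Ω 3510 H15.Fi22P.nets) (hN : Nat.card G = 64561751654400) : EC M ⊤ [] c19 :=
  ec_top (c := c19) ⟨(L.K22.o9 M hN), ⟨(L.K22.o42 M hN), ⟨(o7 M hN), ⟨(o14 M hN), ⟨(o18 M hN), trivial⟩⟩⟩⟩⟩ hN k20
noncomputable def p22 : Prs := [(I22.u3, I22.u3)]
noncomputable def s23 : Nat := (nat_lit 0x20000000000000000000000000000000000000000000000000000000000000c2000000000000000042000000000000000000000000000000000000000000000000000000000000000000000020000040000000000000000000000000000000000000000000000000000000000000000000000800100000400000000000000000000000000000000000000000000000000000000000000000000000000000000400000000000000000000000000000000000000000000000000000000000000000000000080000000100802000000000000000000000000000000000000000000000000000450000000002000000082000000000000000000000000200000000000000000000001100000000044000000000000000000000000000000000800014400000020000000000000000000000000000000000000000000000005000200040000001200000000000000000000000000000000000000000000001800080000000000000008c0100000000000000000000000000000000a0400004000000040000000000800281)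
theorem k24 : band (Nat.ble (nat_lit 3510) (Nat.pow 2 (nat_lit 12))) (fsChk (nat_lit 3510) (nat_lit 12) H15.Fi22P.nets I22.u3 s23 (full (nat_lit 3510)) 0 0 (nat_lit 12)) = true := by decide +kernel
theorem f25 (M : PM G Ω 3510 H15.Fi22P.nets) (hN : Nat.card G = 64561751654400) : IsFix M I22.u3 s23 :=
  fix_one k24
theorem k26 : relK F bs0 [(I22.u3, flat (fsts p22) [nat_lit 0]), (I22.u3, flat (snds p22) [nat_lit 0])] = true := by decide +kernel
noncomputable def b27 : List (Nat × Nat) := [(s23, s23)]
noncomputable def w28 : Word := [nat_lit 30, nat_lit 37, nat_lit 44, nat_lit 38, nat_lit 28, nat_lit 35, nat_lit 35, nat_lit 29]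
noncomputable def w29 : Word := [nat_lit 8, nat_lit 42, nat_lit 6, nat_lit 24, nat_lit 26, nat_lit 36, nat_lit 40, nat_lit 49]
noncomputable def w30 : Word := [nat_lit 37, nat_lit 42, nat_lit 37, nat_lit 30, nat_lit 43, nat_lit 27, nat_lit 43]
noncomputable def w31 : Word := [nat_lit 14, nat_lit 49, nat_lit 34, nat_lit 4, nat_lit 43, nat_lit 24, nat_lit 37, nat_lit 16]
noncomputable def w32 : Word := [nat_lit 46, nat_lit 38, nat_lit 14, nat_lit 28, nat_lit 6, nat_lit 32, nat_lit 40, nat_lit 28]
noncomputable def w33 : Word := [nat_lit 4, nat_lit 12, nat_lit 48, nat_lit 32, nat_lit 27, nat_lit 49, nat_lit 4]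
noncomputable def w34 : Word := [nat_lit 43, nat_lit 35, nat_lit 46, nat_lit 28, nat_lit 8, nat_lit 26, nat_lit 37]
noncomputable def w35 : Word := [nat_lit 10, nat_lit 34, nat_lit 12, nat_lit 35, nat_lit 10]
noncomputable def w36 : Word := [nat_lit 22, nat_lit 6, nat_lit 37, nat_lit 4, nat_lit 29, nat_lit 36, nat_lit 22]
noncomputable def w37 : Word := [nat_lit 12, nat_lit 18, nat_lit 16, nat_lit 19]
noncomputable def w38 : Word := [nat_lit 12, nat_lit 32, nat_lit 4, nat_lit 28, nat_lit 32]
noncomputable def w39 : Word := [nat_lit 10, nat_lit 42, nat_lit 10, nat_lit 43, nat_lit 35, nat_lit 31, nat_lit 45, nat_lit 26]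
noncomputable def w40 : Word := [nat_lit 44, nat_lit 39, nat_lit 36, nat_lit 34, nat_lit 40, nat_lit 35, nat_lit 30, nat_lit 48, nat_lit 34]
noncomputable def w41 : Word := [nat_lit 37, nat_lit 4, nat_lit 40, nat_lit 4, nat_lit 36, nat_lit 12]
noncomputable def w42 : Word := [nat_lit 18, nat_lit 16, nat_lit 19]
noncomputable def w43 : Word := [nat_lit 8, nat_lit 12, nat_lit 48, nat_lit 24, nat_lit 26, nat_lit 49, nat_lit 8]
noncomputable def w44 : Word := [nat_lit 14, nat_lit 6, nat_lit 14]
noncomputable def w45 : Word := [nat_lit 31, nat_lit 37, nat_lit 6, nat_lit 12, nat_lit 36, nat_lit 30]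
noncomputable def w46 : Word := [nat_lit 37, nat_lit 42, nat_lit 16, nat_lit 28, nat_lit 16, nat_lit 28, nat_lit 43, nat_lit 36]
noncomputable def w47 : Word := [nat_lit 43, nat_lit 8, nat_lit 42, nat_lit 29, nat_lit 8, nat_lit 29, nat_lit 8, nat_lit 0]
noncomputable def w48 : Word := [nat_lit 44, nat_lit 48, nat_lit 38, nat_lit 45, nat_lit 10, nat_lit 12, nat_lit 27, nat_lit 45, nat_lit 8]
noncomputable def w49 : Word := [nat_lit 31, nat_lit 46, nat_lit 8, nat_lit 12, nat_lit 46, nat_lit 30]
noncomputable def w50 : Word := [nat_lit 27, nat_lit 38, nat_lit 8, nat_lit 39, nat_lit 8, nat_lit 24, nat_lit 30]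
noncomputable def w51 : Word := [nat_lit 12, nat_lit 29, nat_lit 8, nat_lit 29, nat_lit 8, nat_lit 0]
noncomputable def w52 : Word := [nat_lit 14, nat_lit 6, nat_lit 14, nat_lit 32, nat_lit 4, nat_lit 28, nat_lit 32]
noncomputable def w53 : Word := [nat_lit 14, nat_lit 37, nat_lit 8, nat_lit 36, nat_lit 6, nat_lit 14]
noncomputable def w54 : Word := [nat_lit 12, nat_lit 43, nat_lit 31, nat_lit 12, nat_lit 30, nat_lit 42]
noncomputable def w55 : Word := [nat_lit 37, nat_lit 8, nat_lit 36]
noncomputable def w56 : Word := [nat_lit 49, nat_lit 39, nat_lit 32, nat_lit 38, nat_lit 48, nat_lit 28, nat_lit 8, nat_lit 28, nat_lit 4]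
noncomputable def w57 : Word := [nat_lit 37, nat_lit 8, nat_lit 36, nat_lit 12, nat_lit 31, nat_lit 10, nat_lit 30]
noncomputable def w58 : Word := [nat_lit 37, nat_lit 12, nat_lit 4, nat_lit 36, nat_lit 19, nat_lit 16, nat_lit 18]
noncomputable def w59 : Word := [nat_lit 43, nat_lit 34, nat_lit 39, nat_lit 31, nat_lit 4, nat_lit 35, nat_lit 45, nat_lit 10]
noncomputable def w60 : Word := [nat_lit 38, nat_lit 45, nat_lit 32, nat_lit 37, nat_lit 4, nat_lit 34, nat_lit 28, nat_lit 10]
noncomputable def w61 : Word := [nat_lit 4, nat_lit 34, nat_lit 12, nat_lit 35, nat_lit 4]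
noncomputable def w62 : Word := [nat_lit 14, nat_lit 39, nat_lit 16, nat_lit 36, nat_lit 24, nat_lit 14, nat_lit 42, nat_lit 16, nat_lit 6]
noncomputable def w63 : Word := [nat_lit 36, nat_lit 8, nat_lit 45, nat_lit 12, nat_lit 29, nat_lit 36, nat_lit 10, nat_lit 44, nat_lit 10]
noncomputable def w64 : Word := [nat_lit 36, nat_lit 43, nat_lit 0, nat_lit 27, nat_lit 45, nat_lit 8, nat_lit 37, nat_lit 43]
noncomputable def w65 : Word := [nat_lit 31, nat_lit 46, nat_lit 8, nat_lit 32, nat_lit 27, nat_lit 8, nat_lit 46, nat_lit 30]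
noncomputable def w66 : Word := [nat_lit 29, nat_lit 43, nat_lit 12, nat_lit 42, nat_lit 28]
noncomputable def w67 : Word := [nat_lit 37, nat_lit 12, nat_lit 36]
noncomputable def w68 : Word := [nat_lit 14, nat_lit 40, nat_lit 34, nat_lit 40, nat_lit 48, nat_lit 27, nat_lit 38, nat_lit 10, nat_lit 0]
noncomputable def w69 : Word := [nat_lit 49, nat_lit 40, nat_lit 34, nat_lit 32, nat_lit 4, nat_lit 38, nat_lit 8, nat_lit 48]
noncomputable def w70 : Word := [nat_lit 46, nat_lit 35, nat_lit 14, nat_lit 24, nat_lit 48, nat_lit 42, nat_lit 35, nat_lit 10]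
noncomputable def w71 : Word := [nat_lit 37, nat_lit 8, nat_lit 4, nat_lit 36]
noncomputable def w72 : Word := [nat_lit 14, nat_lit 36, nat_lit 44, nat_lit 36, nat_lit 32, nat_lit 36, nat_lit 24, nat_lit 37, nat_lit 32]
noncomputable def w73 : Word := [nat_lit 48, nat_lit 10, nat_lit 32, nat_lit 28, nat_lit 30, nat_lit 24, nat_lit 10, nat_lit 49]
noncomputable def w74 : Word := [nat_lit 46, nat_lit 14, nat_lit 6, nat_lit 14, nat_lit 46]
noncomputable def w75 : Word := [nat_lit 45, nat_lit 40, nat_lit 44, nat_lit 10, nat_lit 16]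
noncomputable def w76 : Word := [nat_lit 12, nat_lit 45, nat_lit 12, nat_lit 27, nat_lit 16, nat_lit 40, nat_lit 39, nat_lit 34]
noncomputable def w77 : Word := [nat_lit 10, nat_lit 38, nat_lit 16, nat_lit 29, nat_lit 16, nat_lit 26, nat_lit 39, nat_lit 10]
noncomputable def w78 : Word := [nat_lit 35, nat_lit 49, nat_lit 10, nat_lit 4, nat_lit 48, nat_lit 34]
noncomputable def w79 : Word := [nat_lit 6, nat_lit 46, nat_lit 43, nat_lit 8, nat_lit 24, nat_lit 43, nat_lit 24, nat_lit 45]
noncomputable def w80 : Word := [nat_lit 44, nat_lit 12, nat_lit 38, nat_lit 0, nat_lit 24, nat_lit 35, nat_lit 43, nat_lit 24]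
noncomputable def w81 : Word := [nat_lit 37, nat_lit 12, nat_lit 36, nat_lit 29, nat_lit 43, nat_lit 12, nat_lit 42, nat_lit 28]
noncomputable def w82 : Word := [nat_lit 44, nat_lit 49, nat_lit 8, nat_lit 16, nat_lit 43, nat_lit 40]
noncomputable def w83 : Word := [nat_lit 30, nat_lit 38, nat_lit 42, nat_lit 32, nat_lit 48, nat_lit 4, nat_lit 42, nat_lit 48]
noncomputable def w84 : Word := [nat_lit 46, nat_lit 14, nat_lit 40, nat_lit 12, nat_lit 30, nat_lit 45, nat_lit 24, nat_lit 12]
noncomputable def w85 : Word := [nat_lit 28, nat_lit 14, nat_lit 42, nat_lit 48, nat_lit 12, nat_lit 24, nat_lit 8, nat_lit 43, nat_lit 24]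
noncomputable def w86 : Word := [nat_lit 36, nat_lit 46, nat_lit 6, nat_lit 46, nat_lit 37]
noncomputable def w87 : Word := [nat_lit 48, nat_lit 10, nat_lit 32, nat_lit 6, nat_lit 24, nat_lit 10, nat_lit 28, nat_lit 26]
noncomputable def w88 : Word := [nat_lit 44, nat_lit 8, nat_lit 32, nat_lit 44, nat_lit 28, nat_lit 22, nat_lit 6, nat_lit 14]
noncomputable def w89 : Word := [nat_lit 43, nat_lit 8, nat_lit 42]
noncomputable def w90 : Word := [nat_lit 31, nat_lit 46, nat_lit 12, nat_lit 46, nat_lit 30]
noncomputable def w91 : Word := [nat_lit 10, nat_lit 43, nat_lit 12, nat_lit 40, nat_lit 42]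
noncomputable def w92 : Word := [nat_lit 45, nat_lit 42, nat_lit 46, nat_lit 8, nat_lit 34, nat_lit 32]
noncomputable def w93 : Word := [nat_lit 14, nat_lit 42, nat_lit 8, nat_lit 43, nat_lit 14, nat_lit 12]
noncomputable def w94 : Word := [nat_lit 45, nat_lit 37, nat_lit 35, nat_lit 48, nat_lit 34]
noncomputable def w95 : Word := [nat_lit 43, nat_lit 8, nat_lit 42, nat_lit 12]
noncomputable def w96 : Word := [nat_lit 48, nat_lit 14, nat_lit 36, nat_lit 36, nat_lit 0, nat_lit 30, nat_lit 34, nat_lit 48, nat_lit 8]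
noncomputable def w97 : Word := [nat_lit 14, nat_lit 44, nat_lit 35, nat_lit 28, nat_lit 10, nat_lit 43, nat_lit 36, nat_lit 8]
noncomputable def w98 : Word := [nat_lit 26, nat_lit 6, nat_lit 12, nat_lit 37, nat_lit 4, nat_lit 29, nat_lit 36, nat_lit 27]
noncomputable def w99 : Word := [nat_lit 36, nat_lit 46, nat_lit 6, nat_lit 46, nat_lit 37, nat_lit 12]
noncomputable def w100 : Word := [nat_lit 43, nat_lit 36, nat_lit 12, nat_lit 4, nat_lit 28, nat_lit 37, nat_lit 42, nat_lit 12]
noncomputable def w101 : Word := [nat_lit 12, nat_lit 4, nat_lit 28]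
noncomputable def w102 : Word := [nat_lit 28, nat_lit 8, nat_lit 29]
noncomputable def w103 : Word := [nat_lit 14, nat_lit 6, nat_lit 30, nat_lit 16, nat_lit 31, nat_lit 14]
noncomputable def w104 : Word := [nat_lit 14, nat_lit 10, nat_lit 36, nat_lit 16, nat_lit 29, nat_lit 22, nat_lit 37, nat_lit 10]
noncomputable def w105 : Word := [nat_lit 36, nat_lit 44, nat_lit 34, nat_lit 14, nat_lit 4, nat_lit 35, nat_lit 45, nat_lit 37]
noncomputable def w106 : Word := [nat_lit 37, nat_lit 38, nat_lit 10, nat_lit 40, nat_lit 29, nat_lit 30, nat_lit 39, nat_lit 24, nat_lit 28]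
noncomputable def w107 : Word := [nat_lit 48, nat_lit 30, nat_lit 4, nat_lit 31, nat_lit 49]
noncomputable def w108 : Word := [nat_lit 38, nat_lit 6, nat_lit 45, nat_lit 38, nat_lit 35]
noncomputable def w109 : Word := [nat_lit 36, nat_lit 39, nat_lit 34, nat_lit 30, nat_lit 43, nat_lit 14, nat_lit 27, nat_lit 46]
noncomputable def w110 : Word := [nat_lit 43, nat_lit 8, nat_lit 38, nat_lit 45, nat_lit 24, nat_lit 16, nat_lit 48, nat_lit 24, nat_lit 14]
noncomputable def w111 : Word := [nat_lit 44, nat_lit 43, nat_lit 6, nat_lit 32, nat_lit 34, nat_lit 31, nat_lit 12, nat_lit 45]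
noncomputable def w112 : Word := [nat_lit 45, nat_lit 38, nat_lit 43, nat_lit 10, nat_lit 27, nat_lit 49, nat_lit 42, nat_lit 22, nat_lit 8]
noncomputable def w113 : Word := [nat_lit 45, nat_lit 14, nat_lit 44]
noncomputable def w114 : Word := [nat_lit 48, nat_lit 38, nat_lit 38, nat_lit 30, nat_lit 35, nat_lit 42, nat_lit 36, nat_lit 26]
noncomputable def w115 : Word := [nat_lit 44, nat_lit 36, nat_lit 6, nat_lit 37, nat_lit 45]
noncomputable def w116 : Word := [nat_lit 48, nat_lit 40, nat_lit 8, nat_lit 12, nat_lit 24, nat_lit 10, nat_lit 34, nat_lit 8, nat_lit 32]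
noncomputable def w117 : Word := [nat_lit 45, nat_lit 35, nat_lit 44, nat_lit 28, nat_lit 38, nat_lit 45, nat_lit 22, nat_lit 45]
noncomputable def w118 : Word := [nat_lit 26, nat_lit 36, nat_lit 34, nat_lit 4, nat_lit 29, nat_lit 35, nat_lit 22]
noncomputable def w119 : Word := [nat_lit 36, nat_lit 39, nat_lit 8, nat_lit 49, nat_lit 29, nat_lit 49, nat_lit 26, nat_lit 4]
noncomputable def w120 : Word := [nat_lit 32, nat_lit 4, nat_lit 28, nat_lit 22, nat_lit 6, nat_lit 27]
noncomputable def w121 : Word := [nat_lit 18, nat_lit 46, nat_lit 16, nat_lit 4, nat_lit 48, nat_lit 4, nat_lit 19, nat_lit 32]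
noncomputable def w122 : Word := [nat_lit 4, nat_lit 6, nat_lit 32, nat_lit 27, nat_lit 6, nat_lit 4]
noncomputable def w123 : Word := [nat_lit 36, nat_lit 44, nat_lit 10, nat_lit 34, nat_lit 49, nat_lit 27, nat_lit 36, nat_lit 16, nat_lit 4]
noncomputable def w124 : Word := [nat_lit 45, nat_lit 36, nat_lit 38, nat_lit 12, nat_lit 24, nat_lit 12, nat_lit 35, nat_lit 31, nat_lit 24]
noncomputable def w125 : Word := [nat_lit 46, nat_lit 4, nat_lit 49, nat_lit 22, nat_lit 49, nat_lit 24, nat_lit 12]
noncomputable def w126 : Word := [nat_lit 35, nat_lit 40, nat_lit 34, nat_lit 49, nat_lit 4, nat_lit 42, nat_lit 40, nat_lit 37]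
noncomputable def w127 : Word := [nat_lit 28, nat_lit 8, nat_lit 16, nat_lit 29]
noncomputable def w128 : Word := [nat_lit 43, nat_lit 8, nat_lit 42, nat_lit 16, nat_lit 28, nat_lit 16, nat_lit 28]
noncomputable def w129 : Word := [nat_lit 28, nat_lit 16, nat_lit 29]
noncomputable def w130 : Word := [nat_lit 43, nat_lit 8, nat_lit 42, nat_lit 6, nat_lit 14, nat_lit 6]
noncomputable def w131 : Word := [nat_lit 38, nat_lit 43, nat_lit 10, nat_lit 38, nat_lit 24, nat_lit 34, nat_lit 48, nat_lit 37, nat_lit 6]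
noncomputable def w132 : Word := [nat_lit 46, nat_lit 38, nat_lit 45, nat_lit 4, nat_lit 37, nat_lit 30, nat_lit 27, nat_lit 40]
noncomputable def w133 : Word := [nat_lit 36, nat_lit 32, nat_lit 34, nat_lit 31, nat_lit 16, nat_lit 27, nat_lit 14, nat_lit 35]
noncomputable def w134 : Word := [nat_lit 46, nat_lit 14, nat_lit 39, nat_lit 49, nat_lit 32, nat_lit 43, nat_lit 30, nat_lit 39, nat_lit 28]
noncomputable def w135 : Word := [nat_lit 31, nat_lit 10, nat_lit 30]
noncomputable def w136 : Word := [nat_lit 28, nat_lit 16, nat_lit 29, nat_lit 12]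
noncomputable def w137 : Word := [nat_lit 28, nat_lit 8, nat_lit 29, nat_lit 12]
noncomputable def w138 : Word := [nat_lit 46, nat_lit 12, nat_lit 32, nat_lit 42, nat_lit 30, nat_lit 10, nat_lit 45, nat_lit 43, nat_lit 4]
noncomputable def w139 : Word := [nat_lit 37, nat_lit 42, nat_lit 12, nat_lit 10, nat_lit 4, nat_lit 28, nat_lit 43, nat_lit 36]
noncomputable def w140 : Word := [nat_lit 46, nat_lit 37, nat_lit 43, nat_lit 10, nat_lit 34, nat_lit 46, nat_lit 28, nat_lit 16, nat_lit 27]
noncomputable def w141 : Word := [nat_lit 22, nat_lit 49, nat_lit 8, nat_lit 48, nat_lit 6, nat_lit 22]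
noncomputable def w142 : Word := [nat_lit 24, nat_lit 32, nat_lit 30, nat_lit 4, nat_lit 6, nat_lit 27]
noncomputable def w143 : Word := [nat_lit 46, nat_lit 10, nat_lit 34, nat_lit 43, nat_lit 49, nat_lit 24, nat_lit 14, nat_lit 34]
noncomputable def w144 : Word := [nat_lit 26, nat_lit 6, nat_lit 37, nat_lit 4, nat_lit 29, nat_lit 36, nat_lit 27]
noncomputable def w145 : Word := [nat_lit 37, nat_lit 45, nat_lit 29, nat_lit 46, nat_lit 29, nat_lit 20, nat_lit 40, nat_lit 21]
noncomputable def w146 : Word := [nat_lit 44, nat_lit 48, nat_lit 36, nat_lit 42, nat_lit 8, nat_lit 27, nat_lit 16, nat_lit 4, nat_lit 6]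
noncomputable def w147 : Word := [nat_lit 28, nat_lit 8, nat_lit 16, nat_lit 29, nat_lit 0]
noncomputable def w148 : Word := [nat_lit 49, nat_lit 6, nat_lit 37, nat_lit 24, nat_lit 44, nat_lit 4, nat_lit 6, nat_lit 0]
noncomputable def w149 : Word := [nat_lit 43, nat_lit 36, nat_lit 12, nat_lit 4, nat_lit 28, nat_lit 37, nat_lit 42]
noncomputable def w150 : Word := [nat_lit 32, nat_lit 29, nat_lit 8, nat_lit 29, nat_lit 8, nat_lit 32]
noncomputable def w151 : Word := [nat_lit 10, nat_lit 12, nat_lit 27, nat_lit 40, nat_lit 26, nat_lit 12, nat_lit 10]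
noncomputable def w152 : Word := [nat_lit 45, nat_lit 37, nat_lit 35, nat_lit 48, nat_lit 34, nat_lit 0]
noncomputable def w153 : Word := [nat_lit 19, nat_lit 16, nat_lit 18, nat_lit 28, nat_lit 16, nat_lit 29]
noncomputable def w154 : Word := [nat_lit 6, nat_lit 27, nat_lit 6, nat_lit 16, nat_lit 26, nat_lit 6]
noncomputable def w155 : Word := [nat_lit 19, nat_lit 16, nat_lit 18, nat_lit 26, nat_lit 6, nat_lit 27]
noncomputable def w156 : Word := [nat_lit 32, nat_lit 28, nat_lit 8, nat_lit 16, nat_lit 29, nat_lit 32]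
noncomputable def w157 : Word := [nat_lit 26, nat_lit 6, nat_lit 12, nat_lit 27]
noncomputable def w158 : Word := [nat_lit 19, nat_lit 16, nat_lit 18, nat_lit 28, nat_lit 8, nat_lit 29]
noncomputable def w159 : Word := [nat_lit 4, nat_lit 45, nat_lit 14, nat_lit 16, nat_lit 34, nat_lit 4, nat_lit 44, nat_lit 28, nat_lit 44]
noncomputable def w160 : Word := [nat_lit 26, nat_lit 49, nat_lit 8, nat_lit 48, nat_lit 27, nat_lit 28, nat_lit 16, nat_lit 29]
noncomputable def w161 : Word := [nat_lit 49, nat_lit 35, nat_lit 42, nat_lit 24, nat_lit 44, nat_lit 30, nat_lit 48, nat_lit 0]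
noncomputable def w162 : Word := [nat_lit 46, nat_lit 34, nat_lit 34, nat_lit 14, nat_lit 28, nat_lit 30, nat_lit 37, nat_lit 12]
noncomputable def w163 : Word := [nat_lit 43, nat_lit 31, nat_lit 12, nat_lit 30, nat_lit 42]
noncomputable def w164 : Word := [nat_lit 19, nat_lit 16, nat_lit 18]
noncomputable def w165 : Word := [nat_lit 40, nat_lit 37, nat_lit 10, nat_lit 4, nat_lit 36, nat_lit 40, nat_lit 12]
noncomputable def w166 : Word := [nat_lit 28, nat_lit 46, nat_lit 37, nat_lit 32, nat_lit 36, nat_lit 46, nat_lit 29]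
noncomputable def w167 : Word := [nat_lit 37, nat_lit 8, nat_lit 36, nat_lit 31, nat_lit 10, nat_lit 30]
noncomputable def w168 : Word := [nat_lit 32, nat_lit 4, nat_lit 28, nat_lit 32, nat_lit 31, nat_lit 10, nat_lit 30]
noncomputable def w169 : Word := [nat_lit 36, nat_lit 46, nat_lit 6, nat_lit 46, nat_lit 37, nat_lit 31, nat_lit 22, nat_lit 30]
noncomputable def w170 : Word := [nat_lit 36, nat_lit 46, nat_lit 6, nat_lit 46, nat_lit 37, nat_lit 28, nat_lit 8, nat_lit 29]
noncomputable def w171 : Word := [nat_lit 38, nat_lit 14, nat_lit 6, nat_lit 42, nat_lit 10, nat_lit 30, nat_lit 44, nat_lit 28]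
noncomputable def w172 : Word := [nat_lit 45, nat_lit 46, nat_lit 36, nat_lit 36, nat_lit 12, nat_lit 27, nat_lit 30, nat_lit 42, nat_lit 6]
noncomputable def w173 : Word := [nat_lit 37, nat_lit 44, nat_lit 38, nat_lit 12, nat_lit 48, nat_lit 30, nat_lit 10, nat_lit 27, nat_lit 10]
noncomputable def w174 : Word := [nat_lit 45, nat_lit 14, nat_lit 49, nat_lit 6, nat_lit 24, nat_lit 44, nat_lit 22, nat_lit 49, nat_lit 6]
noncomputable def w175 : Word := [nat_lit 46, nat_lit 6, nat_lit 32, nat_lit 43, nat_lit 32, nat_lit 28, nat_lit 26, nat_lit 24, nat_lit 0]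
noncomputable def w176 : Word := [nat_lit 44, nat_lit 46, nat_lit 32, nat_lit 27, nat_lit 44, nat_lit 32, nat_lit 37, nat_lit 26]
noncomputable def w177 : Word := [nat_lit 37, nat_lit 40, nat_lit 4, nat_lit 40, nat_lit 36]
noncomputable def w178 : Word := [nat_lit 31, nat_lit 39, nat_lit 49, nat_lit 6, nat_lit 12, nat_lit 48, nat_lit 38, nat_lit 30]
noncomputable def w179 : Word := [nat_lit 29, nat_lit 46, nat_lit 28]
noncomputable def w180 : Word := [nat_lit 12, nat_lit 45, nat_lit 4, nat_lit 44, nat_lit 12]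
noncomputable def w181 : Word := [nat_lit 22, nat_lit 42, nat_lit 14, nat_lit 0, nat_lit 30, nat_lit 35, nat_lit 12]
noncomputable def w182 : Word := [nat_lit 36, nat_lit 32, nat_lit 6, nat_lit 24, nat_lit 35, nat_lit 37, nat_lit 46, nat_lit 38]
noncomputable def w183 : Word := [nat_lit 46, nat_lit 8, nat_lit 39, nat_lit 34, nat_lit 29, nat_lit 45, nat_lit 30, nat_lit 28, nat_lit 34]
noncomputable def w184 : Word := [nat_lit 45, nat_lit 43, nat_lit 34, nat_lit 44, nat_lit 24, nat_lit 39, nat_lit 30, nat_lit 34, nat_lit 16]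
noncomputable def w185 : Word := [nat_lit 49, nat_lit 38, nat_lit 10, nat_lit 16, nat_lit 29, nat_lit 36, nat_lit 34, nat_lit 28, nat_lit 4]
noncomputable def w186 : Word := [nat_lit 37, nat_lit 42, nat_lit 10, nat_lit 43, nat_lit 12, nat_lit 36]
noncomputable def w187 : Word := [nat_lit 45, nat_lit 40, nat_lit 37, nat_lit 10, nat_lit 43, nat_lit 27, nat_lit 44, nat_lit 30]
noncomputable def w188 : Word := [nat_lit 48, nat_lit 42, nat_lit 37, nat_lit 10, nat_lit 35, nat_lit 36, nat_lit 31, nat_lit 6, nat_lit 37]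
noncomputable def w189 : Word := [nat_lit 37, nat_lit 8, nat_lit 12, nat_lit 36]
noncomputable def w190 : Word := [nat_lit 48, nat_lit 39, nat_lit 6, nat_lit 46, nat_lit 29, nat_lit 6, nat_lit 38, nat_lit 49]
noncomputable def w191 : Word := [nat_lit 24, nat_lit 31, nat_lit 8, nat_lit 30, nat_lit 24]
noncomputable def w192 : Word := [nat_lit 44, nat_lit 10, nat_lit 36, nat_lit 29, nat_lit 38, nat_lit 16, nat_lit 26, nat_lit 45]
noncomputable def w193 : Word := [nat_lit 24, nat_lit 14, nat_lit 40, nat_lit 32, nat_lit 24, nat_lit 40, nat_lit 6]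
noncomputable def w194 : Word := [nat_lit 36, nat_lit 43, nat_lit 8, nat_lit 12, nat_lit 0, nat_lit 4, nat_lit 42, nat_lit 37]
noncomputable def w195 : Word := [nat_lit 44, nat_lit 37, nat_lit 32, nat_lit 49, nat_lit 31, nat_lit 6, nat_lit 22, nat_lit 14, nat_lit 12]
noncomputable def w196 : Word := [nat_lit 43, nat_lit 37, nat_lit 8, nat_lit 36, nat_lit 42]
noncomputable def w197 : Word := [nat_lit 34, nat_lit 49, nat_lit 36, nat_lit 16, nat_lit 4, nat_lit 37, nat_lit 48, nat_lit 35]
noncomputable def w198 : Word := [nat_lit 44, nat_lit 44, nat_lit 8, nat_lit 32, nat_lit 27, nat_lit 6, nat_lit 10, nat_lit 8]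
noncomputable def w199 : Word := [nat_lit 44, nat_lit 44, nat_lit 32, nat_lit 44, nat_lit 44]
noncomputable def w200 : Word := [nat_lit 26, nat_lit 39, nat_lit 12, nat_lit 32, nat_lit 8, nat_lit 27, nat_lit 38, nat_lit 27]
noncomputable def w201 : Word := [nat_lit 48, nat_lit 38, nat_lit 8, nat_lit 12, nat_lit 4, nat_lit 39, nat_lit 49, nat_lit 0]
noncomputable def w202 : Word := [nat_lit 36, nat_lit 43, nat_lit 8, nat_lit 12, nat_lit 16, nat_lit 0, nat_lit 4, nat_lit 42, nat_lit 37]
noncomputable def w203 : Word := [nat_lit 37, nat_lit 40, nat_lit 8, nat_lit 4, nat_lit 40, nat_lit 36]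
noncomputable def w204 : Word := [nat_lit 45, nat_lit 14, nat_lit 45, nat_lit 6, nat_lit 32, nat_lit 24, nat_lit 44, nat_lit 22, nat_lit 12]
noncomputable def w205 : Word := [nat_lit 37, nat_lit 12, nat_lit 4, nat_lit 36]
noncomputable def w206 : Word := [nat_lit 36, nat_lit 43, nat_lit 4, nat_lit 42, nat_lit 37]
noncomputable def w207 : Word := [nat_lit 37, nat_lit 40, nat_lit 12, nat_lit 4, nat_lit 40, nat_lit 36]
noncomputable def w208 : Word := [nat_lit 38, nat_lit 35, nat_lit 37, nat_lit 30, nat_lit 39, nat_lit 27, nat_lit 44, nat_lit 39]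
noncomputable def w209 : Word := [nat_lit 36, nat_lit 36, nat_lit 38, nat_lit 16, nat_lit 24, nat_lit 10, nat_lit 37, nat_lit 22, nat_lit 0]
noncomputable def w210 : Word := [nat_lit 10, nat_lit 40, nat_lit 34, nat_lit 27, nat_lit 36, nat_lit 27, nat_lit 16]
noncomputable def w211 : Word := [nat_lit 22, nat_lit 49, nat_lit 6, nat_lit 38, nat_lit 37, nat_lit 31, nat_lit 42, nat_lit 8]
noncomputable def w212 : Word := [nat_lit 14, nat_lit 40, nat_lit 39, nat_lit 28, nat_lit 48, nat_lit 32, nat_lit 39, nat_lit 24]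
noncomputable def w213 : Word := [nat_lit 48, nat_lit 32, nat_lit 49, nat_lit 16, nat_lit 10]
noncomputable def w214 : Word := [nat_lit 44, nat_lit 48, nat_lit 14, nat_lit 34, nat_lit 29, nat_lit 30, nat_lit 4, nat_lit 40]
noncomputable def w215 : Word := [nat_lit 37, nat_lit 10, nat_lit 12, nat_lit 46, nat_lit 31, nat_lit 16, nat_lit 37, nat_lit 24]
noncomputable def w216 : Word := [nat_lit 45, nat_lit 14, nat_lit 44, nat_lit 24, nat_lit 14, nat_lit 24, nat_lit 0]
noncomputable def w217 : Word := [nat_lit 37, nat_lit 8, nat_lit 12, nat_lit 40, nat_lit 31, nat_lit 6, nat_lit 28, nat_lit 34, nat_lit 8]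
noncomputable def w218 : Word := [nat_lit 45, nat_lit 43, nat_lit 36, nat_lit 32, nat_lit 36, nat_lit 28, nat_lit 30, nat_lit 29]
noncomputable def w219 : Word := [nat_lit 42, nat_lit 39, nat_lit 12, nat_lit 49, nat_lit 30, nat_lit 4, nat_lit 35, nat_lit 14]
noncomputable def w220 : Word := [nat_lit 46, nat_lit 36, nat_lit 39, nat_lit 4, nat_lit 29, nat_lit 38, nat_lit 37]
noncomputable def w221 : Word := [nat_lit 32, nat_lit 14, nat_lit 39, nat_lit 30, nat_lit 37, nat_lit 35, nat_lit 10, nat_lit 27]
noncomputable def w222 : Word := [nat_lit 37, nat_lit 40, nat_lit 36]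
noncomputable def w223 : Word := [nat_lit 28, nat_lit 34, nat_lit 40, nat_lit 24, nat_lit 40, nat_lit 35, nat_lit 29]
noncomputable def w224 : Word := [nat_lit 38, nat_lit 10, nat_lit 40, nat_lit 0, nat_lit 30, nat_lit 4, nat_lit 44, nat_lit 30, nat_lit 45]
noncomputable def w225 : Word := [nat_lit 46, nat_lit 42, nat_lit 35, nat_lit 27, nat_lit 45, nat_lit 29, nat_lit 38, nat_lit 16]
noncomputable def w226 : Word := [nat_lit 8, nat_lit 12, nat_lit 40, nat_lit 28, nat_lit 27, nat_lit 39, nat_lit 39, nat_lit 8]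
noncomputable def w227 : Word := [nat_lit 45, nat_lit 16, nat_lit 24, nat_lit 16, nat_lit 44]
noncomputable def w228 : Word := [nat_lit 45, nat_lit 4, nat_lit 44]
noncomputable def w229 : Word := [nat_lit 38, nat_lit 14, nat_lit 37, nat_lit 4, nat_lit 36, nat_lit 39]
noncomputable def w230 : Word := [nat_lit 12, nat_lit 37, nat_lit 10, nat_lit 24, nat_lit 10, nat_lit 36, nat_lit 12]
noncomputable def w231 : Word := [nat_lit 14, nat_lit 35, nat_lit 14, nat_lit 16, nat_lit 4, nat_lit 40, nat_lit 22, nat_lit 42]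
noncomputable def w232 : Word := [nat_lit 37, nat_lit 34, nat_lit 37, nat_lit 37, nat_lit 28, nat_lit 27, nat_lit 30, nat_lit 28]
noncomputable def w233 : Word := [nat_lit 36, nat_lit 43, nat_lit 12, nat_lit 35, nat_lit 28, nat_lit 6, nat_lit 42, nat_lit 28, nat_lit 6]
noncomputable def w234 : Word := [nat_lit 12, nat_lit 48, nat_lit 8, nat_lit 36, nat_lit 4, nat_lit 34, nat_lit 31, nat_lit 6]
noncomputable def w235 : Word := [nat_lit 24, nat_lit 44, nat_lit 14, nat_lit 43, nat_lit 14, nat_lit 31, nat_lit 28]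
noncomputable def w236 : Word := [nat_lit 31, nat_lit 22, nat_lit 4, nat_lit 30]
noncomputable def w237 : Word := [nat_lit 19, nat_lit 44, nat_lit 44, nat_lit 46, nat_lit 16, nat_lit 18]
noncomputable def w238 : Word := [nat_lit 27, nat_lit 42, nat_lit 35, nat_lit 40, nat_lit 30, nat_lit 36, nat_lit 42, nat_lit 10]
noncomputable def w239 : Word := [nat_lit 43, nat_lit 32, nat_lit 44, nat_lit 31, nat_lit 12, nat_lit 28, nat_lit 31, nat_lit 10]
noncomputable def w240 : Word := [nat_lit 46, nat_lit 4, nat_lit 48, nat_lit 31, nat_lit 27, nat_lit 49]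
noncomputable def w241 : Word := [nat_lit 12, nat_lit 37, nat_lit 4, nat_lit 36, nat_lit 12]
noncomputable def w242 : Word := [nat_lit 32, nat_lit 45, nat_lit 34, nat_lit 40, nat_lit 0, nat_lit 31, nat_lit 49, nat_lit 30]
noncomputable def w243 : Word := [nat_lit 14, nat_lit 42, nat_lit 35, nat_lit 28, nat_lit 27, nat_lit 39, nat_lit 30, nat_lit 26]
noncomputable def w244 : Word := [nat_lit 39, nat_lit 49, nat_lit 10, nat_lit 16, nat_lit 29, nat_lit 36, nat_lit 34, nat_lit 29, nat_lit 12]
noncomputable def w245 : Word := [nat_lit 14, nat_lit 49, nat_lit 16, nat_lit 38, nat_lit 4, nat_lit 49, nat_lit 36, nat_lit 22, nat_lit 43]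
noncomputable def w246 : Word := [nat_lit 30, nat_lit 45, nat_lit 6, nat_lit 44, nat_lit 31]
noncomputable def w247 : Word := [nat_lit 44, nat_lit 31, nat_lit 27, nat_lit 44, nat_lit 44, nat_lit 22]
noncomputable def w248 : Word := [nat_lit 44, nat_lit 43, nat_lit 30, nat_lit 14, nat_lit 31, nat_lit 38]
noncomputable def w249 : Word := [nat_lit 34, nat_lit 38, nat_lit 49, nat_lit 24, nat_lit 28, nat_lit 10, nat_lit 27, nat_lit 4]
noncomputable def w250 : Word := [nat_lit 42, nat_lit 39, nat_lit 44, nat_lit 0, nat_lit 4, nat_lit 36, nat_lit 28]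
noncomputable def w251 : Word := [nat_lit 36, nat_lit 49, nat_lit 6, nat_lit 43, nat_lit 8, nat_lit 24, nat_lit 14, nat_lit 16, nat_lit 34]
noncomputable def w252 : Word := [nat_lit 36, nat_lit 38, nat_lit 32, nat_lit 10, nat_lit 4, nat_lit 28, nat_lit 34, nat_lit 36, nat_lit 43]
noncomputable def w253 : Word := [nat_lit 8, nat_lit 16, nat_lit 48, nat_lit 0, nat_lit 30, nat_lit 49, nat_lit 28, nat_lit 8]
noncomputable def w254 : Word := [nat_lit 38, nat_lit 8, nat_lit 12, nat_lit 42, nat_lit 24, nat_lit 35, nat_lit 16, nat_lit 35, nat_lit 16]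
noncomputable def w255 : Word := [nat_lit 35, nat_lit 39, nat_lit 43, nat_lit 4, nat_lit 39, nat_lit 26, nat_lit 24]
noncomputable def y256 : List Word := [w28, w29, w30, w31, w32, w33, w34, I22.u3, w35, w36, w37, w1, w38, w39, w40, w41, w42, w43, w44, w45, w46, w47, w48, w49, w50, w51, w52, w53, w54, w55, w56, w57, w58, w59, w60, w61, w62, w63, w64, w65, w66, w67, w68, w69, w70, w71, w72, w73, w74, w75, w76, w77, w78, w79, w80, w81, w82, w83, w84, w85, w86, w87, w88, w89, w90, w91, w92, w93, w94, w95, w96, w97, w98, w99, w100, w101, w102, w103, w104, w105, w106, w107, w108, w109, w110, w111, w112, w113, w114, w115, w116, w117, w118, w119, w120, w121, w122, w123, w124, w125, w126, w127, w128, w129, w130, w131, w132, w133, w134, w135, w136, w137, w138, w139, w140, w141, w142, w143, w144, w145, w146, w147, w148, w149, w150, w151, w152, w153, w154, w155, w156, w157, w158, w159, w160, w161, w162, w163, w164, w165, w166, w167, w168, w169, w170, w171, w172, w173, w174, w175, w176, w177, w178, w179, w180, w181,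 w182, w183, w184, w185, w186, w187, w188, w189, w190, w191, w192, w193, w194, w195, w196, w197, w198, w199, w200, w201, w202, w203, w204, w205, w206, w207, w208, w209, w210, w211, w212, w213, w214, w215, w216, w217, w218, w219, w220, w221, w222, w9, w223, w224, w225, w226, w227, w228, w229, w230, w231, w232, w233, w234, w235, w236, w237, w238, w239, w240, w241, w242, w243, w244, w245, w246, w247, w248, w249, w250, w251, w252, w253, w254, w255]
theorem k257 : relK F bs0 (commR (snds p22) y256) = true := by decide +kernel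
theorem x258 (M : PM G Ω 3510 H15.Fi22P.nets) (hN : Nat.card G = 64561751654400) : Cx M (fun g => Pr M g p22) b27 [] p22 y256 :=
  cx_conj (tb_cons (f25 M hN) (f25 M hN) (rels_base (base0 M hN) k26) (fun _ _ => fa_nil)) (rels_base (base0 M hN) k257)
noncomputable def s259 : Nat := (nat_lit 0x800000000000000000000000000000000000000000000000000000000000000000000000000000000000000000000000000000000000000000000000000000000000000000000000000000000000000000000000000000000000000000000000000000000000000000000000000000000000000000000000010000000000000000000000000000000000000000000000000000000000000010000000000000000000000000000000000000000000000000000000000000004000000000000000000000081)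
noncomputable def t260 : KT := KT.alt (dw (nat_lit 0x1614)) (KT.cnt (SE.and (SE.lev (nat_lit 1)) (SE.tab (nat_lit 0))))
 (KT.nil (SE.and (SE.lev (nat_lit 0)) (SE.tab (nat_lit 0))) [nat_lit 0, nat_lit 1, nat_lit 105] [] (dn (nat_lit 20) (nat_lit 0x2bf430c8430d08227282310433104201f4314602005c22d1432d14208f8317b4217b410400222bc3042c30d5c30d5c213c432c0830d10308743087410f7830f78222803057c3053c3053c2053c113343133421334109783097822d2c32d2c210303103022d2832d28201d8301d82010830108201081)))
theorem k261 : ktChk (nat_lit 3510) H15.Fi22P.nets F c19 b27 [] p22 y256 [] [] (nat_lit 0) (nat_lit 0) s259 0 t260 = true := by decide +kernel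
theorem l262 (M : PM G Ω 3510 H15.Fi22P.nets) (hN : Nat.card G = 64561751654400) : Cl M (fun g => Pr M g p22) [] [] (nat_lit 0) s259 :=
  cl_tree (e21 M hN) (x258 M hN) (dd0 _ _ _ _) k261
noncomputable def t263 : KT := KT.alt (dw (nat_lit 0x2b26)) (KT.br (nat_lit 98) (KT.alt (dw (nat_lit 0x2b26051b0517)) (KT.br (nat_lit 3) (KT.alt (dw (nat_lit 0x2b26051b0517)) (KT.br (nat_lit 662) (KT.alt (dw (nat_lit 0x01240b1c1127112b272e)) (KT.neq (nat_lit 3) [nat_lit 0] (nat_lit 533) [])
 (KT.alt (dw (nat_lit 0x2b26051b0517)) (KT.neq (nat_lit 3) [nat_lit 0] (nat_lit 533) [])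
 (KT.alt (dw (nat_lit 0x05241e232c112c3226)) (KT.neq (nat_lit 3) [nat_lit 0] (nat_lit 533) [])
 (KT.nil (SE.lev (nat_lit 4)) [nat_lit 73, nat_lit 60, nat_lit 109, nat_lit 110, nat_lit 111] [dw (nat_lit 0x05), dw (nat_lit 0x07), dw (nat_lit 0x09)] (dn (nat_lit 20) (nat_lit 0x0e5012f701256c12a10104fc10e641251410d1812f6c11628131dc1121c126c41055010554115e8135641068c1111c12b741051812bd41050c106881206412064235541355420b3010b302130011300205581055822b2412b2420b9010b90205141051421670116702257c1257c225681256822df412df420db810db82004410044200881008822e3812e3822b3012b3020d1c10d1c2247012470232d8132d8205fc105fc215cc115cc2052c1052c20528105282)))))))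
 (KT.nil (SE.lev (nat_lit 3)) [nat_lit 106, nat_lit 107, nat_lit 108] [dw (nat_lit 0x01), dw (nat_lit 0x03), dw (nat_lit 0x05), dw (nat_lit 0x01), dw (nat_lit 0x03), dw (nat_lit 0x01), dw (nat_lit 0x05), dw (nat_lit 0x03)
, dw (nat_lit 0x01), dw (nat_lit 0x05), dw (nat_lit 0x03), dw (nat_lit 0x01), dw (nat_lit 0x03), dw (nat_lit 0x01)] (dn (nat_lit 20) (nat_lit 0x159822378120b82264c334ac2006c229ec20de832eb4234a022b3820ac820c682326821dfc31cb033644325f03155020da4323fc31b983262c33548334e43121822b6822c7431758234c421e782045c2172831d5030cb4315b832c50301b43016c30e9c3172431f743118832f04315143294030ae830c943149830dd4305c83330432e7432d803357430c7831f7c3311032910309dc3176830ebc3271c3065032b0430a203339c31a743266c31ae8320f8320ac312283075c31b50335b43)))))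
 (KT.alt (dw (nat_lit 0x23231f01212b0b1c)) (KT.br (nat_lit 3) (KT.alt (dw (nat_lit 0x23231f01212b0b1c)) (KT.br (nat_lit 662) (KT.alt (dw (nat_lit 0x23231f01212b0b1c)) (KT.neq (nat_lit 3) [nat_lit 0] (nat_lit 533) [])
 (KT.alt (dw (nat_lit 0x3220270521282c32)) (KT.neq (nat_lit 3) [nat_lit 0] (nat_lit 533) [])
 (KT.alt (dw (nat_lit 0x261d1c2b282e19)) (KT.neq (nat_lit 3) [nat_lit 0] (nat_lit 533) [])
 (KT.nil (SE.lev (nat_lit 4)) [nat_lit 81, nat_lit 115, nat_lit 116, nat_lit 117, nat_lit 118] [dw (nat_lit 0x01)] (dn (nat_lit 20) (nat_lit 0x31ec4098441ea040c0442d54405bc4034840634400744007450018400ec40440404405239c409bc42d4c42d4c5200442e2c429c4429c452d0c423a4410e0410e051c4841e4c41dec41dec524dc431b0431b0524f8424f8524f830c9c408cc408cc513f4413f4513f431950414584145851884418845188430240402744027450328403285032831e28414bc414bc523a8423a8523a83284c40d8440d84528504285052850307e0407e0507e0307e020004400045000430004209e8409e8509e8309e82344443444534443344421e4841e4851e4831e48218f0418f0518f0318f02)))))))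
 (KT.nil (SE.lev (nat_lit 3)) [nat_lit 112, nat_lit 113, nat_lit 114] [dw (nat_lit 0x03), dw (nat_lit 0x01), dw (nat_lit 0x05), dw (nat_lit 0x03), dw (nat_lit 0x01), dw (nat_lit 0x05), dw (nat_lit 0x03), dw (nat_lit 0x01)
, dw (nat_lit 0x05), dw (nat_lit 0x03), dw (nat_lit 0x01), dw (nat_lit 0x05), dw (nat_lit 0x03), dw (nat_lit 0x01)] (dn (nat_lit 20) (nat_lit 0x3278103f8123d4228703330831b8423598219ac22db03298c32fd82317030a303033432bb02361021c78314703088c317f832a0831da43205033354325b0325c83)))))
 (KT.alt (dw (nat_lit 0x2b26)) (KT.br (nat_lit 3) (KT.alt (dw (nat_lit 0x31282b1d05070f2f)) (KT.br (nat_lit 662) (KT.alt (dw (nat_lit 0x31282b1d05070f2f)) (KT.neq (nat_lit 3) [nat_lit 0] (nat_lit 533) [])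
 (KT.alt (dw (nat_lit 0x28262e1f23292e262d)) (KT.neq (nat_lit 3) [nat_lit 0] (nat_lit 533) [])
 (KT.alt (dw (nat_lit 0x0d322007293225311f)) (KT.neq (nat_lit 3) [nat_lit 0] (nat_lit 533) [])
 (KT.nil (SE.lev (nat_lit 4)) [nat_lit 8, nat_lit 60, nat_lit 123, nat_lit 124, nat_lit 125] [dw (nat_lit 0x01), dw (nat_lit 0x03)] (dn (nat_lit 20) (nat_lit 0x181450554514b852d3050688527fc5289450088518dc530c450528510e451f2c52a8c52a8c30d1c52b2452b24322ec514985149832d5852d7c52d7c305fc516705167031e7c52d4852d4832e3c52ee052ee03068c50e6450e6431104521945219432e1853574535743051852f6c52f6c3235c5174c5174c32ab452ab432ab44256c5256c3256c41e8c51e8c31e8c42df852df832df84121c5121c3121c418a8518a8318a842d7452d7432d7440b3050b3030b3040d7050d7030d704356c5356c3356c42df452df432df441eb451eb431eb44)))))))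
 (KT.alt (dw (nat_lit 0x2b262f05091d090d2f)) (KT.br (nat_lit 662) (KT.alt (dw (nat_lit 0x051c2d1c0d2e0d282c)) (KT.neq (nat_lit 3) [nat_lit 0] (nat_lit 533) [])
 (KT.alt (dw (nat_lit 0x2b262f05091d090d2f)) (KT.neq (nat_lit 3) [nat_lit 0] (nat_lit 533) [])
 (KT.alt (dw (nat_lit 0x25231909232e280f2e)) (KT.neq (nat_lit 3) [nat_lit 0] (nat_lit 533) [])
 (KT.nil (SE.lev (nat_lit 4)) [nat_lit 126, nat_lit 127, nat_lit 128, nat_lit 129, nat_lit 130] [] (dn (nat_lit 20) (nat_lit 0x34305144850cb8532e850a3c52890505d0505d041e7c522ec5141050f1450f14408cc510e0508a051e4851e48409c4529cc5069050690402b05268c5268c40d6c50d6c40d6c30d785219452d4852d484174c51498514984232c5232c4232c30d7450c9c5191c5191c423a4510645106442d0c52d0c42d0c309e052950529504062c5062c4062c32f5852f5842f5832f5822334519a4519a44110451104411043235c5235c4235c3235c2282c513f4513f44281c5281c4281c30d3050d3040d3030d302317053170431703317023170111105111041110311102111010984509844098430984209841)))))))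
 (KT.alt (dw (nat_lit 0x26171f210b2b262e0b)) (KT.br (nat_lit 662) (KT.alt (dw (nat_lit 0x202d0527240d312c262e)) (KT.neq (nat_lit 3) [nat_lit 0] (nat_lit 533) [])
 (KT.alt (dw (nat_lit 0x26171f210b2b262e0b)) (KT.neq (nat_lit 3) [nat_lit 0] (nat_lit 533) [])
 (KT.alt (dw (nat_lit 0x111d29192d24292d25)) (KT.neq (nat_lit 3) [nat_lit 0] (nat_lit 533) [])
 (KT.nil (SE.lev (nat_lit 4)) [nat_lit 8, nat_lit 67, nat_lit 131, nat_lit 132, nat_lit 133] [dw (nat_lit 0x05), dw (nat_lit 0x01)] (dn (nat_lit 20) (nat_lit 0x28a05034050a585242c523d851300511e050d6c52bd45358052f585259850e4c5153451534409c45063c5063c426dc522e8522e8435b852b5852b58432e85318453184425145257c5257c42968521f8521f840768505d0505d040db8515e8515e84205c52a1852a18424805268c5268c412c850aac50aac426a0526a0426a0209e0509e0409e0215a0515a0415a022ac052ac042ac0229cc529cc429cc20e5050e5040e50214ec514ec414ec2026c5026c4026c22470524704247022fe052fe042fe022d6852d6842d682290052900429002)))))))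
 (KT.alt (dw (nat_lit 0x2b2627192821)) (KT.br (nat_lit 662) (KT.alt (dw (nat_lit 0x2b2627192821)) (KT.neq (nat_lit 3) [nat_lit 0] (nat_lit 533) [])
 (KT.alt (dw (nat_lit 0x1b1d0d202d240d2c32)) (KT.neq (nat_lit 3) [nat_lit 0] (nat_lit 533) [])
 (KT.alt (dw (nat_lit 0x01282e1e24282c312d)) (KT.neq (nat_lit 3) [nat_lit 0] (nat_lit 533) [])
 (KT.nil (SE.lev (nat_lit 4)) [nat_lit 94, nat_lit 134, nat_lit 135, nat_lit 136, nat_lit 137] [dw (nat_lit 0x09), dw (nat_lit 0x01)] (dn (nat_lit 20) (nat_lit 0x00ec42b78426c4410644260842064408cc43058422e84001442618425984281c40d3040d3030a9c41a6c41a6c30b6442bd442bd4314bc404404044030de441f2041f2030dec4257c4257c32830400384003830aa041f2441f2430e5042be042be0323a440c9c40c9c30db441a6841a6830db842d8442d8431e2841e2831e28217304173031730212c8412c8312c82191c4191c3191c2206c4206c3206c215a0415a0315a0210e0410e0310e02162c4162c3162c21628416283162823150431503315021c6441c6431c64215cc415cc315cc2)))))))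
 (KT.alt (dw (nat_lit 0x2b262f)) (KT.cnt (SE.and (SE.lev (nat_lit 4)) (SE.img [nat_lit 0] (SE.lev (nat_lit 4)))))
 (KT.alt (dw (nat_lit 0x2b262f051e0d2f)) (KT.br (nat_lit 662) (KT.alt (dw (nat_lit 0x251d1c2d23092f2c0f2d)) (KT.neq (nat_lit 3) [nat_lit 0] (nat_lit 533) [])
 (KT.alt (dw (nat_lit 0x0529251c2f240d2e26)) (KT.neq (nat_lit 3) [nat_lit 0] (nat_lit 533) [])
 (KT.alt (dw (nat_lit 0x2b262f051e0d2f)) (KT.neq (nat_lit 3) [nat_lit 0] (nat_lit 533) [])
 (KT.nil (SE.lev (nat_lit 4)) [nat_lit 12, nat_lit 29, nat_lit 11, nat_lit 138, nat_lit 139] [dw (nat_lit 0x05), dw (nat_lit 0x03), dw (nat_lit 0x07)] (dn (nat_lit 20) (nat_lit 0x1a7452ee051b10515fc5300051c645114452a58530585116452d7c52bac5153052d8850a4c514e852e3c50db4519f452d5851f24515705285c51fb4529405294012d3052d3010b8c50b8c129b8529b812c8052c8010a9c50a9c12fd452fd4129585295811f2051f2012ed852ed8128945289411fb051fb012a6c52a6c128f8528f8117545175412f4852f4812df852df8117305173012e6052e6012d7452d74126085260812dac52dac129fc529fc120f4520f41)))))))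
 (KT.alt (dw (nat_lit 0x2b26)) (KT.br (nat_lit 662) (KT.alt (dw (nat_lit 0x2b26050729311e0b31)) (KT.neq (nat_lit 3) [nat_lit 0] (nat_lit 533) [])
 (KT.alt (dw (nat_lit 0x2b26320b1d32290705)) (KT.neq (nat_lit 3) [nat_lit 0] (nat_lit 533) [])
 (KT.alt (dw (nat_lit 0x2b26)) (KT.neq (nat_lit 3) [nat_lit 0] (nat_lit 533) [])
 (KT.nil (SE.lev (nat_lit 4)) [nat_lit 12, nat_lit 111, nat_lit 73, nat_lit 60, nat_lit 140] [dw (nat_lit 0x03), dw (nat_lit 0x01)] (dn (nat_lit 20) (nat_lit 0x097c52bd45068852a74516285121c536bc5206450b305093850db850088501245004050040315cc511c0511c030528501b8501b83257452a7052a703257c529005290032df452a9452a9432b2c52aa052aa030e5050aac50aac3256c525f4525f4301c05053050530326c4526d8526d83055450964509643056c5056c3056c426dc526dc326dc402a8502a8302a842b3452b3432b34411f4511f4311f44123051230312304369c5369c3369c420d8520d8320d840ad050ad030ad040c9050c9030c9040a5850a5830a58402b4502b4302b44)))))))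
 (KT.alt (dw (nat_lit 0x1b2926200b212b2732)) (KT.br (nat_lit 662) (KT.alt (dw (nat_lit 0x211f230521240b2f2c)) (KT.neq (nat_lit 3) [nat_lit 0] (nat_lit 533) [])
 (KT.alt (dw (nat_lit 0x1b2926200b212b2732)) (KT.neq (nat_lit 3) [nat_lit 0] (nat_lit 533) [])
 (KT.alt (dw (nat_lit 0x1f2120210732282d2d)) (KT.neq (nat_lit 3) [nat_lit 0] (nat_lit 533) [])
 (KT.nil (SE.lev (nat_lit 4)) [nat_lit 94, nat_lit 8, nat_lit 29, nat_lit 141, nat_lit 142] [dw (nat_lit 0x05), dw (nat_lit 0x03)] (dn (nat_lit 20) (nat_lit 0x0f14518705369c51c00511fc528ec519a451948528f051c405281852b2c51410514b8514b841e74510e8510e8436a050124501244171051e7c51e7c42d4451ec451ec442a70508945089442334527fc527fc4189c508a4508a442a74505205052042874522ec522ec41bbc508d4508d442b285056c5056c410e4510e4410e4110405104041040101005010040100111045110441104113f8513f8413f8109385093840938118dc518dc418dc10d8850d8840d881053050530405301235c5235c4235c11ec051ec041ec01057050570405701)))))))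
 (KT.alt (dw (nat_lit 0x2b262f0d271928212f)) (KT.br (nat_lit 662) (KT.alt (dw (nat_lit 0x2b262f0d271928212f)) (KT.neq (nat_lit 3) [nat_lit 0] (nat_lit 533) [])
 (KT.alt (dw (nat_lit 0x2023171f2e212f2d)) (KT.neq (nat_lit 3) [nat_lit 0] (nat_lit 533) [])
 (KT.alt (dw (nat_lit 0x2c191d190731212f25)) (KT.neq (nat_lit 3) [nat_lit 0] (nat_lit 533) [])
 (KT.nil (SE.lev (nat_lit 4)) [nat_lit 29, nat_lit 60, nat_lit 143, nat_lit 144, nat_lit 145] [dw (nat_lit 0x01), dw (nat_lit 0x03)] (dn (nat_lit 20) (nat_lit 0x28a05281851198521a051948511a8511685189c51adc50e4c51bbc51cb8511dc535b8535b8413f8519b4519b441da8520e8520e8415345261c5261c4104050d7c50d7c41a9051c4c51c4c426a0525f8525f8410e850cb450cb441174521b0521b0424545242c5242c41ec4510685106840f4852684526844288452884428843165c5165c4165c32ba852ba842ba832ac052ac042ac031ddc51ddc41ddc320c0520c0420c032b5852b5842b5831c8451c8441c8431c7051c7041c70336a4536a4436a43236c5236c4236c31b3c51b3c41b3c3)))))))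
 (KT.nil (SE.lev (nat_lit 3)) [nat_lit 119, nat_lit 120, nat_lit 121, nat_lit 122, nat_lit 7, nat_lit 65] [dw (nat_lit 0x05), dw (nat_lit 0x09), dw (nat_lit 0x0b), dw (nat_lit 0x01), dw (nat_lit 0x07), dw (nat_lit 0x03), dw (nat_lit 0x05), dw (nat_lit 0x01)
, dw (nat_lit 0x07), dw (nat_lit 0x01), dw (nat_lit 0x03), dw (nat_lit 0x01)] (dn (nat_lit 20) (nat_lit 0x1388223e82162021718211282258821aac21b5420a5022aec20ffc20adc2060022e9c21234203ec2207821fe421f9021c6c20f28220a820a3021ca420ea820ea840ea81061c2061c4061c113bc213bc413bc107742077440774132cc232cc432cc10818208184081812f7822f7842f7810194201944019411a48215ac21b4022528211cc221c021b5823584233782287c22834232b4229b02365c23284224342215821dd022930215f821dac21dac61dac315182151861518320182201862018312f0212f0612f031f782257821598215142346423464634643264c2264c6264c31c5421c5461c54311d8211d8611d830324206bc2066821290203e0203e0603e0330a8230a8630a8304442044460444325bc225bc625bc3354c234bc21d2821f9c236c8236c8636c83204c2204c6204c3153c2153c6153c330ac230ac630ac3)))))))))))))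
 (KT.nil (SE.and (SE.lev (nat_lit 2)) (SE.tab (nat_lit 0))) [nat_lit 0, nat_lit 1, nat_lit 105] [] (dn (nat_lit 20) (nat_lit 0x01d8314782040032d282057c21468314682043c3042832d2c20cf822bf432bf42278422784111a43005c31030317dc317dc210203310422228309343093422d142088020880122bc200243146031460201f4301f4201fc201fc10f783053c3053c20c8430c8420c841042c3042c2042c10970308f8308f8201883)))))))
 (KT.alt (dw (nat_lit 0x1f)) (KT.cnt (SE.and (SE.lev (nat_lit 2)) (SE.tab (nat_lit 0))))
 (KT.nil (SE.and (SE.lev (nat_lit 1)) (SE.tab (nat_lit 0))) [nat_lit 0, nat_lit 1, nat_lit 2] [] (dn (nat_lit 20) (nat_lit 0x222820f88327283088022d2c201fc2005c22d2822d2832c08217b4314782133420cf812d1422d143057c201d8209342093411460214603010820108314682042820428310302103030d1020d1010d10331042310430c8420c8430d0820d0810970308f8322bc222bc301f4201f4101f43188c30f7820f7810f783))))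
theorem k264 : ktChk (nat_lit 3510) H15.Fi22P.nets F c19 b27 [] p22 y256 [] [nat_lit 0] (nat_lit 1) (nat_lit 7) (nat_lit 0x4000000000000000000000080) 0 t263 = true := by decide +kernel
theorem l265 (M : PM G Ω 3510 H15.Fi22P.nets) (hN : Nat.card G = 64561751654400) : Cl M (fun g => Pr M g p22) [] [nat_lit 0] (nat_lit 7) (nat_lit 0x4000000000000000000000080) :=
  cl_tree (e21 M hN) (x258 M hN) (dd0 _ _ _ _) k264
noncomputable def t266 : KT := KT.alt (dw (nat_lit 0x051b0517)) (KT.br (nat_lit 3) (KT.alt (dw (nat_lit 0x212f1d050f070f2f)) (KT.br (nat_lit 662) (KT.alt (dw (nat_lit 0x2e191d232c092c2e27)) (KT.neq (nat_lit 3) [nat_lit 0] (nat_lit 533) [])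
 (KT.alt (dw (nat_lit 0x1907261e29210d2825)) (KT.neq (nat_lit 3) [nat_lit 0] (nat_lit 533) [])
 (KT.alt (dw (nat_lit 0x212f1d050f070f2f)) (KT.neq (nat_lit 3) [nat_lit 0] (nat_lit 533) [])
 (KT.nil (SE.lev (nat_lit 4)) [nat_lit 8, nat_lit 9, nat_lit 10, nat_lit 11, nat_lit 12] [dw (nat_lit 0x07), dw (nat_lit 0x05)] (dn (nat_lit 20) (nat_lit 0x30c422e6020e50230fc22dac20aac21f2c214e8222e821d8821530224702289422a8c22a8c5214c219f4219f452900215cc215cc5295822f1022f10524e421570215705257c211c0211c052d582356c2356c50e3022f4822f48515e822d8422d845285c236382363850e1c22a6c22a6c515a022a1022a1052d7c22d7c52d7c111242112451124126d8226d8526d812a5822a5852a58111582115851158126c4226c4526c412d7422d7452d7411fa421fa451fa410b9020b9050b90129fc229fc529fc11f1421f1451f1410b6420b6450b641)))))))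
 (KT.alt (dw (nat_lit 0x0b3221293207)) (KT.br (nat_lit 662) (KT.alt (dw (nat_lit 0x0b3221293207)) (KT.neq (nat_lit 3) [nat_lit 0] (nat_lit 533) [])
 (KT.nil (SE.lev (nat_lit 4)) [nat_lit 11, nat_lit 13, nat_lit 14] [dw (nat_lit 0x01)] (dn (nat_lit 20) (nat_lit 0x31f82278c22ccc221e831f6c223002206c32b9411a28232902305821fc822bf831f2422db832db821cb4328c831754330bc2326021760125a020b8c22740327402274011ba021624316242226c33020324a4324a41173032dcc21c0431c0422fb4121683216820a9c2334c3334c2334c126502304833048235883358822b78327c8327c8227c81320c3320c2320c10a98227b0327b020aa030aa0222ac322ac1303c3303c21790317902179010de422e8432e842069430694234f8334f8112fc312fc227e4327e4227e41335c3335c2335c12e1432e1422e14112c4312c4212c411a2431a2421a6831a682)))))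
 (KT.alt (dw (nat_lit 0x051b0517)) (KT.br (nat_lit 662) (KT.alt (dw (nat_lit 0x071c0d1f0f21272f2e)) (KT.neq (nat_lit 3) [nat_lit 0] (nat_lit 533) [])
 (KT.alt (dw (nat_lit 0x21272419320b0d3227)) (KT.neq (nat_lit 3) [nat_lit 0] (nat_lit 533) [])
 (KT.alt (dw (nat_lit 0x051b0517)) (KT.neq (nat_lit 3) [nat_lit 0] (nat_lit 533) [])
 (KT.nil (SE.lev (nat_lit 4)) [nat_lit 11, nat_lit 15, nat_lit 16, nat_lit 17, nat_lit 18] [dw (nat_lit 0x01), dw (nat_lit 0x05), dw (nat_lit 0x09)] (dn (nat_lit 20) (nat_lit 0x22e842e14430704247042e8442c7840aac428c842fa040e50427c842ee842be041f6c433cc42e3841fc8435d8411f442300433a041628422c4432a0412c8412c82334c4334c20b5c40b5c2130041300232904329020e9440e94226dc426dc230bc430bc213c0413c022bd442bd4230f4430f42129c4129c20b6440b64228dc428dc212bc412bc20b9040b9022524425242168841688226d8426d82226c4226c20c6040c60226c4426c4222ac422ac21010410102)))))))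
 (KT.alt (dw (nat_lit 0x051b05172f)) (KT.cnt (SE.and (SE.lev (nat_lit 4)) (SE.img [nat_lit 0] (SE.lev (nat_lit 4)))))
 (KT.alt (dw (nat_lit 0x21262b05112c25)) (KT.br (nat_lit 662) (KT.alt (dw (nat_lit 0x21262b05112c25)) (KT.neq (nat_lit 3) [nat_lit 0] (nat_lit 533) [])
 (KT.alt (dw (nat_lit 0x0f2d051f272b0726292e)) (KT.neq (nat_lit 3) [nat_lit 0] (nat_lit 533) [])
 (KT.alt (dw (nat_lit 0x071c2f1f0f2107272e)) (KT.neq (nat_lit 3) [nat_lit 0] (nat_lit 533) [])
 (KT.nil (SE.lev (nat_lit 4)) [nat_lit 19, nat_lit 20, nat_lit 21, nat_lit 22, nat_lit 23] [dw (nat_lit 0x01), dw (nat_lit 0x09)] (dn (nat_lit 20) (nat_lit 0x2a8c41e48409ec4295842d0c41bbc41f2c4041040470429fc403fc428184181442f2042f2032d5440d7440d7431068419b0419b03300042e3c42e3c323a84282c4282c31e744189c4189c32ab4419dc419dc308a04000440004319b44049c4049c32d8842ee042ee030cb8400184001831870419484194831d8841d8831d88218fc418fc318fc20cb440cb430cb422d7442d7432d7421114411143111422d4442d4432d4422f1042f1032f1020984409843098420d7c40d7c30d7c228944289432894213f4413f4313f4211fc411fc311fc2)))))))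
 (KT.alt (dw (nat_lit 0x212f1d050d2f)) (KT.br (nat_lit 662) (KT.alt (dw (nat_lit 0x212f1d050d2f)) (KT.neq (nat_lit 3) [nat_lit 0] (nat_lit 533) [])
 (KT.alt (dw (nat_lit 0x2d1e311c0d25232b28)) (KT.neq (nat_lit 3) [nat_lit 0] (nat_lit 533) [])
 (KT.alt (dw (nat_lit 0x31200b2e09272607)) (KT.neq (nat_lit 3) [nat_lit 0] (nat_lit 533) [])
 (KT.nil (SE.lev (nat_lit 4)) [nat_lit 18, nat_lit 24, nat_lit 25, nat_lit 26, nat_lit 27] [dw (nat_lit 0x01)] (dn (nat_lit 20) (nat_lit 0x176040ddc41410421f44116441c0042b944326042bf842bf822028415fc40e3040e302232c40f144235c4235c2335c427184320c4320c22ed840a94419f4419f42232841710427fc427fc21ba041624416242246c4246c2246c529b841fa441fa4215304153021530514484174c4174c222ec422ec222ec511f042168421682173c4173c2173c51a5c42e6042e6021158411582115851dfc418a8418a8218dc418dc218dc5303c4303c2303c5303c32a6c42a6c22a6c52a6c3149841498214985149832ac842ac822ac852ac8324e4424e4224e4524e430d7040d7020d7050d703)))))))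
 (KT.alt (dw (nat_lit 0x210f19050f2f)) (KT.br (nat_lit 662) (KT.alt (dw (nat_lit 0x192c192c212d2c0f32)) (KT.neq (nat_lit 3) [nat_lit 0] (nat_lit 533) [])
 (KT.alt (dw (nat_lit 0x210f19050f2f)) (KT.neq (nat_lit 3) [nat_lit 0] (nat_lit 533) [])
 (KT.alt (dw (nat_lit 0x25090520322d213227)) (KT.neq (nat_lit 3) [nat_lit 0] (nat_lit 533) [])
 (KT.nil (SE.lev (nat_lit 4)) [nat_lit 11, nat_lit 28, nat_lit 29, nat_lit 30, nat_lit 31] [dw (nat_lit 0x01), dw (nat_lit 0x05)] (dn (nat_lit 20) (nat_lit 0x356c42b94409c44363842ac840d6c42f20411f04026c42ab4416244063c4295842d5842d58521d0421f4421f4531844248042480528944285c4285c5215c4246c4246c52d68423d8423d852d3042d8842d8853048432604326052f58429cc429cc52c8042e3c42e3c52fec4320c4320c532e84268c4268c52f1042f1052f10226fc426fc526fc205d0405d0505d022a8c42a8c52a8c222444224452244209e0409e0509e02357443574535742179041790517902034040340503402363c4363c5363c21c0441c0451c042076840768507682)))))))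
 (KT.nil (SE.lev (nat_lit 3)) [nat_lit 3, nat_lit 4, nat_lit 5, nat_lit 6, nat_lit 7] [dw (nat_lit 0x09), dw (nat_lit 0x05), dw (nat_lit 0x07), dw (nat_lit 0x01), dw (nat_lit 0x03), dw (nat_lit 0x07), dw (nat_lit 0x05), dw (nat_lit 0x01)
, dw (nat_lit 0x07), dw (nat_lit 0x03), dw (nat_lit 0x07), dw (nat_lit 0x01)] (dn (nat_lit 20) (nat_lit 0x1aa022eb82212c2218022de031a78330dc22bb02112022134224c423348236b8126e411c60136b4133d812678136c84153c4069c21b342160822fa421b8411ffc128e02155c203d83003c312d83154832f5442b684172c4249c40848406d441a04436c442ed042c4840e7c411f843014424904338441ccc430b042144404543089031734215b420acc209942322042b4c429d44325c40c7040e90420f0223dc22f90231d021aa4416144273c42fc441dbc41b704274822748432882328842140415584185040b20420b8421c440ed0416f4431e4228c0232b43287c31b4031a483128020b48200e02011c20288200a82317822670232e4220d420a28209dc23670225302348021d90221dc21b202286832ef431520215bc22dd42299c2161c21ab0235d021fe821ae43177430350203503025820258327dc331f43321c31bac306143077c31b4c314f0336ac32a30334f4325943027c302203215433624306503008c3)))))))))))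
 (KT.alt (dw (nat_lit 0x0b2626192409282b32)) (KT.br (nat_lit 3) (KT.alt (dw (nat_lit 0x0b2626192409282b32)) (KT.br (nat_lit 662) (KT.alt (dw (nat_lit 0x1124050d280d2b3105)) (KT.neq (nat_lit 3) [nat_lit 0] (nat_lit 533) [])
 (KT.alt (dw (nat_lit 0x2331192323073109)) (KT.neq (nat_lit 3) [nat_lit 0] (nat_lit 533) [])
 (KT.alt (dw (nat_lit 0x0b2626192409282b32)) (KT.neq (nat_lit 3) [nat_lit 0] (nat_lit 533) [])
 (KT.nil (SE.lev (nat_lit 4)) [nat_lit 18, nat_lit 101, nat_lit 102, nat_lit 103, nat_lit 104] [dw (nat_lit 0x01), dw (nat_lit 0x07), dw (nat_lit 0x03)] (dn (nat_lit 20) (nat_lit 0x2428326983195833008326c031bf830540312f431df83080c30f38318cc333703212430e98328e83208431698303c8334e0308dc301dc3339030cd43080830808512dc312dc5127431274506cc306cc50f2430f2450b1030b10531183311852170321705106031060527bc327bc526943269450cc430cc4502e0302e05349c3349c5174031740503c4303c4535a0335a051e8031e80522d4322d451b6831b685142c3142c52cd032cd05211432114518b0318b05)))))))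
 (KT.nil (SE.lev (nat_lit 3)) [nat_lit 99, nat_lit 100, nat_lit 1] [dw (nat_lit 0x01), dw (nat_lit 0x03), dw (nat_lit 0x05), dw (nat_lit 0x01), dw (nat_lit 0x03), dw (nat_lit 0x05), dw (nat_lit 0x01), dw (nat_lit 0x03)
, dw (nat_lit 0x05), dw (nat_lit 0x01), dw (nat_lit 0x03), dw (nat_lit 0x05), dw (nat_lit 0x01), dw (nat_lit 0x03)] (dn (nat_lit 20) (nat_lit 0x35d0235d01345c1217c136201259432a9010350120c81238c12c9013130323f431fe8320bc335b8335b812e4c125d01364c32acc3161432f583271433384308b831c7c3127c32e643199431ed430c4c32f88301a43)))))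
 (KT.nil (SE.and (SE.lev (nat_lit 2)) (SE.tab (nat_lit 0))) [nat_lit 0, nat_lit 1, nat_lit 2] [] (dn (nat_lit 20) (nat_lit 0x005c2005c30880201fc201fc30cf8101d820108322803278430428204283043c22d1430934209341103030d1030f8820f8810f8831d1821d1811d1832728227283134c33104301f4122bc222bc32d2822d28317b4217b4117b4318001180030f783053c2053c3146821468309703042c2042c1042c3188c308f83))))
theorem k267 : ktChk (nat_lit 3510) H15.Fi22P.nets F c19 b27 [] p22 y256 [] [nat_lit 7, nat_lit 0] (nat_lit 2) (nat_lit 98) (bit (nat_lit 98)) 0 t266 = true := by decide +kernel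
theorem l268 (M : PM G Ω 3510 H15.Fi22P.nets) (hN : Nat.card G = 64561751654400) : Cl M (fun g => Pr M g p22) [] [nat_lit 7, nat_lit 0] (nat_lit 98) (bit (nat_lit 98)) :=
  cl_tree (e21 M hN) (x258 M hN) (dd0 _ _ _ _) k267
noncomputable def t269 : KT := KT.nil (SE.lev (nat_lit 3)) [] [] []
theorem k270 : ktChk (nat_lit 3510) H15.Fi22P.nets F c19 b27 [] p22 y256 [] [nat_lit 98, nat_lit 7, nat_lit 0] (nat_lit 3) (nat_lit 3) s8 0 t269 = true := by decide +kernel
theorem l271 (M : PM G Ω 3510 H15.Fi22P.nets) (hN : Nat.card G = 64561751654400) : Cl M (fun g => Pr M g p22) [] [nat_lit 98, nat_lit 7, nat_lit 0] (nat_lit 3) s8 :=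
  cl_tree (e21 M hN) (x258 M hN) (dd0 _ _ _ _) k270
noncomputable def t272 : KT := KT.nil (SE.lev (nat_lit 4)) [] [] []
theorem k273 : ktChk (nat_lit 3510) H15.Fi22P.nets F c19 b27 [] p22 y256 [] [nat_lit 3, nat_lit 98, nat_lit 7, nat_lit 0] (nat_lit 4) (nat_lit 662) s15 0 t272 = true := by decide +kernel
theorem l274 (M : PM G Ω 3510 H15.Fi22P.nets) (hN : Nat.card G = 64561751654400) : Cl M (fun g => Pr M g p22) [] [nat_lit 3, nat_lit 98, nat_lit 7, nat_lit 0] (nat_lit 662) s15 :=
  cl_tree (e21 M hN) (x258 M hN) (dd0 _ _ _ _) k273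
noncomputable def c275 : Chn := [((nat_lit 0), s259), ((nat_lit 7), (nat_lit 0x4000000000000000000000080)), ((nat_lit 98), (bit (nat_lit 98))), ((nat_lit 3), s8), ((nat_lit 662), s15)]
theorem e276 (M : PM G Ω 3510 H15.Fi22P.nets) (hN : Nat.card G = 64561751654400) : SC M (cenP M p22 rfl) [] c275 :=
  ⟨Cl.lev (l262 M hN), ⟨Cl.lev (l265 M hN), ⟨Cl.lev (l268 M hN), ⟨Cl.lev (l271 M hN), ⟨Cl.lev (l274 M hN), (EC.sc_end (e21 M hN) (by decide +kernel))⟩⟩⟩⟩⟩
theorem eqCU (M : PM G Ω 3510 H15.Fi22P.nets) (hN : Nat.card G = 64561751654400) : Nat.card (Subgroup.centralizer (sub M.gen [I22.u3] : Set G)) ≤ 1769472 :=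
  (cenP_eq (M := M) (ps := p22) rfl ▸ SC.card_le' (e276 M hN) (by decide +kernel) : Nat.card (Subgroup.centralizer (sub M.gen (fsts p22) : Set G)) ≤ _)
noncomputable def w277 : Word := [nat_lit 8, nat_lit 34, nat_lit 44, nat_lit 46, nat_lit 31, nat_lit 22, nat_lit 19, nat_lit 19, nat_lit 35, nat_lit 29, nat_lit 43]
noncomputable def w278 : Word := [nat_lit 31, nat_lit 45, nat_lit 36, nat_lit 44, nat_lit 40, nat_lit 34, nat_lit 19, nat_lit 21, nat_lit 37, nat_lit 20, nat_lit 34]
noncomputable def w279 : Word := [nat_lit 0, nat_lit 49, nat_lit 12, nat_lit 27, nat_lit 10, nat_lit 38, nat_lit 19, nat_lit 21, nat_lit 38, nat_lit 48, nat_lit 18]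
noncomputable def w280 : Word := [nat_lit 38, nat_lit 43, nat_lit 32, nat_lit 40, nat_lit 49, nat_lit 2, nat_lit 19, nat_lit 6, nat_lit 27, nat_lit 36, nat_lit 12]
noncomputable def w281 : Word := [nat_lit 37, nat_lit 8, nat_lit 36, nat_lit 4, nat_lit 28, nat_lit 2, nat_lit 20, nat_lit 24, nat_lit 19, nat_lit 28]
noncomputable def w282 : Word := [nat_lit 2, nat_lit 14, nat_lit 36, nat_lit 10, nat_lit 16, nat_lit 37, nat_lit 4, nat_lit 6, nat_lit 26, nat_lit 28, nat_lit 2]
noncomputable def w283 : Word := [nat_lit 36, nat_lit 49, nat_lit 6, nat_lit 35, nat_lit 42, nat_lit 0, nat_lit 4, nat_lit 19, nat_lit 26, nat_lit 28, nat_lit 2]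
noncomputable def ks : List Word := [w277, w278, w279, w280, w281, w282, w86, w283]
theorem k284 : relK F bs0 (commR [I22.u3] ks) = true := by decide +kernel
theorem eqCL (M : PM G Ω 3510 H15.Fi22P.nets) (hN : Nat.card G = 64561751654400) : (sub M.gen ks) ≤ (Subgroup.centralizer (sub M.gen [I22.u3] : Set G)) :=
  (le_cent_of (rels_base (base0 M hN) k284))
noncomputable def s285 : Nat := (nat_lit 0x20000000000000000000000000000000000000000000000000000000000000c2000000000000000042000000000000000000000000000000000000000000000000000000000000000000000020000040000000000000000000000000000000000000000000000000000000000000000000000800100000400000000000000000000000000000000000000000000000000000000000000000000000000000000400000000000000000000000000000000000000000000000000000000000000000000000000000000100802000000000000000000000000000000000000000000000000000450000000002000000082000000000000000000000000200000000000000000000001100000000044000000000000000000000000000000000800014400000020000000000000000000000000000000000000000000000004000200040000001200000000000000000000000000000000000000000000000800080000000000000008c0100000000000000000000000000000000a0400000000000040000000000800200)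
noncomputable def s286 : Nat := (nat_lit 0x20818000000000000000b80000480180000000480000000004824002000010808000000000000000000000001000000200020000000000000000000000000000000000000000000003200000200008006420000800000a1000000000002c000000018030000000000000000004000018120000000018800012000100000a00201400000000000000000000230000000000040000008000100006000000000000000100010092450000040000000000000000000000000000088000110000000000000000040400000000000242112010000000004000000004000000000000100000000010000404000000000000808004000000000110804002000000000000080080040000000000000000000000a000800000080000200000001400004000000102400800020800000000000020010080a00200060004100800008200400248000044600000000000002000110800004094801124406148200000104800002310000000000000010082840840a400080922800804b10008a050000154000103190142000000000168b019003314098000008009215080194001010001401272034200000aa94813090002b0020308c0006201054062)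
noncomputable def s287 : Nat := (nat_lit 0x200000400000000000000000000000000420000000002080000001000000000000000000000000000000000001000001000000000a00000020002000000000000000000000010000000000000000000000008200000000040000100002000000040000000000000000000000000000000000000a01000000000020200000000000020082000010400000000000000000000000000000000000000204000010000020104100080000040008000050000000000000000000000000000080000000000000000c0c0008100000004000006240680200000800200000020000000000000000000000010000000000000840000000020010180082008002000000000000000000000000000000000000400000004000040100010020000000080808004000000000000000000000000000001000000008000000200040000000000000000800004200004000000000160000001000400040010000e0030800000000101000000000800004040000000002000001000008080014000c0010810000000000000000000008000000040000000000000000000008000010000000220000005000000000000008000)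
noncomputable def c288 : Chn := [((nat_lit 9), s285), ((nat_lit 1), s286), ((nat_lit 15), s287), ((nat_lit 0), (bit (nat_lit 0))), ((nat_lit 35), (bit (nat_lit 35))), ((nat_lit 72), (bit (nat_lit 72))), ((nat_lit 10), (bit (nat_lit 10)))]
noncomputable def d289 : List OD := [⟨[nat_lit 0, nat_lit 1], [], (dn (nat_lit 20) (nat_lit 0x272822728110201134c1146011d18222bc222bc118002180012d2822d281042c22d2c21468214681278422c082043c10cf820cf81222821030208742087411478214781053c2057c108f8208f81005c2005c10f782097820978108802088011334209342093410d0820d0810c8420c84117b4200241))⟩,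
 ⟨[nat_lit 6, nat_lit 4, nat_lit 1], [dw (nat_lit 0x05), dw (nat_lit 0x01), dw (nat_lit 0x03), dw (nat_lit 0x05), dw (nat_lit 0x01), dw (nat_lit 0x03), dw (nat_lit 0x05), dw (nat_lit 0x01)
], (dn (nat_lit 20) (nat_lit 0x10e03191c303fc30018300dc3281c304103009431a5030c343358c3294822cd43223c205903090830bb430fac3096833398330e4328d030ecc206e03182030c4031278302143021420e5430ed83015c20810226d03074031d58218c8318c820800222302144c212a0330a422cd823590227c43346c3072831fcc30380303802091421204305083243c3012421bc832cc832cc822aa0206c420b2c3047c205b830e68306782067810530305302352c30ac030ac020ac01257432574210bc30524322183068030bcc30bcc223f0301f8233a4301002169c325602059c32224228f0328f020798323a8201ec3093821cf02272432a70210642044c327d03028430d20305103051020bf830520204e032200200603097c3097c2097c101043369c3369c2369c12a9c32a9c233bc3082830828236a0336a02099c30f1830f1822c0c30c9030c9020c901137032a7432a7422a74105ac305ac207cc307cc2015030150203603036021d6430ac4308ac332fc334fc334fc2008430fe830fe8202d0336bc119e8301c0201c0117d8301643016420be030be022b3422b3410c1830040100d83084c3084c205b43059430594201c4303d0303d0228c432dc032dc0212843003830038208143282c30c50302d8302d8201a031a0831a082022430440322a032d0c32d0c21f603020c3020c207bc307bc207903079020bf430bf4203cc303cc200983009821d1431d142336433364202d4302d4203c0303c02021c3021c201543015423500335002226032260204ec304ec20c7c30c7c2124c3124c2073030730217fc317fc21d2031d20226c8326c820f4430f44203b8303b8207b4307b42))⟩,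
 ⟨[nat_lit 6, nat_lit 4, nat_lit 3, nat_lit 5], [dw (nat_lit 0x01)], (dn (nat_lit 20) (nat_lit 0x115c4115c3022040220305e0405e0309f4409f43081840818301a4401a431c7841c7831850418503291842918312b8412b83330443304315d4415d432de441a7c41a7c325e4425e43163441634324604246032104421043324c4324c30ae8431d0431d03122441afc41afc3012040120309f0409f032ad442ad4305b0405b0320184201830ba040ba0326bc41c9841c9830a2840a283045c4045c31ad441ad430c4840c4830f4040f4030ebc40ebc31b2841b2830a2440a2430a2c40a2c326904269032a3842a38316804168032f9042f9032f3042f30334c8434c8311284112830ca840ca8312504125030b2040b20324cc424cc320b0420b0326b4426b4326b4226b411ba841ba831ba821ba812c7042c70316d4416d4316d4216d4129944299432994229941177c4177c3061840618306182003c4003c3003c2))⟩,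
 ⟨[], [], []⟩,
 ⟨[], [], []⟩,
 ⟨[], [], []⟩,
 ⟨[], [], []⟩]
theorem k290 : ocChk (nat_lit 3510) H15.Fi22P.nets F ks c288 d289 [] = true := by decide +kernel
theorem o291 (M : PM G Ω 3510 H15.Fi22P.nets) (hN : Nat.card G = 64561751654400) : OC M (sub M.gen ks) [] c288 :=
  oc_of le_rfl k290
theorem eqC (M : PM G Ω 3510 H15.Fi22P.nets) (hN : Nat.card G = 64561751654400) : (Subgroup.centralizer (sub M.gen [I22.u3] : Set G)) = (sub M.gen ks) ∧ Nat.card (sub M.gen ks) = 1769472 :=
  eq_of_cards (eqCL M hN) (eqCU M hN) (OC.le_card' (N := 1769472) (o291 M hN) (by decide +kernel))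

end L.Z22c
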